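import Groth.Agent.Lib.Helper26.LcExt
import Groth.Agent.Lib.Helper29.DepthExt
import Groth.Agent.Lib.Helper29.DepthLoc2
import Groth.Agent.Lib.Helper29.Depth

/-!
# Local cohomology vanishing for Cohen–Macaulay modules (helper26)
-/

set_option autoImplicit false
universe u
open CategoryTheory CategoryTheory.Limits Opposite Abelian

namespace Groth.Agent.Lib.Helper26.LcCM

open Groth.Agent.Lib.Helper29

variable (A : Type u) [CommRing A] [IsNoetherianRing A] (J : Ideal A)

/-- `H^i_J(G) = 0` for `i < n` iff `depth_J G ≥ n` (finite `G`). -/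
theorem lc_vanishing_iff_le_idealDepth (G : Type u) [AddCommGroup G] [Module A G]
    [Module.Finite A G] (n : ℕ) :
    (∀ i : ℕ, i < n → Subsingleton (LocCoh.H J i G)) ↔ (n : ℕ∞) ≤ LocCoh.idealDepth J G := by
  have hsupp : Module.support A (A ⧸ J) = PrimeSpectrum.zeroLocus (J : Set A) := by
    rw [Module.support_eq_zeroLocus, Ideal.annihilator_quotient]
  rw [le_idealDepth_iff_ext']
  exact ⟨fun h => (LcExt.main_aux J n G).1 (A ⧸ J) hsupp.le h,
    fun h => (LcExt.main_aux J n G).2 (A ⧸ J) hsupp h⟩

theorem main (G : Type u) [AddCommGroup G] [Module A G] [Module.Finite A G]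
    (hCM : ∀ p : PrimeSpectrum A, Subsingleton (LocalizedModule p.asIdeal.primeCompl G) ∨
      LocCoh.IsCohenMacaulayModule (Localization.AtPrime p.asIdeal)
        (LocalizedModule p.asIdeal.primeCompl G)) (n : ℕ) :
    (∀ i : ℕ, i < n → Subsingleton (LocCoh.H J i G)) ↔
      ∀ p : PrimeSpectrum A, J ≤ p.asIdeal → p ∈ Module.support A G →
        (n : WithBot ℕ∞) ≤ Module.supportDim (Localization.AtPrime p.asIdeal)
          (LocalizedModule p.asIdeal.primeCompl G) := by
  rw [lc_vanishing_iff_le_idealDepth, idealDepth_eq_iInf_depth_localization, le_iInf₂_iff]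
  constructor
  · intro h p hp hps
    have hnt : Nontrivial (LocalizedModule p.asIdeal.primeCompl G) :=
      Module.mem_support_iff.mp hps
    rcases hCM p with hsub | hcm
    · exact absurd hsub (not_subsingleton _)
    · rw [hcm]
      exact_mod_cast h p hp
  · intro h p hp
    by_cases hps : p ∈ Module.support A G
    · have hnt : Nontrivial (LocalizedModule p.asIdeal.primeCompl G) :=
        Module.mem_support_iff.mp hps
      rcases hCM p with hsub | hcm
      · exact absurd hsub (not_subsingleton _)
      · have := h p hp hps
        rw [hcm] at this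
        exact_mod_cast this
    · have hsub : Subsingleton (LocalizedModule p.asIdeal.primeCompl G) := by
        rw [Module.mem_support_iff, not_nontrivial_iff_subsingleton] at hps
        exact hps
      rw [depth_eq_top_of_subsingleton]
      exact le_top

end Groth.Agent.Lib.Helper26.LcCM
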