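import Groth.Agent.Lib.Helper60.LocalCohTorsion
import Groth.Agent.Lib.Helper29.DepthExt
import Mathlib.RingTheory.Regular.LinearMap
import Mathlib.RingTheory.Ideal.AssociatedPrime.Basic

/-!
# Vanishing of local cohomology below `n` versus vanishing of `Ext` (helper26)

For a Noetherian ring `R`, an ideal `J` and an arbitrary module `G`:
`H^i_J(G) = 0` for `i < n` iff `Ext^i(F, G) = 0` for `i < n` and all finite `F` with
`Supp F ⊆ V(J)`, iff this holds for one finite `F` with `Supp F = V(J)`.
-/

set_option autoImplicit false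
universe u
open CategoryTheory CategoryTheory.Limits Opposite Abelian

namespace Groth.Agent.Lib.Helper26.LcExt

open Groth.Agent.Lib.Helper60 Groth.Agent.Lib.Helper29

variable {R : Type u} [CommRing R] [IsNoetherianRing R] (J : Ideal R)

/-- a finite module with support in `V(J)` is killed by a power of `J`. -/
lemma exists_pow_le_annihilator (F : Type u) [AddCommGroup F] [Module R F] [Module.Finite R F]
    (hF : Module.support R F ⊆ PrimeSpectrum.zeroLocus (J : Set R)) :
    ∃ k : ℕ, J ^ k ≤ Module.annihilator R F := by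
  rw [Module.support_eq_zeroLocus, PrimeSpectrum.zeroLocus_subset_zeroLocus_iff] at hF
  exact Ideal.exists_pow_le_of_le_radical_of_fg hF (IsNoetherian.noetherian J)

lemma linearMap_eq_zero_of_torsionSub_eq_bot (F G : Type u) [AddCommGroup F] [Module R F]
    [Module.Finite R F] [AddCommGroup G] [Module R G]
    (hF : Module.support R F ⊆ PrimeSpectrum.zeroLocus (J : Set R))
    (hG : DRing.torsionSub J G = ⊥) (f : F →ₗ[R] G) : f = 0 := by
  obtain ⟨k, hk⟩ := exists_pow_le_annihilator J F hF
  ext x
  have : f x ∈ DRing.torsionSub J G :=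
    ⟨k, fun a ha => by rw [← map_smul, Module.mem_annihilator.mp (hk ha) x, map_zero]⟩
  rw [hG] at this
  simpa using this

omit [IsNoetherianRing R] in
lemma exists_linearMap_ne_zero [IsNoetherianRing R] (F : Type u) [AddCommGroup F] [Module R F]
    [Module.Finite R F] (p : PrimeSpectrum R) (hp : p ∈ Module.support R F) :
    ∃ g : F →ₗ[R] R ⧸ p.asIdeal, g ≠ 0 := by
  by_contra! h
  have hsub : Subsingleton (F →ₗ[R] R ⧸ p.asIdeal) := ⟨fun a b => by rw [h a, h b]⟩
  obtain ⟨r, hr, hreg⟩ := IsSMulRegular.subsingleton_linearMap_iff.mp hsub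
  have hrp : r ∈ p.asIdeal := by
    rw [Module.support_eq_zeroLocus] at hp
    exact hp hr
  have h1 : r • (1 : R ⧸ p.asIdeal) = r • 0 := by
    rw [smul_zero, Algebra.smul_def, mul_one]
    exact Ideal.Quotient.eq_zero_iff_mem.mpr hrp
  exact one_ne_zero (hreg h1)

lemma torsionSub_eq_bot_of_linearMap_eq_zero (F G : Type u) [AddCommGroup F] [Module R F]
    [Module.Finite R F] [AddCommGroup G] [Module R G]
    (hF : PrimeSpectrum.zeroLocus (J : Set R) ⊆ Module.support R F)
    (h : ∀ f : F →ₗ[R] G, f = 0) : DRing.torsionSub J G = ⊥ := by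
  by_contra hne
  have : Nontrivial (DRing.torsionSub J G) := Submodule.nontrivial_iff_ne_bot.mpr hne
  obtain ⟨p, hp⟩ := associatedPrimes.nonempty R (DRing.torsionSub J G)
  obtain ⟨hprime, f, hf⟩ := (isAssociatedPrime_iff_exists_injective_linearMap p _).mp hp
  have hJp : J ≤ p := by
    obtain ⟨k, hk⟩ := (f 1).2
    apply hprime.le_of_pow_le (n := k)
    intro a ha
    have h0 : f (a • 1) = 0 := by
      rw [map_smul]
      exact Subtype.ext (hk a ha)
    have h1 := hf (h0.trans (map_zero f).symm)
    rwa [Algebra.smul_def, mul_one, Ideal.Quotient.algebraMap_eq,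
      Ideal.Quotient.eq_zero_iff_mem] at h1
  have hmem : (⟨p, hprime⟩ : PrimeSpectrum R) ∈ PrimeSpectrum.zeroLocus (J : Set R) := by
    rw [PrimeSpectrum.mem_zeroLocus]
    exact hJp
  obtain ⟨g, hg⟩ := exists_linearMap_ne_zero F ⟨p, hprime⟩ (hF hmem)
  apply hg
  have h2 := h ((DRing.torsionSub J G).subtype ∘ₗ f ∘ₗ g)
  ext x
  have hx := LinearMap.congr_fun h2 x
  simp only [LinearMap.coe_comp, Function.comp_apply, Submodule.coe_subtype,
    LinearMap.zero_apply] at hx
  have hx' : f (g x) = 0 := Subtype.ext hx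
  exact hf (hx'.trans (map_zero f).symm)

/-- A `J`-torsion-free module embeds into a `J`-torsion-free injective module. -/
lemma exists_injective_embedding_torsionFree (G : Type u) [AddCommGroup G] [Module R G]
    (hG : DRing.torsionSub J G = ⊥) :
    ∃ (E : Type u) (_ : AddCommGroup E) (_ : Module R E) (_ : Module.Injective R E)
      (ι : G →ₗ[R] E), Function.Injective ι ∧ DRing.torsionSub J E = ⊥ := by
  let E₀ := Injective.under (ModuleCat.of R G)
  let ι₀ : ModuleCat.of R G ⟶ E₀ := Injective.ι _
  have hι₀ : Function.Injective ι₀.hom := (ModuleCat.mono_iff_injective ι₀).mp inferInstance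
  have hE₀' : Injective (ModuleCat.of R E₀) := (inferInstance : Injective E₀)
  have hE₀ : Module.Injective R E₀ := Module.injective_module_of_injective_object R E₀
  have hT : Module.Injective R (DRing.torsionSub J E₀) := injective_torsionSub J E₀
  obtain ⟨r, hr⟩ := Module.Injective.extension_property R (DRing.torsionSub J E₀) _ _
    (DRing.torsionSub J E₀).subtype (DRing.torsionSub J E₀).injective_subtype LinearMap.id
  have hrT : ∀ t : DRing.torsionSub J E₀, r (t : E₀) = t := fun t => LinearMap.congr_fun hr t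
  have hker : ∀ x : E₀, x - (r x : E₀) ∈ LinearMap.ker r := by
    intro x
    rw [LinearMap.mem_ker, map_sub, hrT, sub_self]
  let p : E₀ →ₗ[R] LinearMap.ker r :=
    (LinearMap.id - (DRing.torsionSub J E₀).subtype ∘ₗ r).codRestrict (LinearMap.ker r) hker
  have hp : ∀ x : LinearMap.ker r, p (x : E₀) = x := by
    intro x
    apply Subtype.ext
    show (x : E₀) - (r (x : E₀) : E₀) = x
    rw [LinearMap.mem_ker.mp x.2]
    simp
  have hK : Module.Injective R (LinearMap.ker r) := ⟨fun X Y _ _ _ _ f hf g => by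
    obtain ⟨e, he⟩ := Module.Injective.extension_property R E₀ _ _ f hf
      ((LinearMap.ker r).subtype ∘ₗ g)
    refine ⟨p ∘ₗ e, fun x => ?_⟩
    have := LinearMap.congr_fun he x
    simp only [LinearMap.coe_comp, Function.comp_apply, Submodule.coe_subtype] at this
    rw [LinearMap.comp_apply, this, hp]⟩
  refine ⟨LinearMap.ker r, inferInstance, inferInstance, hK, p ∘ₗ ι₀.hom, ?_, ?_⟩
  · rw [← LinearMap.ker_eq_bot, LinearMap.ker_eq_bot']
    intro x hx
    have h1 : ι₀.hom x - (r (ι₀.hom x) : E₀) = 0 := congrArg Subtype.val hx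
    have h2 : ι₀.hom x ∈ DRing.torsionSub J E₀ := by
      rw [sub_eq_zero.mp h1]
      exact (r (ι₀.hom x)).2
    obtain ⟨n, hn⟩ := h2
    have h3 : x ∈ DRing.torsionSub J G := ⟨n, fun a ha => hι₀ (by
      rw [map_smul, hn a ha, map_zero])⟩
    rw [hG] at h3
    simpa using h3
  · rw [eq_bot_iff]
    rintro ⟨x, hx⟩ ⟨n, hn⟩
    have h1 : x ∈ DRing.torsionSub J E₀ := ⟨n, fun a ha => congrArg Subtype.val (hn a ha)⟩
    have h2 := hrT ⟨x, h1⟩
    rw [LinearMap.mem_ker.mp hx] at h2
    rw [Submodule.mem_bot]
    apply Subtype.ext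
    exact (congrArg Subtype.val h2).symm

lemma lc_zero_subsingleton_iff (G : ModuleCat.{u} R) :
    Subsingleton ((localCohomology J 0).obj G) ↔ DRing.torsionSub J G = ⊥ := by
  constructor
  · intro h
    rw [eq_bot_iff]
    intro x hx
    have h1 : (lcH0Equiv J G).symm ⟨x, hx⟩ = (lcH0Equiv J G).symm 0 := Subsingleton.elim _ _
    have h2 := (lcH0Equiv J G).symm.injective h1
    rw [Submodule.mem_bot]
    exact congrArg Subtype.val h2
  · intro hG
    have h0 : ∀ y : (localCohomology J 0).obj G, y = 0 := fun y => by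
      apply (lcH0Equiv J G).injective
      have h1 : ((lcH0Equiv J G y : DRing.torsionSub J G) : G) ∈ (⊥ : Submodule R G) :=
        hG ▸ (lcH0Equiv J G y).2
      rw [Submodule.mem_bot] at h1
      rw [map_zero]
      exact Subtype.ext h1
    exact ⟨fun a b => (h0 a).trans (h0 b).symm⟩

omit [IsNoetherianRing R] in
lemma ext_zero_subsingleton_iff (F G : Type u) [AddCommGroup F] [Module R F]
    [AddCommGroup G] [Module R G] :
    Subsingleton (Ext (ModuleCat.of R F) (ModuleCat.of R G) 0) ↔ ∀ f : F →ₗ[R] G, f = 0 := by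
  constructor
  · intro h f
    have h1 : Ext.mk₀ (ModuleCat.ofHom f) = Ext.mk₀ (ModuleCat.ofHom (0 : F →ₗ[R] G)) :=
      Subsingleton.elim _ _
    have h2 := (Ext.mk₀_bijective _ _).1 h1
    have h3 := congrArg ModuleCat.Hom.hom h2
    simpa using h3
  · intro h
    refine ⟨fun a b => ?_⟩
    apply Ext.addEquiv₀.injective
    apply ModuleCat.hom_ext
    rw [h (Ext.addEquiv₀ a).hom, h (Ext.addEquiv₀ b).hom]

lemma lc_subsingleton_of_injective_torsionFree (E : ModuleCat.{u} R) [Injective E]
    (hE : DRing.torsionSub J E = ⊥) (i : ℕ) : Subsingleton ((localCohomology J i).obj E) := by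
  rcases Nat.eq_zero_or_pos i with rfl | hi
  · exact (lc_zero_subsingleton_iff J E).mpr hE
  · exact lc_subsingleton_of_injective J E i hi

lemma ext_subsingleton_of_injective_torsionFree (F : Type u) [AddCommGroup F] [Module R F]
    [Module.Finite R F] (hF : Module.support R F ⊆ PrimeSpectrum.zeroLocus (J : Set R))
    (E : Type u) [AddCommGroup E] [Module R E] [Injective (ModuleCat.of R E)]
    (hE : DRing.torsionSub J E = ⊥) (i : ℕ) :
    Subsingleton (Ext (ModuleCat.of R F) (ModuleCat.of R E) i) := by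
  rcases Nat.eq_zero_or_pos i with rfl | hi
  · rw [ext_zero_subsingleton_iff]
    exact linearMap_eq_zero_of_torsionSub_eq_bot J F E hF hE
  · obtain ⟨i, rfl⟩ := Nat.exists_eq_succ_of_ne_zero hi.ne'
    exact ⟨fun a b => by rw [Ext.eq_zero_of_injective a, Ext.eq_zero_of_injective b]⟩

section Shift

variable {S : ShortComplex (ModuleCat.{u} R)} (hS : S.ShortExact)

include hS in
lemma lc_shift (h2 : ∀ i, Subsingleton ((localCohomology J i).obj S.X₂)) (i : ℕ) :
    Subsingleton ((localCohomology J i).obj S.X₃) ↔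
      Subsingleton ((localCohomology J (i + 1)).obj S.X₁) := by
  constructor
  · intro h
    have h0 : ∀ y : (localCohomology J (i + 1)).obj S.X₁, y = 0 := fun y => by
      have := h2 (i + 1)
      obtain ⟨y₃, rfl⟩ := lc_exact₁ J hS i y (Subsingleton.elim _ _)
      rw [Subsingleton.elim y₃ 0, map_zero]
    exact ⟨fun a b => (h0 a).trans (h0 b).symm⟩
  · intro h
    have h0 : ∀ y : (localCohomology J i).obj S.X₃, y = 0 := fun y => by
      have := h2 i
      obtain ⟨y₂, rfl⟩ := lc_exact₃ J hS i y (Subsingleton.elim _ _)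
      rw [Subsingleton.elim y₂ 0, map_zero]
    exact ⟨fun a b => (h0 a).trans (h0 b).symm⟩

include hS in
omit [IsNoetherianRing R] in
lemma ext_shift (F : ModuleCat.{u} R) (h2 : ∀ i, Subsingleton (Ext F S.X₂ i)) (i : ℕ) :
    Subsingleton (Ext F S.X₃ i) ↔ Subsingleton (Ext F S.X₁ (i + 1)) :=
  ⟨fun h3 => ext_subsingleton_X₁_succ hS F (h2 (i + 1)) h3,
    fun h1 => ext_subsingleton_X₃ hS F (h2 i) h1⟩

end Shift

theorem main_aux (n : ℕ) : ∀ (G : Type u) [AddCommGroup G] [Module R G],
    (∀ (F : Type u) [AddCommGroup F] [Module R F] [Module.Finite R F],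
      Module.support R F ⊆ PrimeSpectrum.zeroLocus (J : Set R) →
      (∀ i < n, Subsingleton ((localCohomology J i).obj (ModuleCat.of R G))) →
      ∀ i < n, Subsingleton (Ext (ModuleCat.of R F) (ModuleCat.of R G) i)) ∧
    (∀ (F : Type u) [AddCommGroup F] [Module R F] [Module.Finite R F],
      Module.support R F = PrimeSpectrum.zeroLocus (J : Set R) →
      (∀ i < n, Subsingleton (Ext (ModuleCat.of R F) (ModuleCat.of R G) i)) →
      ∀ i < n, Subsingleton ((localCohomology J i).obj (ModuleCat.of R G))) := by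
  induction n with
  | zero =>
    intro G _ _
    exact ⟨fun F _ _ _ _ _ i hi => absurd hi (Nat.not_lt_zero i),
      fun F _ _ _ _ _ i hi => absurd hi (Nat.not_lt_zero i)⟩
  | succ n ih =>
    intro G _ _
    constructor
    · intro F _ _ _ hF hH
      have hG : DRing.torsionSub J G = ⊥ :=
        (lc_zero_subsingleton_iff J (ModuleCat.of R G)).mp (hH 0 (Nat.succ_pos n))
      obtain ⟨E, _, _, hEinj, ι, hι, hE⟩ := exists_injective_embedding_torsionFree J G hG
      have hS := sesOfInjective_shortExact ι hι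
      have hinj : Injective (ModuleCat.of R E) := Module.injective_object_of_injective_module R E
      have hlc2 : ∀ i, Subsingleton ((localCohomology J i).obj (sesOfInjective ι).X₂) :=
        fun i => lc_subsingleton_of_injective_torsionFree J (ModuleCat.of R E) hE i
      have hext2 : ∀ i, Subsingleton (Ext (ModuleCat.of R F) (sesOfInjective ι).X₂ i) :=
        fun i => ext_subsingleton_of_injective_torsionFree J F hF E hE i
      have hQ : ∀ i < n, Subsingleton ((localCohomology J i).obj
          (ModuleCat.of R (E ⧸ LinearMap.range ι))) := fun i hi =>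
        (lc_shift J hS hlc2 i).mpr (hH (i + 1) (Nat.succ_lt_succ hi))
      have hQ' := (ih (E ⧸ LinearMap.range ι)).1 F hF hQ
      intro i hi
      rcases Nat.eq_zero_or_pos i with rfl | hi0
      · rw [ext_zero_subsingleton_iff]
        exact linearMap_eq_zero_of_torsionSub_eq_bot J F G hF hG
      · obtain ⟨j, rfl⟩ := Nat.exists_eq_succ_of_ne_zero hi0.ne'
        exact (ext_shift hS (ModuleCat.of R F) hext2 j).mp (hQ' j (Nat.lt_of_succ_lt_succ hi))
    · intro F _ _ _ hF hExt
      have hG : DRing.torsionSub J G = ⊥ :=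
        torsionSub_eq_bot_of_linearMap_eq_zero J F G hF.ge
          ((ext_zero_subsingleton_iff F G).mp (hExt 0 (Nat.succ_pos n)))
      obtain ⟨E, _, _, hEinj, ι, hι, hE⟩ := exists_injective_embedding_torsionFree J G hG
      have hS := sesOfInjective_shortExact ι hι
      have hinj : Injective (ModuleCat.of R E) := Module.injective_object_of_injective_module R E
      have hlc2 : ∀ i, Subsingleton ((localCohomology J i).obj (sesOfInjective ι).X₂) :=
        fun i => lc_subsingleton_of_injective_torsionFree J (ModuleCat.of R E) hE i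
      have hext2 : ∀ i, Subsingleton (Ext (ModuleCat.of R F) (sesOfInjective ι).X₂ i) :=
        fun i => ext_subsingleton_of_injective_torsionFree J F hF.le E hE i
      have hQ : ∀ i < n, Subsingleton (Ext (ModuleCat.of R F)
          (ModuleCat.of R (E ⧸ LinearMap.range ι)) i) := fun i hi =>
        (ext_shift hS (ModuleCat.of R F) hext2 i).mpr (hExt (i + 1) (Nat.succ_lt_succ hi))
      have hQ' := (ih (E ⧸ LinearMap.range ι)).2 F hF hQ
      intro i hi
      rcases Nat.eq_zero_or_pos i with rfl | hi0
      · exact (lc_zero_subsingleton_iff J (ModuleCat.of R G)).mpr hG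
      · obtain ⟨j, rfl⟩ := Nat.exists_eq_succ_of_ne_zero hi0.ne'
        exact (lc_shift J hS hlc2 j).mp (hQ' j (Nat.lt_of_succ_lt_succ hi))

theorem main (G : Type u) [AddCommGroup G] [Module R G] (n : ℕ) :
    ((∀ i : ℕ, i < n → Subsingleton (LocCoh.H J i G)) ↔
      ∀ (F : Type u) [AddCommGroup F] [Module R F], Module.Finite R F →
        Module.support R F ⊆ PrimeSpectrum.zeroLocus (J : Set R) →
        ∀ i : ℕ, i < n → Subsingleton (Abelian.Ext (ModuleCat.of R F) (ModuleCat.of R G) i)) ∧
    ((∀ i : ℕ, i < n → Subsingleton (LocCoh.H J i G)) ↔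
      ∃ (F : Type u) (_ : AddCommGroup F) (_ : Module R F), Module.Finite R F ∧
        Module.support R F = PrimeSpectrum.zeroLocus (J : Set R) ∧
        ∀ i : ℕ, i < n → Subsingleton (Abelian.Ext (ModuleCat.of R F) (ModuleCat.of R G) i)) := by
  have hsupp : Module.support R (R ⧸ J) = PrimeSpectrum.zeroLocus (J : Set R) := by
    rw [Module.support_eq_zeroLocus, Ideal.annihilator_quotient]
  constructor
  · constructor
    · intro hH F _ _ hfin hF
      exact (main_aux J n G).1 F hF hH
    · intro h
      exact (main_aux J n G).2 (R ⧸ J) hsupp (h (R ⧸ J) inferInstance hsupp.le)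
  · constructor
    · intro hH
      exact ⟨R ⧸ J, inferInstance, inferInstance, inferInstance, hsupp,
        (main_aux J n G).1 (R ⧸ J) hsupp.le hH⟩
    · rintro ⟨F, _, _, hfin, hF, hExt⟩
      exact (main_aux J n G).2 F hF hExt

end Groth.Agent.Lib.Helper26.LcExt
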