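import Groth.Agent.Lib.Helper2.InjHullLocal

/-!
# Baer criterion for power-torsion modules, tested on modules killed by a power of the ideal (helper26)
(adapted from helper2's `injective_powTorsion`)
-/

set_option autoImplicit false
universe u

namespace Groth.Agent.Lib.Helper26.BaerTorsion

open Groth.Agent.Lib.Helper2

theorem main (A : Type u) [CommRing A] [IsNoetherianRing A] (J : Ideal A) (H : Type u)
    [AddCommGroup H] [Module A H] (hH : LocCoh.IsPowerTorsion J H) :
    Module.Injective A H ↔ ∀ (M : Type u) [AddCommGroup M] [Module A M], Module.Finite A M →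
      (∃ k : ℕ, (J ^ k) • (⊤ : Submodule A M) = ⊥) → ∀ (N : Submodule A M) (g : N →ₗ[A] H),
        ∃ g' : M →ₗ[A] H, g'.comp N.subtype = g := by
  constructor
  · intro hinj M _ _ _ _ N g
    obtain ⟨h, hh⟩ := Module.Injective.extension_property A H _ _ N.subtype N.injective_subtype g
    exact ⟨h, hh⟩
  · intro hyp
    apply Module.Baer.injective
    intro 𝔞 g
    have hfg : (LinearMap.range g).FG := by
      rw [LinearMap.range_eq_map]
      exact Submodule.FG.map _ (Module.Finite.fg_top)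
    obtain ⟨n, hn⟩ := exists_pow_le_torsionBySet J hfg (by
      rintro _ ⟨a, rfl⟩
      exact (mem_powTorsion_iff J).mpr (hH (g a)))
    have hn' : ∀ a : 𝔞, ∀ j ∈ J ^ n, j • g a = 0 := by
      intro a j hj
      have := hn ⟨a, rfl⟩
      rw [Submodule.mem_torsionBySet_iff] at this
      exact this ⟨j, hj⟩
    obtain ⟨k, hk⟩ := Ideal.exists_pow_inf_eq_pow_smul J (𝔞 : Submodule A A)
    set m := n + k with hm
    have hvan : ∀ a : 𝔞, (a : A) ∈ J ^ m → g a = 0 := by
      intro a ha
      have h1 : (a : A) ∈ J ^ m • (⊤ : Submodule A A) ⊓ 𝔞 := by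
        refine ⟨?_, a.2⟩
        simpa using ha
      rw [hk m (by omega)] at h1
      have hmk : m - k = n := by omega
      rw [hmk] at h1
      have key : J ^ n • (J ^ k • (⊤ : Submodule A A) ⊓ 𝔞) ≤ (LinearMap.ker g).map 𝔞.subtype := by
        rw [Submodule.smul_le]
        intro j hj b hb
        refine ⟨j • ⟨b, hb.2⟩, ?_, rfl⟩
        rw [SetLike.mem_coe, LinearMap.mem_ker, map_smul]
        exact hn' _ j hj
      obtain ⟨a', ha', haa'⟩ := key h1
      have : a' = a := Subtype.ext haa'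
      rw [← this]
      exact ha'
    let ρ : 𝔞 →ₗ[A] (A ⧸ J ^ m) := (Submodule.mkQ (J ^ m)) ∘ₗ 𝔞.subtype
    have hρker : LinearMap.ker ρ ≤ LinearMap.ker g := by
      intro a ha
      rw [LinearMap.mem_ker] at ha ⊢
      apply hvan
      have : Submodule.Quotient.mk (p := J ^ m) (a : A) = 0 := ha
      rwa [Submodule.Quotient.mk_eq_zero] at this
    let gbar : (𝔞 ⧸ LinearMap.ker ρ) →ₗ[A] H := (LinearMap.ker ρ).liftQ g hρker
    let gt : LinearMap.range ρ →ₗ[A] H := gbar ∘ₗ (LinearMap.quotKerEquivRange ρ).symm.toLinearMap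
    have hkill : ∃ k : ℕ, (J ^ k) • (⊤ : Submodule A (A ⧸ J ^ m)) = ⊥ := by
      refine ⟨m, ?_⟩
      rw [eq_bot_iff, Submodule.smul_le]
      intro j hj x _
      obtain ⟨r, rfl⟩ := Submodule.Quotient.mk_surjective _ x
      rw [Submodule.mem_bot, ← Submodule.Quotient.mk_smul, Submodule.Quotient.mk_eq_zero]
      exact Ideal.mul_mem_right _ _ hj
    obtain ⟨h, hh⟩ := hyp (A ⧸ J ^ m) inferInstance hkill (LinearMap.range ρ) gt
    refine ⟨h ∘ₗ Submodule.mkQ (J ^ m), fun x hx => ?_⟩
    have h1 : (h ∘ₗ Submodule.mkQ (J ^ m)) x = (h.comp (LinearMap.range ρ).subtype) ⟨ρ ⟨x, hx⟩, ⟨_, rfl⟩⟩ := rfl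
    rw [h1, hh]
    change gbar ((LinearMap.quotKerEquivRange ρ).symm ⟨ρ ⟨x, hx⟩, _⟩) = _
    rw [LinearMap.quotKerEquivRange_symm_apply_image]
    rfl

end Groth.Agent.Lib.Helper26.BaerTorsion
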