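import Groth.Agent.Lib.Helper51.DescSecFpqc

/-!
# Reduction of effectivity of descent for fppf covering families to the affine finitely presented case (helper26)

A copy of helper51's `exists_rep_over_affineOpen` / `S9858`, keeping track of local finite presentation:
for a family of flat, locally finitely presented morphisms which is an fpqc (e.g. fppf) covering, effectivity of
descent data with a property `P` follows from effectivity relative to flat surjective *finitely presented* morphisms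
of affine schemes.
-/

set_option autoImplicit false
set_option backward.isDefEq.respectTransparency false
set_option backward.isDefEq.respectTransparency.types false

universe u

open CategoryTheory CategoryTheory.Limits AlgebraicGeometry Opposite

namespace Groth.Agent.Lib.Helper26.FppfReduce

open Desc Groth.Agent.Lib.Helper51.DescFam Groth.Agent.Lib.Helper51 Groth.Agent.Lib.Helper51.DescSec

variable {S : Scheme.{u}} {ι : Type u} {U : ι → Scheme.{u}} {fU : ∀ i, U i ⟶ S}

section AffineCase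

variable (P : MorphismProperty Scheme.{u}) [P.IsStableUnderBaseChange]
  (h2 : ∀ (m : ℕ) (Y V : Fin m → Scheme.{u}) (q : ∀ j, Y j ⟶ V j), (∀ j, P (q j)) →
    P (Limits.Sigma.map q))
  (h3 : ∀ (X S : Scheme.{u}) (p : X ⟶ S), IsAffine X → IsAffine S → Flat p → Surjective p →
    LocallyOfFinitePresentation p →
    ∀ D : Desc.SchDD p, P D.obj.hom → ∃ U : Over S, Nonempty ((Desc.toDD p).obj U ≅ D))
  (hU : Presieve.ofArrows U fU ∈ Scheme.fpqcPrecoverage S)
  (hlfp : ∀ i, LocallyOfFinitePresentation (fU i)) (E : SchDDFam fU)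
  (hE : ∀ i, P (E.obj i).hom)

include h2 h3 hU hlfp hE in
/-- The sections of `E` over an affine open subscheme of `S` are representable, if descent data
with property `P` relative to flat surjective finitely presented morphisms of affine schemes are effective. -/
theorem exists_rep_over_affineOpen_fppf (Y₀ : S.Opens) (hY₀ : IsAffineOpen Y₀) :
    ∃ (D : Over Y₀.toScheme)
      (θ : ∀ ⦃T : Scheme.{u}⦄ (y : T ⟶ Y₀.toScheme), Lifts D y ≃ Sec E (y ≫ Y₀.ι)),
      ∀ ⦃T T' : Scheme.{u}⦄ (k : T' ⟶ T) (y : T ⟶ Y₀.toScheme) (y' : T' ⟶ Y₀.toScheme)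
        (hy : k ≫ y = y') (d : Lifts D y) (d' : Lifts D y'), d'.1 = k ≫ d.1 →
        θ y' d' = (θ y d).res k (y' ≫ Y₀.ι) (by rw [← hy, Category.assoc]) := by
  obtain ⟨m, idx, Wo, hWo, hcovW⟩ := exists_affine_refinement fU hU Y₀ hY₀
  have hflat : ∀ i, Flat (fU i) :=
    ((Scheme.ofArrows_mem_precoverage_iff (P := @Flat)).1
      (Scheme.propQCPrecoverage_le_precoverage _ hU)).2
  have : IsAffine Y₀.toScheme := hY₀
  have : ∀ b, IsAffine (Wo b).toScheme := fun b => hWo b
  -- the schemes `W b` and their morphisms to `Y₀`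
  let W : Fin m → Scheme.{u} := fun b => (Wo b).toScheme
  have hrange : ∀ b, Set.range ((Wo b).ι ≫ fU (idx b)) ⊆ Set.range Y₀.ι := by
    intro b
    rintro _ ⟨z, rfl⟩
    rw [Scheme.Opens.range_ι, ← hcovW]
    refine Set.mem_iUnion.2 ⟨b, (Wo b).ι z, ?_, ?_⟩
    · exact z.2
    · rw [Scheme.Hom.comp_apply]
  let w : ∀ b, W b ⟶ Y₀.toScheme := fun b =>
    IsOpenImmersion.lift Y₀.ι ((Wo b).ι ≫ fU (idx b)) (hrange b)
  have hw : ∀ b, w b ≫ Y₀.ι = (Wo b).ι ≫ fU (idx b) := fun b =>
    IsOpenImmersion.lift_fac _ _ _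
  have : ∀ b, Flat (w b) := by
    intro b
    have := hflat (idx b)
    refine MorphismProperty.of_postcomp (W := @Flat) (W' := @IsOpenImmersion) (w b) Y₀.ι
      inferInstance ?_
    rw [hw]
    infer_instance
  let X₀ : Scheme.{u} := ∐ W
  let p : X₀ ⟶ Y₀.toScheme := Sigma.desc w
  have hpι : ∀ b, Sigma.ι W b ≫ p = w b := fun b => Sigma.ι_desc w b
  have hwlfp : ∀ b, LocallyOfFinitePresentation (w b) := by
    intro b
    have := hlfp (idx b)
    refine MorphismProperty.of_postcomp (W := @LocallyOfFinitePresentation)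
      (W' := @IsOpenImmersion) (w b) Y₀.ι inferInstance ?_
    rw [hw]
    infer_instance
  have hplfp : LocallyOfFinitePresentation p :=
    IsZariskiLocalAtSource.sigmaDesc (P := @LocallyOfFinitePresentation) hwlfp
  have : Surjective p := by
    apply Surjective.sigmaDesc_of_union_range_eq_univ
    rw [Set.eq_univ_iff_forall]
    intro y
    have hy : Y₀.ι y ∈ (Y₀ : Set S) := y.2
    rw [← hcovW] at hy
    obtain ⟨b, z, hz, hzy⟩ := Set.mem_iUnion.1 hy
    refine Set.mem_iUnion.2 ⟨b, ⟨z, hz⟩, ?_⟩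
    apply Y₀.ι.isOpenEmbedding.injective
    rw [← Scheme.Hom.comp_apply, hw, Scheme.Hom.comp_apply]
    exact hzy
  have hp : Presieve.ofArrows (fun _ : PUnit.{u + 1} => X₀) (fun _ => p) ∈
      Scheme.fpqcPrecoverage Y₀.toScheme := by
    rw [Presieve.ofArrows_pUnit]
    exact p.singleton_mem_fpqcPrecoverage
  -- representing data over the `W b`
  let ρW : SecRep E (fun b : ULift.{u} (Fin m) => (Wo b.down).ι ≫ fU (idx b.down)) :=
    (SecRep.self E).pull (α := fun b : ULift.{u} (Fin m) => idx b.down)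
      (fun b => (Wo b.down).ι) (fun _ => rfl)
  -- representing data over `X₀`
  have hga : ∀ b : ULift.{u} (Fin m), Sigma.ι W b.down ≫ p ≫ Y₀.ι =
      (Wo b.down).ι ≫ fU (idx b.down) := by
    intro b
    rw [← Category.assoc, hpι, hw]
  obtain ⟨DX, θX, natX⟩ := ρW.exists_rep_of_zariski_cover (p ≫ Y₀.ι)
    (fun b => Sigma.ι W b.down) hga (by
      intro y
      obtain ⟨b, z, hz⟩ := (sigmaOpenCover W).exists_eq y
      exact ⟨⟨b⟩, z, hz⟩)
  let ρX : SecRep E (fun _ : PUnit.{u + 1} => p ≫ Y₀.ι) := ⟨fun _ => DX, fun _ => θX, fun _ => natX⟩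
  -- the property `P`
  have hPX : P DX.hom := by
    refine prop_of_sigma h2 W DX.hom (fun b => ?_)
    have hw' : ∀ b : ULift.{u} (Fin m), Sigma.ι W b.down ≫ (p ≫ Y₀.ι) =
        ((Wo b.down).ι ≫ fU (idx b.down)) ≫ 𝟙 S := by
      intro b
      rw [hga, Category.comp_id]
    let e := pullIso (fV := fun _ : PUnit.{u + 1} => p ≫ Y₀.ι) (α := fun _ => ⟨⟩)
      (g := fun b : ULift.{u} (Fin m) => Sigma.ι W b.down) hw' ρX ρW
    have := isIso_hom_left e ⟨b⟩
    have h5 : (e.hom.hom ⟨b⟩).left ≫ (ρW.obj ⟨b⟩).hom = pullback.snd DX.hom (Sigma.ι W b) :=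
      Over.w (e.hom.hom ⟨b⟩)
    rw [← h5]
    refine (P.cancel_left_of_respectsIso _ _).2 ?_
    exact P.pullback_snd _ _ (hE (idx b))
  -- the descent datum relative to `p` and its effectivity
  let DD : SchDD p := (SchDDFam.toSchDD p).obj (monoConv Y₀.ι ρX.toDD)
  obtain ⟨U₀, ⟨iso₀⟩⟩ := h3 X₀ Y₀.toScheme p inferInstance inferInstance inferInstance
    inferInstance hplfp DD hPX
  let e : canonicalDDFam (fun _ : PUnit.{u + 1} => p) U₀ ≅ monoConv Y₀.ι ρX.toDD :=
    (SchDDFam.ofSchDD p).mapIso iso₀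
  exact ⟨U₀, fun T y => affineStepEquiv Y₀.ι p hp ρX U₀ e y,
    affineStepEquiv_nat Y₀.ι p hp ρX U₀ e⟩

end AffineCase

/-- fppf variant of helper51's `S9858`. -/
theorem isEffective_of_fppf (P : MorphismProperty Scheme.{u}) [P.IsStableUnderBaseChange]
    (h2 : ∀ (m : ℕ) (Y V : Fin m → Scheme.{u}) (q : ∀ j, Y j ⟶ V j), (∀ j, P (q j)) →
      P (Limits.Sigma.map q))
    (h3 : ∀ (X S : Scheme.{u}) (p : X ⟶ S), IsAffine X → IsAffine S → Flat p → Surjective p →
      LocallyOfFinitePresentation p →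
      ∀ D : Desc.SchDD p, P D.obj.hom → ∃ U : Over S, Nonempty ((Desc.toDD p).obj U ≅ D))
    {ι : Type u} {S : Scheme.{u}} {U : ι → Scheme.{u}} (u : ∀ i, U i ⟶ S)
    (hu : Presieve.ofArrows U u ∈ Scheme.fpqcPrecoverage S)
    (hlfp : ∀ i, LocallyOfFinitePresentation (u i)) (D : Desc.SchDDFam u)
    (hD : ∀ i, P (D.obj i).hom) : D.IsEffective := by
  have hA := fun (Y₀ : S.affineOpens) =>
    exists_rep_over_affineOpen_fppf P h2 h3 hu hlfp D hD Y₀.1 Y₀.2
  choose DY θY natY using hA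
  let ρA : Groth.Agent.Lib.Helper51.DescSec.SecRep D (fun Y₀ : S.affineOpens => Y₀.1.ι) :=
    ⟨DY, θY, natY⟩
  obtain ⟨D₀, θ, hθ⟩ := ρA.exists_rep_of_zariski_cover (𝟙 S) (fun Y₀ => Y₀.1.ι)
    (fun _ => Category.comp_id _) (by
      intro y
      obtain ⟨W, hW, hyW, -⟩ := exists_isAffineOpen_mem_and_subset (x := y) (U := ⊤) trivial
      refine ⟨⟨W, hW⟩, ?_⟩
      rw [Scheme.Opens.range_ι]
      exact hyW)
  let ρ : Groth.Agent.Lib.Helper51.DescSec.SecRep D (fun _ : PUnit.{u + 1} => 𝟙 S) :=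
    ⟨fun _ => D₀, fun _ => θ, fun _ => hθ⟩
  obtain ⟨iso⟩ := Groth.Agent.Lib.Helper51.DescSec.isEffective_of_secRep hu ρ
  exact ⟨D₀, ⟨iso⟩⟩

end Groth.Agent.Lib.Helper26.FppfReduce
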