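import Groth.Agent.Lib.Helper26.StableOpenDD
import Groth.Agent.Lib.Helper26.FppfReduce
import Groth.Agent.S9866
import Groth.Agent.S1402
import Groth.Agent.Lib.Helper7.IndQuasiAffine

/-!
# fppf descent for separated locally quasi-finite schemes (helper26)

For `p` flat, surjective, locally of finite presentation, the equivalence relation of a descent datum has open
projections, so saturations of quasi-compact opens are quasi-compact stable opens; on an ind-quasi-affine scheme they are
quasi-affine and descend (quasi-affine descent), and the descent datum is glued from these (helper51's `S9866`).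
-/

set_option autoImplicit false
universe u
open CategoryTheory CategoryTheory.Limits AlgebraicGeometry

namespace Groth.Agent.Lib.Helper26.SepLqfDescent

open Desc Groth.Agent.Lib.Helper26.AffineDescentDD Groth.Agent.Lib.Helper26.QAffDescentDD
  Groth.Agent.Lib.Helper26.StableOpenDD

section AffineBase

variable {X S : Scheme.{u}} [IsAffine X] [IsAffine S] (p : X ⟶ S) [Flat p] [Surjective p]
  [LocallyOfFinitePresentation p] (D : SchDD p)

/-- Descent data relative to a flat, surjective, finitely presented morphism of affine schemes on an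
ind-quasi-affine scheme are effective. -/
theorem exists_of_indQuasiAffine
    (hD : ∀ W : D.obj.left.Opens, IsCompact (W : Set D.obj.left) → (W : Scheme.{u}).IsQuasiAffine) :
    ∃ U : Over S, Nonempty ((toDD p).obj U ≅ D) := by
  have hpaff : IsAffineHom p := isAffineHom_of_isAffine p
  haveI : QuasiCompact p := inferInstance
  refine Groth.Agent.S9866.result p D (fun v => ?_)
  let a : pullback (D.obj.hom ≫ p) p ⟶ D.obj.left := pullback.fst _ _
  let b : pullback (D.obj.hom ≫ p) p ⟶ X := pullback.snd _ _
  have sq : IsPullback a b (D.obj.hom ≫ p) p := IsPullback.of_hasPullback _ _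
  have haaff : IsAffineHom a :=
    MorphismProperty.of_isPullback (P := @IsAffineHom) sq.flip hpaff
  have haflat : Flat a := MorphismProperty.of_isPullback (P := @Flat) sq.flip inferInstance
  have halfp : LocallyOfFinitePresentation a :=
    MorphismProperty.of_isPullback (P := @LocallyOfFinitePresentation) sq.flip inferInstance
  obtain ⟨W', hW', hvW', -⟩ := exists_isAffineOpen_mem_and_subset (x := v) (U := ⊤) trivial
  have hopen : IsOpen (sat D sq (W' : Set D.obj.left)) := by
    rw [sat_eq]
    exact a.isOpenMap _ (W'.2.preimage (univ D sq).continuous)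
  have hqc : IsCompact (sat D sq (W' : Set D.obj.left)) :=
    (a.isCompact_preimage hW'.isCompact).image (univ D sq).continuous
  let W : D.obj.left.Opens := ⟨sat D sq (W' : Set D.obj.left), hopen⟩
  have hst : IsStableOpen D W :=
    isStableOpen_of_univ D sq W (fun z hz => sat_stable D sq (W' : Set D.obj.left) z hz)
  have hWqa : (W : Scheme.{u}).IsQuasiAffine := hD W hqc
  have : (restrictDD hst).obj.left.IsQuasiAffine := hWqa
  obtain ⟨U', hU'⟩ := exists_of_isQuasiAffine p (restrictDD hst)
  refine ⟨restrictDD hst, restrictHom hst, ?_, ?_, U', hU'⟩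
  · exact (inferInstance : IsOpenImmersion (Scheme.Opens.ι W))
  · exact ⟨⟨v, subset_sat D sq (W' : Set D.obj.left) hvW'⟩, rfl⟩

end AffineBase

section General

/-- Zariski-locality on the target passes to intersections of morphism properties. -/
theorem isZariskiLocalAtTarget_inf (P Q : MorphismProperty Scheme.{u}) [IsZariskiLocalAtTarget P]
    [IsZariskiLocalAtTarget Q] : IsZariskiLocalAtTarget (P ⊓ Q) := by
  apply IsZariskiLocalAtTarget.mk'
  · intro X Y f U hf
    exact ⟨IsZariskiLocalAtTarget.restrict hf.1 U, IsZariskiLocalAtTarget.restrict hf.2 U⟩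
  · intro X Y f ι U hU h
    exact ⟨IsZariskiLocalAtTarget.of_iSup_eq_top U hU (fun i => (h i).1),
      IsZariskiLocalAtTarget.of_iSup_eq_top U hU (fun i => (h i).2)⟩

/-- separated, locally quasi-finite and locally of finite type. -/
def SLQ : MorphismProperty Scheme.{u} :=
  (@IsSeparated ⊓ @LocallyQuasiFinite) ⊓ @LocallyOfFiniteType

instance : SLQ.{u}.IsStableUnderBaseChange := by
  unfold SLQ; infer_instance

instance : IsZariskiLocalAtTarget SLQ.{u} := by
  unfold SLQ
  haveI := isZariskiLocalAtTarget_inf.{u} @IsSeparated @LocallyQuasiFinite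
  exact isZariskiLocalAtTarget_inf _ _

/-- fppf descent data on separated, locally quasi-finite schemes are effective. -/
theorem exists_of_sep_lqf {X S : Scheme.{u}} (p : X ⟶ S) [Flat p] [Surjective p]
    [LocallyOfFinitePresentation p] (D : SchDD p) [IsSeparated D.obj.hom]
    [LocallyQuasiFinite D.obj.hom] [LocallyOfFiniteType D.obj.hom] :
    ∃ U : Over S, Nonempty ((toDD p).obj U ≅ D) := by
  classical
  let fU : PUnit.{u + 1} → (X ⟶ S) := fun _ => p
  have hU : Presieve.ofArrows (fun _ : PUnit.{u + 1} => X) fU ∈ Scheme.fpqcPrecoverage S := by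
    rw [Presieve.ofArrows_pUnit]
    exact Scheme.fppfPrecoverage_le_fpqcPrecoverage _ p.singleton_mem_fppfPrecoverage
  let E : SchDDFam fU := (SchDDFam.ofSchDD p).obj D
  have hE : E.IsEffective := by
    refine Groth.Agent.Lib.Helper26.FppfReduce.isEffective_of_fppf SLQ
      (fun m Y V q hq =>
        Groth.Agent.Lib.Helper51.DescMono.sigmaMap_of_isZariskiLocalAtTarget SLQ Y V q hq)
      ?_ fU hU (fun _ => inferInstance) E
      (fun _ => ⟨⟨(inferInstance : IsSeparated D.obj.hom),
        (inferInstance : LocallyQuasiFinite D.obj.hom)⟩,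
        (inferInstance : LocallyOfFiniteType D.obj.hom)⟩)
    intro X' S' p' hX' hS' hp' hs' hl' D' hD'
    haveI : IsSeparated D'.obj.hom := hD'.1.1
    haveI : LocallyQuasiFinite D'.obj.hom := hD'.1.2
    haveI : LocallyOfFiniteType D'.obj.hom := hD'.2
    have hind : MoreMor.IsIndQuasiAffineHom D'.obj.hom := Groth.Agent.S1402.result D'.obj.hom
    refine exists_of_indQuasiAffine p' D' (fun W hW => ?_)
    have : CompactSpace (W : Scheme.{u}) := isCompact_iff_compactSpace.mp hW
    exact Groth.Agent.Lib.Helper7.isQuasiAffine_of_isIndQuasiAffineHom hind W.ι ⊤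
      (isAffineOpen_top X') (by simp)
  obtain ⟨U, ⟨iso⟩⟩ := hE
  exact ⟨U, ⟨(SchDDFam.toSchDD p).mapIso iso⟩⟩

end General

end Groth.Agent.Lib.Helper26.SepLqfDescent
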