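import Groth.Agent.Lib.Helper51.FppfLocal
import Mathlib.AlgebraicGeometry.Morphisms.FlatDescent
import Mathlib.AlgebraicGeometry.Morphisms.LocalFlatDescent
import Mathlib.AlgebraicGeometry.Sites.Etale
import Mathlib.CategoryTheory.Sites.SubcanonicalOver

/-!
# Flatness is fppf-local on the target; instances for the fppf and étale precoverages (helper26)
-/

set_option autoImplicit false
universe u

namespace Groth.Agent.Lib.Helper26.FlatLocal

open CategoryTheory Limits AlgebraicGeometry MorphismProperty

theorem flat_codescendsAlong : RingHom.CodescendsAlong RingHom.Flat RingHom.FaithfullyFlat := by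
  refine .mk _ RingHom.Flat.respectsIso fun R S T _ _ _ _ _ h h' ↦ ?_
  rw [RingHom.faithfullyFlat_algebraMap_iff] at h
  rw [RingHom.flat_algebraMap_iff] at h' ⊢
  exact Module.Flat.of_flat_tensorProduct R T S

instance flat_descendsAlong_fpqc : MorphismProperty.DescendsAlong @Flat
    (@Surjective ⊓ @Flat ⊓ @QuasiCompact : MorphismProperty Scheme.{u}) :=
  HasRingHomProperty.descendsAlong_flat flat_codescendsAlong

instance flat_isLocalAtTarget_fppf :
    MorphismProperty.IsLocalAtTarget (@Flat : MorphismProperty Scheme.{u})
      Scheme.fppfPrecoverage :=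
  Groth.Agent.Lib.Helper51.isLocalAtTarget_fppf_of_descendsAlong _

theorem etalePrecoverage_le_fppfPrecoverage :
    Scheme.etalePrecoverage.{u} ≤ Scheme.fppfPrecoverage :=
  Scheme.precoverage_mono fun _ _ _ _ ↦ ⟨inferInstance, inferInstance⟩

instance etale_isLocalAtTarget_etale :
    MorphismProperty.IsLocalAtTarget (@Etale : MorphismProperty Scheme.{u})
      Scheme.etalePrecoverage :=
  haveI : MorphismProperty.IsLocalAtTarget (@Etale : MorphismProperty Scheme.{u})
      Scheme.fppfPrecoverage := Groth.Agent.Lib.Helper51.isLocalAtTarget_fppf_of_descendsAlong _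
  MorphismProperty.IsLocalAtTarget.of_le etalePrecoverage_le_fppfPrecoverage

instance : Precoverage.HasIsos Scheme.fppfPrecoverage.{u} where
  mem_coverings_of_isIso f _ := f.singleton_mem_fppfPrecoverage

instance : Precoverage.HasIsos Scheme.etalePrecoverage.{u} :=
  inferInstanceAs <| Precoverage.HasIsos (Scheme.precoverage @Etale)

instance : Precoverage.IsStableUnderBaseChange Scheme.etalePrecoverage.{u} :=
  inferInstanceAs <| Precoverage.IsStableUnderBaseChange (Scheme.precoverage @Etale)

instance : Precoverage.IsStableUnderComposition Scheme.etalePrecoverage.{u} :=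
  inferInstanceAs <| Precoverage.IsStableUnderComposition (Scheme.precoverage @Etale)

instance etale_subcanonical : Scheme.etalePrecoverage.{u}.toGrothendieck.Subcanonical :=
  .of_le (Precoverage.toGrothendieck_mono etalePrecoverage_le_fppfPrecoverage :
    Scheme.etalePrecoverage.{u}.toGrothendieck ≤ Scheme.fppfTopology)

end Groth.Agent.Lib.Helper26.FlatLocal
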