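import Groth.Prelude.Def_DRing4
import Groth.Agent.Lib.Helper28.TensCx
import Mathlib.Algebra.Homology.HomotopyCategory.KProjective

/-!
# The tensor–Hom adjunction for cochain complexes of modules, at the level of cochains (helper26)

`K L Z` cochain complexes of `A`-modules.  Cochains `K ⊗ L → Z` of degree `d` correspond to cochains
`K → Hom•(L, Z)` (`DRing.homCx`) of degree `d`, compatibly with the differentials `δ` (no signs with
Mathlib's conventions).
-/

set_option autoImplicit false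

universe u

open CategoryTheory CategoryTheory.Limits MonoidalCategory CochainComplex CochainComplex.HomComplex
open scoped TensorProduct

namespace Groth.Agent.Lib.Helper26.TensorHomCx

open Groth.Agent.Lib.Helper28

variable {A : Type u} [CommRing A] {K L Z : DRing.Cx A}

/-- Evaluation of a cochain `L → Z` at a component, as a linear map on cochains. -/
noncomputable def evalLin (e q n : ℤ) (hq : q + e = n) :
    Cochain L Z e →ₗ[A] (L.X q →ₗ[A] Z.X n) where
  toFun w := (w.v q n hq).hom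
  map_add' w w' := by rw [Cochain.add_v]; rfl
  map_smul' a w := by rw [Cochain.smul_v]; rfl

/-- The bilinear map `K^p × L^q → Z^n` attached to a cochain `K → Hom•(L, Z)`. -/
noncomputable def bil {d : ℤ} (z : Cochain K (DRing.homCx L Z) d) (p p' : ℤ) (hp : p + d = p')
    (q n : ℤ) (hq : q + p' = n) : K.X p →ₗ[A] L.X q →ₗ[A] Z.X n :=
  (evalLin p' q n hq) ∘ₗ (z.v p p' hp).hom

lemma bil_apply {d : ℤ} (z : Cochain K (DRing.homCx L Z) d) (p p' : ℤ) (hp : p + d = p')
    (q n : ℤ) (hq : q + p' = n) (x : K.X p) (y : L.X q) :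
    bil z p p' hp q n hq x y =
      ((show Cochain L Z p' from (z.v p p' hp).hom x).v q n hq).hom y := rfl

/-- The cochain `K ⊗ L → Z` attached to a cochain `K → Hom•(L, Z)`. -/
noncomputable def uncurry {d : ℤ} (z : Cochain K (DRing.homCx L Z) d) : Cochain (K ⊗ L) Z d :=
  Cochain.mk (fun n n' hn => HomologicalComplex.mapBifunctorDesc (fun p q hpq =>
    ModuleCat.ofHom (TensorProduct.lift (bil z p (p + d) rfl q n' (by
      have : p + q = n := hpq
      omega)))))

lemma ι_uncurry_v {d : ℤ} (z : Cochain K (DRing.homCx L Z) d) (p q n n' : ℤ) (hpq : p + q = n)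
    (hn : n + d = n') (p' : ℤ) (hp : p + d = p') :
    TensCx.ι K L p q n hpq ≫ (uncurry z).v n n' hn =
      ModuleCat.ofHom (TensorProduct.lift (bil z p p' hp q n' (by omega))) := by
  subst hp
  dsimp only [uncurry, TensCx.ι]
  rw [Cochain.mk_v]
  erw [HomologicalComplex.ι_mapBifunctorDesc]

lemma ι_uncurry_v_apply {d : ℤ} (z : Cochain K (DRing.homCx L Z) d) (p q n n' : ℤ) (hpq : p + q = n)
    (hn : n + d = n') (p' : ℤ) (hp : p + d = p') (x : K.X p) (y : L.X q) :
    (TensCx.ι K L p q n hpq ≫ (uncurry z).v n n' hn).hom (x ⊗ₜ[A] y) =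
      bil z p p' hp q n' (by omega) x y := by
  rw [ι_uncurry_v z p q n n' hpq hn p' hp]
  rfl

/-- The linear map `K^p → Cochain L Z p'` attached to a cochain `K ⊗ L → Z`. -/
noncomputable def curryLin {d : ℤ} (z : Cochain (K ⊗ L) Z d) (p p' : ℤ) (hp : p + d = p') :
    K.X p →ₗ[A] Cochain L Z p' where
  toFun x := Cochain.mk (fun q n hq => ModuleCat.ofHom
    (TensorProduct.curry (TensCx.ι K L p q (p + q) rfl ≫ z.v (p + q) n (by omega)).hom x))
  map_add' x x' := by
    ext q n hq
    rw [Cochain.add_v, Cochain.mk_v, Cochain.mk_v, Cochain.mk_v, map_add]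
    rfl
  map_smul' a x := by
    ext q n hq
    rw [Cochain.smul_v, Cochain.mk_v, Cochain.mk_v, map_smul]
    rfl

lemma curryLin_apply_v_apply {d : ℤ} (z : Cochain (K ⊗ L) Z d) (p p' : ℤ) (hp : p + d = p')
    (x : K.X p) (q n : ℤ) (hq : q + p' = n) (m : ℤ) (hm : p + q = m) (y : L.X q) :
    ((curryLin z p p' hp x).v q n hq).hom y =
      (TensCx.ι K L p q m hm ≫ z.v m n (by omega)).hom (x ⊗ₜ[A] y) := by
  subst hm
  rfl

/-- The cochain `K → Hom•(L, Z)` attached to a cochain `K ⊗ L → Z`. -/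
noncomputable def curry {d : ℤ} (z : Cochain (K ⊗ L) Z d) : Cochain K (DRing.homCx L Z) d :=
  Cochain.mk (fun p p' hp => ModuleCat.ofHom (curryLin z p p' hp))

lemma curry_v_apply {d : ℤ} (z : Cochain (K ⊗ L) Z d) (p p' : ℤ) (hp : p + d = p') (x : K.X p) :
    (show Cochain L Z p' from ((curry z).v p p' hp).hom x) = curryLin z p p' hp x := rfl

lemma uncurry_curry {d : ℤ} (z : Cochain (K ⊗ L) Z d) : uncurry (curry z) = z := by
  refine Cochain.ext _ _ (fun n n' hn => ?_)
  apply TensCx.hom_ext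
  intro p q hpq
  apply ModuleCat.MonoidalCategory.tensor_ext
  intro x y
  rw [ι_uncurry_v_apply (curry z) p q n n' hpq hn (p + d) rfl, bil_apply, curry_v_apply,
    curryLin_apply_v_apply z p (p + d) rfl x q n' _ n hpq y]

lemma curry_uncurry {d : ℤ} (z : Cochain K (DRing.homCx L Z) d) : curry (uncurry z) = z := by
  refine Cochain.ext _ _ (fun p p' hp => ?_)
  apply ModuleCat.hom_ext
  apply LinearMap.ext
  intro x
  change (show Cochain L Z p' from ((curry (uncurry z)).v p p' hp).hom x) =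
    (show Cochain L Z p' from (z.v p p' hp).hom x)
  rw [curry_v_apply]
  refine Cochain.ext _ _ (fun q n hq => ?_)
  apply ModuleCat.hom_ext
  apply LinearMap.ext
  intro y
  rw [curryLin_apply_v_apply (uncurry z) p p' hp x q n hq (p + q) rfl y,
    ι_uncurry_v_apply z p q (p + q) n rfl (by omega) p' hp, bil_apply]

lemma uncurry_zero {d : ℤ} : uncurry (0 : Cochain K (DRing.homCx L Z) d) = 0 := by
  refine Cochain.ext _ _ (fun n n' hn => ?_)
  apply TensCx.hom_ext
  intro p q hpq
  apply ModuleCat.MonoidalCategory.tensor_ext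
  intro x y
  rw [ι_uncurry_v_apply 0 p q n n' hpq hn (p + d) rfl, bil_apply, Cochain.zero_v, Cochain.zero_v,
    Limits.comp_zero]
  rfl

lemma uncurry_add {d : ℤ} (z z' : Cochain K (DRing.homCx L Z) d) :
    uncurry (z + z') = uncurry z + uncurry z' := by
  refine Cochain.ext _ _ (fun n n' hn => ?_)
  apply TensCx.hom_ext
  intro p q hpq
  apply ModuleCat.MonoidalCategory.tensor_ext
  intro x y
  rw [Cochain.add_v, Preadditive.comp_add, ModuleCat.hom_add, LinearMap.add_apply,
    ι_uncurry_v_apply (z + z') p q n n' hpq hn (p + d) rfl,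
    ι_uncurry_v_apply z p q n n' hpq hn (p + d) rfl,
    ι_uncurry_v_apply z' p q n n' hpq hn (p + d) rfl, bil_apply, bil_apply, bil_apply,
    Cochain.add_v]
  rfl

/-- Elementwise: the first half of `δ (uncurry z)` on a summand. -/
lemma ι_uncurry_v_comp_d_apply {d : ℤ} (z : Cochain K (DRing.homCx L Z) d) (p q n n' n'' : ℤ)
    (hpq : p + q = n) (hn : n + d = n') (p' : ℤ) (hp : p + d = p') (x : K.X p) (y : L.X q) :
    (TensCx.ι K L p q n hpq ≫ (uncurry z).v n n' hn ≫ Z.d n' n'').hom (x ⊗ₜ[A] y) =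
      (Z.d n' n'').hom (bil z p p' hp q n' (by omega) x y) := by
  rw [← Category.assoc, ModuleCat.hom_comp, LinearMap.comp_apply,
    ι_uncurry_v_apply z p q n n' hpq hn p' hp]

/-- Elementwise: the second half of `δ (uncurry z)` on a summand. -/
lemma ι_d_comp_uncurry_v_apply {d : ℤ} (z : Cochain K (DRing.homCx L Z) d) (p q n n₁ n'' : ℤ)
    (hpq : p + q = n) (hn₁ : n + 1 = n₁) (hn : n₁ + d = n'') (p₁ p' p₁' q₁ : ℤ) (hp₁ : p + 1 = p₁)
    (hq₁ : q + 1 = q₁) (hp : p + d = p') (hp' : p₁ + d = p₁') (x : K.X p) (y : L.X q) :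
    (TensCx.ι K L p q n hpq ≫ (K ⊗ L).d n n₁ ≫ (uncurry z).v n₁ n'' hn).hom (x ⊗ₜ[A] y) =
      bil z p₁ p₁' hp' q n'' (by omega) ((K.d p p₁).hom x) y +
        (p.negOnePow : ℤ) • bil z p p' hp q₁ n'' (by omega) x ((L.d q q₁).hom y) := by
  have e1 : ((K.d p p₁ ▷ L.X q) ≫ TensCx.ι K L p₁ q n₁ (by omega) ≫
      (uncurry z).v n₁ n'' hn).hom (x ⊗ₜ[A] y) =
        bil z p₁ p₁' hp' q n'' (by omega) ((K.d p p₁).hom x) y := by
    rw [ModuleCat.hom_comp, LinearMap.comp_apply]
    exact ι_uncurry_v_apply z p₁ q n₁ n'' (by omega) hn p₁' hp' _ _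
  have e2 : ((K.X p ◁ L.d q q₁) ≫ TensCx.ι K L p q₁ n₁ (by omega) ≫
      (uncurry z).v n₁ n'' hn).hom (x ⊗ₜ[A] y) =
        bil z p p' hp q₁ n'' (by omega) x ((L.d q q₁).hom y) := by
    rw [ModuleCat.hom_comp, LinearMap.comp_apply]
    exact ι_uncurry_v_apply z p q₁ n₁ n'' (by omega) hn p' hp _ _
  rw [← Category.assoc, TensCx.ι_d K L p p₁ q q₁ n n₁ hpq hn₁ hp₁ hq₁, Preadditive.add_comp,
    ModuleCat.hom_add, LinearMap.add_apply, Category.assoc, e1, Units.smul_def,
    Linear.smul_comp, ModuleCat.hom_zsmul, LinearMap.smul_apply, Category.assoc, e2]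

/-- Elementwise: `bil` of `δ z`. -/
lemma bil_δ {d d' : ℤ} (h : d + 1 = d') (z : Cochain K (DRing.homCx L Z) d) (p p' p'' p₁ : ℤ)
    (hp' : p + d = p') (hp'' : p + d' = p'') (hp₁ : p + 1 = p₁) (q q₁ n' n'' : ℤ)
    (hq : q + p'' = n'') (hn' : n' + 1 = n'') (hq₁ : q + 1 = q₁) (x : K.X p) (y : L.X q) :
    bil (δ d d' z) p p'' hp'' q n'' hq x y =
      (Z.d n' n'').hom (bil z p p' hp' q n' (by omega) x y) +
        (p''.negOnePow : ℤ) • bil z p p' hp' q₁ n'' (by omega) x ((L.d q q₁).hom y) +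
        (d'.negOnePow : ℤ) • bil z p₁ p'' (by omega) q n'' hq ((K.d p p₁).hom x) y := by
  have E : (show Cochain L Z p'' from ((δ d d' z).v p p'' hp'').hom x) =
      δ p' p'' (show Cochain L Z p' from (z.v p p' hp').hom x) +
        (d'.negOnePow : ℤ) • (show Cochain L Z p'' from
          (z.v p₁ p'' (by omega)).hom ((K.d p p₁).hom x)) := by
    rw [δ_v d d' h z p p'' hp'' p' p₁ (by omega) hp₁]
    rfl
  rw [bil_apply, E, Cochain.add_v, ModuleCat.hom_add, LinearMap.add_apply,
    δ_v p' p'' (by omega) _ q n'' hq n' q₁ (by omega) hq₁, ModuleCat.hom_add, LinearMap.add_apply]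
  rfl

/-- `uncurry` commutes with the differentials of the Hom complexes. -/
lemma δ_uncurry {d d' : ℤ} (z : Cochain K (DRing.homCx L Z) d) :
    δ d d' (uncurry z) = uncurry (δ d d' z) := by
  by_cases h : d + 1 = d'
  · refine Cochain.ext _ _ (fun n n'' hn => ?_)
    apply TensCx.hom_ext
    intro p q hpq
    apply ModuleCat.MonoidalCategory.tensor_ext
    intro x y
    rw [ι_uncurry_v_apply (δ d d' z) p q n n'' hpq hn (p + d') rfl,
      bil_δ h z p (p + d) (p + d') (p + 1) rfl rfl rfl q (q + 1) (n'' - 1) n'' (by omega)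
        (by omega) rfl x y,
      δ_v d d' h (uncurry z) n n'' hn (n'' - 1) (n + 1) rfl rfl, Preadditive.comp_add,
      ModuleCat.hom_add, LinearMap.add_apply,
      ι_uncurry_v_comp_d_apply z p q n (n'' - 1) n'' hpq (by omega) (p + d) rfl x y,
      Units.smul_def, Linear.comp_smul, ModuleCat.hom_zsmul, LinearMap.smul_apply,
      ι_d_comp_uncurry_v_apply z p q n (n + 1) n'' hpq rfl (by omega) (p + 1) (p + d) (p + d')
        (q + 1) rfl rfl rfl (by omega) x y,
      smul_add, Int.negOnePow_add, Units.val_mul, mul_smul,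
      smul_comm (d'.negOnePow : ℤ) (p.negOnePow : ℤ)]
    abel
  · rw [δ_shape _ _ h, δ_shape _ _ h, uncurry_zero]

lemma δ_curry {d d' : ℤ} (z : Cochain (K ⊗ L) Z d) :
    δ d d' (curry z) = curry (δ d d' z) := by
  rw [← curry_uncurry (δ d d' (curry z)), ← δ_uncurry, uncurry_curry]

lemma curry_zero {d : ℤ} : curry (0 : Cochain (K ⊗ L) Z d) = 0 := by
  rw [← uncurry_zero, curry_uncurry]

/-- The adjunct chain map `K ⟶ Hom•(L, Z)` of a chain map `K ⊗ L ⟶ Z`. -/
noncomputable def curryHom (f : K ⊗ L ⟶ Z) : K ⟶ DRing.homCx L Z :=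
  Cocycle.homOf (Cocycle.mk (curry (Cochain.ofHom f)) 1 (zero_add 1) (by
    rw [δ_curry, δ_ofHom, curry_zero]))

lemma ofHom_curryHom (f : K ⊗ L ⟶ Z) :
    Cochain.ofHom (curryHom f) = curry (Cochain.ofHom f) :=
  Cocycle.cochain_ofHom_homOf_eq_coe _

lemma ofHom_eq_of_curryHom (f : K ⊗ L ⟶ Z) (β : Cochain K (DRing.homCx L Z) (-1))
    (hβ : Cochain.ofHom (curryHom f) = δ (-1) 0 β + Cochain.ofHom 0) :
    Cochain.ofHom f = δ (-1) 0 (uncurry β) + Cochain.ofHom 0 := by
  rw [Cochain.ofHom_zero, add_zero, ofHom_curryHom] at hβ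
  rw [δ_uncurry, ← hβ, uncurry_curry, Cochain.ofHom_zero, add_zero]

/-- A null-homotopy of the adjunct gives a null-homotopy of the original map. -/
noncomputable def homotopyZeroOfCurryHom (f : K ⊗ L ⟶ Z) (h : Homotopy (curryHom f) 0) :
    Homotopy f 0 :=
  (Cochain.equivHomotopy f 0).symm ⟨uncurry (Cochain.equivHomotopy _ _ h).1,
    ofHom_eq_of_curryHom f _ (Cochain.equivHomotopy _ _ h).2⟩

section Acyclic

variable {C : Type*} [Category C] [Abelian C]

/-- For `P` K-projective and `Z` acyclic, every cocycle `P → Z` (of any degree) is a coboundary. -/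
lemma exists_δ_eq_of_isKProjective (P Z : CochainComplex C ℤ) [CochainComplex.IsKProjective P] (hZ : Z.Acyclic)
    (m : ℤ) (w : Cochain P Z m) (hw : δ m (m + 1) w = 0) :
    ∃ v : Cochain P Z (m - 1), δ (m - 1) m v = w := by
  let γ : Cocycle P Z m := Cocycle.mk w (m + 1) rfl hw
  have hm : m + (-m) = 0 := by omega
  let g : P⟦-m⟧ ⟶ Z := (Cocycle.equivHomShift' (-m) m hm).symm γ
  have hg : Cochain.ofHom g = w.leftShift (-m) 0 hm := by
    dsimp only [g]
    rw [Cocycle.equivHomShift'_symm_apply]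
    exact Cocycle.cochain_ofHom_homOf_eq_coe _
  have H : Homotopy g 0 := CochainComplex.IsKProjective.homotopyZero g hZ
  obtain ⟨β, hβ⟩ := Cochain.equivHomotopy g 0 H
  rw [Cochain.ofHom_zero, add_zero] at hβ
  refine ⟨(-m).negOnePow • β.leftUnshift (m - 1) (by omega), ?_⟩
  rw [δ_units_smul, Cochain.δ_leftUnshift β (m - 1) (by omega) m 0 hm, ← hβ, hg,
    Cochain.leftUnshift_leftShift, smul_smul, Int.units_mul_self, one_smul]

end Acyclic

/-- `Hom•(P, Z)` is acyclic for `P` K-projective and `Z` acyclic. -/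
lemma acyclic_homCx (P Z : DRing.Cx A) [CochainComplex.IsKProjective P] (hZ : Z.Acyclic) :
    (DRing.homCx P Z).Acyclic := by
  intro n
  rw [HomologicalComplex.exactAt_iff' _ (n - 1) n (n + 1) (by simp) (by simp),
    ShortComplex.moduleCat_exact_iff]
  intro (w : Cochain P Z n) hw
  obtain ⟨v, hv⟩ := exists_δ_eq_of_isKProjective P Z hZ n w hw
  exact ⟨v, hv⟩

/-- The tensor product of two K-projective complexes of modules is K-projective. -/
lemma isKProjective_tensor (P P' : DRing.Cx A) [CochainComplex.IsKProjective P]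
    [CochainComplex.IsKProjective P'] :
    CochainComplex.IsKProjective (P ⊗ P') where
  nonempty_homotopy_zero {Z} f hZ :=
    ⟨homotopyZeroOfCurryHom f
      (CochainComplex.IsKProjective.homotopyZero (curryHom f) (acyclic_homCx P' Z hZ))⟩

lemma uncurry_smul {d : ℤ} (a : A) (z : Cochain K (DRing.homCx L Z) d) :
    uncurry (a • z) = a • uncurry z := by
  refine Cochain.ext _ _ (fun n n' hn => ?_)
  apply TensCx.hom_ext
  intro p q hpq
  apply ModuleCat.MonoidalCategory.tensor_ext
  intro x y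
  rw [Cochain.smul_v, Linear.comp_smul, ModuleCat.hom_smul, LinearMap.smul_apply,
    ι_uncurry_v_apply (a • z) p q n n' hpq hn (p + d) rfl,
    ι_uncurry_v_apply z p q n n' hpq hn (p + d) rfl, bil_apply, bil_apply, Cochain.smul_v]
  rfl

/-- `uncurry` as a linear equivalence. -/
noncomputable def uncurryLinearEquiv (K L Z : DRing.Cx A) (d : ℤ) :
    Cochain K (DRing.homCx L Z) d ≃ₗ[A] Cochain (K ⊗ L) Z d where
  toFun := uncurry
  invFun := curry
  map_add' := uncurry_add
  map_smul' := uncurry_smul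
  left_inv := curry_uncurry
  right_inv := uncurry_curry

/-- The tensor–Hom adjunction as an isomorphism of complexes of modules
`Hom•(K, Hom•(L, Z)) ≅ Hom•(K ⊗ L, Z)`. -/
noncomputable def homCxTensorIso (K L Z : DRing.Cx A) :
    DRing.homCx K (DRing.homCx L Z) ≅ DRing.homCx (K ⊗ L) Z :=
  HomologicalComplex.Hom.isoOfComponents (fun d => (uncurryLinearEquiv K L Z d).toModuleIso)
    (fun i j _ => by
      apply ModuleCat.hom_ext
      apply LinearMap.ext
      intro (z : Cochain K (DRing.homCx L Z) i)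
      exact δ_uncurry (d := i) (d' := j) z)

end Groth.Agent.Lib.Helper26.TensorHomCx
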