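import Mathlib

/-!
# Values of left derived functors at "good" objects (helper26)

`L : C ⥤ D`, `F : C ⥤ H`.  An object `X₀ : C` is *good* for `(L, F)` (`IsGoodAt L F X₀`) when
`L` is full on maps out of `X₀` and `F` identifies maps out of `X₀` that `L` identifies.
(Example: `L = Q × Q` on pairs of complexes, `X₀` a pair of K-projective complexes, `F` any functor
that sends homotopic maps to equal maps.)

* `hasPointwiseRightKanExtensionAt` : the pointwise right Kan extension of `F` along `L` exists at
  `L.obj X₀` (with value `F.obj X₀`).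
* `hasPointwiseRightKanExtension` : if `L` is a localization for `W` and every object receives a
  `W`-map from a good object, all pointwise right Kan extensions exist.
* `isIso_app` : for any right Kan extension `(LF, α)` (e.g. a left derived functor), `α.app X₀` is an
  isomorphism at good `X₀` (in the presence of pointwise Kan extensions).
-/

set_option autoImplicit false

open CategoryTheory CategoryTheory.Limits

namespace Groth.Agent.Lib.Helper26.DerivedAt

variable {C D H : Type*} [Category C] [Category D] [Category H]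

/-- `X₀` is good for `(L, F)`: `L` is full on maps out of `X₀`, and `F` identifies maps out of `X₀`
that `L` identifies. -/
structure IsGoodAt (L : C ⥤ D) (F : C ⥤ H) (X₀ : C) : Prop where
  surj : ∀ (Z : C) (g : L.obj X₀ ⟶ L.obj Z), ∃ f : X₀ ⟶ Z, L.map f = g
  resp : ∀ (Z : C) (f g : X₀ ⟶ Z), L.map f = L.map g → F.map f = F.map g

variable {L : C ⥤ D} {F : C ⥤ H} {X₀ : C}

namespace IsGoodAt

variable (h : IsGoodAt L F X₀)

/-- A chosen lift of a map `L.obj X₀ ⟶ L.obj Z`. -/
noncomputable def lift (Z : C) (g : L.obj X₀ ⟶ L.obj Z) : X₀ ⟶ Z := (h.surj Z g).choose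

lemma map_lift (Z : C) (g : L.obj X₀ ⟶ L.obj Z) : L.map (h.lift Z g) = g :=
  (h.surj Z g).choose_spec

/-- The value of `F` on any lift of `g`. -/
lemma map_eq_of_map_eq {Z : C} (g : L.obj X₀ ⟶ L.obj Z) (f : X₀ ⟶ Z) (hf : L.map f = g) :
    F.map f = F.map (h.lift Z g) :=
  h.resp Z _ _ (hf.trans (h.map_lift Z g).symm)

/-- The cone over `StructuredArrow (L.obj X₀) L` with point `F.obj X₀`. -/
noncomputable def cone : Cone (StructuredArrow.proj (L.obj X₀) L ⋙ F) where
  pt := F.obj X₀
  π :=
    { app := fun Z => F.map (h.lift Z.right Z.hom)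
      naturality := fun Z Z' φ => by
        have e : F.map (h.lift Z.right Z.hom ≫ φ.right) = F.map (h.lift Z'.right Z'.hom) :=
          h.map_eq_of_map_eq Z'.hom _ (by
            rw [Functor.map_comp, h.map_lift]
            exact StructuredArrow.w φ)
        rw [Functor.map_comp] at e
        exact (Category.id_comp _).trans e.symm }

lemma cone_π_app_mk_id : h.cone.π.app (StructuredArrow.mk (𝟙 (L.obj X₀))) = 𝟙 (F.obj X₀) := by
  change F.map (h.lift X₀ (𝟙 _)) = _
  rw [← h.map_eq_of_map_eq (𝟙 (L.obj X₀)) (𝟙 X₀) (L.map_id X₀), F.map_id]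

/-- The cone `h.cone` is a limit cone. -/
noncomputable def isLimitCone : IsLimit h.cone where
  lift s := s.π.app (StructuredArrow.mk (𝟙 (L.obj X₀)))
  fac s Z := by
    have hw : (StructuredArrow.mk (𝟙 (L.obj X₀))).hom ≫ L.map (h.lift Z.right Z.hom) = Z.hom := by
      simp only [StructuredArrow.mk_hom_eq_self, Category.id_comp, h.map_lift]
    exact s.w (StructuredArrow.homMk (f := StructuredArrow.mk (𝟙 (L.obj X₀))) (f' := Z)
      (h.lift Z.right Z.hom) hw)
  uniq s m hm := by
    have := hm (StructuredArrow.mk (𝟙 (L.obj X₀)))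
    rw [cone_π_app_mk_id] at this
    exact (Category.comp_id m).symm.trans this

include h in
lemma hasPointwiseRightKanExtensionAt : L.HasPointwiseRightKanExtensionAt F (L.obj X₀) :=
  ⟨⟨_, h.isLimitCone⟩⟩

include h in
/-- For any right Kan extension `(LF, α)` of `F` along `L` (pointwise Kan extensions existing),
`α.app X₀` is an isomorphism at a good object `X₀`. -/
lemma isIso_app [L.HasPointwiseRightKanExtension F] (LF : D ⥤ H) (α : L ⋙ LF ⟶ F)
    [LF.IsRightKanExtension α] : IsIso (α.app X₀) := by
  have hc := Functor.isPointwiseRightKanExtensionOfIsRightKanExtension LF α (L.obj X₀)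
  let e := IsLimit.conePointUniqueUpToIso hc h.isLimitCone
  have he : e.hom ≫ h.cone.π.app (StructuredArrow.mk (𝟙 (L.obj X₀))) =
      ((Functor.RightExtension.mk LF α).coneAt (L.obj X₀)).π.app
        (StructuredArrow.mk (𝟙 (L.obj X₀))) :=
    IsLimit.conePointUniqueUpToIso_hom_comp hc h.isLimitCone _
  rw [cone_π_app_mk_id] at he
  have he' : e.hom = ((Functor.RightExtension.mk LF α).coneAt (L.obj X₀)).π.app
      (StructuredArrow.mk (𝟙 (L.obj X₀))) := (Category.comp_id e.hom).symm.trans he
  have h2 : ((Functor.RightExtension.mk LF α).coneAt (L.obj X₀)).π.app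
      (StructuredArrow.mk (𝟙 (L.obj X₀))) = α.app X₀ := by
    simp
  have h3 : α.app X₀ = e.hom := (he'.trans h2).symm
  rw [h3]
  infer_instance

end IsGoodAt

/-- If `L` is a localization functor for `W` and every object receives a `W`-map from a good object,
then `F` has a pointwise right Kan extension along `L`. -/
lemma hasPointwiseRightKanExtension (W : MorphismProperty C) [L.IsLocalization W]
    (hres : ∀ X : C, ∃ (X₀ : C) (w : X₀ ⟶ X), W w ∧ IsGoodAt L F X₀) :
    L.HasPointwiseRightKanExtension F := by
  intro Y
  have := Localization.essSurj L W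
  obtain ⟨X₀, w, hw, hX₀⟩ := hres (L.objPreimage Y)
  have := Localization.inverts L W w hw
  let e : L.obj X₀ ≅ Y := asIso (L.map w) ≪≫ L.objObjPreimageIso Y
  have := hX₀.hasPointwiseRightKanExtensionAt
  exact (Functor.hasPointwiseRightKanExtensionAt_iff_of_iso L F e).1 inferInstance

/-- Left derived functor version: the counit of a left derived functor is an isomorphism at good
objects, provided every object has a resolution by a good object. -/
lemma isIso_app_of_isLeftDerivedFunctor (W : MorphismProperty C) [L.IsLocalization W]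
    (hres : ∀ X : C, ∃ (X₀ : C) (w : X₀ ⟶ X), W w ∧ IsGoodAt L F X₀)
    (LF : D ⥤ H) (α : L ⋙ LF ⟶ F) [LF.IsLeftDerivedFunctor α W]
    (X₀ : C) (h : IsGoodAt L F X₀) : IsIso (α.app X₀) := by
  have := hasPointwiseRightKanExtension W hres
  have := Functor.IsLeftDerivedFunctor.isRightKanExtension LF α W
  exact h.isIso_app LF α

end Groth.Agent.Lib.Helper26.DerivedAt
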