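import Mathlib
import Groth.Agent.Lib.Helper26.DerivedAt

/-!
# `DerivedCategory.Q` at K-projective complexes, and derived bifunctors at K-projective pairs (helper26)

* `Q_map_surjective`, `nonempty_homotopy_of_Q_map_eq`, `Q_map_eq_of_homotopy`.
* `RespectsHomotopy₂ T` for a functor `T` of pairs of complexes; `isGoodAt_pair`: a pair of K-projective
  complexes is good (`DerivedAt.IsGoodAt`) for `(Q × Q, T ⋙ Q)`.
* `isIso_counit_pair` : the counit of a total left derived functor of `T ⋙ Q` along `Q × Q` is an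
  isomorphism at pairs of K-projective complexes (K-projective resolutions existing).
-/

set_option autoImplicit false

universe w v u

open CategoryTheory CategoryTheory.Limits DerivedCategory

namespace Groth.Agent.Lib.Helper26.KProjQ

open Groth.Agent.Lib.Helper26.DerivedAt

section One

variable {C : Type u} [Category.{v} C] [Abelian C] [HasDerivedCategory.{w} C]

lemma Q_map_eq_of_homotopy {X Y : CochainComplex C ℤ} (f g : X ⟶ Y) (h : Homotopy f g) :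
    (Q : CochainComplex C ℤ ⥤ DerivedCategory C).map f = Q.map g := by
  have e := HomotopyCategory.eq_of_homotopy f g h
  have h1 := quotientCompQhIso_inv_naturality (C := C) f
  have h2 := quotientCompQhIso_inv_naturality (C := C) g
  rw [e] at h1
  have h3 : Q.map f ≫ (quotientCompQhIso C).inv.app Y = Q.map g ≫ (quotientCompQhIso C).inv.app Y :=
    h1.trans h2.symm
  exact (cancel_mono _).1 h3

lemma Q_map_surjective (P Z : CochainComplex C ℤ) [P.IsKProjective]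
    (g : (Q : CochainComplex C ℤ ⥤ DerivedCategory C).obj P ⟶ Q.obj Z) :
    ∃ f : P ⟶ Z, Q.map f = g := by
  obtain ⟨f', hf'⟩ := (CochainComplex.IsKProjective.Qh_map_bijective P
    ((HomotopyCategory.quotient _ _).obj Z)).surjective
      ((quotientCompQhIso C).hom.app P ≫ g ≫ (quotientCompQhIso C).inv.app Z)
  obtain ⟨f, rfl⟩ := (HomotopyCategory.quotient _ _).map_surjective f'
  refine ⟨f, ?_⟩
  have h1 := quotientCompQhIso_hom_naturality (C := C) f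
  rw [hf'] at h1
  simp only [Category.assoc, Iso.inv_hom_id_app, Category.comp_id] at h1
  exact ((cancel_epi _).1 h1).symm

lemma nonempty_homotopy_of_Q_map_eq {P Z : CochainComplex C ℤ} [P.IsKProjective] (f g : P ⟶ Z)
    (h : (Q : CochainComplex C ℤ ⥤ DerivedCategory C).map f = Q.map g) : Nonempty (Homotopy f g) := by
  have h1 := quotientCompQhIso_hom_naturality (C := C) f
  have h2 := quotientCompQhIso_hom_naturality (C := C) g
  rw [h] at h1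
  have h3 := (cancel_mono _).1 (h1.trans h2.symm)
  exact ⟨HomotopyCategory.homotopyOfEq _ _
    ((CochainComplex.IsKProjective.Qh_map_bijective P _).injective h3)⟩

end One

section Two

variable {C₁ : Type u} [Category.{v} C₁] [Abelian C₁] [HasDerivedCategory.{w} C₁]
  {C₂ : Type u} [Category.{v} C₂] [Abelian C₂] [HasDerivedCategory.{w} C₂]
  {C₃ : Type u} [Category.{v} C₃] [Abelian C₃] [HasDerivedCategory.{w} C₃]

/-- A functor of pairs of complexes sends pairs of homotopic maps to homotopic maps. -/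
def RespectsHomotopy₂ (T : CochainComplex C₁ ℤ × CochainComplex C₂ ℤ ⥤ CochainComplex C₃ ℤ) : Prop :=
  ∀ ⦃X Y : CochainComplex C₁ ℤ × CochainComplex C₂ ℤ⦄ (f g : X ⟶ Y),
    Nonempty (Homotopy f.1 g.1) → Nonempty (Homotopy f.2 g.2) →
      Nonempty (Homotopy (T.map f) (T.map g))

lemma isGoodAt_pair {T : CochainComplex C₁ ℤ × CochainComplex C₂ ℤ ⥤ CochainComplex C₃ ℤ}
    (hT : RespectsHomotopy₂ T) (P₁ : CochainComplex C₁ ℤ) (P₂ : CochainComplex C₂ ℤ)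
    [P₁.IsKProjective] [P₂.IsKProjective] :
    IsGoodAt ((Q : CochainComplex C₁ ℤ ⥤ DerivedCategory C₁).prod
      (Q : CochainComplex C₂ ℤ ⥤ DerivedCategory C₂)) (T ⋙ Q) (P₁, P₂) where
  surj := by
    rintro ⟨Z₁, Z₂⟩ ⟨g₁, g₂⟩
    obtain ⟨f₁, hf₁⟩ := Q_map_surjective P₁ Z₁ g₁
    obtain ⟨f₂, hf₂⟩ := Q_map_surjective P₂ Z₂ g₂
    exact ⟨(f₁, f₂), Prod.ext hf₁ hf₂⟩
  resp := by
    rintro ⟨Z₁, Z₂⟩ ⟨f₁, f₂⟩ ⟨g₁, g₂⟩ h
    have h₁ : Q.map f₁ = Q.map g₁ := congrArg Prod.fst h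
    have h₂ : Q.map f₂ = Q.map g₂ := congrArg Prod.snd h
    obtain ⟨H⟩ := hT (X := (P₁, P₂)) (Y := (Z₁, Z₂)) (f₁, f₂) (g₁, g₂)
      (nonempty_homotopy_of_Q_map_eq f₁ g₁ h₁) (nonempty_homotopy_of_Q_map_eq f₂ g₂ h₂)
    exact Q_map_eq_of_homotopy _ _ H

/-- Every complex has a K-projective resolution. -/
def HasKProjRes (C : Type u) [Category.{v} C] [Abelian C] : Prop :=
  ∀ K : CochainComplex C ℤ, ∃ (P : CochainComplex C ℤ) (f : P ⟶ K), P.IsKProjective ∧ QuasiIso f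

/-- The counit of a total left derived functor of `T ⋙ Q` along `Q × Q` is an isomorphism at pairs
of K-projective complexes. -/
lemma isIso_counit_pair (h₁ : HasKProjRes C₁) (h₂ : HasKProjRes C₂)
    {T : CochainComplex C₁ ℤ × CochainComplex C₂ ℤ ⥤ CochainComplex C₃ ℤ}
    (hT : RespectsHomotopy₂ T)
    (LF : DerivedCategory C₁ × DerivedCategory C₂ ⥤ DerivedCategory C₃)
    (α : ((Q : CochainComplex C₁ ℤ ⥤ DerivedCategory C₁).prod
      (Q : CochainComplex C₂ ℤ ⥤ DerivedCategory C₂)) ⋙ LF ⟶ T ⋙ Q)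
    [LF.IsLeftDerivedFunctor α ((HomologicalComplex.quasiIso C₁ (ComplexShape.up ℤ)).prod
      (HomologicalComplex.quasiIso C₂ (ComplexShape.up ℤ)))]
    (P₁ : CochainComplex C₁ ℤ) (P₂ : CochainComplex C₂ ℤ)
    [P₁.IsKProjective] [P₂.IsKProjective] : IsIso (α.app (P₁, P₂)) := by
  refine isIso_app_of_isLeftDerivedFunctor
    ((HomologicalComplex.quasiIso C₁ (ComplexShape.up ℤ)).prod
      (HomologicalComplex.quasiIso C₂ (ComplexShape.up ℤ))) ?_ LF α (P₁, P₂)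
    (isGoodAt_pair hT P₁ P₂)
  rintro ⟨X₁, X₂⟩
  obtain ⟨Q₁, f₁, hQ₁, hf₁⟩ := h₁ X₁
  obtain ⟨Q₂, f₂, hQ₂, hf₂⟩ := h₂ X₂
  refine ⟨(Q₁, Q₂), (f₁, f₂), ⟨?_, ?_⟩, isGoodAt_pair hT Q₁ Q₂⟩
  · exact (HomologicalComplex.mem_quasiIso_iff _).2 hf₁
  · exact (HomologicalComplex.mem_quasiIso_iff _).2 hf₂

end Two

section Three

variable {C₁ : Type u} [Category.{v} C₁] [Abelian C₁] [HasDerivedCategory.{w} C₁]
  {C₂ : Type u} [Category.{v} C₂] [Abelian C₂] [HasDerivedCategory.{w} C₂]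
  {C₃ : Type u} [Category.{v} C₃] [Abelian C₃] [HasDerivedCategory.{w} C₃]
  {C₄ : Type u} [Category.{v} C₄] [Abelian C₄] [HasDerivedCategory.{w} C₄]

/-- A functor of triples of complexes sends triples of homotopic maps to homotopic maps. -/
def RespectsHomotopy₃
    (T : CochainComplex C₁ ℤ × (CochainComplex C₂ ℤ × CochainComplex C₃ ℤ) ⥤ CochainComplex C₄ ℤ) :
    Prop :=
  ∀ ⦃X Y : CochainComplex C₁ ℤ × (CochainComplex C₂ ℤ × CochainComplex C₃ ℤ)⦄ (f g : X ⟶ Y),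
    Nonempty (Homotopy f.1 g.1) → Nonempty (Homotopy f.2.1 g.2.1) →
      Nonempty (Homotopy f.2.2 g.2.2) → Nonempty (Homotopy (T.map f) (T.map g))

lemma isGoodAt_triple
    {T : CochainComplex C₁ ℤ × (CochainComplex C₂ ℤ × CochainComplex C₃ ℤ) ⥤ CochainComplex C₄ ℤ}
    (hT : RespectsHomotopy₃ T) (P₁ : CochainComplex C₁ ℤ) (P₂ : CochainComplex C₂ ℤ)
    (P₃ : CochainComplex C₃ ℤ) [P₁.IsKProjective] [P₂.IsKProjective] [P₃.IsKProjective] :
    IsGoodAt ((Q : CochainComplex C₁ ℤ ⥤ DerivedCategory C₁).prod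
      ((Q : CochainComplex C₂ ℤ ⥤ DerivedCategory C₂).prod
        (Q : CochainComplex C₃ ℤ ⥤ DerivedCategory C₃))) (T ⋙ Q) (P₁, (P₂, P₃)) where
  surj := by
    rintro ⟨Z₁, Z₂, Z₃⟩ ⟨g₁, g₂, g₃⟩
    obtain ⟨f₁, hf₁⟩ := Q_map_surjective P₁ Z₁ g₁
    obtain ⟨f₂, hf₂⟩ := Q_map_surjective P₂ Z₂ g₂
    obtain ⟨f₃, hf₃⟩ := Q_map_surjective P₃ Z₃ g₃
    exact ⟨(f₁, (f₂, f₃)), Prod.ext hf₁ (Prod.ext hf₂ hf₃)⟩
  resp := by
    rintro ⟨Z₁, Z₂, Z₃⟩ ⟨f₁, f₂, f₃⟩ ⟨g₁, g₂, g₃⟩ h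
    have h₁ : Q.map f₁ = Q.map g₁ := congrArg Prod.fst h
    have h₂ : Q.map f₂ = Q.map g₂ := congrArg (fun t => t.2.1) h
    have h₃ : Q.map f₃ = Q.map g₃ := congrArg (fun t => t.2.2) h
    obtain ⟨H⟩ := hT (X := (P₁, (P₂, P₃))) (Y := (Z₁, (Z₂, Z₃))) (f₁, (f₂, f₃)) (g₁, (g₂, g₃))
      (nonempty_homotopy_of_Q_map_eq f₁ g₁ h₁) (nonempty_homotopy_of_Q_map_eq f₂ g₂ h₂)
      (nonempty_homotopy_of_Q_map_eq f₃ g₃ h₃)
    exact Q_map_eq_of_homotopy _ _ H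

/-- The counit of a total left derived functor of `T ⋙ Q` along `Q × (Q × Q)` is an isomorphism at
triples of K-projective complexes. -/
lemma isIso_counit_triple (h₁ : HasKProjRes C₁) (h₂ : HasKProjRes C₂) (h₃ : HasKProjRes C₃)
    {T : CochainComplex C₁ ℤ × (CochainComplex C₂ ℤ × CochainComplex C₃ ℤ) ⥤ CochainComplex C₄ ℤ}
    (hT : RespectsHomotopy₃ T)
    (LF : DerivedCategory C₁ × (DerivedCategory C₂ × DerivedCategory C₃) ⥤ DerivedCategory C₄)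
    (α : ((Q : CochainComplex C₁ ℤ ⥤ DerivedCategory C₁).prod
      ((Q : CochainComplex C₂ ℤ ⥤ DerivedCategory C₂).prod
        (Q : CochainComplex C₃ ℤ ⥤ DerivedCategory C₃))) ⋙ LF ⟶ T ⋙ Q)
    [LF.IsLeftDerivedFunctor α ((HomologicalComplex.quasiIso C₁ (ComplexShape.up ℤ)).prod
      ((HomologicalComplex.quasiIso C₂ (ComplexShape.up ℤ)).prod
        (HomologicalComplex.quasiIso C₃ (ComplexShape.up ℤ))))]
    (P₁ : CochainComplex C₁ ℤ) (P₂ : CochainComplex C₂ ℤ) (P₃ : CochainComplex C₃ ℤ)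
    [P₁.IsKProjective] [P₂.IsKProjective] [P₃.IsKProjective] :
    IsIso (α.app (P₁, (P₂, P₃))) := by
  refine isIso_app_of_isLeftDerivedFunctor
    ((HomologicalComplex.quasiIso C₁ (ComplexShape.up ℤ)).prod
      ((HomologicalComplex.quasiIso C₂ (ComplexShape.up ℤ)).prod
        (HomologicalComplex.quasiIso C₃ (ComplexShape.up ℤ)))) ?_ LF α (P₁, (P₂, P₃))
    (isGoodAt_triple hT P₁ P₂ P₃)
  rintro ⟨X₁, X₂, X₃⟩
  obtain ⟨Q₁, f₁, hQ₁, hf₁⟩ := h₁ X₁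
  obtain ⟨Q₂, f₂, hQ₂, hf₂⟩ := h₂ X₂
  obtain ⟨Q₃, f₃, hQ₃, hf₃⟩ := h₃ X₃
  refine ⟨(Q₁, (Q₂, Q₃)), (f₁, (f₂, f₃)), ⟨?_, ⟨?_, ?_⟩⟩, isGoodAt_triple hT Q₁ Q₂ Q₃⟩
  · exact (HomologicalComplex.mem_quasiIso_iff _).2 hf₁
  · exact (HomologicalComplex.mem_quasiIso_iff _).2 hf₂
  · exact (HomologicalComplex.mem_quasiIso_iff _).2 hf₃

end Three

end Groth.Agent.Lib.Helper26.KProjQ
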