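import Mathlib
import Groth.Agent.Lib.Helper6.DerivedAdj0
import Groth.Agent.Lib.Helper26.KProjQ

/-!
# Adjunctions of additive functors on cochain complexes and K-projective complexes (helper26)

`adj : L ⊣ R`, additive functors between abelian categories, `R` exact.  Write `Lc`, `Rc` for the
termwise functors on cochain complexes.

* `left_triangleC`, `right_triangleC`, `adjunct`, `adjunctInv` (complex-level adjunction).
* `isKProjective_map` : `Lc` preserves K-projective complexes.
* `bijective_adjunctD` : for `P` K-projective, `g ↦ Q(unit_P) ≫ (factors)⁻¹ ≫ R.mapDerivedCategory g` is a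
  bijection `Hom_{D(W)}(Q(Lc P), Q M) → Hom_{D(V)}(Q P, R(Q M))`.
-/

set_option autoImplicit false

universe w v u

open CategoryTheory CategoryTheory.Limits DerivedCategory

namespace Groth.Agent.Lib.Helper26.AdjKProj

open Groth.Agent.Lib.Helper6.DerivedAdj Groth.Agent.Lib.Helper26.KProjQ

variable {V W : Type u} [Category.{v} V] [Category.{v} W] [Abelian V] [Abelian W]
  {L : V ⥤ W} {R : W ⥤ V} (adj : L ⊣ R) [L.Additive] [R.Additive]

local notation "Lc" => L.mapHomologicalComplex (ComplexShape.up ℤ)
local notation "Rc" => R.mapHomologicalComplex (ComplexShape.up ℤ)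
local notation "ηc" => unitC adj (ComplexShape.up ℤ)
local notation "εc" => counitC adj (ComplexShape.up ℤ)

lemma left_triangleC (K : CochainComplex V ℤ) :
    (Lc).map ((ηc).app K) ≫ (εc).app ((Lc).obj K) = 𝟙 _ := by
  ext i
  exact adj.left_triangle_components (K.X i)

lemma right_triangleC (Z : CochainComplex W ℤ) :
    (ηc).app ((Rc).obj Z) ≫ (Rc).map ((εc).app Z) = 𝟙 _ := by
  ext i
  exact adj.right_triangle_components (Z.X i)

/-- The adjunct of a map `Lc K ⟶ Z`. -/
def adjunct {K : CochainComplex V ℤ} {Z : CochainComplex W ℤ} (f : (Lc).obj K ⟶ Z) :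
    K ⟶ (Rc).obj Z := (ηc).app K ≫ (Rc).map f

/-- The adjunct of a map `K ⟶ Rc Z`. -/
def adjunctInv {K : CochainComplex V ℤ} {Z : CochainComplex W ℤ} (k : K ⟶ (Rc).obj Z) :
    (Lc).obj K ⟶ Z := (Lc).map k ≫ (εc).app Z

lemma adjunctInv_adjunct {K : CochainComplex V ℤ} {Z : CochainComplex W ℤ} (f : (Lc).obj K ⟶ Z) :
    adjunctInv adj (adjunct adj f) = f := by
  dsimp only [adjunct, adjunctInv]
  rw [Functor.map_comp, Category.assoc]
  have h := (εc).naturality f
  dsimp at h
  rw [h, ← Category.assoc]
  exact (congrArg (· ≫ f) (left_triangleC adj K)).trans (Category.id_comp f)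

lemma adjunct_adjunctInv {K : CochainComplex V ℤ} {Z : CochainComplex W ℤ} (k : K ⟶ (Rc).obj Z) :
    adjunct adj (adjunctInv adj k) = k := by
  dsimp only [adjunct, adjunctInv]
  rw [Functor.map_comp, ← Category.assoc]
  have h := (ηc).naturality k
  dsimp at h
  rw [← h, Category.assoc]
  exact (congrArg (k ≫ ·) (right_triangleC adj Z)).trans (Category.comp_id k)

/-- Homotopies transfer along `adjunctInv`. -/
noncomputable def adjunctInvHomotopy {K : CochainComplex V ℤ} {Z : CochainComplex W ℤ}
    {k k' : K ⟶ (Rc).obj Z} (h : Homotopy k k') : Homotopy (adjunctInv adj k) (adjunctInv adj k') :=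
  (L.mapHomotopy h).compRight ((εc).app Z)

lemma adjunctInv_zero {K : CochainComplex V ℤ} {Z : CochainComplex W ℤ} :
    adjunctInv adj (0 : K ⟶ (Rc).obj Z) = 0 := by
  dsimp only [adjunctInv]
  rw [Functor.map_zero, zero_comp]

section Exact

variable [R.PreservesHomology]

lemma acyclic_map {Z : CochainComplex W ℤ} (hZ : Z.Acyclic) :
    ((Rc).obj Z).Acyclic := by
  intro i
  have h : (Z.sc i).Exact := hZ i
  exact h.map R

include adj in
/-- The left adjoint of an exact functor preserves K-projective complexes. -/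
lemma isKProjective_map (P : CochainComplex V ℤ) [P.IsKProjective] :
    CochainComplex.IsKProjective ((Lc).obj P) where
  nonempty_homotopy_zero {Z} f hZ := by
    have h := CochainComplex.IsKProjective.homotopyZero (adjunct adj f) (acyclic_map hZ)
    have h' := adjunctInvHomotopy adj h
    rw [adjunctInv_adjunct, adjunctInv_zero] at h'
    exact ⟨h'⟩

end Exact

section Derived

variable [HasDerivedCategory.{w} V] [HasDerivedCategory.{w} W]
  [PreservesFiniteLimits R] [PreservesFiniteColimits R]

/-- The derived-level adjunct map. -/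
noncomputable def adjunctD (P : CochainComplex V ℤ) (M : DerivedCategory W)
    (g : (Q : CochainComplex W ℤ ⥤ _).obj ((Lc).obj P) ⟶ M) :
    (Q : CochainComplex V ℤ ⥤ _).obj P ⟶ R.mapDerivedCategory.obj M :=
  Q.map ((ηc).app P) ≫ R.mapDerivedCategoryFactors.inv.app ((Lc).obj P) ≫ R.mapDerivedCategory.map g

lemma adjunctD_Q_map (P : CochainComplex V ℤ) (M' : CochainComplex W ℤ) (g' : (Lc).obj P ⟶ M') :
    adjunctD adj P (Q.obj M') (Q.map g') =
      Q.map (adjunct adj g') ≫ R.mapDerivedCategoryFactors.inv.app M' := by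
  dsimp only [adjunctD, adjunct]
  have h := R.mapDerivedCategoryFactors.inv.naturality g'
  dsimp at h
  rw [← h, Functor.map_comp, Category.assoc]

lemma adjunctD_comp (P : CochainComplex V ℤ) {M M' : DerivedCategory W}
    (g : (Q : CochainComplex W ℤ ⥤ _).obj ((Lc).obj P) ⟶ M) (e : M ⟶ M') :
    adjunctD adj P M' (g ≫ e) = adjunctD adj P M g ≫ R.mapDerivedCategory.map e := by
  dsimp only [adjunctD]
  rw [Functor.map_comp, Category.assoc, Category.assoc]

lemma bijective_adjunctD_Q (P : CochainComplex V ℤ) [P.IsKProjective] (M' : CochainComplex W ℤ) :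
    Function.Bijective (adjunctD adj P (Q.obj M')) := by
  haveI := isKProjective_map adj P
  constructor
  · intro g₁ g₂ h
    obtain ⟨g₁', rfl⟩ := Q_map_surjective _ _ g₁
    obtain ⟨g₂', rfl⟩ := Q_map_surjective _ _ g₂
    rw [adjunctD_Q_map, adjunctD_Q_map] at h
    have h' := (cancel_mono _).1 h
    obtain ⟨H⟩ := nonempty_homotopy_of_Q_map_eq _ _ h'
    have H' := adjunctInvHomotopy adj H
    rw [adjunctInv_adjunct, adjunctInv_adjunct] at H'
    exact Q_map_eq_of_homotopy _ _ H'
  · intro k
    obtain ⟨k', hk'⟩ := Q_map_surjective P ((Rc).obj M')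
      (k ≫ R.mapDerivedCategoryFactors.hom.app M')
    refine ⟨Q.map (adjunctInv adj k'), ?_⟩
    rw [adjunctD_Q_map, adjunct_adjunctInv, hk', Category.assoc, Iso.hom_inv_id_app]
    exact Category.comp_id k

lemma bijective_adjunctD (P : CochainComplex V ℤ) [P.IsKProjective] (M : DerivedCategory W) :
    Function.Bijective (adjunctD adj P M) := by
  let e : Q.obj (Q.objPreimage M) ≅ M := Q.objObjPreimageIso M
  have h := bijective_adjunctD_Q adj P (Q.objPreimage M)
  have h1 : adjunctD adj P M = (fun k => k ≫ R.mapDerivedCategory.map e.hom) ∘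
      adjunctD adj P (Q.obj (Q.objPreimage M)) ∘ (fun g => g ≫ e.inv) := by
    funext g
    dsimp only [Function.comp]
    rw [← adjunctD_comp, Category.assoc, Iso.inv_hom_id, Category.comp_id]
  rw [h1]
  refine Function.Bijective.comp ?_ (Function.Bijective.comp h ?_)
  · exact ⟨fun a b hab => (cancel_mono _).1 hab,
      fun k => ⟨k ≫ R.mapDerivedCategory.map e.inv, by
        dsimp only
        rw [Category.assoc, ← Functor.map_comp, Iso.inv_hom_id, CategoryTheory.Functor.map_id,
          Category.comp_id]⟩⟩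
  · exact ⟨fun a b hab => (cancel_mono _).1 hab,
      fun k => ⟨k ≫ e.hom, by
        dsimp only
        rw [Category.assoc, Iso.hom_inv_id, Category.comp_id]⟩⟩

end Derived

end Groth.Agent.Lib.Helper26.AdjKProj
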