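import Groth.Agent.Lib.Helper26.RadicialDescent
import Groth.Agent.Lib.Helper51.DescSecFpqc

/-!
# Reduction of radicial fpqc descent to an affine base (helper26)

A variant of helper51's `exists_rep_over_affineOpen`: for `g : S' ⟶ S` flat, surjective, quasi-compact and universally
injective, `g` is affine, so over an affine open `Y₀` of `S` the cover is the single morphism of affine schemes
`g⁻¹(Y₀) ⟶ Y₀`, again flat, surjective and universally injective.
-/

set_option autoImplicit false
set_option backward.isDefEq.respectTransparency false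
set_option backward.isDefEq.respectTransparency.types false

universe u

open CategoryTheory CategoryTheory.Limits AlgebraicGeometry Opposite

namespace Groth.Agent.Lib.Helper26.RadicialReduce

open Desc Groth.Agent.Lib.Helper51.DescFam Groth.Agent.Lib.Helper51 Groth.Agent.Lib.Helper51.DescSec

variable {S' S : Scheme.{u}} (g : S' ⟶ S) [Flat g] [Surjective g] [QuasiCompact g]
  [UniversallyInjective g]

/-- a flat, surjective, quasi-compact, universally injective morphism is a homeomorphism, hence affine. -/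
theorem isAffineHom_of_radicial : IsAffineHom g := by
  have hq := Flat.isQuotientMap_of_surjective g
  have hinj : Function.Injective g.base := g.injective
  have hhomeo : IsHomeomorph g.base :=
    ⟨g.continuous, fun s hs => by
      rw [← hq.isOpen_preimage, Set.preimage_image_eq _ hinj]; exact hs, hinj, g.surjective⟩
  exact isAffineHom_of_isInducing g hhomeo.isInducing hhomeo.isClosedEmbedding.isClosed_range

variable (E : SchDDFam (fun _ : PUnit.{u + 1} => g))

/-- The sections of `E` over an affine open subscheme of `S` are representable. -/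
theorem exists_rep_over_affineOpen_radicial (Y₀ : S.Opens) (hY₀ : IsAffineOpen Y₀) :
    ∃ (D : Over Y₀.toScheme)
      (θ : ∀ ⦃T : Scheme.{u}⦄ (y : T ⟶ Y₀.toScheme), Lifts D y ≃ Sec E (y ≫ Y₀.ι)),
      ∀ ⦃T T' : Scheme.{u}⦄ (k : T' ⟶ T) (y : T ⟶ Y₀.toScheme) (y' : T' ⟶ Y₀.toScheme)
        (hy : k ≫ y = y') (d : Lifts D y) (d' : Lifts D y'), d'.1 = k ≫ d.1 →
        θ y' d' = (θ y d).res k (y' ≫ Y₀.ι) (by rw [← hy, Category.assoc]) := by
  have hgaff : IsAffineHom g := isAffineHom_of_radicial g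
  have : IsAffine Y₀.toScheme := hY₀
  have : IsAffine (g ⁻¹ᵁ Y₀).toScheme := hY₀.preimage g
  let w : (g ⁻¹ᵁ Y₀).toScheme ⟶ Y₀.toScheme := g ∣_ Y₀
  have hw : (g ⁻¹ᵁ Y₀).ι ≫ g = w ≫ Y₀.ι := (morphismRestrict_ι g Y₀).symm
  have : Flat w := IsZariskiLocalAtTarget.restrict ‹Flat g› Y₀
  have : Surjective w := IsZariskiLocalAtTarget.restrict ‹Surjective g› Y₀
  have : UniversallyInjective w := IsZariskiLocalAtTarget.restrict ‹UniversallyInjective g› Y₀
  have : QuasiCompact w := IsZariskiLocalAtTarget.restrict ‹QuasiCompact g› Y₀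
  have hp : Presieve.ofArrows (fun _ : PUnit.{u + 1} => (g ⁻¹ᵁ Y₀).toScheme) (fun _ => w) ∈
      Scheme.fpqcPrecoverage Y₀.toScheme := by
    rw [Presieve.ofArrows_pUnit]
    exact w.singleton_mem_fpqcPrecoverage
  -- representing data over `g⁻¹(Y₀)`
  let ρX : SecRep E (fun _ : PUnit.{u + 1} => w ≫ Y₀.ι) :=
    (SecRep.self E).pull (α := fun _ : PUnit.{u + 1} => (⟨⟩ : PUnit.{u + 1}))
      (fun _ => (g ⁻¹ᵁ Y₀).ι) (fun _ => hw)
  -- the descent datum relative to `w` and its effectivity
  let DD : SchDD w := (SchDDFam.toSchDD w).obj (monoConv Y₀.ι ρX.toDD)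
  obtain ⟨U₀, ⟨iso₀⟩⟩ := Groth.Agent.Lib.Helper26.RadicialDescent.exists_of_radicial_affine w DD
  let e : canonicalDDFam (fun _ : PUnit.{u + 1} => w) U₀ ≅ monoConv Y₀.ι ρX.toDD :=
    (SchDDFam.ofSchDD w).mapIso iso₀
  exact ⟨U₀, fun T y => affineStepEquiv Y₀.ι w hp ρX U₀ e y,
    affineStepEquiv_nat Y₀.ι w hp ρX U₀ e⟩

/-- Descent data relative to a flat, surjective, quasi-compact and universally injective morphism are effective. -/
theorem isEffective_of_radicial : E.IsEffective := by
  have hu : Presieve.ofArrows (fun _ : PUnit.{u + 1} => S') (fun _ => g) ∈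
      Scheme.fpqcPrecoverage S := by
    rw [Presieve.ofArrows_pUnit]
    exact g.singleton_mem_fpqcPrecoverage
  have hA := fun (Y₀ : S.affineOpens) =>
    exists_rep_over_affineOpen_radicial g E Y₀.1 Y₀.2
  choose DY θY natY using hA
  let ρA : Groth.Agent.Lib.Helper51.DescSec.SecRep E (fun Y₀ : S.affineOpens => Y₀.1.ι) :=
    ⟨DY, θY, natY⟩
  obtain ⟨D₀, θ, hθ⟩ := ρA.exists_rep_of_zariski_cover (𝟙 S) (fun Y₀ => Y₀.1.ι)
    (fun _ => Category.comp_id _) (by
      intro y
      obtain ⟨W, hW, hyW, -⟩ := exists_isAffineOpen_mem_and_subset (x := y) (U := ⊤) trivial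
      refine ⟨⟨W, hW⟩, ?_⟩
      rw [Scheme.Opens.range_ι]
      exact hyW)
  let ρ : Groth.Agent.Lib.Helper51.DescSec.SecRep E (fun _ : PUnit.{u + 1} => 𝟙 S) :=
    ⟨fun _ => D₀, fun _ => θ, fun _ => hθ⟩
  obtain ⟨iso⟩ := Groth.Agent.Lib.Helper51.DescSec.isEffective_of_secRep hu ρ
  exact ⟨D₀, ⟨iso⟩⟩

/-- The single-morphism form. -/
theorem exists_of_radicial (D : SchDD g) : ∃ U : Over S, Nonempty ((toDD g).obj U ≅ D) := by
  obtain ⟨U, ⟨iso⟩⟩ := isEffective_of_radicial g ((SchDDFam.ofSchDD g).obj D)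
  exact ⟨U, ⟨(SchDDFam.toSchDD g).mapIso iso⟩⟩

end Groth.Agent.Lib.Helper26.RadicialReduce
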