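import Mathlib.CategoryTheory.Functor.KanExtension.Adjunction
import Mathlib.CategoryTheory.Functor.KanExtension.Pointwise
import Mathlib.CategoryTheory.Limits.Final
import Mathlib.CategoryTheory.Abelian.GrothendieckAxioms.Basic
import Mathlib.CategoryTheory.Limits.FunctorCategory.EpiMono

/-!
# Left Kan extensions preserving monomorphisms (helper26)

If every comma category `L ↓ Y` receives a final functor from a discrete category (i.e. it is
a disjoint union of categories with terminal objects) and coproducts in `A` are exact, then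
`L.lan : (C ⥤ A) ⥤ (D ⥤ A)` preserves monomorphisms.
-/

set_option autoImplicit false
open CategoryTheory CategoryTheory.Limits
universe w v₁ v₂ v₃ u₁ u₂ u₃

namespace Groth.Agent.Lib.Helper26.LanMono

variable {C : Type u₁} [Category.{v₁} C] {D : Type u₂} [Category.{v₂} D]
  {A : Type u₃} [Category.{v₃} A]

/-- In a category with exact coproducts of shape `Φ`, the map induced between two coproduct
cocones by a pointwise monomorphism is a monomorphism. -/
theorem mono_desc_of_discrete {Φ : Type w} [HasColimitsOfShape (Discrete Φ) A]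
    [HasExactColimitsOfShape (Discrete Φ) A] {K K' : Discrete Φ ⥤ A} (β : K ⟶ K')
    (c : Cocone K) (c' : Cocone K') (hc : IsColimit c) (hc' : IsColimit c')
    (hβ : ∀ j, Mono (β.app j)) : Mono (hc.desc (Cocone.mk c'.pt (β ≫ c'.ι))) := by
  have : Mono β := NatTrans.mono_of_mono_app β
  have h1 : Mono (colim.map β) := inferInstance
  have e : hc.desc (Cocone.mk c'.pt (β ≫ c'.ι)) =
      (hc.coconePointUniqueUpToIso (colimit.isColimit K)).hom ≫ colim.map β ≫
        ((colimit.isColimit K').coconePointUniqueUpToIso hc').hom := by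
    apply hc.hom_ext
    intro j
    rw [hc.fac]
    simp
  rw [e]
  infer_instance

variable (L : C ⥤ D) [∀ P : C ⥤ A, L.HasPointwiseLeftKanExtension P]

/-- The canonical left extension given by `lan`. -/
noncomputable abbrev ext (P : C ⥤ A) : L.LeftExtension P :=
  Functor.LeftExtension.mk (L.lan.obj P) (L.lanUnit.app P)

lemma coconeAt_ι_lan_map {P P' : C ⥤ A} (α : P ⟶ P') (Y : D) (g : CostructuredArrow L Y) :
    ((ext L P).coconeAt Y).ι.app g ≫ (L.lan.map α).app Y =
      α.app g.left ≫ ((ext L P').coconeAt Y).ι.app g := by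
  have h1 : α.app g.left ≫ (L.lanUnit.app P').app g.left =
      (L.lanUnit.app P).app g.left ≫ (L.lan.map α).app (L.obj g.left) :=
    congrArg (fun t => t.app g.left) (L.lanUnit.naturality α)
  have h2 : (L.lan.obj P).map g.hom ≫ (L.lan.map α).app Y =
      (L.lan.map α).app (L.obj g.left) ≫ (L.lan.obj P').map g.hom := (L.lan.map α).naturality g.hom
  calc _ = ((L.lanUnit.app P).app g.left ≫ (L.lan.obj P).map g.hom) ≫ (L.lan.map α).app Y := rfl
    _ = (L.lanUnit.app P).app g.left ≫ ((L.lan.map α).app (L.obj g.left) ≫
          (L.lan.obj P').map g.hom) := by rw [Category.assoc, h2]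
    _ = (α.app g.left ≫ (L.lanUnit.app P').app g.left) ≫ (L.lan.obj P').map g.hom := by
        rw [← Category.assoc, ← h1]
    _ = α.app g.left ≫ ((L.lanUnit.app P').app g.left ≫ (L.lan.obj P').map g.hom) := by
        rw [Category.assoc]
    _ = _ := rfl

/-- The pointwise criterion. -/
theorem mono_lan_map_app {P P' : C ⥤ A} (α : P ⟶ P') [∀ X, Mono (α.app X)] (Y : D)
    {Φ : Type w} [HasColimitsOfShape (Discrete Φ) A] [HasExactColimitsOfShape (Discrete Φ) A]
    (ι : Discrete Φ ⥤ CostructuredArrow L Y) [ι.Final] :
    Mono ((L.lan.map α).app Y) := by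
  let E : L.LeftExtension P := ext L P
  let E' : L.LeftExtension P' := ext L P'
  have hE : E.IsPointwiseLeftKanExtension :=
    Functor.isPointwiseLeftKanExtensionOfIsLeftKanExtension (L.lan.obj P) (L.lanUnit.app P)
  have hE' : E'.IsPointwiseLeftKanExtension :=
    Functor.isPointwiseLeftKanExtensionOfIsLeftKanExtension (L.lan.obj P') (L.lanUnit.app P')
  have hc : IsColimit ((E.coconeAt Y).whisker ι) :=
    (Functor.Final.isColimitWhiskerEquiv ι _).symm (hE Y)
  have hc' : IsColimit ((E'.coconeAt Y).whisker ι) :=
    (Functor.Final.isColimitWhiskerEquiv ι _).symm (hE' Y)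
  let β : ι ⋙ CostructuredArrow.proj L Y ⋙ P ⟶ ι ⋙ CostructuredArrow.proj L Y ⋙ P' :=
    Functor.whiskerLeft (ι ⋙ CostructuredArrow.proj L Y) α
  have hβ : ∀ j, Mono (β.app j) := fun j => by
    dsimp [β]; infer_instance
  let s : Cocone (ι ⋙ CostructuredArrow.proj L Y ⋙ P) :=
    Cocone.mk ((E'.coconeAt Y).whisker ι).pt (β ≫ ((E'.coconeAt Y).whisker ι).ι)
  have hm : Mono (hc.desc s) := mono_desc_of_discrete β _ _ hc hc' hβ
  have e : (L.lan.map α).app Y = hc.desc s := by
    apply hc.hom_ext
    intro j
    have h1 := hc.fac s j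
    have h2 := coconeAt_ι_lan_map L α Y (ι.obj j)
    exact h2.trans h1.symm
  rw [e]
  exact hm

/-- Abstract criterion: a family of objects `obj φ` of a category `J` such that every object maps
to exactly one of them, by exactly one morphism, gives a final functor from the discrete category. -/
theorem final_discrete_of_unique {J : Type u₁} [Category.{v₁} J] {Φ : Type w} (obj : Φ → J)
    (idx : J → Φ) (hom : ∀ j, j ⟶ obj (idx j))
    (idx_eq : ∀ (j : J) (φ : Φ), (j ⟶ obj φ) → idx j = φ)
    (hom_ext : ∀ (j : J) (φ : Φ) (m m' : j ⟶ obj φ), m = m') :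
    (Discrete.functor obj).Final where
  out j := by
    have : Nonempty (StructuredArrow j (Discrete.functor obj)) :=
      ⟨StructuredArrow.mk (Y := Discrete.mk (idx j)) (hom j)⟩
    have : Subsingleton (StructuredArrow j (Discrete.functor obj)) := by
      refine ⟨fun a b => ?_⟩
      have ha : idx j = a.right.as := idx_eq j a.right.as a.hom
      have hb : idx j = b.right.as := idx_eq j b.right.as b.hom
      have hr : a.right = b.right := by
        apply Discrete.ext
        rw [← ha, ← hb]
      refine StructuredArrow.obj_ext a b hr ?_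
      exact hom_ext j b.right.as _ _
    infer_instance

end Groth.Agent.Lib.Helper26.LanMono
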