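import Mathlib

/-!
# Flat descent of algebras: the ring-theoretic core (helper26)

`A → B` flat, `C` a `B`-algebra with a "coaction" `ρ : C →ₐ[B] B ⊗[A] C` (the descent datum in comodule form)
satisfying the counit and coassociativity identities.  Then, with `E` the equalizer of `ρ` and `c ↦ 1 ⊗ c`, the
canonical map `B ⊗[A] E → C` is bijective.  (Split equalizer argument; only flatness is used.)
-/

set_option autoImplicit false
universe u
open TensorProduct

namespace Groth.Agent.Lib.Helper26.AlgDescent

variable {A B C : Type u} [CommRing A] [CommRing B] [CommRing C] [Algebra A B] [Algebra A C]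
  [Algebra B C] [IsScalarTower A B C]

/-- The multiplication map `B ⊗[A] C → C`. -/
noncomputable abbrev mu : B ⊗[A] C →ₐ[A] C :=
  Algebra.TensorProduct.productMap (IsScalarTower.toAlgHom A B C) (AlgHom.id A C)

/-- The splitting `B ⊗ (B ⊗ C) → B ⊗ C`, `b ⊗ y ↦ (b ⊗ 1) * y`. -/
noncomputable abbrev tt : B ⊗[A] (B ⊗[A] C) →ₐ[A] B ⊗[A] C :=
  Algebra.TensorProduct.productMap (Algebra.TensorProduct.includeLeft : B →ₐ[A] B ⊗[A] C)
    (AlgHom.id A (B ⊗[A] C))

variable (ρ : C →ₐ[B] B ⊗[A] C)

/-- The descended algebra. -/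
noncomputable abbrev EE : Subalgebra A C :=
  AlgHom.equalizer (ρ.restrictScalars A) (Algebra.TensorProduct.includeRight : C →ₐ[A] B ⊗[A] C)

lemma tt_map_includeRight (x : B ⊗[A] C) :
    tt (Algebra.TensorProduct.map (AlgHom.id A B)
      (Algebra.TensorProduct.includeRight : C →ₐ[A] B ⊗[A] C) x) = x := by
  induction x with
  | zero => simp
  | tmul b c => simp [Algebra.TensorProduct.tmul_mul_tmul]
  | add x y hx hy => simp only [map_add, hx, hy]

lemma tt_map_rho (x : B ⊗[A] C) :
    tt (Algebra.TensorProduct.map (AlgHom.id A B) (ρ.restrictScalars A) x) = ρ (mu x) := by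
  induction x with
  | zero => simp
  | tmul b c =>
    simp only [Algebra.TensorProduct.map_tmul, AlgHom.coe_id, id_eq,
      Algebra.TensorProduct.productMap_apply_tmul, Algebra.TensorProduct.includeLeft_apply,
      AlgHom.coe_restrictScalars', IsScalarTower.coe_toAlgHom']
    rw [← Algebra.smul_def, map_smul, Algebra.smul_def]
    rfl
  | add x y hx hy => simp only [map_add, hx, hy]

theorem bijective_productMap [Module.Flat A B]
    (hcounit : ∀ c, mu (ρ c) = c)
    (hcoassoc : ∀ c, Algebra.TensorProduct.map (AlgHom.id A B) (ρ.restrictScalars A) (ρ c) =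
        Algebra.TensorProduct.map (AlgHom.id A B)
          (Algebra.TensorProduct.includeRight : C →ₐ[A] B ⊗[A] C) (ρ c)) :
    Function.Bijective (Algebra.TensorProduct.productMap (IsScalarTower.toAlgHom A B C)
      (EE ρ).val) := by
  have hρinj : Function.Injective ρ := fun c c' h => by
    rw [← hcounit c, ← hcounit c', h]
  -- `ι : B ⊗ E → B ⊗ C`
  let ι : B ⊗[A] (EE ρ) →ₐ[A] B ⊗[A] C :=
    Algebra.TensorProduct.map (AlgHom.id A B) (EE ρ).val
  let eqv := AlgHom.tensorEqualizerEquiv A B (ρ.restrictScalars A)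
    (Algebra.TensorProduct.includeRight : C →ₐ[A] B ⊗[A] C)
  have hι : ∀ y, ((eqv y : _) : B ⊗[A] C) = ι y := fun y => by
    rw [AlgHom.tensorEqualizerEquiv_apply, AlgHom.coe_tensorEqualizer]
  have hιinj : Function.Injective ι := fun y y' h => by
    apply eqv.injective
    apply Subtype.ext
    rw [hι, hι, h]
  have hρm : ∀ y, ρ (Algebra.TensorProduct.productMap (IsScalarTower.toAlgHom A B C)
      (EE ρ).val y) = ι y := fun y => by
    induction y with
    | zero => simp
    | tmul b e =>
      have he : ρ (e : C) = (1 : B) ⊗ₜ[A] (e : C) := e.2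
      simp only [Algebra.TensorProduct.productMap_apply_tmul, IsScalarTower.coe_toAlgHom',
        Subalgebra.coe_val, ι, Algebra.TensorProduct.map_tmul, AlgHom.coe_id, id_eq]
      rw [← Algebra.smul_def, map_smul, he, TensorProduct.smul_tmul', smul_eq_mul, mul_one]
    | add x y hx hy => simp only [map_add, hx, hy]
  refine ⟨fun y y' h => hιinj (by rw [← hρm, ← hρm, h]), fun c => ?_⟩
  -- `ρ c` lies in the equalizer
  have hmem : ρ c ∈ AlgHom.equalizer
      (Algebra.TensorProduct.map (AlgHom.id A B) (ρ.restrictScalars A))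
      (Algebra.TensorProduct.map (AlgHom.id A B)
        (Algebra.TensorProduct.includeRight : C →ₐ[A] B ⊗[A] C)) := hcoassoc c
  obtain ⟨y, hy⟩ := eqv.surjective ⟨ρ c, hmem⟩
  refine ⟨y, hρinj ?_⟩
  rw [hρm, ← hι, hy]

end Groth.Agent.Lib.Helper26.AlgDescent
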