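import Mathlib

/-!
# fpqc descent of closed subschemes / quasi-coherent ideal sheaves (helper26)

* `toImage_ker` : `f.toImage` is scheme-theoretically dominant.
* `comap_map_eq_of_stable` : for `g : S' ⟶ S` flat and quasi-compact and `J'` an ideal sheaf on `S'` whose two
  pullbacks to `S' ×_S S'` agree, `(J'.map g).comap g = J'`.
* `isSchemeTheoreticallyDominant_of_fpqc` : flat + surjective + quasi-compact ⇒ scheme-theoretically dominant.
* `map_comap_eq_of_fpqc`, `comap_injective_of_fpqc`.
* `main` : the `Subobject` version (closed subschemes of `X'` ↔ stable closed subschemes of `X`).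
-/

set_option autoImplicit false
open CategoryTheory CategoryTheory.Limits AlgebraicGeometry
universe u

namespace Groth.Agent.Lib.Helper26.ClosedDescent

open Scheme IdealSheafData

/-- The canonical map to the scheme-theoretic image is scheme-theoretically dominant. -/
lemma toImage_ker {X Y : Scheme.{u}} (f : X ⟶ Y) : f.toImage.ker = ⊥ := by
  rw [← isIso_subschemeι_iff_eq_bot]
  have h1 : (f.toImage.ker.subschemeι ≫ f.imageι).ker = f.imageι.ker := by
    have := Scheme.Hom.ker_comp f.toImage f.imageι
    rw [Scheme.Hom.toImage_imageι] at this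
    rw [ker_subschemeι, ← IdealSheafData.map, ← this]
  exact IsClosedImmersion.isIso_of_ker_eq (f.toImage.ker.subschemeι ≫ f.imageι) f.imageι
    f.toImage.ker.subschemeι rfl h1

instance {X Y : Scheme.{u}} (f : X ⟶ Y) : IsSchemeTheoreticallyDominant f.toImage :=
  ⟨toImage_ker f⟩

section Existence

variable {S S' Z' : Scheme.{u}} (g : S' ⟶ S) [Flat g] [QuasiCompact g]

/-- Key step: a closed subscheme `i' : Z' ⟶ S'` whose two pullbacks to `S' ×_S S'` agree is the pullback
of its scheme-theoretic image in `S`. -/
theorem ker_comap_eq_of_stable (i' : Z' ⟶ S') [IsClosedImmersion i']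
    (h : i'.ker.comap (pullback.fst g g) = i'.ker.comap (pullback.snd g g)) :
    (i' ≫ g).ker.comap g = i'.ker := by
  generalize hf : i' ≫ g = f
  haveI : QuasiCompact f := by rw [← hf]; infer_instance
  have hk : i' ≫ g = f.toImage ≫ f.imageι := by rw [Scheme.Hom.toImage_imageι, hf]
  let k : Z' ⟶ pullback g f.imageι := pullback.lift i' f.toImage hk
  have hk1 : k ≫ pullback.fst g f.imageι = i' := pullback.lift_fst _ _ _
  haveI : IsClosedImmersion (k ≫ pullback.fst g f.imageι) := by rw [hk1]; infer_instance
  haveI : IsClosedImmersion k := IsClosedImmersion.of_comp_isClosedImmersion k (pullback.fst g f.imageι)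
  -- the dominant test object
  haveI : Flat (pullback.snd g f.imageι) := inferInstance
  haveI : QuasiCompact f.toImage := inferInstance
  haveI hd : IsSchemeTheoreticallyDominant (pullback.snd f.toImage (pullback.snd g f.imageι)) :=
    inferInstance
  have hcond : (pullback.fst f.toImage (pullback.snd g f.imageι) ≫ i') ≫ g =
      (pullback.snd f.toImage (pullback.snd g f.imageι) ≫ pullback.fst g f.imageι) ≫ g := by
    rw [Category.assoc, hk, ← Category.assoc, pullback.condition, Category.assoc, Category.assoc,
      ← pullback.condition]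
  let δ : pullback f.toImage (pullback.snd g f.imageι) ⟶ pullback g g :=
    pullback.lift (pullback.fst f.toImage (pullback.snd g f.imageι) ≫ i')
      (pullback.snd f.toImage (pullback.snd g f.imageι) ≫ pullback.fst g f.imageι) hcond
  have hδ1 : δ ≫ pullback.fst g g = pullback.fst f.toImage (pullback.snd g f.imageι) ≫ i' :=
    pullback.lift_fst _ _ _
  have hδ2 : δ ≫ pullback.snd g g =
      pullback.snd f.toImage (pullback.snd g f.imageι) ≫ pullback.fst g f.imageι :=
    pullback.lift_snd _ _ _
  let δ₁ : pullback f.toImage (pullback.snd g f.imageι) ⟶ pullback (pullback.fst g g) i' :=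
    pullback.lift δ (pullback.fst f.toImage (pullback.snd g f.imageι)) hδ1
  have hδ₁ : δ₁ ≫ pullback.fst (pullback.fst g g) i' = δ := pullback.lift_fst _ _ _
  have hle : (pullback.fst (pullback.snd g g) i').ker ≤ δ.ker := by
    rw [ker_fst_of_isClosedImmersion, ← h, ← ker_fst_of_isClosedImmersion, ← hδ₁]
    exact Scheme.Hom.le_ker_comp _ _
  let δ₂ : pullback f.toImage (pullback.snd g f.imageι) ⟶ pullback (pullback.snd g g) i' :=
    IsClosedImmersion.lift (pullback.fst (pullback.snd g g) i') δ hle
  have hδ₂ : δ₂ ≫ pullback.fst (pullback.snd g g) i' = δ := IsClosedImmersion.lift_fac _ _ _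
  let e : pullback f.toImage (pullback.snd g f.imageι) ⟶ Z' :=
    δ₂ ≫ pullback.snd (pullback.snd g g) i'
  have he : e ≫ i' =
      pullback.snd f.toImage (pullback.snd g f.imageι) ≫ pullback.fst g f.imageι := by
    rw [Category.assoc, ← pullback.condition, ← Category.assoc, hδ₂, hδ2]
  have hek : e ≫ k = pullback.snd f.toImage (pullback.snd g f.imageι) := by
    rw [← cancel_mono (pullback.fst g f.imageι), Category.assoc, hk1, he]
  have hkbot : k.ker = ⊥ := by
    have h1 : k.ker ≤ (e ≫ k).ker := Scheme.Hom.le_ker_comp e k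
    have h2 := Scheme.Hom.ker_eq_bot (pullback.snd f.toImage (pullback.snd g f.imageι))
    rw [hek, h2] at h1
    exact le_bot_iff.mp h1
  haveI : IsIso k := IsClosedImmersion.isIso_iff_ker_eq_bot.mpr hkbot
  have : (k ≫ pullback.fst g f.imageι).ker = (pullback.fst g f.imageι).ker :=
    Scheme.Hom.ker_comp_of_isIso k _
  rw [hk1] at this
  rw [this]
  rfl

/-- Existence half of fpqc descent of ideal sheaves: a stable ideal sheaf is the pullback of its
pushforward. -/
theorem comap_map_eq_of_stable (J' : S'.IdealSheafData)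
    (h : J'.comap (pullback.fst g g) = J'.comap (pullback.snd g g)) :
    (J'.map g).comap g = J' := by
  have := ker_comap_eq_of_stable g J'.subschemeι (by rw [ker_subschemeι]; exact h)
  rw [ker_subschemeι] at this
  exact this

end Existence

section Uniqueness

variable {S S' : Scheme.{u}} (g : S' ⟶ S) [Flat g] [Surjective g] [QuasiCompact g]

/-- A flat, surjective, quasi-compact morphism is scheme-theoretically dominant. -/
lemma ker_eq_bot_of_fpqc : g.ker = ⊥ := by
  rw [← isIso_subschemeι_iff_eq_bot]
  -- base change of the closed immersion along `g` has a section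
  let a : S' ⟶ g.ker.subscheme := g.toImage
  have ha : a ≫ g.ker.subschemeι = g := g.toImage_imageι
  let s : S' ⟶ pullback g g.ker.subschemeι := pullback.lift (𝟙 S') a (by rw [Category.id_comp, ha])
  have hs : s ≫ pullback.fst g g.ker.subschemeι = 𝟙 S' := pullback.lift_fst _ _ _
  haveI : Mono (pullback.fst g g.ker.subschemeι) := inferInstance
  haveI : IsIso (pullback.fst g g.ker.subschemeι) := by
    refine ⟨s, ?_, hs⟩
    rw [← cancel_mono (pullback.fst g g.ker.subschemeι), Category.assoc, hs, Category.comp_id,
      Category.id_comp]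
  have hQ : (@Surjective ⊓ @Flat ⊓ @QuasiCompact : MorphismProperty Scheme.{u}) g :=
    ⟨⟨‹_›, ‹_›⟩, ‹_›⟩
  exact MorphismProperty.of_isPullback_of_descendsAlong
    (P := MorphismProperty.isomorphisms Scheme.{u})
    (Q := (@Surjective ⊓ @Flat ⊓ @QuasiCompact : MorphismProperty Scheme.{u}))
    (IsPullback.of_hasPullback g g.ker.subschemeι) hQ
    (inferInstanceAs (IsIso (pullback.fst g g.ker.subschemeι)))

lemma isSchemeTheoreticallyDominant_of_fpqc : IsSchemeTheoreticallyDominant g :=
  ⟨ker_eq_bot_of_fpqc g⟩

/-- For `g` fpqc, an ideal sheaf is the pushforward of its pullback. -/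
theorem map_comap_eq_of_fpqc (J : S.IdealSheafData) : (J.comap g).map g = J := by
  let fstW : pullback g J.subschemeι ⟶ S' := pullback.fst g J.subschemeι
  let sndW : pullback g J.subschemeι ⟶ J.subscheme := pullback.snd g J.subschemeι
  haveI : Flat sndW := inferInstance
  haveI : Surjective sndW := inferInstance
  haveI : QuasiCompact sndW := inferInstance
  have h1 : (J.comap g).map g = (fstW ≫ g).ker := by
    change ((J.comap g).subschemeι ≫ g).ker = _
    rw [← comapIso_hom_fst, Category.assoc, Scheme.Hom.ker_comp_of_isIso]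
  rw [h1, pullback.condition, Scheme.Hom.ker_comp, ker_eq_bot_of_fpqc sndW, map_bot,
    ker_subschemeι]

theorem comap_injective_of_fpqc :
    Function.Injective (fun J : S.IdealSheafData => J.comap g) := by
  intro J₁ J₂ h
  rw [← map_comap_eq_of_fpqc g J₁, ← map_comap_eq_of_fpqc g J₂]
  exact congrArg (fun I : S'.IdealSheafData => I.map g) h

end Uniqueness

section Subobj

variable {X : Scheme.{u}}

lemma le_iff_ker_le (Y₁ Y₂ : Subobject X) [IsClosedImmersion Y₂.arrow] :
    Y₁ ≤ Y₂ ↔ Y₂.arrow.ker ≤ Y₁.arrow.ker := by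
  constructor
  · intro h
    rw [← Subobject.ofLE_arrow h]
    exact Scheme.Hom.le_ker_comp _ _
  · intro h
    exact Subobject.le_of_comm (IsClosedImmersion.lift Y₂.arrow Y₁.arrow h)
      (IsClosedImmersion.lift_fac _ _ _)

lemma eq_iff_ker_eq (Y₁ Y₂ : Subobject X) [IsClosedImmersion Y₁.arrow]
    [IsClosedImmersion Y₂.arrow] : Y₁ = Y₂ ↔ Y₁.arrow.ker = Y₂.arrow.ker := by
  constructor
  · rintro rfl; rfl
  · intro h
    exact le_antisymm ((le_iff_ker_le _ _).mpr h.ge) ((le_iff_ker_le _ _).mpr h.le)

lemma isClosedImmersion_pullback_arrow {Z : Scheme.{u}} (f : Z ⟶ X) (Y : Subobject X)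
    [hY : IsClosedImmersion Y.arrow] : IsClosedImmersion ((Subobject.pullback f).obj Y).arrow :=
  MorphismProperty.of_isPullback (P := @IsClosedImmersion) (Subobject.isPullback f Y) hY

lemma ker_pullback_arrow {Z : Scheme.{u}} (f : Z ⟶ X) (Y : Subobject X)
    [hY : IsClosedImmersion Y.arrow] :
    ((Subobject.pullback f).obj Y).arrow.ker = Y.arrow.ker.comap f := by
  have sq := (Subobject.isPullback f Y).flip
  rw [← ker_fst_of_isClosedImmersion, ← sq.isoPullback_hom_fst, Scheme.Hom.ker_comp_of_isIso]

lemma ker_mk_arrow {Z : Scheme.{u}} (i : Z ⟶ X) [Mono i] : (Subobject.mk i).arrow.ker = i.ker := by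
  rw [← Subobject.underlyingIso_hom_comp_eq_mk, Scheme.Hom.ker_comp_of_isIso]

theorem main {X X' : Scheme.{u}} (π : X ⟶ X') [Flat π] [Surjective π] [QuasiCompact π] :
    Set.BijOn (Subobject.pullback π).obj
      {Y' : Subobject X' | IsClosedImmersion Y'.arrow}
      {Y : Subobject X | IsClosedImmersion Y.arrow ∧
        (Subobject.pullback (pullback.fst π π)).obj Y =
          (Subobject.pullback (pullback.snd π π)).obj Y} := by
  refine ⟨?_, ?_, ?_⟩
  · intro Y' hY'
    have hY'' : IsClosedImmersion Y'.arrow := hY'
    refine ⟨isClosedImmersion_pullback_arrow π Y', ?_⟩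
    rw [← Subobject.pullback_comp, ← Subobject.pullback_comp, pullback.condition]
  · intro Y'₁ h₁ Y'₂ h₂ heq
    have h₁' : IsClosedImmersion Y'₁.arrow := h₁
    have h₂' : IsClosedImmersion Y'₂.arrow := h₂
    rw [eq_iff_ker_eq]
    have h := congrArg (fun Y : Subobject X => Y.arrow.ker) heq
    simp only [ker_pullback_arrow] at h
    exact comap_injective_of_fpqc π h
  · rintro Y ⟨hY, hstab⟩
    have hY' : IsClosedImmersion Y.arrow := hY
    have h1 := congrArg (fun Y : Subobject (pullback π π) => Y.arrow.ker) hstab
    simp only [ker_pullback_arrow] at h1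
    have h2 := comap_map_eq_of_stable π Y.arrow.ker h1
    haveI : IsClosedImmersion (Subobject.mk (Y.arrow.ker.map π).subschemeι).arrow := by
      rw [← Subobject.underlyingIso_hom_comp_eq_mk]
      infer_instance
    refine ⟨Subobject.mk (Y.arrow.ker.map π).subschemeι, ‹_›, ?_⟩
    have := isClosedImmersion_pullback_arrow π (Subobject.mk (Y.arrow.ker.map π).subschemeι)
    rw [eq_iff_ker_eq, ker_pullback_arrow, ker_mk_arrow, ker_subschemeι, h2]

end Subobj

end Groth.Agent.Lib.Helper26.ClosedDescent
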