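import Groth.Prelude.Def_Desc
import Groth.Agent.Lib.Helper26.AlgDescent
import Groth.Agent.Lib.Helper51.DescMono

/-!
# Effective descent of affine schemes along flat morphisms of affine schemes (helper26)

For `p : X ⟶ S` a flat morphism of affine schemes, every descent datum relative to `p` (functor-of-points form)
whose scheme is affine is effective.
-/

set_option autoImplicit false
universe u
open CategoryTheory CategoryTheory.Limits AlgebraicGeometry TensorProduct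

namespace Groth.Agent.Lib.Helper26.AffineDescentDD

open Desc

section OfGamma

/-- The morphism `Spec R ⟶ Y` attached to a ring map `Γ(Y) ⟶ R`, for `Y` affine. -/
noncomputable def ofΓ (Y : Scheme.{u}) [IsAffine Y] {R : CommRingCat.{u}} (g : Γ(Y, ⊤) ⟶ R) :
    Spec R ⟶ Y :=
  Spec.map g ≫ Y.isoSpec.inv

variable {Y Z : Scheme.{u}} [IsAffine Y] [IsAffine Z] {R R' : CommRingCat.{u}}

lemma map_ofΓ (g : Γ(Y, ⊤) ⟶ R) (k : R ⟶ R') : Spec.map k ≫ ofΓ Y g = ofΓ Y (g ≫ k) := by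
  simp only [ofΓ, Spec.map_comp, Category.assoc]

lemma ofΓ_comp (f : Y ⟶ Z) (g : Γ(Y, ⊤) ⟶ R) : ofΓ Y g ≫ f = ofΓ Z (f.appTop ≫ g) := by
  simp only [ofΓ, Spec.map_comp, Category.assoc, Scheme.isoSpec_inv_naturality]

lemma ofΓ_injective {g g' : Γ(Y, ⊤) ⟶ R} (h : ofΓ Y g = ofΓ Y g') : g = g' := by
  apply Spec.map_injective
  simpa [ofΓ] using h

lemma exists_ofΓ (f : Spec R ⟶ Y) : ∃ g : Γ(Y, ⊤) ⟶ R, f = ofΓ Y g := by
  refine ⟨f.appTop ≫ (Scheme.ΓSpecIso R).hom, ?_⟩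
  rw [ofΓ, Spec.map_comp, Category.assoc, Scheme.isoSpec_inv_naturality, ← Category.assoc,
    ← Scheme.isoSpec_Spec_hom, Iso.hom_inv_id, Category.id_comp]

lemma ofΓ_isoSpec_hom (g : Γ(Y, ⊤) ⟶ R) : ofΓ Y g ≫ Y.isoSpec.hom = Spec.map g := by
  simp [ofΓ]

end OfGamma

section Phi

variable {X S : Scheme.{u}} {p : X ⟶ S} (D : SchDD p)

lemma phi_congr {T : Scheme.{u}} {x₀ x₀' x₁ x₁' : T ⟶ X} (e₀ : x₀ = x₀') (e₁ : x₁ = x₁')
    (h : x₀ ≫ p = x₁ ≫ p) (h' : x₀' ≫ p = x₁' ≫ p) (v : Lifts D.obj x₀) (v' : Lifts D.obj x₀')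
    (hv : v.1 = v'.1) : (D.φ x₀ x₁ h v).1 = (D.φ x₀' x₁' h' v').1 := by
  subst e₀ e₁
  have : v = v' := Subtype.ext hv
  subst this
  rfl

end Phi


section Theta

variable {X S : Scheme.{u}} [IsAffine X] {p : X ⟶ S} (D : SchDD p) [IsAffine D.obj.left]
  {P₀ : CommRingCat.{u}} (i₁ : Γ(X, ⊤) ⟶ P₀) (i₂ : Γ(D.obj.left, ⊤) ⟶ P₀)
  (h₀ : ofΓ X (D.obj.hom.appTop ≫ i₂) ≫ p = ofΓ X i₁ ≫ p)

/-- The universal point of the descent datum over a cocone `(P₀, i₁, i₂)`. -/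
noncomputable def theta : Spec P₀ ⟶ D.obj.left :=
  (D.φ (ofΓ X (D.obj.hom.appTop ≫ i₂)) (ofΓ X i₁) h₀
    ⟨ofΓ D.obj.left i₂, ofΓ_comp _ _⟩).1

/-- The "coaction" ring map of the descent datum. -/
noncomputable def rho₀ : Γ(D.obj.left, ⊤) ⟶ P₀ :=
  (exists_ofΓ (theta D i₁ i₂ h₀)).choose

lemma theta_eq : theta D i₁ i₂ h₀ = ofΓ D.obj.left (rho₀ D i₁ i₂ h₀) :=
  (exists_ofΓ (theta D i₁ i₂ h₀)).choose_spec

include h₀ in
lemma comp_p_eq {R : CommRingCat.{u}} (k : P₀ ⟶ R) :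
    ofΓ X (D.obj.hom.appTop ≫ i₂ ≫ k) ≫ p = ofΓ X (i₁ ≫ k) ≫ p := by
  have := congrArg (fun t => Spec.map k ≫ t) h₀
  simp only [← Category.assoc, map_ofΓ] at this
  simpa only [Category.assoc] using this

/-- The gluing bijection on an affine test scheme, in terms of the coaction. -/
lemma phi_ofΓ {R : CommRingCat.{u}} (k : P₀ ⟶ R) (g₁ : Γ(X, ⊤) ⟶ R) (gw : Γ(D.obj.left, ⊤) ⟶ R)
    (hg₁ : i₁ ≫ k = g₁) (hgw : i₂ ≫ k = gw) (x₀ x₁ : Spec R ⟶ X)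
    (hx₀ : x₀ = ofΓ X (D.obj.hom.appTop ≫ gw)) (hx₁ : x₁ = ofΓ X g₁) (h' : x₀ ≫ p = x₁ ≫ p)
    (v' : Lifts D.obj x₀) (hv' : v'.1 = ofΓ D.obj.left gw) :
    (D.φ x₀ x₁ h' v').1 = ofΓ D.obj.left (rho₀ D i₁ i₂ h₀ ≫ k) := by
  subst hg₁ hgw
  have e₀ : x₀ = Spec.map k ≫ ofΓ X (D.obj.hom.appTop ≫ i₂) := by
    rw [hx₀, map_ofΓ, Category.assoc]
  have e₁ : x₁ = Spec.map k ≫ ofΓ X i₁ := by rw [hx₁, map_ofΓ]
  have hw : (Spec.map k ≫ ofΓ D.obj.left i₂) ≫ D.obj.hom =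
      Spec.map k ≫ ofΓ X (D.obj.hom.appTop ≫ i₂) := by
    rw [Category.assoc, ofΓ_comp]
  have h'' : (Spec.map k ≫ ofΓ X (D.obj.hom.appTop ≫ i₂)) ≫ p = (Spec.map k ≫ ofΓ X i₁) ≫ p := by
    rw [Category.assoc, Category.assoc, h₀]
  rw [phi_congr D e₀ e₁ h' h'' v' ⟨Spec.map k ≫ ofΓ D.obj.left i₂, hw⟩ (hv'.trans (map_ofΓ _ _).symm),
    D.φ_natural (Spec.map k) _ _ h₀ h'' ⟨ofΓ D.obj.left i₂, ofΓ_comp _ _⟩ _ rfl]
  change Spec.map k ≫ theta D i₁ i₂ h₀ = _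
  rw [theta_eq, map_ofΓ]

lemma rho₀_unit : D.obj.hom.appTop ≫ rho₀ D i₁ i₂ h₀ = i₁ := by
  apply ofΓ_injective (Y := X)
  rw [← ofΓ_comp, ← theta_eq]
  exact (D.φ (ofΓ X (D.obj.hom.appTop ≫ i₂)) (ofΓ X i₁) h₀ ⟨ofΓ D.obj.left i₂, ofΓ_comp _ _⟩).2

lemma rho₀_counit (k : P₀ ⟶ Γ(D.obj.left, ⊤)) (hk₁ : i₁ ≫ k = D.obj.hom.appTop)
    (hk₂ : i₂ ≫ k = 𝟙 _) : rho₀ D i₁ i₂ h₀ ≫ k = 𝟙 _ := by
  apply ofΓ_injective (Y := D.obj.left)
  have hx : ofΓ D.obj.left (𝟙 _) ≫ D.obj.hom = ofΓ X D.obj.hom.appTop := by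
    rw [ofΓ_comp, Category.comp_id]
  rw [← phi_ofΓ D i₁ i₂ h₀ k D.obj.hom.appTop (𝟙 _) hk₁ hk₂ (ofΓ X D.obj.hom.appTop)
    (ofΓ X D.obj.hom.appTop) (by rw [Category.comp_id]) rfl rfl ⟨ofΓ D.obj.left (𝟙 _), hx⟩ rfl,
    D.φ_self]

lemma rho₀_coassoc {R₁ : CommRingCat.{u}} (kA kB kC : P₀ ⟶ R₁) (hAC : i₂ ≫ kA = i₂ ≫ kC)
    (hBA : i₂ ≫ kB = rho₀ D i₁ i₂ h₀ ≫ kA) (hBC : i₁ ≫ kB = i₁ ≫ kC) :
    rho₀ D i₁ i₂ h₀ ≫ kB = rho₀ D i₁ i₂ h₀ ≫ kC := by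
  apply ofΓ_injective (Y := D.obj.left)
  -- the three points of `X`
  have h₀₁ := comp_p_eq D i₁ i₂ h₀ kA
  have h₀₂ := comp_p_eq D i₁ i₂ h₀ kC
  have h₁₂ : ofΓ X (i₁ ≫ kA) ≫ p = ofΓ X (i₁ ≫ kC) ≫ p := by
    rw [← h₀₁, ← h₀₂, hAC]
  have hv : ofΓ D.obj.left (i₂ ≫ kA) ≫ D.obj.hom = ofΓ X (D.obj.hom.appTop ≫ i₂ ≫ kA) :=
    ofΓ_comp _ _
  let v : Lifts D.obj (ofΓ X (D.obj.hom.appTop ≫ i₂ ≫ kA)) := ⟨ofΓ D.obj.left (i₂ ≫ kA), hv⟩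
  have e1 : (D.φ _ _ h₀₁ v).1 = ofΓ D.obj.left (rho₀ D i₁ i₂ h₀ ≫ kA) :=
    phi_ofΓ D i₁ i₂ h₀ kA (i₁ ≫ kA) (i₂ ≫ kA) rfl rfl _ _ rfl rfl h₀₁ v rfl
  have e2 : (D.φ _ _ (h₀₁.trans h₁₂) v).1 = ofΓ D.obj.left (rho₀ D i₁ i₂ h₀ ≫ kC) :=
    phi_ofΓ D i₁ i₂ h₀ kC (i₁ ≫ kC) (i₂ ≫ kA) rfl hAC.symm _ _ rfl rfl (h₀₁.trans h₁₂) v rfl
  have e3 : (D.φ _ _ h₁₂ (D.φ _ _ h₀₁ v)).1 = ofΓ D.obj.left (rho₀ D i₁ i₂ h₀ ≫ kB) :=
    phi_ofΓ D i₁ i₂ h₀ kB (i₁ ≫ kC) (rho₀ D i₁ i₂ h₀ ≫ kA) hBC hBA _ _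
      (by rw [← Category.assoc, rho₀_unit]) rfl h₁₂ _ e1
  rw [← e3, ← e2, D.φ_comp]

end Theta


section IsoOfIso

open Groth.Agent.Lib.Helper51.DescFam Groth.Agent.Lib.Helper51

variable {X S : Scheme.{u}} (p : X ⟶ S) (D : SchDD p)

private lemma aux1 {C : Type*} [Category C] {T A B Y : C} (w : T ⟶ A) (a : A ⟶ B) (f : B ⟶ Y)
    (g : A ⟶ Y) (h1 : a ≫ f = g) (x : T ⟶ Y) (hv : w ≫ g = x) : (w ≫ a) ≫ f = x := by
  rw [Category.assoc, h1, hv]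

private lemma aux2 {C : Type*} [Category C] {T A B : C} (w : T ⟶ A) (a : A ⟶ B) (b : B ⟶ A)
    (h3 : a ≫ b = 𝟙 _) : (w ≫ a) ≫ b = w := by
  rw [Category.assoc, h3, Category.comp_id]

private lemma aux3 (U : Over S) (a : pullback p U.hom ⟶ D.obj.left)
    (b : D.obj.left ⟶ pullback p U.hom)
    (h2 : b ≫ pullback.fst p U.hom = D.obj.hom) (h3 : a ≫ b = 𝟙 _) (h4 : b ≫ a = 𝟙 _)
    (hφ : ∀ ⦃T : Scheme.{u}⦄ (x₀ x₁ : T ⟶ X) (h : x₀ ≫ p = x₁ ≫ p) (v : Lifts D.obj x₀),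
      (D.φ x₀ x₁ h v).1 ≫ b ≫ pullback.snd p U.hom = v.1 ≫ b ≫ pullback.snd p U.hom)
    {T : Scheme.{u}} (x₀ x₁ : T ⟶ X) (hh : x₀ ≫ p = x₁ ≫ p) (w : T ⟶ pullback p U.hom)
    (hw2 : w ≫ pullback.fst p U.hom = x₀) (hw : (w ≫ a) ≫ D.obj.hom = x₀) :
    (D.φ x₀ x₁ hh ⟨w ≫ a, hw⟩).1 = (canMap p U x₀ x₁ hh ⟨w, hw2⟩).1 ≫ a := by
  have key : (D.φ x₀ x₁ hh ⟨w ≫ a, hw⟩).1 ≫ b = (canMap p U x₀ x₁ hh ⟨w, hw2⟩).1 := by
    apply pullback.hom_ext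
    · rw [Category.assoc, h2, canMap_val, pullback.lift_fst]
      exact (D.φ x₀ x₁ hh ⟨w ≫ a, hw⟩).2
    · rw [Category.assoc, hφ x₀ x₁ hh ⟨w ≫ a, hw⟩, canMap_val, pullback.lift_snd]
      change (w ≫ a) ≫ b ≫ pullback.snd p U.hom = _
      rw [Category.assoc, reassoc_of% h3]
  rw [← key, Category.assoc, h4, Category.comp_id]

/-- A descent datum is effective as soon as its scheme is the preimage of a scheme `U` over `S` in such a way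
that the gluing bijections preserve the `U`-component of points. -/
theorem nonempty_iso_of_iso (U : Over S) (a : pullback p U.hom ⟶ D.obj.left)
    (b : D.obj.left ⟶ pullback p U.hom) (h1 : a ≫ D.obj.hom = pullback.fst p U.hom)
    (h2 : b ≫ pullback.fst p U.hom = D.obj.hom) (h3 : a ≫ b = 𝟙 _) (h4 : b ≫ a = 𝟙 _)
    (hφ : ∀ ⦃T : Scheme.{u}⦄ (x₀ x₁ : T ⟶ X) (h : x₀ ≫ p = x₁ ≫ p) (v : Lifts D.obj x₀),
      (D.φ x₀ x₁ h v).1 ≫ b ≫ pullback.snd p U.hom = v.1 ≫ b ≫ pullback.snd p U.hom) :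
    Nonempty ((toDD p).obj U ≅ D) := by
  let fU : PUnit.{u + 1} → (X ⟶ S) := fun _ => p
  let E : SchDDFam fU := (SchDDFam.ofSchDD p).obj D
  let eq : ∀ (i : PUnit.{u + 1}) ⦃T : Scheme.{u}⦄ (x : T ⟶ X),
      Lifts ((canonicalDDFam fU U).obj i) x ≃ Lifts (E.obj i) x := fun i T x =>
    { toFun := fun v => ⟨v.1 ≫ a, aux1 v.1 a D.obj.hom _ h1 x v.2⟩
      invFun := fun v => ⟨v.1 ≫ b, aux1 v.1 b (pullback.fst p U.hom) _ h2 x v.2⟩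
      left_inv := fun v => Subtype.ext (aux2 v.1 a b h3)
      right_inv := fun v => Subtype.ext (aux2 v.1 b a h4) }
  have iso : canonicalDDFam fU U ≅ E := isoMkLifts (canonicalDDFam fU U) E eq
    (fun i T T' g x y hy v v' hv => by
      change v'.1 ≫ a = g ≫ v.1 ≫ a
      exact (congrArg (fun t => t ≫ a) hv).trans (Category.assoc _ _ _))
    (fun T i j x₀ x₁ h v => Subtype.ext
      (aux3 p D U a b h2 h3 h4 hφ x₀ x₁ h v.1 v.2 (aux1 v.1 a D.obj.hom _ h1 x₀ v.2)))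
  exact ⟨(SchDDFam.toSchDD p).mapIso iso⟩

end IsoOfIso


section RingPart

open Groth.Agent.Lib.Helper26.AlgDescent

variable {A B C : Type u} [CommRing A] [CommRing B] [CommRing C] [Algebra A B] [Algebra A C]
  [Algebra B C] [IsScalarTower A B C]

/-- The ring-theoretic part: from the coaction and its three identities, the descended algebra. -/
theorem ring_part [Module.Flat A B]
    (ρ₀ : CommRingCat.of C ⟶ CommRingCat.of (B ⊗[A] C))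
    (hunit : CommRingCat.ofHom (algebraMap B C) ≫ ρ₀ =
      CommRingCat.ofHom (Algebra.TensorProduct.includeLeftRingHom : B →+* B ⊗[A] C))
    (hcounit : ∀ k : CommRingCat.of (B ⊗[A] C) ⟶ CommRingCat.of C,
      CommRingCat.ofHom (Algebra.TensorProduct.includeLeftRingHom : B →+* B ⊗[A] C) ≫ k =
        CommRingCat.ofHom (algebraMap B C) →
      CommRingCat.ofHom (Algebra.TensorProduct.includeRight : C →ₐ[A] B ⊗[A] C).toRingHom ≫ k =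
        𝟙 _ → ρ₀ ≫ k = 𝟙 _)
    (hcoassoc : ∀ {R₁ : CommRingCat.{u}} (kA kB kC : CommRingCat.of (B ⊗[A] C) ⟶ R₁),
      CommRingCat.ofHom (Algebra.TensorProduct.includeRight : C →ₐ[A] B ⊗[A] C).toRingHom ≫ kA =
        CommRingCat.ofHom (Algebra.TensorProduct.includeRight : C →ₐ[A] B ⊗[A] C).toRingHom ≫ kC →
      CommRingCat.ofHom (Algebra.TensorProduct.includeRight : C →ₐ[A] B ⊗[A] C).toRingHom ≫ kB =
        ρ₀ ≫ kA →
      CommRingCat.ofHom (Algebra.TensorProduct.includeLeftRingHom : B →+* B ⊗[A] C) ≫ kB =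
        CommRingCat.ofHom (Algebra.TensorProduct.includeLeftRingHom : B →+* B ⊗[A] C) ≫ kC →
      ρ₀ ≫ kB = ρ₀ ≫ kC) :
    ∃ E : Subalgebra A C,
      Function.Bijective (Algebra.TensorProduct.productMap (IsScalarTower.toAlgHom A B C) E.val) ∧
      ∀ e : E, ρ₀.hom (e : C) = (1 : B) ⊗ₜ[A] (e : C) := by
  have hu : ∀ b : B, ρ₀.hom (algebraMap B C b) = b ⊗ₜ[A] (1 : C) := fun b =>
    congrArg (fun t => t.hom b) hunit
  let ρ : C →ₐ[B] B ⊗[A] C := { ρ₀.hom with commutes' := hu }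
  have hρ : ∀ c, ρ c = ρ₀.hom c := fun _ => rfl
  have h1 : ∀ c, mu (ρ c) = c := by
    have := hcounit (CommRingCat.ofHom (mu : B ⊗[A] C →ₐ[A] C).toRingHom)
      (by ext b; simp) (by ext c; simp)
    exact fun c => congrArg (fun t => t.hom c) this
  have h2 : ∀ c, Algebra.TensorProduct.map (AlgHom.id A B) (ρ.restrictScalars A) (ρ c) =
      Algebra.TensorProduct.map (AlgHom.id A B)
        (Algebra.TensorProduct.includeRight : C →ₐ[A] B ⊗[A] C) (ρ c) := by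
    have := hcoassoc (R₁ := CommRingCat.of (B ⊗[A] (B ⊗[A] C)))
      (CommRingCat.ofHom
        (Algebra.TensorProduct.includeRight : B ⊗[A] C →ₐ[A] B ⊗[A] (B ⊗[A] C)).toRingHom)
      (CommRingCat.ofHom
        (Algebra.TensorProduct.map (AlgHom.id A B) (ρ.restrictScalars A)).toRingHom)
      (CommRingCat.ofHom
        (Algebra.TensorProduct.map (AlgHom.id A B)
          (Algebra.TensorProduct.includeRight : C →ₐ[A] B ⊗[A] C)).toRingHom)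
      (by ext c; simp) (by ext c; simp [hρ]) (by ext b; simp)
    exact fun c => congrArg (fun t => t.hom c) this
  exact ⟨EE ρ, bijective_productMap ρ h1 h2, fun e => e.2⟩

/-- The descended algebra gives a pushout square of rings. -/
theorem isPushout_of_bijective (E : Subalgebra A C)
    (hbij : Function.Bijective
      (Algebra.TensorProduct.productMap (IsScalarTower.toAlgHom A B C) E.val)) :
    IsPushout (CommRingCat.ofHom (algebraMap A B)) (CommRingCat.ofHom (algebraMap A E))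
      (CommRingCat.ofHom (algebraMap B C)) (CommRingCat.ofHom E.val.toRingHom) :=
  (CommRingCat.isPushout_tensorProduct A B E).of_iso (Iso.refl _) (Iso.refl _) (Iso.refl _)
    (RingEquiv.ofBijective
      (Algebra.TensorProduct.productMap (IsScalarTower.toAlgHom A B C) E.val) hbij).toCommRingCatIso
    (by simp) (by simp) (by ext; simp) (by ext; simp)

end RingPart


section Main

variable {X S : Scheme.{u}} [IsAffine X] [IsAffine S] (p : X ⟶ S) [Flat p] (D : SchDD p)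
  [IsAffine D.obj.left]

/-- Descent data relative to a flat morphism of affine schemes whose scheme is affine are effective. -/
theorem exists_of_isAffine : ∃ U : Over S, Nonempty ((toDD p).obj U ≅ D) := by
  letI algAB : Algebra Γ(S, ⊤) Γ(X, ⊤) := p.appTop.hom.toAlgebra
  letI algBC : Algebra Γ(X, ⊤) Γ(D.obj.left, ⊤) := D.obj.hom.appTop.hom.toAlgebra
  letI algAC : Algebra Γ(S, ⊤) Γ(D.obj.left, ⊤) := (p.appTop ≫ D.obj.hom.appTop).hom.toAlgebra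
  haveI : IsScalarTower Γ(S, ⊤) Γ(X, ⊤) Γ(D.obj.left, ⊤) := .of_algebraMap_eq' rfl
  haveI : Module.Flat Γ(S, ⊤) Γ(X, ⊤) :=
    (HasRingHomProperty.iff_of_isAffine (P := @Flat)).1 (inferInstance : Flat p)
  let i₁ : Γ(X, ⊤) ⟶ CommRingCat.of (Γ(X, ⊤) ⊗[Γ(S, ⊤)] Γ(D.obj.left, ⊤)) :=
    CommRingCat.ofHom Algebra.TensorProduct.includeLeftRingHom
  let i₂ : Γ(D.obj.left, ⊤) ⟶ CommRingCat.of (Γ(X, ⊤) ⊗[Γ(S, ⊤)] Γ(D.obj.left, ⊤)) :=
    CommRingCat.ofHom (Algebra.TensorProduct.includeRight :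
      Γ(D.obj.left, ⊤) →ₐ[Γ(S, ⊤)] Γ(X, ⊤) ⊗[Γ(S, ⊤)] Γ(D.obj.left, ⊤)).toRingHom
  have sq₀ : IsPushout p.appTop (p.appTop ≫ D.obj.hom.appTop) i₁ i₂ :=
    CommRingCat.isPushout_tensorProduct Γ(S, ⊤) Γ(X, ⊤) Γ(D.obj.left, ⊤)
  have h₀ : ofΓ X (D.obj.hom.appTop ≫ i₂) ≫ p = ofΓ X i₁ ≫ p := by
    rw [ofΓ_comp, ofΓ_comp]
    congr 1
    exact sq₀.w.symm
  obtain ⟨E, hbij, hE⟩ := ring_part (A := Γ(S, ⊤)) (B := Γ(X, ⊤)) (C := Γ(D.obj.left, ⊤))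
    (rho₀ D i₁ i₂ h₀) (rho₀_unit D i₁ i₂ h₀) (rho₀_counit D i₁ i₂ h₀)
    (fun kA kB kC => rho₀_coassoc D i₁ i₂ h₀ kA kB kC)
  -- the descended scheme
  let α : Γ(S, ⊤) ⟶ CommRingCat.of E := CommRingCat.ofHom (algebraMap Γ(S, ⊤) E)
  let ε : CommRingCat.of E ⟶ Γ(D.obj.left, ⊤) := CommRingCat.ofHom E.val.toRingHom
  have hε : ε ≫ rho₀ D i₁ i₂ h₀ = ε ≫ i₂ := by
    ext e
    exact hE e
  have hpo : IsPushout p.appTop α D.obj.hom.appTop ε := isPushout_of_bijective E hbij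
  let u : Spec (CommRingCat.of E) ⟶ S := ofΓ S α
  let q : D.obj.left ⟶ Spec (CommRingCat.of E) := D.obj.left.isoSpec.hom ≫ Spec.map ε
  have hpb : IsPullback D.obj.hom q p u :=
    (isPullback_SpecMap_of_isPushout _ _ _ _ hpo).of_iso D.obj.left.isoSpec.symm X.isoSpec.symm
      (Iso.refl _) S.isoSpec.symm (Scheme.isoSpec_inv_naturality _)
      (by simp [q]) (Scheme.isoSpec_inv_naturality _) (by simp [u, ofΓ])
  -- the key compatibility, first on affine test schemes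
  have key_aff : ∀ (R : CommRingCat.{u}) (x₀ x₁ : Spec R ⟶ X) (h : x₀ ≫ p = x₁ ≫ p)
      (v : Lifts D.obj x₀), (D.φ x₀ x₁ h v).1 ≫ q = v.1 ≫ q := by
    intro R x₀ x₁ h v
    obtain ⟨gw, hgw⟩ := exists_ofΓ v.1
    obtain ⟨g₁, hg₁⟩ := exists_ofΓ x₁
    have hx₀ : x₀ = ofΓ X (D.obj.hom.appTop ≫ gw) := by
      rw [← v.2, hgw, ofΓ_comp]
    have hc : p.appTop ≫ g₁ = (p.appTop ≫ D.obj.hom.appTop) ≫ gw := by
      apply ofΓ_injective (Y := S)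
      rw [← ofΓ_comp, ← hg₁, ← h, hx₀, ofΓ_comp, Category.assoc]
    rw [phi_ofΓ D i₁ i₂ h₀ (sq₀.desc g₁ gw hc) g₁ gw (sq₀.inl_desc _ _ _) (sq₀.inr_desc _ _ _)
      x₀ x₁ hx₀ hg₁ h v hgw, hgw]
    simp only [q]
    rw [← Category.assoc, ← Category.assoc, ofΓ_isoSpec_hom, ofΓ_isoSpec_hom, ← Spec.map_comp,
      ← Spec.map_comp, ← Category.assoc, hε, Category.assoc, sq₀.inr_desc]
  have key : ∀ ⦃T : Scheme.{u}⦄ (x₀ x₁ : T ⟶ X) (h : x₀ ≫ p = x₁ ≫ p) (v : Lifts D.obj x₀),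
      (D.φ x₀ x₁ h v).1 ≫ q = v.1 ≫ q := by
    intro T x₀ x₁ h v
    apply Scheme.Cover.hom_ext T.affineOpenCover.openCover
    intro j
    have h' : (T.affineOpenCover.openCover.f j ≫ x₀) ≫ p =
        (T.affineOpenCover.openCover.f j ≫ x₁) ≫ p := by
      rw [Category.assoc, Category.assoc, h]
    have hw : (T.affineOpenCover.openCover.f j ≫ v.1) ≫ D.obj.hom =
        T.affineOpenCover.openCover.f j ≫ x₀ := by
      rw [Category.assoc, v.2]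
    rw [← Category.assoc, ← Category.assoc,
      ← D.φ_natural (T.affineOpenCover.openCover.f j) x₀ x₁ h h' v ⟨_, hw⟩ rfl]
    exact key_aff _ _ _ h' ⟨_, hw⟩
  refine ⟨Over.mk u, nonempty_iso_of_iso p D (Over.mk u) hpb.isoPullback.inv hpb.isoPullback.hom
    hpb.isoPullback_inv_fst hpb.isoPullback_hom_fst hpb.isoPullback.inv_hom_id
    hpb.isoPullback.hom_inv_id ?_⟩
  intro T x₀ x₁ h v
  have e : hpb.isoPullback.hom ≫ pullback.snd p (Over.mk u).hom = q := hpb.isoPullback_hom_snd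
  rw [e]
  exact key x₀ x₁ h v

end Main

end Groth.Agent.Lib.Helper26.AffineDescentDD
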