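import Mathlib
import Groth.Agent.S1488
import Groth.Agent.S1489
import Groth.Agent.Lib.Helper7.HensSection
import Groth.Agent.Lib.Helper16.FibreSurj

/-!
# The `N`-th power map on a smooth commutative group scheme is étale at the kernel (helper26)

For a commutative group scheme `G` over `Spec R₀` and a first order thickening `Spec C/I → Spec C`,
the group law on `ker (G(C) → G(C/I))` is "addition of tangent vectors"; so `x ↦ x ^ N` is bijective on
it when `N` is a unit in `C`.  Consequently the kernel of `[N]` on a smooth `G` over a local ring is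
étale, and Hensel's lemma gives `G(R)[N] ≃ G(k)[N]` for henselian local `R`.
-/

set_option autoImplicit false
universe u
open CategoryTheory CategoryTheory.Limits AlgebraicGeometry MonoidalCategory
  CartesianMonoidalCategory MonObj GrpObj

namespace Groth.Agent.Lib.Helper26.PowEtale

section ring

variable {B C : Type*} [CommRing B] [CommRing C] (I : Ideal C)

/-- `φ₁ + φ₂ - φ₀` is a ring hom when `φ₁ ≡ φ₀ ≡ φ₂` modulo a square-zero ideal -/
def comb3 (hI : ∀ x ∈ I, ∀ y ∈ I, x * y = 0) (φ₀ φ₁ φ₂ : B →+* C)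
    (h1 : ∀ b, φ₁ b - φ₀ b ∈ I) (h2 : ∀ b, φ₂ b - φ₀ b ∈ I) : B →+* C where
  toFun b := φ₁ b + φ₂ b - φ₀ b
  map_one' := by simp
  map_zero' := by simp
  map_add' a b := by simp only [map_add]; ring
  map_mul' a b := by
    have e1 := hI _ (h1 a) _ (h2 b)
    have e2 := hI _ (h2 a) _ (h1 b)
    simp only [map_mul]
    linear_combination (-1 : C) * e1 - e2

/-- `φ₀ + c (φ₁ - φ₀)` is a ring hom when `φ₁ ≡ φ₀` modulo a square-zero ideal -/
def scale (hI : ∀ x ∈ I, ∀ y ∈ I, x * y = 0) (φ₀ φ₁ : B →+* C) (c : C)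
    (h1 : ∀ b, φ₁ b - φ₀ b ∈ I) : B →+* C where
  toFun b := φ₀ b + c * (φ₁ b - φ₀ b)
  map_one' := by simp
  map_zero' := by simp
  map_add' a b := by simp only [map_add]; ring
  map_mul' a b := by
    have e1 := hI _ (h1 a) _ (h1 b)
    simp only [map_mul]
    linear_combination (c - c ^ 2) * e1

theorem mul_eq_zero_of_sq_eq_bot (hI : I ^ 2 = ⊥) : ∀ x ∈ I, ∀ y ∈ I, x * y = 0 := by
  intro x hx y hy
  have : x * y ∈ I ^ 2 := by rw [pow_two]; exact Ideal.mul_mem_mul hx hy
  rw [hI] at this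
  exact this

end ring

section factor

variable {X : Scheme.{u}} {A' R₀ : CommRingCat.{u}} (j : Spec A' ⟶ X) [IsOpenImmersion j]
  (e : A' ⟶ R₀) {C : Type u} [CommRing C] (I : Ideal C) (hI : I ^ 2 = ⊥)
  (β : R₀ ⟶ CommRingCat.of C)

include hI in
theorem exists_factor (f : Spec (CommRingCat.of C) ⟶ X)
    (hf : Spec.map (CommRingCat.ofHom (Ideal.Quotient.mk I)) ≫ f =
      Spec.map (CommRingCat.ofHom (Ideal.Quotient.mk I)) ≫ Spec.map β ≫ Spec.map e ≫ j) :
    ∃ φ : A' ⟶ CommRingCat.of C, Spec.map φ ≫ j = f ∧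
      φ ≫ CommRingCat.ofHom (Ideal.Quotient.mk I) =
        e ≫ β ≫ CommRingCat.ofHom (Ideal.Quotient.mk I) := by
  have hsurj : Function.Surjective (Spec.map (CommRingCat.ofHom (Ideal.Quotient.mk I))) :=
    Groth.Agent.Lib.Helper7.SpecMap_surjective_of_ker_le_nilradical _ Ideal.Quotient.mk_surjective (by
      rw [CommRingCat.hom_ofHom, Ideal.mk_ker]
      exact Groth.Agent.Lib.Helper7.ker_le_nilradical_of_sq_eq_bot I hI)
  have hrange : Set.range f ⊆ Set.range j := by
    rintro _ ⟨t, rfl⟩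
    obtain ⟨t₀, rfl⟩ := hsurj t
    rw [← Scheme.Hom.comp_apply, hf]
    simp only [Scheme.Hom.comp_apply]
    exact ⟨_, rfl⟩
  refine ⟨Spec.preimage (IsOpenImmersion.lift j f hrange), ?_, ?_⟩
  · rw [Spec.map_preimage, IsOpenImmersion.lift_fac]
  · apply Spec.map_injective
    rw [← cancel_mono j]
    simp only [Spec.map_comp, Category.assoc]
    rw [Spec.map_preimage, IsOpenImmersion.lift_fac, hf]

omit [IsOpenImmersion j] in
theorem factor_unique [Mono j] {D : CommRingCat.{u}} (φ φ' : A' ⟶ D)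
    (h : Spec.map φ ≫ j = Spec.map φ' ≫ j) : φ = φ' :=
  Spec.map_injective ((cancel_mono j).1 h)

end factor

/-- an affine chart of a group scheme around the unit section, together with an affine chart of
`G × G` around `(e, e)` on which the projections and the multiplication land in the first chart -/
structure Chart {R₀ : CommRingCat.{u}} (G : Over (Spec R₀)) [GrpObj G] where
  A : CommRingCat.{u}
  B : CommRingCat.{u}
  jU : Spec A ⟶ G.left
  jW : Spec B ⟶ (G ⊗ G).left
  hU : IsOpenImmersion jU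
  hW : IsOpenImmersion jW
  ε : A ⟶ R₀
  hε : Spec.map ε ≫ jU = η[G].left
  p₁ : A ⟶ B
  p₂ : A ⟶ B
  m : A ⟶ B
  hp₁ : Spec.map p₁ ≫ jU = jW ≫ (fst G G).left
  hp₂ : Spec.map p₂ ≫ jU = jW ≫ (snd G G).left
  hm : Spec.map m ≫ jU = jW ≫ μ[G].left
  ε₂ : B ⟶ R₀
  hε₂ : Spec.map ε₂ ≫ jW = (lift η[G] η[G]).left

section kernel

variable {R₀ : CommRingCat.{u}} {G : Over (Spec R₀)} [GrpObj G] (ch : Chart G)
  {C : Type u} [CommRing C] (I : Ideal C) (hI : I ^ 2 = ⊥) (β : R₀ ⟶ CommRingCat.of C)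

/-- `Spec C` over `Spec R₀` -/
noncomputable abbrev TC : Over (Spec R₀) := Over.mk (Spec.map β)

/-- `Spec C/I` over `Spec R₀` -/
noncomputable abbrev T0 : Over (Spec R₀) :=
  Over.mk (Spec.map (CommRingCat.ofHom (Ideal.Quotient.mk I)) ≫ Spec.map β)

/-- the thickening -/
noncomputable abbrev incl : T0 I β ⟶ TC β :=
  Over.homMk (Spec.map (CommRingCat.ofHom (Ideal.Quotient.mk I))) rfl

theorem one_left (T : Over (Spec R₀)) : (1 : T ⟶ G).left = T.hom ≫ η[G].left := by
  rw [Hom.one_def, Over.comp_left, Over.toUnit_left]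

include hI in
theorem exists_phi (g : TC β ⟶ G) (hg : incl I β ≫ g = 1) :
    ∃ φ : ch.A ⟶ CommRingCat.of C, Spec.map φ ≫ ch.jU = g.left ∧
      φ ≫ CommRingCat.ofHom (Ideal.Quotient.mk I) =
        ch.ε ≫ β ≫ CommRingCat.ofHom (Ideal.Quotient.mk I) := by
  haveI := ch.hU
  refine exists_factor ch.jU ch.ε I hI β g.left ?_
  have := congrArg (fun k => k.left) hg
  simp only [Over.comp_left, Over.homMk_left] at this
  rw [this, one_left, ch.hε]
  exact Category.assoc _ _ _

include hI in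
theorem exists_Phi (g h : TC β ⟶ G) (hg : incl I β ≫ g = 1) (hh : incl I β ≫ h = 1) :
    ∃ Φ : ch.B ⟶ CommRingCat.of C, Spec.map Φ ≫ ch.jW = (lift g h).left ∧
      Φ ≫ CommRingCat.ofHom (Ideal.Quotient.mk I) =
        ch.ε₂ ≫ β ≫ CommRingCat.ofHom (Ideal.Quotient.mk I) := by
  haveI := ch.hW
  refine exists_factor ch.jW ch.ε₂ I hI β (lift g h).left ?_
  have h1 : incl I β ≫ lift g h = toUnit _ ≫ lift η[G] η[G] := by
    rw [comp_lift, comp_lift, hg, hh, Hom.one_def]
  have := congrArg (fun k => k.left) h1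
  simp only [Over.comp_left, Over.homMk_left, Over.toUnit_left] at this
  rw [this, ch.hε₂]
  exact Category.assoc _ _ _

theorem p₁_comp {T : Over (Spec R₀)} {D : CommRingCat.{u}} (hT : T.left = Spec D)
    (g h : T ⟶ G) (Φ : ch.B ⟶ D) (φ : ch.A ⟶ D)
    (hΦ : Spec.map Φ ≫ ch.jW = eqToHom hT.symm ≫ (lift g h).left)
    (hφ : Spec.map φ ≫ ch.jU = eqToHom hT.symm ≫ g.left) : ch.p₁ ≫ Φ = φ := by
  haveI := ch.hU
  apply factor_unique ch.jU
  rw [Spec.map_comp, Category.assoc, ch.hp₁, reassoc_of% hΦ, hφ, ← Over.comp_left, lift_fst]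

theorem p₂_comp {T : Over (Spec R₀)} {D : CommRingCat.{u}} (hT : T.left = Spec D)
    (g h : T ⟶ G) (Φ : ch.B ⟶ D) (φ : ch.A ⟶ D)
    (hΦ : Spec.map Φ ≫ ch.jW = eqToHom hT.symm ≫ (lift g h).left)
    (hφ : Spec.map φ ≫ ch.jU = eqToHom hT.symm ≫ h.left) : ch.p₂ ≫ Φ = φ := by
  haveI := ch.hU
  apply factor_unique ch.jU
  rw [Spec.map_comp, Category.assoc, ch.hp₂, reassoc_of% hΦ, hφ, ← Over.comp_left, lift_snd]

theorem m_comp {T : Over (Spec R₀)} {D : CommRingCat.{u}} (hT : T.left = Spec D)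
    (g h : T ⟶ G) (Φ : ch.B ⟶ D) (φ : ch.A ⟶ D)
    (hΦ : Spec.map Φ ≫ ch.jW = eqToHom hT.symm ≫ (lift g h).left)
    (hφ : Spec.map φ ≫ ch.jU = eqToHom hT.symm ≫ (g * h).left) : ch.m ≫ Φ = φ := by
  haveI := ch.hU
  apply factor_unique ch.jU
  rw [Spec.map_comp, Category.assoc, ch.hm, reassoc_of% hΦ, hφ, ← Over.comp_left, Hom.mul_def]

theorem Phi_ext {D : CommRingCat.{u}} (Φ Φ' : ch.B ⟶ D) (h1 : ch.p₁ ≫ Φ = ch.p₁ ≫ Φ')
    (h2 : ch.p₂ ≫ Φ = ch.p₂ ≫ Φ') : Φ = Φ' := by
  haveI := ch.hW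
  apply factor_unique ch.jW
  apply pullback.hom_ext
  · have := congrArg (fun k => Spec.map k ≫ ch.jU) h1
    simp only [Spec.map_comp, Category.assoc, ch.hp₁] at this
    simpa using this
  · have := congrArg (fun k => Spec.map k ≫ ch.jU) h2
    simp only [Spec.map_comp, Category.assoc, ch.hp₂] at this
    simpa using this

theorem phi_one : Spec.map (ch.ε ≫ β) ≫ ch.jU = (1 : TC β ⟶ G).left := by
  rw [one_left, Spec.map_comp, Category.assoc, ch.hε]
  rfl

theorem sub_mem_of_comp_eq {A' : CommRingCat.{u}} (φ ψ : A' ⟶ CommRingCat.of C)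
    (h : φ ≫ CommRingCat.ofHom (Ideal.Quotient.mk I) = ψ ≫ CommRingCat.ofHom (Ideal.Quotient.mk I))
    (a : A') : φ.hom a - ψ.hom a ∈ I := by
  have := congrArg (fun k => k.hom a) h
  simp only [CommRingCat.hom_comp, CommRingCat.hom_ofHom, RingHom.comp_apply] at this
  exact Ideal.Quotient.eq.mp this

include hI in
/-- the group law on the first order kernel is addition of tangent vectors -/
theorem phi_mul (g h : TC β ⟶ G) (hg : incl I β ≫ g = 1) (hh : incl I β ≫ h = 1)
    (φg φh φgh : ch.A ⟶ CommRingCat.of C) (eg : Spec.map φg ≫ ch.jU = g.left)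
    (eh : Spec.map φh ≫ ch.jU = h.left) (egh : Spec.map φgh ≫ ch.jU = (g * h).left) (a : ch.A) :
    φgh.hom a = φg.hom a + φh.hom a - (ch.ε ≫ β).hom a := by
  have h1 : incl I β ≫ (1 : TC β ⟶ G) = 1 := MonObj.comp_one _
  obtain ⟨Φgh, e1, -⟩ := exists_Phi ch I hI β g h hg hh
  obtain ⟨Φg1, e2, c2⟩ := exists_Phi ch I hI β g 1 hg h1
  obtain ⟨Φ1h, e3, c3⟩ := exists_Phi ch I hI β 1 h h1 hh
  obtain ⟨Φ11, e4, c4⟩ := exists_Phi ch I hI β 1 1 h1 h1
  have hI' := mul_eq_zero_of_sq_eq_bot I hI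
  have hT : (TC β).left = Spec (CommRingCat.of C) := rfl
  have e0 := phi_one ch β
  -- the combination
  let Φ' : ch.B ⟶ CommRingCat.of C := CommRingCat.ofHom (comb3 I hI' Φ11.hom Φg1.hom Φ1h.hom
    (sub_mem_of_comp_eq I Φg1 Φ11 (c2.trans c4.symm)) (sub_mem_of_comp_eq I Φ1h Φ11 (c3.trans c4.symm)))
  have hΦ' : ∀ b, Φ'.hom b = Φg1.hom b + Φ1h.hom b - Φ11.hom b := fun b => rfl
  have q1 : ch.p₁ ≫ Φgh = φg := p₁_comp ch hT g h Φgh φg (by simpa using e1) (by simpa using eg)
  have q2 : ch.p₂ ≫ Φgh = φh := p₂_comp ch hT g h Φgh φh (by simpa using e1) (by simpa using eh)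
  have q3 : ch.p₁ ≫ Φg1 = φg := p₁_comp ch hT g 1 Φg1 φg (by simpa using e2) (by simpa using eg)
  have q4 : ch.p₂ ≫ Φg1 = ch.ε ≫ β :=
    p₂_comp ch hT g 1 Φg1 _ (by simpa using e2) (by simpa using e0)
  have q5 : ch.p₁ ≫ Φ1h = ch.ε ≫ β :=
    p₁_comp ch hT 1 h Φ1h _ (by simpa using e3) (by simpa using e0)
  have q6 : ch.p₂ ≫ Φ1h = φh := p₂_comp ch hT 1 h Φ1h φh (by simpa using e3) (by simpa using eh)
  have q7 : ch.p₁ ≫ Φ11 = ch.ε ≫ β :=
    p₁_comp ch hT 1 1 Φ11 _ (by simpa using e4) (by simpa using e0)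
  have q8 : ch.p₂ ≫ Φ11 = ch.ε ≫ β :=
    p₂_comp ch hT 1 1 Φ11 _ (by simpa using e4) (by simpa using e0)
  have key : Φgh = Φ' := by
    apply Phi_ext ch
    · rw [q1]
      ext x
      have a3 := congrArg (fun k => k.hom x) q3
      have a5 := congrArg (fun k => k.hom x) q5
      have a7 := congrArg (fun k => k.hom x) q7
      simp only [CommRingCat.hom_comp, RingHom.comp_apply] at a3 a5 a7 ⊢
      rw [hΦ', a3, a5, a7]
      ring
    · rw [q2]
      ext x
      have a4 := congrArg (fun k => k.hom x) q4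
      have a6 := congrArg (fun k => k.hom x) q6
      have a8 := congrArg (fun k => k.hom x) q8
      simp only [CommRingCat.hom_comp, RingHom.comp_apply] at a4 a6 a8 ⊢
      rw [hΦ', a4, a6, a8]
      ring
  have r1 : ch.m ≫ Φgh = φgh := m_comp ch hT g h Φgh φgh (by simpa using e1) (by simpa using egh)
  have r2 : ch.m ≫ Φg1 = φg :=
    m_comp ch hT g 1 Φg1 φg (by simpa using e2) (by rw [_root_.mul_one]; simpa using eg)
  have r3 : ch.m ≫ Φ1h = φh :=
    m_comp ch hT 1 h Φ1h φh (by simpa using e3) (by rw [_root_.one_mul]; simpa using eh)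
  have r4 : ch.m ≫ Φ11 = ch.ε ≫ β :=
    m_comp ch hT 1 1 Φ11 _ (by simpa using e4) (by rw [_root_.one_mul]; simpa using e0)
  have b1 := congrArg (fun k => k.hom a) r1
  have b2 := congrArg (fun k => k.hom a) r2
  have b3 := congrArg (fun k => k.hom a) r3
  have b4 := congrArg (fun k => k.hom a) r4
  simp only [CommRingCat.hom_comp, RingHom.comp_apply] at b1 b2 b3 b4
  rw [← b1, key, hΦ', b2, b3, b4]
  rfl

include hI in
theorem phi_pow (g : TC β ⟶ G) (hg : incl I β ≫ g = 1)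
    (φg : ch.A ⟶ CommRingCat.of C) (eg : Spec.map φg ≫ ch.jU = g.left) (n : ℕ) :
    ∀ (φn : ch.A ⟶ CommRingCat.of C) (_ : Spec.map φn ≫ ch.jU = (g ^ n).left) (a : ch.A),
      φn.hom a = (ch.ε ≫ β).hom a + n * (φg.hom a - (ch.ε ≫ β).hom a) := by
  haveI := ch.hU
  induction n with
  | zero =>
    intro φn en a
    rw [pow_zero] at en
    have : φn = ch.ε ≫ β := factor_unique ch.jU _ _ (en.trans (phi_one ch β).symm)
    rw [this]
    simp
  | succ n ih =>
    intro φn en a
    have hgn : incl I β ≫ g ^ n = 1 := by rw [MonObj.comp_pow, hg, one_pow]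
    obtain ⟨ψ, eψ, -⟩ := exists_phi ch I hI β (g ^ n) hgn
    rw [pow_succ] at en
    rw [phi_mul ch I hI β (g ^ n) g hgn hg ψ φg φn eψ eg en a, ih ψ eψ a]
    push_cast
    ring

omit [GrpObj G] in
theorem hom_ext_of_left {T : Over (Spec R₀)} (g h : T ⟶ G) (e : g.left = h.left) : g = h :=
  Over.OverMorphism.ext e

theorem alpha_comp_eps : Spec.preimage (ch.jU ≫ G.hom) ≫ ch.ε = 𝟙 R₀ := by
  apply Spec.map_injective
  rw [Spec.map_comp, Spec.map_preimage, reassoc_of% ch.hε, Spec.map_id]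
  exact Over.w η[G]

theorem alpha_comp_phi (g : TC β ⟶ G) (φg : ch.A ⟶ CommRingCat.of C)
    (eg : Spec.map φg ≫ ch.jU = g.left) : Spec.preimage (ch.jU ≫ G.hom) ≫ φg = β := by
  apply Spec.map_injective
  rw [Spec.map_comp, Spec.map_preimage, reassoc_of% eg]
  exact Over.w g

theorem exists_of_hom (φ : ch.A ⟶ CommRingCat.of C)
    (h1 : Spec.preimage (ch.jU ≫ G.hom) ≫ φ = β)
    (h2 : φ ≫ CommRingCat.ofHom (Ideal.Quotient.mk I) =
      ch.ε ≫ β ≫ CommRingCat.ofHom (Ideal.Quotient.mk I)) :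
    ∃ g : TC β ⟶ G, incl I β ≫ g = 1 ∧ Spec.map φ ≫ ch.jU = g.left := by
  have hw : (Spec.map φ ≫ ch.jU) ≫ G.hom = (TC β).hom := by
    rw [Category.assoc, ← Spec.map_preimage (ch.jU ≫ G.hom), ← Spec.map_comp, h1]
    rfl
  refine ⟨Over.homMk (Spec.map φ ≫ ch.jU) hw, ?_, rfl⟩
  apply hom_ext_of_left
  rw [one_left, ← ch.hε]
  simp only [Over.comp_left, Over.homMk_left, Over.mk_hom]
  rw [← Spec.map_comp_assoc, h2]
  simp only [Spec.map_comp, Category.assoc]

include hI ch in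
theorem pow_injective (N : ℕ) (hN : IsUnit (N : C)) (g : TC β ⟶ G) (hg : incl I β ≫ g = 1)
    (hgN : g ^ N = 1) : g = 1 := by
  haveI := ch.hU
  obtain ⟨φg, eg, -⟩ := exists_phi ch I hI β g hg
  have h0 := phi_one ch β (G := G)
  have hpow := phi_pow ch I hI β g hg φg eg N (ch.ε ≫ β) (by rw [hgN]; exact h0)
  have : φg = ch.ε ≫ β := by
    ext a
    have h := hpow a
    have h' : (N : C) * (φg.hom a - (ch.ε ≫ β).hom a) = 0 := by
      linear_combination -h
    have := (hN.mul_right_eq_zero).mp h'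
    exact sub_eq_zero.mp this
  apply hom_ext_of_left
  rw [← eg, this, h0]

include hI ch in
theorem pow_surjective (N : ℕ) (hN : IsUnit (N : C)) (g : TC β ⟶ G) (hg : incl I β ≫ g = 1) :
    ∃ h : TC β ⟶ G, incl I β ≫ h = 1 ∧ h ^ N = g := by
  haveI := ch.hU
  obtain ⟨φg, eg, cg⟩ := exists_phi ch I hI β g hg
  have hI' := mul_eq_zero_of_sq_eq_bot I hI
  obtain ⟨c, hc⟩ := hN.exists_right_inv
  have hmem : ∀ b, φg.hom b - (ch.ε ≫ β).hom b ∈ I :=
    sub_mem_of_comp_eq I φg (ch.ε ≫ β) (by rw [cg, Category.assoc])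
  let φ' : ch.A ⟶ CommRingCat.of C :=
    CommRingCat.ofHom (scale I hI' (ch.ε ≫ β).hom φg.hom c hmem)
  have hφ' : ∀ a, φ'.hom a = (ch.ε ≫ β).hom a + c * (φg.hom a - (ch.ε ≫ β).hom a) := fun a => rfl
  have h1 : Spec.preimage (ch.jU ≫ G.hom) ≫ φ' = β := by
    ext r
    have a1 := congrArg (fun k => k.hom r) (alpha_comp_phi ch β g φg eg)
    have a2 := congrArg (fun k => β.hom (k.hom r)) (alpha_comp_eps ch)
    simp only [CommRingCat.hom_comp, RingHom.comp_apply, CommRingCat.hom_id, RingHom.id_apply]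
      at a1 a2 ⊢
    rw [hφ']
    simp only [CommRingCat.hom_comp, RingHom.comp_apply]
    rw [a1, a2]
    ring
  have h2 : φ' ≫ CommRingCat.ofHom (Ideal.Quotient.mk I) =
      ch.ε ≫ β ≫ CommRingCat.ofHom (Ideal.Quotient.mk I) := by
    ext a
    simp only [CommRingCat.hom_comp, CommRingCat.hom_ofHom, RingHom.comp_apply]
    rw [Ideal.Quotient.eq]
    have : φ'.hom a - β.hom (ch.ε.hom a) = c * (φg.hom a - (ch.ε ≫ β).hom a) := by
      rw [hφ']
      simp only [CommRingCat.hom_comp, RingHom.comp_apply]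
      ring
    rw [this]
    exact I.mul_mem_left c (hmem a)
  obtain ⟨h, hh, eh⟩ := exists_of_hom ch I β φ' h1 h2
  refine ⟨h, hh, ?_⟩
  have hhN : incl I β ≫ h ^ N = 1 := by rw [MonObj.comp_pow, hh, one_pow]
  obtain ⟨ψ, eψ, -⟩ := exists_phi ch I hI β (h ^ N) hhN
  have hpow := phi_pow ch I hI β h hh φ' eh N ψ eψ
  have : ψ = φg := by
    ext a
    rw [hpow a, hφ']
    linear_combination (φg.hom a - (ch.ε ≫ β).hom a) * hc
  apply hom_ext_of_left
  rw [← eψ, this, eg]

end kernel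

section etale

variable {R₀ : CommRingCat.{u}} {G : Over (Spec R₀)} [GrpObj G]

/-- the `N`-th power endomorphism of a group object -/
noncomputable abbrev powHom (G : Over (Spec R₀)) [GrpObj G] (N : ℕ) : G ⟶ G := (𝟙 G) ^ N

theorem comp_powHom {T : Over (Spec R₀)} (x : T ⟶ G) (N : ℕ) : x ≫ powHom G N = x ^ N := by
  rw [MonObj.comp_pow, Category.comp_id]

theorem kerPow_fst_hom (N : ℕ) :
    pullback.fst (powHom G N).left (η[G]).left ≫ G.hom =
      pullback.snd (powHom G N).left (η[G]).left := by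
  rw [← Over.w (powHom G N), pullback.condition_assoc, Over.w η[G]]
  exact Category.comp_id _

variable [IsCommMonObj G] (ch : Chart G)

include ch in
/-- the kernel of `[N]` on a smooth commutative group scheme with a chart is formally étale when `N`
is a unit on the base -/
theorem isFormallyEtaleHom_kerPow [Smooth G.hom] (N : ℕ) (hN : IsUnit (N : R₀)) :
    MoreMor.IsFormallyEtaleHom (pullback.snd (powHom G N).left (η[G]).left) := by
  intro C _ I hI a b hab
  obtain ⟨β, rfl⟩ : ∃ β : R₀ ⟶ CommRingCat.of C, b = Spec.map β :=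
    ⟨Spec.preimage (b : Spec (CommRingCat.of C) ⟶ Spec R₀), (Spec.map_preimage _).symm⟩
  have hN' : IsUnit (N : C) := by
    have := hN.map β.hom
    rwa [map_natCast] at this
  have hsm : MoreMor.IsFormallySmoothHom G.hom :=
    ((Groth.Agent.S1488.result G.hom).1 inferInstance).2
  -- the point of G over T₀
  have hw1 : (a ≫ pullback.fst (powHom G N).left (η[G]).left) ≫ G.hom = (T0 I β).hom := by
    rw [Category.assoc, kerPow_fst_hom, ← hab]
    rfl
  obtain ⟨a₁, ha₁⟩ : ∃ a₁ : T0 I β ⟶ G, a₁.left = a ≫ pullback.fst (powHom G N).left (η[G]).left :=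
    ⟨Over.homMk _ hw1, rfl⟩
  have ha₁N : a₁ ^ N = 1 := by
    rw [← comp_powHom]
    apply hom_ext_of_left
    rw [Over.comp_left, ha₁, Category.assoc, pullback.condition, one_left, ← Category.assoc, ← hab]
    rfl
  obtain ⟨l₀, hl₀1, hl₀2⟩ := hsm C I hI _ (Spec.map β) (by rw [hab, ← kerPow_fst_hom, Category.assoc])
  obtain ⟨g₀, hg₀⟩ : ∃ g₀ : TC β ⟶ G, g₀.left = l₀ := ⟨Over.homMk l₀ hl₀2, rfl⟩
  have hg₀a : incl I β ≫ g₀ = a₁ := by
    apply hom_ext_of_left
    rw [Over.comp_left, hg₀, ha₁]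
    exact hl₀1
  have hV : incl I β ≫ g₀ ^ N = 1 := by rw [MonObj.comp_pow, hg₀a, ha₁N]
  obtain ⟨v, hv1, hv2⟩ := pow_surjective ch I hI β N hN' (g₀ ^ N) hV
  have hg1 : incl I β ≫ (g₀ * v⁻¹) = a₁ := by
    rw [MonObj.comp_mul, GrpObj.comp_inv, hv1, hg₀a, inv_one, _root_.mul_one]
  have hg2 : (g₀ * v⁻¹) ^ N = 1 := by
    rw [mul_pow, inv_pow, hv2, _root_.mul_inv_cancel]
  have hone : (1 : TC β ⟶ G).left = Spec.map β ≫ (η[G]).left := one_left _
  have hlift : (g₀ * v⁻¹).left ≫ (powHom G N).left = Spec.map β ≫ (η[G]).left := by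
    rw [← Over.comp_left, comp_powHom, hg2, hone]
  refine ⟨pullback.lift (g₀ * v⁻¹).left (Spec.map β) hlift, ⟨?_, pullback.lift_snd _ _ _⟩, ?_⟩
  · apply pullback.hom_ext
    · rw [Category.assoc, pullback.lift_fst, ← ha₁, ← hg1]
      rfl
    · rw [Category.assoc, pullback.lift_snd, hab]
  · rintro l' ⟨hl'1, hl'2⟩
    have hw2 : (l' ≫ pullback.fst (powHom G N).left (η[G]).left) ≫ G.hom = (TC β).hom := by
      rw [Category.assoc, kerPow_fst_hom, hl'2]
      rfl
    obtain ⟨g', hg'⟩ : ∃ g' : TC β ⟶ G,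
        g'.left = l' ≫ pullback.fst (powHom G N).left (η[G]).left := ⟨Over.homMk _ hw2, rfl⟩
    have hg'N : g' ^ N = 1 := by
      rw [← comp_powHom]
      apply hom_ext_of_left
      rw [Over.comp_left, hg', Category.assoc, pullback.condition, hone, ← Category.assoc, hl'2]
    have hg'a : incl I β ≫ g' = a₁ := by
      apply hom_ext_of_left
      rw [Over.comp_left, hg', ha₁, ← hl'1]
      exact (Category.assoc _ _ _).symm
    have hw : g' * (g₀ * v⁻¹)⁻¹ = 1 := by
      apply pow_injective ch I hI β N hN'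
      · rw [MonObj.comp_mul, GrpObj.comp_inv, hg'a, hg1, _root_.mul_inv_cancel]
      · rw [mul_pow, inv_pow, hg'N, hg2, inv_one, _root_.mul_one]
    have hgg : g' = g₀ * v⁻¹ := mul_inv_eq_one.mp hw
    apply pullback.hom_ext
    · rw [pullback.lift_fst, ← hg', hgg]
    · rw [pullback.lift_snd, hl'2]

end etale

section localBase

variable {R₀ : CommRingCat.{u}} [IsLocalRing R₀]

theorem range_subset_of_closedPoint_mem {X : Scheme.{u}} (s : Spec R₀ ⟶ X) (U : X.Opens)
    (h : s (IsLocalRing.closedPoint R₀) ∈ U) : Set.range s ⊆ (U : Set X) := by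
  rintro _ ⟨x, rfl⟩
  have hsp : x ⤳ IsLocalRing.closedPoint R₀ := IsLocalRing.specializes_closedPoint x
  have := hsp.map s.continuous
  exact this.mem_open U.isOpen h

variable (G : Over (Spec R₀)) [GrpObj G]

/-- over a local base, charts around the unit section exist -/
theorem nonempty_chart : Nonempty (Chart G) := by
  obtain ⟨e, he⟩ : ∃ e : Spec R₀ ⟶ G.left, e = (η[G]).left := ⟨_, rfl⟩
  obtain ⟨e₂, he₂⟩ : ∃ e₂ : Spec R₀ ⟶ (G ⊗ G).left, e₂ = (lift η[G] η[G]).left := ⟨_, rfl⟩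
  obtain ⟨U, hU, hxU⟩ : ∃ U : G.left.Opens, IsAffineOpen U ∧
      e (IsLocalRing.closedPoint R₀) ∈ U := by
    obtain ⟨_, ⟨V, hV, rfl⟩, hxV, -⟩ := G.left.isBasis_affineOpens.exists_subset_of_mem_open
      (Set.mem_univ (e (IsLocalRing.closedPoint R₀))) isOpen_univ
    exact ⟨V, hV, hxV⟩
  have e21 : e₂ ≫ (fst G G).left = e := by rw [he₂, he, ← Over.comp_left, lift_fst]
  have e22 : e₂ ≫ (snd G G).left = e := by rw [he₂, he, ← Over.comp_left, lift_snd]
  have e23 : e₂ ≫ (μ[G]).left = e := by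
    rw [he₂, he, ← Over.comp_left, ← Hom.mul_def, MonObj.one_eq_one, _root_.one_mul]
  obtain ⟨W, hW, hyW, hWle⟩ : ∃ W : (G ⊗ G).left.Opens, IsAffineOpen W ∧
      e₂ (IsLocalRing.closedPoint R₀) ∈ W ∧
      W ≤ ((fst G G).left ⁻¹ᵁ U) ⊓ ((snd G G).left ⁻¹ᵁ U) ⊓ ((μ[G]).left ⁻¹ᵁ U) := by
    have hmem : e₂ (IsLocalRing.closedPoint R₀) ∈
        ((fst G G).left ⁻¹ᵁ U) ⊓ ((snd G G).left ⁻¹ᵁ U) ⊓ ((μ[G]).left ⁻¹ᵁ U) := by
      refine ⟨⟨?_, ?_⟩, ?_⟩
      · show (fst G G).left (e₂ _) ∈ U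
        rw [← Scheme.Hom.comp_apply, e21]; exact hxU
      · show (snd G G).left (e₂ _) ∈ U
        rw [← Scheme.Hom.comp_apply, e22]; exact hxU
      · show (μ[G]).left (e₂ _) ∈ U
        rw [← Scheme.Hom.comp_apply, e23]; exact hxU
    obtain ⟨_, ⟨V, hV, rfl⟩, hxV, hVle⟩ :=
      (G ⊗ G).left.isBasis_affineOpens.exists_subset_of_mem_open hmem
        (((fst G G).left ⁻¹ᵁ U) ⊓ ((snd G G).left ⁻¹ᵁ U) ⊓ ((μ[G]).left ⁻¹ᵁ U)).isOpen
    exact ⟨V, hV, hxV, hVle⟩
  obtain ⟨ε, hε⟩ := Groth.Agent.Lib.Helper7.exists_SpecMap_comp_fromSpec hU e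
    (range_subset_of_closedPoint_mem e U hxU)
  obtain ⟨ε₂, hε₂⟩ := Groth.Agent.Lib.Helper7.exists_SpecMap_comp_fromSpec hW e₂
    (range_subset_of_closedPoint_mem e₂ W hyW)
  have hWr : ∀ z, hW.fromSpec z ∈ W := fun z => by
    have : hW.fromSpec z ∈ Set.range hW.fromSpec := ⟨z, rfl⟩
    rwa [hW.range_fromSpec] at this
  obtain ⟨p₁, hp₁⟩ := Groth.Agent.Lib.Helper7.exists_SpecMap_comp_fromSpec hU
    (hW.fromSpec ≫ (fst G G).left) (by
      rintro _ ⟨z, rfl⟩
      exact (hWle (hWr z)).1.1)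
  obtain ⟨p₂, hp₂⟩ := Groth.Agent.Lib.Helper7.exists_SpecMap_comp_fromSpec hU
    (hW.fromSpec ≫ (snd G G).left) (by
      rintro _ ⟨z, rfl⟩
      exact (hWle (hWr z)).1.2)
  obtain ⟨m, hm⟩ := Groth.Agent.Lib.Helper7.exists_SpecMap_comp_fromSpec hU
    (hW.fromSpec ≫ (μ[G]).left) (by
      rintro _ ⟨z, rfl⟩
      exact (hWle (hWr z)).2)
  refine ⟨⟨_, _, hU.fromSpec, hW.fromSpec, inferInstance, inferInstance, ε, ?_, p₁, p₂, m,
    hp₁.symm, hp₂.symm, hm.symm, ε₂, ?_⟩⟩
  · rw [← hε, he]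
  · rw [← hε₂, he₂]

end localBase

section hensel

/-- the kernel of `[N]` on a smooth commutative group scheme over a local ring is étale if `N` is a
unit -/
theorem etale_kerPow {R₀ : CommRingCat.{u}} [IsLocalRing R₀] (G : Over (Spec R₀)) [GrpObj G]
    [IsCommMonObj G] [Smooth G.hom] (N : ℕ) (hN : IsUnit (N : R₀)) :
    Etale (pullback.snd (powHom G N).left (η[G]).left) := by
  obtain ⟨ch⟩ := nonempty_chart G
  rw [Groth.Agent.S1489.result]
  refine ⟨?_, isFormallyEtaleHom_kerPow ch N hN⟩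
  haveI : LocallyOfFinitePresentation (powHom G N).left :=
    Groth.Agent.Lib.Helper16.locallyOfFinitePresentation_of_comp (powHom G N).left G.hom
      (by rw [Over.w]; infer_instance) inferInstance
  infer_instance

/-- sections of an étale scheme over a local ring agreeing at the closed point are equal -/
theorem section_ext_of_closedPoint (R : Type u) [CommRing R] [IsLocalRing R] {X : Scheme.{u}}
    (f : X ⟶ Spec (CommRingCat.of R)) [Etale f] (s₁ s₂ : Spec (CommRingCat.of R) ⟶ X)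
    (h₁ : s₁ ≫ f = 𝟙 _) (h₂ : s₂ ≫ f = 𝟙 _)
    (hcl : s₁ (IsLocalRing.closedPoint R) = s₂ (IsLocalRing.closedPoint R)) : s₁ = s₂ := by
  refine Groth.Agent.Lib.Helper7.HensSection.eq_of_mem_range_diagonal f s₁ s₂ (h₁.trans h₂.symm) ?_
  have hopen : IsOpen ((pullback.lift s₁ s₂ (h₁.trans h₂.symm)) ⁻¹'
      Set.range (pullback.diagonal f)) :=
    (pullback.diagonal f).isOpenEmbedding.isOpen_range.preimage
      (pullback.lift s₁ s₂ (h₁.trans h₂.symm)).continuous
  let O : TopologicalSpace.Opens (PrimeSpectrum R) := ⟨_, hopen⟩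
  have hcO : IsLocalRing.closedPoint R ∈ O := by
    change (pullback.lift s₁ s₂ (h₁.trans h₂.symm)) (IsLocalRing.closedPoint R) ∈
      Set.range (pullback.diagonal f)
    refine ⟨s₂ (IsLocalRing.closedPoint R), ?_⟩
    symm
    apply Groth.Agent.Lib.Helper7.EtaleNbhd.eq_of_fst_eq_of_snd_eq f f
    · rw [← Scheme.Hom.comp_apply, pullback.lift_fst, ← Scheme.Hom.comp_apply,
        pullback.diagonal_fst, hcl]
      rfl
    · rw [← Scheme.Hom.comp_apply, pullback.lift_snd, ← Scheme.Hom.comp_apply,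
        pullback.diagonal_snd]
      rfl
    · have h1 : pullback.snd f f (pullback.diagonal f (s₂ (IsLocalRing.closedPoint R))) =
          s₂ (IsLocalRing.closedPoint R) := by
        rw [← Scheme.Hom.comp_apply, pullback.diagonal_snd]; rfl
      rw [h1]
      have := Groth.Agent.Lib.Helper7.HensSection.isIso_residueFieldMap_of_section' f
        (IsLocalRing.ResidueField R) (Spec.map (CommRingCat.ofHom (IsLocalRing.residue R)))
        (Groth.Agent.Lib.Helper7.HensSection.surjective_descResidueField_SpecMap (IsLocalRing.ResidueField R)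
          (CommRingCat.ofHom (IsLocalRing.residue R)) IsLocalRing.residue_surjective)
        (Spec.map (CommRingCat.ofHom (IsLocalRing.residue R)) ≫ s₂)
        (by rw [Category.assoc, h₂, Category.comp_id])
      rwa [Scheme.Hom.comp_apply, Groth.Agent.Lib.Helper7.HensSection.specMap_residue_apply] at this
  have hO : O = ⊤ := IsLocalRing.closed_point_mem_iff.mp hcO
  intro z
  have : z ∈ O := by rw [hO]; trivial
  exact this

variable (R : Type u) [CommRing R] (G : Over (Spec (CommRingCat.of R))) [GrpObj G]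
  [IsCommMonObj G] [Smooth G.hom] (N : ℕ) (hN : IsUnit (N : R))

include hN in
/-- **Torsion prime to the residue characteristics injects into the special fibre.** -/
theorem eq_one_of_pow_eq_one [IsLocalRing R]
    (x : Over.mk (𝟙 (Spec (CommRingCat.of R))) ⟶ G) (hx : x ^ N = 1)
    (hcl : x.left (IsLocalRing.closedPoint R) = (η[G]).left (IsLocalRing.closedPoint R)) :
    x = 1 := by
  haveI : IsLocalRing ↑(CommRingCat.of R) := ‹IsLocalRing R›
  haveI : Etale (pullback.snd (powHom G N).left (η[G]).left) := etale_kerPow G N hN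
  have hone : ∀ y : Over.mk (𝟙 (Spec (CommRingCat.of R))) ⟶ G, y ^ N = 1 →
      y.left ≫ (powHom G N).left = 𝟙 (Spec (CommRingCat.of R)) ≫ (η[G]).left := by
    intro y hy
    rw [← Over.comp_left, comp_powHom, hy, one_left]
    rfl
  have h1x := hone x hx
  have h11 := hone (1 : Over.mk (𝟙 (Spec (CommRingCat.of R))) ⟶ G) (one_pow N)
  have hpt : (pullback.lift x.left (𝟙 (Spec (CommRingCat.of R))) h1x) (IsLocalRing.closedPoint R) =
      (pullback.lift (1 : Over.mk (𝟙 (Spec (CommRingCat.of R))) ⟶ G).left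
        (𝟙 (Spec (CommRingCat.of R))) h11) (IsLocalRing.closedPoint R) := by
    haveI : Mono (η[G]).left := inferInstance
    apply (pullback.fst (powHom G N).left (η[G]).left).injective
    have e1 : (pullback.fst (powHom G N).left (η[G]).left)
        ((pullback.lift x.left (𝟙 (Spec (CommRingCat.of R))) h1x) (IsLocalRing.closedPoint R)) =
        x.left (IsLocalRing.closedPoint R) := by
      rw [← Scheme.Hom.comp_apply, pullback.lift_fst]
    have e2 : (pullback.fst (powHom G N).left (η[G]).left)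
        ((pullback.lift (1 : Over.mk (𝟙 (Spec (CommRingCat.of R))) ⟶ G).left
          (𝟙 (Spec (CommRingCat.of R))) h11) (IsLocalRing.closedPoint R)) =
        (1 : Over.mk (𝟙 (Spec (CommRingCat.of R))) ⟶ G).left (IsLocalRing.closedPoint R) := by
      rw [← Scheme.Hom.comp_apply, pullback.lift_fst]
    rw [e1, e2, one_left]
    exact hcl
  have key := section_ext_of_closedPoint R (pullback.snd (powHom G N).left (η[G]).left)
    (pullback.lift x.left (𝟙 (Spec (CommRingCat.of R))) h1x)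
    (pullback.lift (1 : Over.mk (𝟙 (Spec (CommRingCat.of R))) ⟶ G).left
      (𝟙 (Spec (CommRingCat.of R))) h11)
    (pullback.lift_snd _ _ _) (pullback.lift_snd _ _ _) hpt
  have := congrArg (fun k => k ≫ pullback.fst (powHom G N).left (η[G]).left) key
  simp only [pullback.lift_fst] at this
  exact hom_ext_of_left _ _ this

include hN in
/-- **Hensel for torsion points**: over a henselian local ring, `N`-torsion sections of a smooth
commutative group scheme correspond bijectively to `N`-torsion points of the special fibre when `N`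
is a unit. -/
theorem existsUnique_torsion_lift [HenselianLocalRing R]
    (τ : Over.mk (Spec.map (CommRingCat.ofHom (IsLocalRing.residue R))) ⟶ G) (hτ : τ ^ N = 1) :
    ∃! σ : Over.mk (𝟙 (Spec (CommRingCat.of R))) ⟶ G, σ ^ N = 1 ∧
      Over.homMk (Spec.map (CommRingCat.ofHom (IsLocalRing.residue R))) (Category.comp_id _) ≫ σ
        = τ := by
  haveI : IsLocalRing ↑(CommRingCat.of R) := (inferInstance : IsLocalRing R)
  haveI : Etale (pullback.snd (powHom G N).left (η[G]).left) := etale_kerPow G N hN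
  have ht0 : τ.left ≫ (powHom G N).left =
      Spec.map (CommRingCat.ofHom (IsLocalRing.residue R)) ≫ (η[G]).left := by
    rw [← Over.comp_left, comp_powHom, hτ, one_left]
    rfl
  obtain ⟨s, ⟨hs1, hs2⟩, huniq⟩ := Groth.Agent.Lib.Helper7.HensSection.existsUnique_section_of_point R
    (pullback.snd (powHom G N).left (η[G]).left)
    (pullback.lift τ.left (Spec.map (CommRingCat.ofHom (IsLocalRing.residue R))) ht0)
    (pullback.lift_snd _ _ _)
  have hw : (s ≫ pullback.fst (powHom G N).left (η[G]).left) ≫ G.hom =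
      (Over.mk (𝟙 (Spec (CommRingCat.of R)))).hom := by
    rw [Category.assoc, kerPow_fst_hom, hs1]
    rfl
  obtain ⟨σ, hσ⟩ : ∃ σ : Over.mk (𝟙 (Spec (CommRingCat.of R))) ⟶ G,
      σ.left = s ≫ pullback.fst (powHom G N).left (η[G]).left := ⟨Over.homMk _ hw, rfl⟩
  have hone : (1 : Over.mk (𝟙 (Spec (CommRingCat.of R))) ⟶ G).left = (η[G]).left := by
    rw [one_left]
    exact Category.id_comp _
  refine ⟨σ, ⟨?_, ?_⟩, ?_⟩
  · rw [← comp_powHom]
    apply hom_ext_of_left
    rw [Over.comp_left, hσ, Category.assoc, pullback.condition, ← Category.assoc, hs1, hone]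
    exact Category.id_comp _
  · apply hom_ext_of_left
    rw [Over.comp_left, hσ]
    change Spec.map (CommRingCat.ofHom (IsLocalRing.residue R)) ≫ s ≫ _ = τ.left
    rw [← Category.assoc, hs2, pullback.lift_fst]
  · rintro σ' ⟨hσ'1, hσ'2⟩
    have hl : σ'.left ≫ (powHom G N).left = 𝟙 _ ≫ (η[G]).left := by
      rw [← Over.comp_left, comp_powHom, hσ'1, hone, Category.id_comp]
    have := huniq (pullback.lift σ'.left (𝟙 _) hl) ⟨pullback.lift_snd _ _ _, by
      apply pullback.hom_ext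
      · rw [Category.assoc, pullback.lift_fst, pullback.lift_fst, ← hσ'2]
        rfl
      · rw [Category.assoc, pullback.lift_snd, pullback.lift_snd, Category.comp_id]⟩
    apply hom_ext_of_left
    rw [hσ, ← this, pullback.lift_fst]

end hensel

end Groth.Agent.Lib.Helper26.PowEtale
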