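import Mathlib
import Groth.Agent.Lib.Helper26.AbSchPow

/-!
# Multiplication by `d` on an abelian variety is étale iff `d ≠ 0` in the base field (helper26)
-/

set_option autoImplicit false
universe u
open CategoryTheory CategoryTheory.Limits AlgebraicGeometry MonoidalCategory
  CartesianMonoidalCategory MonObj GrpObj

namespace Groth.Agent.Lib.Helper26.AbVarPow

open Groth.Agent.Lib.Helper26.PowEtale

variable {K : Type u} [Field K] (A : Over (Spec (CommRingCat.of K))) [GrpObj A]

/-- if `d = 0` in `K` and `[d]` is étale on a group scheme `A` over `K` whose unit section is a closed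
map and whose underlying space is irreducible, then `A` is a point -/
theorem subsingleton_of_etale_zpow_of_eq_zero [LocallyOfFiniteType A.hom] [IsSeparated A.hom]
    [IrreducibleSpace A.left] (d : ℤ) (hd : (d : K) = 0) (het : Etale ((𝟙 A) ^ d).left) :
    Subsingleton A.left := by
  haveI : IsLocalRing ↑(CommRingCat.of K) := inferInstanceAs (IsLocalRing K)
  obtain ⟨ch⟩ := nonempty_chart A
  haveI := ch.hU
  obtain ⟨α, hα⟩ : ∃ α : CommRingCat.of K ⟶ ch.A, α = Spec.preimage (ch.jU ≫ A.hom) := ⟨_, rfl⟩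
  have hαε : α ≫ ch.ε = 𝟙 _ := by rw [hα]; exact alpha_comp_eps ch
  have hαε' : ∀ x, ch.ε.hom (α.hom x) = x := fun x => by
    have := congrArg (fun k => k.hom x) hαε
    simpa using this
  obtain ⟨m, hm⟩ : ∃ m : Ideal ch.A, m = RingHom.ker ch.ε.hom := ⟨_, rfl⟩
  obtain ⟨q, hq⟩ : ∃ q : ch.A →+* (ch.A ⧸ m ^ 2), q = Ideal.Quotient.mk (m ^ 2) := ⟨_, rfl⟩
  obtain ⟨I, hIdef⟩ : ∃ I : Ideal (ch.A ⧸ m ^ 2), I = m.map q := ⟨_, rfl⟩
  have hI : I ^ 2 = ⊥ := by
    rw [hIdef, ← Ideal.map_pow, hq, Ideal.map_quotient_self]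
  obtain ⟨β, hβ⟩ : ∃ β : CommRingCat.of K ⟶ CommRingCat.of (ch.A ⧸ m ^ 2),
      β = α ≫ CommRingCat.ofHom q := ⟨_, rfl⟩
  obtain ⟨φ, hφ⟩ : ∃ φ : ch.A ⟶ CommRingCat.of (ch.A ⧸ m ^ 2), φ = CommRingCat.ofHom q := ⟨_, rfl⟩
  have h1 : Spec.preimage (ch.jU ≫ A.hom) ≫ φ = β := by rw [← hα, hβ, hφ]
  have hmem : ∀ a : ch.A, a - α.hom (ch.ε.hom a) ∈ m := by
    intro a
    rw [hm, RingHom.mem_ker, map_sub, hαε', sub_self]
  have h2 : φ ≫ CommRingCat.ofHom (Ideal.Quotient.mk I) =
      ch.ε ≫ β ≫ CommRingCat.ofHom (Ideal.Quotient.mk I) := by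
    ext a
    simp only [CommRingCat.hom_comp, CommRingCat.hom_ofHom, RingHom.comp_apply, hβ, hφ]
    rw [Ideal.Quotient.eq, ← map_sub, hIdef]
    exact Ideal.mem_map_of_mem q (hmem a)
  obtain ⟨g, hg1, hg2⟩ := exists_of_hom ch I β φ h1 h2
  -- powers of `g` killed by the characteristic
  have hpow : ∀ n : ℕ, (n : K) = 0 → g ^ n = 1 := by
    intro n hn
    have hgn : incl I β ≫ g ^ n = 1 := by rw [MonObj.comp_pow, hg1, one_pow]
    obtain ⟨ψ, eψ, -⟩ := exists_phi ch I hI β (g ^ n) hgn
    have hnC : (n : ch.A ⧸ m ^ 2) = 0 := by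
      have := congrArg β.hom hn
      simpa using this
    have hp := phi_pow ch I hI β g hg1 φ hg2 n ψ eψ
    have hψ : ψ = ch.ε ≫ β := by
      ext a
      rw [hp a, hnC, zero_mul, add_zero]
    apply hom_ext_of_left
    rw [← eψ, hψ, phi_one]
  have hgd : g ^ d = 1 := by
    obtain ⟨n, rfl | rfl⟩ := Int.eq_nat_or_neg d
    · rw [zpow_natCast]
      exact hpow n (by simpa using hd)
    · rw [zpow_neg, zpow_natCast, hpow n (by simpa using hd), inv_one]
  -- unique lifting
  have hfe : MoreMor.IsFormallyEtaleHom ((𝟙 A) ^ d).left :=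
    ((Groth.Agent.S1489.result _).1 het).2
  have hu1 : ∀ x : TC β ⟶ A, x.left ≫ ((𝟙 A) ^ d).left = (x ^ d).left := by
    intro x
    rw [← Over.comp_left, GrpObj.comp_zpow, Category.comp_id]
  have hab : Spec.map (CommRingCat.ofHom (Ideal.Quotient.mk I)) ≫ (1 : TC β ⟶ A).left =
      (Spec.map (CommRingCat.ofHom (Ideal.Quotient.mk I)) ≫ (1 : TC β ⟶ A).left) ≫
        ((𝟙 A) ^ d).left := by
    rw [Category.assoc, hu1, one_zpow]
  obtain ⟨l, -, hl⟩ := hfe _ I hI _ _ hab
  have e1 := hl g.left ⟨by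
    have := congrArg (fun k => k.left) hg1
    have h3 := congrArg (fun k => k.left) (MonObj.comp_one (incl I β) (M := A))
    simp only [Over.comp_left, Over.homMk_left] at this h3
    rw [this, h3], by rw [hu1, hgd]⟩
  have e2 := hl (1 : TC β ⟶ A).left ⟨rfl, by rw [hu1, one_zpow]⟩
  have hg : φ = ch.ε ≫ β := by
    apply factor_unique ch.jU
    rw [hg2, e1, ← e2, phi_one]
  -- the maximal ideal is idempotent
  have hle : m ≤ m ^ 2 := by
    intro a ha
    have h3 := congrArg (fun k => k.hom a) hg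
    simp only [hφ, hβ, CommRingCat.hom_comp, CommRingCat.hom_ofHom, RingHom.comp_apply] at h3
    rw [hm, RingHom.mem_ker] at ha
    rw [ha, map_zero, map_zero, hq, Ideal.Quotient.eq_zero_iff_mem] at h3
    exact h3
  have hidem : IsIdempotentElem m := by
    change m * m = m
    rw [← pow_two]
    exact le_antisymm (Ideal.pow_le_self two_ne_zero) hle
  haveI hLN : IsLocallyNoetherian A.left := LocallyOfFiniteType.isLocallyNoetherian A.hom
  haveI : IsLocallyNoetherian (Spec ch.A) := isLocallyNoetherian_of_isOpenImmersion ch.jU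
  haveI : IsNoetherianRing ch.A := isLocallyNoetherian_Spec.mp inferInstance
  obtain ⟨e, he, hme⟩ := (Ideal.isIdempotentElem_iff_of_fg m (IsNoetherian.noetherian m)).mp hidem
  have hsurj : Function.Surjective ch.ε.hom := fun x => ⟨α.hom x, hαε' x⟩
  haveI hmax : m.IsMaximal := by rw [hm]; exact RingHom.ker_isMaximal_of_surjective _ hsurj
  let pm : PrimeSpectrum ch.A := ⟨m, hmax.isPrime⟩
  have hopen : IsOpen ({pm} : Set (PrimeSpectrum ch.A)) := by
    have h4 : ({pm} : Set (PrimeSpectrum ch.A)) = PrimeSpectrum.zeroLocus {e} := by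
      ext p
      simp only [Set.mem_singleton_iff, PrimeSpectrum.mem_zeroLocus, Set.singleton_subset_iff,
        SetLike.mem_coe]
      constructor
      · rintro rfl
        change e ∈ m
        rw [hme]
        exact Ideal.mem_span_singleton_self e
      · intro hp
        have hle' : m ≤ p.asIdeal := by
          rw [hme, Ideal.span_singleton_le_iff_mem]
          exact hp
        exact PrimeSpectrum.ext (hmax.eq_of_le p.2.ne_top hle').symm
    rw [h4, ← PrimeSpectrum.basicOpen_eq_zeroLocus_of_mul_add (1 - e) e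
      (by rw [sub_mul, _root_.one_mul, he.eq, sub_self]) (by ring)]
    exact (PrimeSpectrum.basicOpen (1 - e)).isOpen
  -- the unit point
  obtain ⟨pt⟩ : Nonempty ↥(Spec (CommRingCat.of K)) := inferInstance
  have hpt : (Spec.map ch.ε) pt = pm := by
    apply PrimeSpectrum.ext
    change Ideal.comap ch.ε.hom pt.asIdeal = m
    have : pt.asIdeal = ⊥ := by
      have h5 : pt.asIdeal.IsMaximal ∨ True := Or.inr trivial
      exact (Ideal.eq_bot_or_top pt.asIdeal).resolve_right pt.2.ne_top
    rw [this, hm]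
    rfl
  obtain ⟨e₀, he₀⟩ : ∃ e₀ : A.left, e₀ = ch.jU pm := ⟨_, rfl⟩
  have hη : (η[A]).left pt = e₀ := by
    rw [he₀, ← hpt, ← Scheme.Hom.comp_apply, ch.hε]
  have hopen' : IsOpen ({e₀} : Set A.left) := by
    have : ({e₀} : Set A.left) = ch.jU '' {pm} := by
      rw [he₀]; exact (Set.image_singleton).symm
    rw [this]
    exact ch.jU.isOpenEmbedding.isOpenMap _ hopen
  have hdense : Dense ({e₀} : Set A.left) := hopen'.dense (Set.singleton_nonempty _)
  have hclosed : IsClosed ({e₀} : Set A.left) := by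
    haveI : IsProper ((η[A]).left ≫ A.hom) := by
      rw [Over.w η[A]]
      exact inferInstanceAs (IsProper (𝟙 (Spec (CommRingCat.of K))))
    haveI : IsProper (η[A]).left := IsProper.of_comp (η[A]).left A.hom
    have h6 := (η[A]).left.isClosedMap _ (isClosed_singleton (x := pt))
    rwa [Set.image_singleton, hη] at h6
  have huniv : ({e₀} : Set A.left) = Set.univ := by
    rw [← hclosed.closure_eq]
    exact hdense.closure_eq
  refine ⟨fun x y => ?_⟩
  have hx : x ∈ ({e₀} : Set A.left) := by rw [huniv]; trivial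
  have hy : y ∈ ({e₀} : Set A.left) := by rw [huniv]; trivial
  rw [Set.mem_singleton_iff] at hx hy
  rw [hx, hy]

end Groth.Agent.Lib.Helper26.AbVarPow
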