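import Groth.Prelude.Def_DTen4
import Groth.Agent.Lib.Helper26.KProjQ
import Groth.Agent.Lib.Helper32.LBC

/-!
# The derived tensor products of `Def_DTen`/`Def_DTen4` at K-projective complexes (helper26)
-/

set_option autoImplicit false

universe u

open CategoryTheory CategoryTheory.Limits MonoidalCategory
attribute [local instance] HasDerivedCategory.standard

namespace Groth.Agent.Lib.Helper26.DTenKProj

open DTen Groth.Agent.Lib.Helper26.KProjQ Groth.Agent.Lib.Helper26.DerivedAt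

lemma hasKProjRes (R : Type u) [Ring R] : HasKProjRes (ModuleCat.{u} R) :=
  fun K => Groth.Agent.Lib.Helper32.LBC.hasKProjRes R K

section Tensor

variable (A : Type u) [CommRing A]

lemma nonempty_homotopy_tensorHom {K K' L L' : DRing.Cx A} (f f' : K ⟶ K') (g g' : L ⟶ L')
    (hf : Nonempty (Homotopy f f')) (hg : Nonempty (Homotopy g g')) :
    Nonempty (Homotopy (f ⊗ₘ g) (f' ⊗ₘ g')) := by
  obtain ⟨hf⟩ := hf
  obtain ⟨hg⟩ := hg
  exact ⟨(HomologicalComplex.mapBifunctorMapHomotopy₁ hf g (curriedTensor (ModuleCat.{u} A))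
      (ComplexShape.up ℤ)).trans
    (HomologicalComplex.mapBifunctorMapHomotopy₂ f' hg (curriedTensor (ModuleCat.{u} A))
      (ComplexShape.up ℤ))⟩

lemma respectsHomotopy₂_tensorT : RespectsHomotopy₂ (tensorT A) := by
  rintro ⟨K, L⟩ ⟨K', L'⟩ ⟨f, g⟩ ⟨f', g'⟩ hf hg
  have := nonempty_homotopy_tensorHom A f f' g g' hf hg
  have e1 : (tensorT A).map ((f, g) : (K, L) ⟶ (K', L')) = f ⊗ₘ g := by
    dsimp [tensorT]
    rw [MonoidalCategory.tensorHom_def]
  have e2 : (tensorT A).map ((f', g') : (K, L) ⟶ (K', L')) = f' ⊗ₘ g' := by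
    dsimp [tensorT]
    rw [MonoidalCategory.tensorHom_def]
  rw [e1, e2]
  exact this

/-- The counit `QP ⊗^L QP' ⟶ Q(P ⊗ P')` is an isomorphism for K-projective `P`, `P'`. -/
lemma isIso_ε [HasLTen A] (P P' : DRing.Cx A) [P.IsKProjective] [P'.IsKProjective] :
    IsIso ((ε A).app (P, P')) :=
  isIso_counit_pair (hasKProjRes A) (hasKProjRes A) (respectsHomotopy₂_tensorT A) (LTen₂ A) (ε A) P P'

end Tensor

section Mix

variable {R A : Type u} [CommRing R] [CommRing A] (φ : R →+* A)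

lemma nonempty_homotopy_extCx {K K' : DRing.Cx R} (f f' : K ⟶ K') (hf : Nonempty (Homotopy f f')) :
    Nonempty (Homotopy ((extCx φ).map f) ((extCx φ).map f')) := by
  obtain ⟨hf⟩ := hf
  exact ⟨(ModuleCat.extendScalars.{u, u, u} φ).mapHomotopy hf⟩

lemma respectsHomotopy₂_mixT : RespectsHomotopy₂ (mixT φ) := by
  rintro ⟨K, L⟩ ⟨K', L'⟩ ⟨f, g⟩ ⟨f', g'⟩ hf hg
  exact respectsHomotopy₂_tensorT A
    (X := ((extCx φ).obj K, L)) (Y := ((extCx φ).obj K', L'))
    ((extCx φ).map f, g) ((extCx φ).map f', g') (nonempty_homotopy_extCx φ f f' hf) hg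

/-- The counit of the mixed derived tensor product is an isomorphism at K-projective pairs. -/
lemma isIso_εMix [HasLTenMix φ] (P : DRing.Cx R) (P' : DRing.Cx A) [P.IsKProjective]
    [P'.IsKProjective] : IsIso ((εMix φ).app (P, P')) :=
  isIso_counit_pair (hasKProjRes R) (hasKProjRes A) (respectsHomotopy₂_mixT φ) (LTenMix φ) (εMix φ) P P'

end Mix

end Groth.Agent.Lib.Helper26.DTenKProj
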