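import Groth.Prelude.Def_DTen4
import Groth.Agent.Lib.Helper26.DTenKProj
import Groth.Agent.Lib.Helper26.AdjKProj

/-!
# Derived base change and the splitting map at K-projective complexes (helper26)

* `isKProjective_extCx` : termwise extension of scalars preserves K-projective complexes.
* `isIso_baseCmp` : `(QP) ⊗^L_R A ⟶ Q(P ⊗_R A)` is an isomorphism for `P` K-projective.
* `isIso_split` : `(E ⊗^L_R A) ⊗^L_A N ⟶ E ⊗^L_R N` is an isomorphism.
-/

set_option autoImplicit false

universe u

open CategoryTheory CategoryTheory.Limits MonoidalCategory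
attribute [local instance] HasDerivedCategory.standard

namespace Groth.Agent.Lib.Helper26.DTenSplit

open DTen Groth.Agent.Lib.Helper26.KProjQ Groth.Agent.Lib.Helper26.DTenKProj
  Groth.Agent.Lib.Helper26.AdjKProj

variable {R A : Type u} [CommRing R] [CommRing A] (φ : R →+* A)

lemma isKProjective_extCx (P : DRing.Cx R) [P.IsKProjective] :
    CochainComplex.IsKProjective ((extCx φ).obj P) :=
  isKProjective_map (ModuleCat.extendRestrictScalarsAdj.{u, u, u} φ) P

lemma unitCx_app_eq (P : DRing.Cx R) :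
    (unitCx φ).app P =
      (Groth.Agent.Lib.Helper6.DerivedAdj.unitC (ModuleCat.extendRestrictScalarsAdj.{u, u, u} φ)
        (ComplexShape.up ℤ)).app P := by
  ext i
  rfl

lemma homEquiv_baseCmp_comp [HasLBase φ] (P : DRing.Cx R) (M : Dual.D A)
    (x : DerivedCategory.Q.obj ((extCx φ).obj P) ⟶ M) :
    (baseAdj φ).homEquiv _ _ ((baseCmp φ).app P ≫ x) =
      adjunctD (ModuleCat.extendRestrictScalarsAdj.{u, u, u} φ) P M x := by
  rw [Adjunction.homEquiv_unit, Functor.map_comp, ← Category.assoc, baseCmp_fac]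
  dsimp only [adjunctD, baseγ]
  rw [unitCx_app_eq, Category.assoc]

/-- Derived base change is computed termwise on K-projective complexes. -/
lemma isIso_baseCmp [HasLBase φ] (P : DRing.Cx R) [P.IsKProjective] :
    IsIso ((baseCmp φ).app P) := by
  apply isIso_of_coyoneda_map_bijective
  intro M
  have h := bijective_adjunctD (ModuleCat.extendRestrictScalarsAdj.{u, u, u} φ) P M
  have h1 : adjunctD (ModuleCat.extendRestrictScalarsAdj.{u, u, u} φ) P M =
      (baseAdj φ).homEquiv _ _ ∘ (fun x => (baseCmp φ).app P ≫ x) := by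
    funext x
    exact (homEquiv_baseCmp_comp φ P M x).symm
  rw [h1] at h
  exact (Function.Bijective.of_comp_iff' ((baseAdj φ).homEquiv _ _).bijective _).1 h

lemma isIso_split_Q [HasLTen A] [HasLBase φ] [HasLTenMix φ] (P : DRing.Cx R) (P' : DRing.Cx A)
    [P.IsKProjective] [P'.IsKProjective] :
    IsIso ((split φ).app (DerivedCategory.Q.obj P, DerivedCategory.Q.obj P')) := by
  have hfac := split_fac φ (P, P')
  have := isKProjective_extCx φ P
  have h1 : IsIso ((εMix φ).app (P, P')) := isIso_εMix φ P P'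
  have h2 : IsIso ((ε A).app ((extCx φ).obj P, P')) := isIso_ε A _ _
  have h3 : IsIso ((baseCmp φ).app P) := isIso_baseCmp φ P
  have h4 : IsIso (Prod.mkHom ((baseCmp φ).app P) (𝟙 (DerivedCategory.Q.obj P'))) := by
    rw [isIso_prod_iff]
    exact ⟨h3, inferInstance⟩
  have h5 : IsIso ((splitβ φ).app (P, P')) := by
    dsimp only [splitβ]
    infer_instance
  have h6 : (split φ).app (DerivedCategory.Q.obj P, DerivedCategory.Q.obj P') =
      (splitβ φ).app (P, P') ≫ inv ((εMix φ).app (P, P')) := by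
    rw [← hfac, Category.assoc, IsIso.hom_inv_id, Category.comp_id]
    rfl
  rw [h6]
  infer_instance

/-- `(E ⊗^L_R A) ⊗^L_A N ⟶ E ⊗^L_R N` is an isomorphism. -/
theorem isIso_split [HasLTen A] [HasLBase φ] [HasLTenMix φ] (E : Dual.D R) (N : Dual.D A) :
    IsIso ((split φ).app (E, N)) := by
  obtain ⟨P, hP, ⟨e⟩⟩ := Groth.Agent.Lib.Helper32.LBC.exists_kproj_iso E
  obtain ⟨P', hP', ⟨e'⟩⟩ := Groth.Agent.Lib.Helper32.LBC.exists_kproj_iso N
  have := isIso_split_Q φ P P'
  exact (NatTrans.isIso_app_iff_of_iso (split φ) (Iso.prod e e')).1 this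

end Groth.Agent.Lib.Helper26.DTenSplit
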