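import Groth.Prelude.Def_DTen4
import Groth.Agent.Lib.Helper26.DTenSplit
import Groth.Agent.Lib.Helper28.TensCx6
import Groth.Agent.Lib.Helper28.KProjFlat
import Groth.Agent.Lib.Helper32.RDPlus
import Groth.Agent.Lib.Helper32.LBC

/-!
# Derived base change is computed termwise on K-flat complexes (helper26)

* `acyclic_extCx` : an acyclic K-flat complex stays acyclic after termwise extension of scalars.
* `quasiIso_extCx_map` : termwise extension of scalars preserves quasi-isomorphisms between K-flat complexes.
* `isIso_baseCmp_of_isKFlat` : `(QK) ⊗^L_R A ⟶ Q(K ⊗_R A)` is an isomorphism for `K` K-flat.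
-/

set_option autoImplicit false

universe u

open CategoryTheory CategoryTheory.Limits MonoidalCategory
attribute [local instance] HasDerivedCategory.standard

namespace Groth.Agent.Lib.Helper26.BaseCmpKFlat

open DTen Groth.Agent.Lib.Helper28.TensCx

variable {R A : Type u} [CommRing R] [CommRing A] (φ : R →+* A)

/-- An acyclic K-flat complex stays acyclic after termwise extension of scalars. -/
lemma acyclic_extCx (C : DRing.Cx R) (hC : C.Acyclic) (hK : KFlat C) :
    ((extCx φ).obj C).Acyclic := by
  intro q
  let N : ModuleCat.{u} R := (ModuleCat.restrictScalars φ).obj (ModuleCat.of A A)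
  have h := acyclic_single_tensor C hC hK N
  rw [HomologicalComplex.exactAt_iff' _ (q - 1) q (q + 1) (by simp) (by simp),
    ShortComplex.moduleCat_exact_iff]
  intro x hx
  obtain ⟨w, hw⟩ := exact_tensor_of_acyclic_single C N h q x hx
  exact ⟨w, hw⟩

open CochainComplex in
/-- Termwise extension of scalars preserves quasi-isomorphisms between K-flat complexes. -/
lemma quasiIso_extCx_map {P K : DRing.Cx R} (f : P ⟶ K) [hf : QuasiIso f]
    (hP : KFlat P) (hK : KFlat K) : QuasiIso ((extCx φ).map f) := by
  have hcone : KFlat (mappingCone f : DRing.Cx R) :=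
    (kflat_two_out_of_three_distTriang (mappingCone.triangleh f)
      (HomotopyCategory.mappingCone_triangleh_distinguished _)).1 hP hK
  have hac : (mappingCone f : DRing.Cx R).Acyclic := (quasiIso_iff_acyclic_mappingCone f).1 hf
  exact (Groth.Agent.Lib.Helper32.ConeAcyclic.quasiIso_map_iff_acyclic_map_mappingCone
    (ModuleCat.extendScalars.{u, u, u} φ) f).2 (acyclic_extCx φ _ hac hcone)

/-- Derived base change is computed termwise on K-flat complexes. -/
theorem isIso_baseCmp_of_isKFlat [HasLBase φ] (K : DRing.Cx R) (hK : DRing.IsKFlat R K) :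
    IsIso ((baseCmp φ).app K) := by
  obtain ⟨P, f, hP, hf⟩ := Groth.Agent.Lib.Helper32.LBC.hasKProjRes R K
  haveI := hP
  haveI := hf
  have hPflat : KFlat P := Groth.Agent.Lib.Helper28.KProjFlat.kflat_of_isKProjective P
  haveI hq : QuasiIso ((extCx φ).map f) := quasiIso_extCx_map φ f hPflat hK
  have nat := (baseCmp φ).naturality f
  haveI : IsIso ((baseCmp φ).app P) := Groth.Agent.Lib.Helper26.DTenSplit.isIso_baseCmp φ P
  haveI h1 : IsIso (DerivedCategory.Q.map f) := by
    rw [DerivedCategory.isIso_Q_map_iff_quasiIso]; infer_instance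
  haveI h2 : IsIso (DerivedCategory.Q.map ((extCx φ).map f)) := by
    rw [DerivedCategory.isIso_Q_map_iff_quasiIso]; infer_instance
  haveI h3 : IsIso ((DerivedCategory.Q ⋙ LBase φ).map f) := by
    dsimp only [Functor.comp_map]; infer_instance
  haveI h4 : IsIso ((extCx φ ⋙ DerivedCategory.Q).map f) := by
    dsimp only [Functor.comp_map]; infer_instance
  have : (baseCmp φ).app K =
      inv ((DerivedCategory.Q ⋙ LBase φ).map f) ≫ (baseCmp φ).app P ≫
        (extCx φ ⋙ DerivedCategory.Q).map f := by
    rw [← nat, IsIso.inv_hom_id_assoc]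
  rw [this]
  infer_instance

end Groth.Agent.Lib.Helper26.BaseCmpKFlat
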