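import Groth.Prelude.Def_BigSite


/-!
# For a monomorphism `f`, the counit `f_big⁻¹ f_big,* F ⟶ F` on big sites is an isomorphism (helper26)
-/
set_option autoImplicit false
open CategoryTheory CategoryTheory.Limits AlgebraicGeometry Opposite
universe v' u' u

namespace Groth.Agent.Lib.Helper26.BigCounit

instance full_map {X Y : Scheme.{u}} (f : X ⟶ Y) [Mono f] : (Over.map f).Full where
  map_surjective {A B} g := by
    refine ⟨Over.homMk g.left ?_, ?_⟩
    · have := Over.w g
      simp only [Over.map_obj_hom] at this
      rw [← cancel_mono f, Category.assoc, this]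
    · ext
      simp

instance faithful_map {X Y : Scheme.{u}} (f : X ⟶ Y) : (Over.map f).Faithful where
  map_injective {A B} a b h := by
    ext
    exact congrArg (fun k => k.left) h

theorem isIso_counit (K : Precoverage Scheme.{u}) {X Y : Scheme.{u}} (f : X ⟶ Y) [Mono f]
    (A : Type u') [Category.{v'} A] (F : Sheaf (QuotSh.J K X) A) :
    IsIso ((BigSite.bigAdj K f A).counit.app F) := by
  have : IsIso ((sheafToPresheaf _ _).map ((BigSite.bigAdj K f A).counit.app F)) := by
    rw [NatTrans.isIso_iff_isIso_app]
    intro T
    change IsIso (((BigSite.bigAdj K f A).counit.app F).hom.app T)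
    rw [Adjunction.sheafPushforwardContinuous_counit_app_hom_app]
    have h1 : IsIso ((Over.mapPullbackAdj f).unit.app (unop T)) := inferInstance
    have h2 : IsIso ((Over.mapPullbackAdj f).unit.app (unop T)).op := inferInstance
    exact Functor.map_isIso _ _
  exact isIso_of_reflects_iso _ (sheafToPresheaf _ _)

end Groth.Agent.Lib.Helper26.BigCounit
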