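import Groth.Agent.Lib.Helper26.ExactSeqTorsor
import Mathlib.Tactic.Group

/-!
# Extensions of group objects: centrality and commutativity criteria (helper26)

`u : G ⟶ E`, `v : E ⟶ P` an "exact sequence" of group objects in a braided cartesian monoidal
category such that `P` is universally the quotient of `E` by `G` (`IsUnivQuotHom`).
-/

set_option autoImplicit false
open CategoryTheory CategoryTheory.Limits MonoidalCategory
open MonObj CartesianMonoidalCategory SemiCartesianMonoidalCategory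
universe v₁ u₁

namespace Groth.Agent.Lib.Helper26.CentralExt

open Groth.Agent.Lib.Helper26.ExactSeqTorsor

variable {𝒮 : Type u₁} [Category.{v₁} 𝒮] [CartesianMonoidalCategory 𝒮]
variable {G E P : 𝒮} [GrpObj G] [GrpObj E] [GrpObj P]
  (u : G ⟶ E) (v : E ⟶ P) [IsMonHom u] [IsMonHom v]
  (huv : u ≫ v = 1) (hEx : IsPullback (fst E G) ((E ◁ u) ≫ μ[E]) v v)

/-- `P` is universally the quotient of `E` by right translations through `u`. -/
def IsUnivQuotHom : Prop :=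
  ∀ (T Z : 𝒮) (m : E ⊗ T ⟶ Z),
    (∀ (W : 𝒮) (x : W ⟶ E) (g : W ⟶ G) (t : W ⟶ T), lift (x * (g ≫ u)) t ≫ m = lift x t ≫ m) →
    ∃! r : P ⊗ T ⟶ Z, (v ▷ T) ≫ r = m

omit [GrpObj G] [IsMonHom u] in
lemma lift_whiskerRight {W T : 𝒮} (x : W ⟶ E) (t : W ⟶ T) :
    lift x t ≫ (v ▷ T) = lift (x ≫ v) t := by
  ext <;> simp

include huv in
omit [IsMonHom u] in
lemma mul_u_comp_v {W : 𝒮} (x : W ⟶ E) (g : W ⟶ G) : (x * (g ≫ u)) ≫ v = x ≫ v := by
  rw [MonObj.mul_comp, comp_u_v u v huv, _root_.mul_one]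

include huv in
omit [IsMonHom u] in
lemma epi_whiskerRight (hq : IsUnivQuotHom u v) (T : 𝒮) : Epi (v ▷ T) := by
  refine ⟨fun {Z} r₁ r₂ h => ?_⟩
  obtain ⟨r, -, hr⟩ := hq T Z ((v ▷ T) ≫ r₁) (by
    intro W x g t
    rw [← Category.assoc, ← Category.assoc, lift_whiskerRight, lift_whiskerRight,
      mul_u_comp_v u v huv])
  rw [hr r₁ rfl, hr r₂ h.symm]

include huv in
omit [IsMonHom u] in
lemma epi_v (hq : IsUnivQuotHom u v) : Epi v := by
  have h1 := epi_whiskerRight u v huv hq (𝟙_ 𝒮)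
  have h2 : Epi ((v ▷ 𝟙_ 𝒮) ≫ (ρ_ P).hom) := epi_comp _ _
  rw [rightUnitor_naturality] at h2
  exact epi_of_epi (ρ_ E).hom v

/-- The commutator `x u(g) x⁻¹ u(g)⁻¹`. -/
abbrev comm {W : 𝒮} (x : W ⟶ E) (g : W ⟶ G) : W ⟶ E := x * (g ≫ u) * x⁻¹ * (g ≫ u)⁻¹

omit [GrpObj G] [GrpObj P] [IsMonHom u] in
lemma comp_comm {W W' : 𝒮} (f : W' ⟶ W) (x : W ⟶ E) (g : W ⟶ G) :
    f ≫ comm u x g = comm u (f ≫ x) (f ≫ g) := by
  simp only [comm, MonObj.comp_mul, GrpObj.comp_inv, Category.assoc]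

include huv in
omit [IsMonHom u] in
lemma comm_comp_v {W : 𝒮} (x : W ⟶ E) (g : W ⟶ G) : comm u x g ≫ v = 1 := by
  simp only [comm, MonObj.mul_comp, GrpObj.inv_comp, comp_u_v u v huv]
  group

lemma diff_one_one {W : 𝒮} : diff u v hEx (1 : W ⟶ E) 1 = 1 := by
  symm
  apply eq_diff
  · rw [MonObj.one_comp, _root_.mul_one]
  · rfl

/-- `κ(y) ≫ u = y` for `y` in the kernel of `v`. -/
lemma diff_one_comp {W : 𝒮} (y : W ⟶ E) (hy : y ≫ v = 1) : diff u v hEx 1 y ≫ u = y := by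
  have := mul_diff u v hEx 1 y (by rw [MonObj.one_comp, hy])
  rwa [_root_.one_mul] at this

lemma comp_diff_one {W W' : 𝒮} (f : W' ⟶ W) (y : W ⟶ E) (hy : y ≫ v = 1) :
    f ≫ diff u v hEx 1 y = diff u v hEx 1 (f ≫ y) := by
  rw [comp_diff u v hEx f 1 y (by rw [MonObj.one_comp, hy]), MonObj.comp_one]

section Central

variable [BraidedCategory 𝒮]

omit [GrpObj E] [GrpObj P] in
lemma pt_mul_comm [IsCommMonObj G] {W : 𝒮} (g h : W ⟶ G) : g * h = h * g := by
  have := (isCommMonObj_iff_isMulCommutative G).mp inferInstance W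
  exact mul_comm g h

include huv hEx in
/-- If every map `P ⊗ G ⟶ G` trivial on the axes is trivial, `u(G)` is central in `E`. -/
theorem central [IsCommMonObj G] (hq : IsUnivQuotHom u v)
    (hPG : ∀ f : P ⊗ G ⟶ G, lift (𝟙 P) (toUnit P ≫ η[G]) ≫ f = 1 →
      lift (toUnit G ≫ η[P]) (𝟙 G) ≫ f = 1 → f = 1)
    (T : 𝒮) (g : T ⟶ G) (x : T ⟶ E) : (g ≫ u) * x = x * (g ≫ u) := by
  -- the commutator map
  let c : E ⊗ G ⟶ G := diff u v hEx 1 (comm u (fst E G) (snd E G))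
  have hc : ∀ {W : 𝒮} (x : W ⟶ E) (g : W ⟶ G), lift x g ≫ c = diff u v hEx 1 (comm u x g) := by
    intro W x g
    simp only [c]
    rw [comp_diff_one u v hEx _ _ (comm_comp_v u v huv _ _), comp_comm, lift_fst, lift_snd]
  have hcu : ∀ {W : 𝒮} (x : W ⟶ E) (g : W ⟶ G), (lift x g ≫ c) ≫ u = comm u x g := by
    intro W x g
    rw [hc, diff_one_comp u v hEx _ (comm_comp_v u v huv _ _)]
  obtain ⟨f, hf, -⟩ := hq G G c (by
    intro W x h g
    apply u_cancel u v hEx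
    rw [hcu, hcu]
    have h1 : (h ≫ u) * (g ≫ u) * (h ≫ u)⁻¹ = g ≫ u := by
      rw [← GrpObj.inv_comp, ← MonObj.mul_comp, ← MonObj.mul_comp, pt_mul_comm h g,
        mul_inv_cancel_right]
    calc comm u (x * (h ≫ u)) g
        = x * ((h ≫ u) * (g ≫ u) * (h ≫ u)⁻¹) * x⁻¹ * (g ≫ u)⁻¹ := by simp only [comm]; group
      _ = comm u x g := by rw [h1])
  have hv := epi_v u v huv hq
  have hf1 : lift (𝟙 P) (toUnit P ≫ η[G]) ≫ f = 1 := by
    rw [← cancel_epi v, MonObj.comp_one]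
    have e : v ≫ lift (𝟙 P) (toUnit P ≫ η[G]) = lift (𝟙 E) (1 : E ⟶ G) ≫ (v ▷ G) := by
      rw [lift_whiskerRight, comp_lift, Category.id_comp, Category.comp_id, Hom.one_def,
        ← Category.assoc]
      congr 2
      exact toUnit_unique _ _
    rw [← Category.assoc, e, Category.assoc, hf, hc]
    have e2 : comm u (𝟙 E) (1 : E ⟶ G) = 1 := by
      simp only [comm, MonObj.one_comp]
      group
    rw [e2, diff_one_one]
  have hf2 : lift (toUnit G ≫ η[P]) (𝟙 G) ≫ f = 1 := by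
    have e : lift (toUnit G ≫ η[P]) (𝟙 G) = lift (1 : G ⟶ E) (𝟙 G) ≫ (v ▷ G) := by
      rw [lift_whiskerRight, MonObj.one_comp, Hom.one_def]
    rw [e, Category.assoc, hf, hc]
    have e2 : comm u (1 : G ⟶ E) (𝟙 G) = 1 := by
      simp only [comm]
      group
    rw [e2, diff_one_one]
  have hf0 : f = 1 := hPG f hf1 hf2
  have hc1 : comm u x g = 1 := by
    rw [← hcu, ← hf, hf0, MonObj.comp_one, MonObj.comp_one, MonObj.one_comp]
  calc (g ≫ u) * x = (comm u x g)⁻¹ * (x * (g ≫ u)) := by simp only [comm]; group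
    _ = x * (g ≫ u) := by rw [hc1, inv_one, _root_.one_mul]

/-- The commutator `x y x⁻¹ y⁻¹`. -/
abbrev comm₂ {W : 𝒮} (x y : W ⟶ E) : W ⟶ E := x * y * x⁻¹ * y⁻¹

omit [GrpObj G] [GrpObj P] [BraidedCategory 𝒮] in
lemma comp_comm₂ {W W' : 𝒮} (f : W' ⟶ W) (x y : W ⟶ E) :
    f ≫ comm₂ x y = comm₂ (f ≫ x) (f ≫ y) := by
  simp only [comm₂, MonObj.comp_mul, GrpObj.comp_inv]

omit [GrpObj G] in
lemma comm₂_comp_v [IsCommMonObj P] {W : 𝒮} (x y : W ⟶ E) : comm₂ x y ≫ v = 1 := by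
  simp only [comm₂, MonObj.mul_comp, GrpObj.inv_comp]
  rw [pt_mul_comm (x ≫ v) (y ≫ v)]
  group

include huv hEx in
/-- If `u(G)` is central, `P` is commutative and every map `P ⊗ P ⟶ G` trivial on the axes is
trivial, then `E` is commutative. -/
theorem isCommMonObj_of_central [IsCommMonObj P] (hq : IsUnivQuotHom u v)
    (hcent : ∀ (T : 𝒮) (g : T ⟶ G) (x : T ⟶ E), (g ≫ u) * x = x * (g ≫ u))
    (hPP : ∀ f : P ⊗ P ⟶ G, lift (𝟙 P) (toUnit P ≫ η[P]) ≫ f = 1 →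
      lift (toUnit P ≫ η[P]) (𝟙 P) ≫ f = 1 → f = 1) : IsCommMonObj E := by
  let c : E ⊗ E ⟶ G := diff u v hEx 1 (comm₂ (fst E E) (snd E E))
  have hc : ∀ {W : 𝒮} (x y : W ⟶ E), lift x y ≫ c = diff u v hEx 1 (comm₂ x y) := by
    intro W x y
    simp only [c]
    rw [comp_diff_one u v hEx _ _ (comm₂_comp_v v _ _), comp_comm₂, lift_fst, lift_snd]
  have hcu : ∀ {W : 𝒮} (x y : W ⟶ E), (lift x y ≫ c) ≫ u = comm₂ x y := by
    intro W x y
    rw [hc, diff_one_comp u v hEx _ (comm₂_comp_v v _ _)]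
  -- invariance of the commutator in each variable
  have hinv1 : ∀ {W : 𝒮} (x y : W ⟶ E) (h : W ⟶ G), comm₂ (x * (h ≫ u)) y = comm₂ x y := by
    intro W x y h
    have h1 : (h ≫ u) * y * (h ≫ u)⁻¹ = y := by
      rw [hcent W h y, mul_inv_cancel_right]
    calc comm₂ (x * (h ≫ u)) y = x * ((h ≫ u) * y * (h ≫ u)⁻¹) * x⁻¹ * y⁻¹ := by
          simp only [comm₂]; group
      _ = comm₂ x y := by rw [h1]
  have hinv2 : ∀ {W : 𝒮} (x y : W ⟶ E) (h : W ⟶ G), comm₂ x (y * (h ≫ u)) = comm₂ x y := by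
    intro W x y h
    have h1 : (h ≫ u) * x⁻¹ * (h ≫ u)⁻¹ = x⁻¹ := by
      rw [hcent W h x⁻¹, mul_inv_cancel_right]
    calc comm₂ x (y * (h ≫ u)) = x * y * ((h ≫ u) * x⁻¹ * (h ≫ u)⁻¹) * y⁻¹ := by
          simp only [comm₂]; group
      _ = comm₂ x y := by rw [h1]
  -- descend in the first variable
  obtain ⟨f₁, hf₁, -⟩ := hq E G c (by
    intro W x h y
    apply u_cancel u v hEx
    rw [hcu, hcu, hinv1])
  have hf₁pt : ∀ {W : 𝒮} (x y : W ⟶ E), lift (x ≫ v) y ≫ f₁ = lift x y ≫ c := by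
    intro W x y
    rw [← hf₁, ← Category.assoc, lift_whiskerRight]
  -- `f₁` is invariant in the second variable
  have hf₁inv : ∀ {W : 𝒮} (p : W ⟶ P) (y : W ⟶ E) (h : W ⟶ G),
      lift p (y * (h ≫ u)) ≫ f₁ = lift p y ≫ f₁ := by
    have hAB : (P ◁ (fst E G * (snd E G ≫ u))) ≫ f₁ = (P ◁ fst E G) ≫ f₁ := by
      have := epi_whiskerRight u v huv hq (E ⊗ G)
      rw [← cancel_epi (v ▷ (E ⊗ G)), ← whisker_exchange_assoc, ← whisker_exchange_assoc, hf₁]
      have e1 : ∀ (a : E ⊗ G ⟶ E), (E ◁ a) = lift (fst E (E ⊗ G)) (snd E (E ⊗ G) ≫ a) := by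
        intro a
        ext <;> simp
      rw [e1, e1]
      apply u_cancel u v hEx
      rw [hcu, hcu, MonObj.comp_mul, ← Category.assoc (snd E (E ⊗ G)) (snd E G) u, hinv2]
    intro W p y h
    have e2 : ∀ (a : E ⊗ G ⟶ E), lift p (lift y h) ≫ (P ◁ a) = lift p (lift y h ≫ a) := by
      intro a
      ext <;> simp
    have := congrArg (fun t => lift p (lift y h) ≫ t) hAB
    simp only [← Category.assoc, e2] at this
    rw [MonObj.comp_mul, lift_fst, lift_snd_assoc] at this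
    exact this
  -- descend in the second variable
  obtain ⟨f₂, hf₂, -⟩ := hq P G ((β_ E P).hom ≫ f₁) (by
    intro W y h p
    have e3 : ∀ (y' : W ⟶ E), lift y' p ≫ (β_ E P).hom = lift p y' := by
      intro y'
      ext <;> simp
    rw [← Category.assoc, ← Category.assoc, e3, e3, hf₁inv])
  have hf₂pt : ∀ {W : 𝒮} (x y : W ⟶ E), lift (y ≫ v) (x ≫ v) ≫ f₂ = lift x y ≫ c := by
    intro W x y
    have e3 : lift y (x ≫ v) ≫ (β_ E P).hom = lift (x ≫ v) y := by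
      ext <;> simp
    rw [← lift_whiskerRight, Category.assoc, hf₂, ← Category.assoc, e3, hf₁pt]
  have hv := epi_v u v huv hq
  have hc11 : ∀ {W : 𝒮} (x : W ⟶ E), diff u v hEx 1 (comm₂ x 1) = 1 := by
    intro W x
    have : comm₂ x (1 : W ⟶ E) = 1 := by simp only [comm₂]; group
    rw [this, diff_one_one]
  have hc12 : ∀ {W : 𝒮} (y : W ⟶ E), diff u v hEx 1 (comm₂ 1 y) = 1 := by
    intro W y
    have : comm₂ (1 : W ⟶ E) y = 1 := by simp only [comm₂]; group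
    rw [this, diff_one_one]
  have hone : ∀ {W : 𝒮}, toUnit W ≫ η[P] = (1 : W ⟶ E) ≫ v := by
    intro W
    rw [MonObj.one_comp, Hom.one_def]
  have hf21 : lift (𝟙 P) (toUnit P ≫ η[P]) ≫ f₂ = 1 := by
    rw [← cancel_epi v, MonObj.comp_one, ← Category.assoc, comp_lift, Category.comp_id,
      ← Category.assoc, toUnit_unique (v ≫ toUnit P) (toUnit E), hone]
    have := hf₂pt (1 : E ⟶ E) (𝟙 E)
    rw [Category.id_comp] at this
    rw [this, hc, hc12]
  have hf22 : lift (toUnit P ≫ η[P]) (𝟙 P) ≫ f₂ = 1 := by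
    rw [← cancel_epi v, MonObj.comp_one, ← Category.assoc, comp_lift, Category.comp_id,
      ← Category.assoc, toUnit_unique (v ≫ toUnit P) (toUnit E), hone]
    have := hf₂pt (𝟙 E) (1 : E ⟶ E)
    rw [Category.id_comp] at this
    rw [this, hc, hc11]
  have hf20 : f₂ = 1 := hPP f₂ hf21 hf22
  rw [isCommMonObj_iff_isMulCommutative]
  intro W
  refine ⟨⟨fun x y => ?_⟩⟩
  have hc1 : comm₂ x y = 1 := by
    rw [← hcu, ← hf₂pt, hf20, MonObj.comp_one, MonObj.one_comp]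
  calc x * y = comm₂ x y * (y * x) := by simp only [comm₂]; group
    _ = y * x := by rw [hc1, _root_.one_mul]

end Central

end Groth.Agent.Lib.Helper26.CentralExt
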