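import Groth.Prelude.Def_DescFam
import Mathlib.AlgebraicGeometry.Sites.Fpqc

/-!
# The canonical descent datum functor is fully faithful for fpqc covering families (helper26)
-/

set_option autoImplicit false
open CategoryTheory CategoryTheory.Limits Opposite AlgebraicGeometry
universe u

namespace Groth.Agent.Lib.Helper26.DDFamFF

variable {S : Scheme.{u}} {ι : Type u} {X : ι → Scheme.{u}} (f : ∀ i, X i ⟶ S)

/-- The base change of an fpqc covering family to `U`. -/
lemma snd_mem (hf : Presieve.ofArrows X f ∈ Scheme.fpqcPrecoverage S) (U : Over S) :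
    Presieve.ofArrows (fun i => pullback (f i) U.hom) (fun i => pullback.snd (f i) U.hom) ∈
      Scheme.fpqcPrecoverage U.left :=
  Precoverage.mem_coverings_of_isPullback f hf U.hom _ (fun i => pullback.fst (f i) U.hom)
    (fun i => (IsPullback.of_hasPullback (f i) U.hom).flip)

/-- Gluing morphisms along an fpqc covering family. -/
lemma existsUnique_glue {T : Scheme.{u}} {Y : ι → Scheme.{u}} (p : ∀ i, Y i ⟶ T)
    (hp : Presieve.ofArrows Y p ∈ Scheme.fpqcPrecoverage T) (Z : Scheme.{u})
    (h : ∀ i, Y i ⟶ Z)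
    (hh : ∀ (i j : ι) (W : Scheme.{u}) (gi : W ⟶ Y i) (gj : W ⟶ Y j), gi ≫ p i = gj ≫ p j →
      gi ≫ h i = gj ≫ h j) :
    ∃! g : T ⟶ Z, ∀ i, p i ≫ g = h i := by
  have hsh : Presieve.IsSheaf Scheme.fpqcTopology (yoneda.obj Z) :=
    GrothendieckTopology.Subcanonical.isSheaf_of_isRepresentable _
  have h1 := hsh.isSheafFor_of_mem_precoverage hp
  rw [Presieve.isSheafFor_arrows_iff] at h1
  exact h1 h (fun i j W gi gj hg => hh i j W gi gj hg)

theorem faithful (hf : Presieve.ofArrows X f ∈ Scheme.fpqcPrecoverage S) :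
    (Desc.toDDFam f).Faithful := by
  refine ⟨fun {U U'} g g' hgg' => ?_⟩
  have key : ∀ i, pullback.snd (f i) U.hom ≫ g.left = pullback.snd (f i) U.hom ≫ g'.left := by
    intro i
    have h1 : (((Desc.toDDFam f).map g).hom i).left = (((Desc.toDDFam f).map g').hom i).left := by
      rw [hgg']
    have h3 : ∀ k : U ⟶ U', (((Desc.toDDFam f).map k).hom i).left ≫ pullback.snd (f i) U'.hom =
        pullback.snd (f i) U.hom ≫ k.left := fun k => pullback.lift_snd _ _ _
    rw [← h3 g, ← h3 g', h1]
  obtain ⟨g₀, -, huniq⟩ := existsUnique_glue (fun i => pullback.snd (f i) U.hom) (snd_mem f hf U)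
    U'.left (fun i => pullback.snd (f i) U.hom ≫ g.left) (by
      intro i j W gi gj hg
      rw [← Category.assoc, ← Category.assoc, hg])
  apply Over.OverMorphism.ext
  rw [huniq g.left (fun i => rfl), huniq g'.left (fun i => (key i).symm)]

theorem full (hf : Presieve.ofArrows X f ∈ Scheme.fpqcPrecoverage S) :
    (Desc.toDDFam f).Full := by
  refine ⟨fun {U U'} a => ?_⟩
  -- the local pieces of the morphism
  let α : ∀ i, pullback (f i) U.hom ⟶ pullback (f i) U'.hom := fun i => (a.hom i).left
  have hfst : ∀ i, α i ≫ pullback.fst (f i) U'.hom = pullback.fst (f i) U.hom :=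
    fun i => Over.w (a.hom i)
  obtain ⟨g, hg, -⟩ := existsUnique_glue (fun i => pullback.snd (f i) U.hom) (snd_mem f hf U)
    U'.left (fun i => α i ≫ pullback.snd (f i) U'.hom) (by
      intro i j W yi yj hy
      have hx : (yi ≫ pullback.fst (f i) U.hom) ≫ f i = (yj ≫ pullback.fst (f j) U.hom) ≫ f j := by
        rw [Category.assoc, Category.assoc, pullback.condition, pullback.condition,
          ← Category.assoc, ← Category.assoc, hy]
      let v : Desc.Lifts (((Desc.toDDFam f).obj U).obj i) (yi ≫ pullback.fst (f i) U.hom) :=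
        ⟨yi, rfl⟩
      let w : Desc.Lifts (((Desc.toDDFam f).obj U').obj i) (yi ≫ pullback.fst (f i) U.hom) :=
        ⟨yi ≫ α i, by
          change (yi ≫ α i) ≫ pullback.fst (f i) U'.hom = _
          rw [Category.assoc, hfst]⟩
      have hc : (((Desc.toDDFam f).obj U').φ (yi ≫ pullback.fst (f i) U.hom)
          (yj ≫ pullback.fst (f j) U.hom) hx w).1 =
          (((Desc.toDDFam f).obj U).φ (yi ≫ pullback.fst (f i) U.hom)
          (yj ≫ pullback.fst (f j) U.hom) hx v).1 ≫ α j :=
        a.comm (yi ≫ pullback.fst (f i) U.hom) (yj ≫ pullback.fst (f j) U.hom) hx v w rfl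
      have e1 : (((Desc.toDDFam f).obj U).φ (yi ≫ pullback.fst (f i) U.hom)
          (yj ≫ pullback.fst (f j) U.hom) hx v).1 = yj := by
        apply pullback.hom_ext
        · exact pullback.lift_fst _ _ _
        · exact (pullback.lift_snd _ _ _).trans hy
      have e2 : (((Desc.toDDFam f).obj U').φ (yi ≫ pullback.fst (f i) U.hom)
          (yj ≫ pullback.fst (f j) U.hom) hx w).1 ≫ pullback.snd (f j) U'.hom =
          (yi ≫ α i) ≫ pullback.snd (f i) U'.hom := pullback.lift_snd _ _ _
      calc yi ≫ α i ≫ pullback.snd (f i) U'.hom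
          = (yi ≫ α i) ≫ pullback.snd (f i) U'.hom := (Category.assoc _ _ _).symm
        _ = (yj ≫ α j) ≫ pullback.snd (f j) U'.hom := by rw [← e2, hc, e1]; rfl
        _ = yj ≫ α j ≫ pullback.snd (f j) U'.hom := Category.assoc _ _ _)
  have hgS : g ≫ U'.hom = U.hom := by
    obtain ⟨k, -, huniq⟩ := existsUnique_glue (fun i => pullback.snd (f i) U.hom)
      (snd_mem f hf U) S (fun i => pullback.snd (f i) U.hom ≫ U.hom) (by
        intro i j W gi gj hgg
        rw [← Category.assoc, ← Category.assoc, hgg])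
    rw [huniq (g ≫ U'.hom) (fun i => by
      rw [← Category.assoc, hg i, Category.assoc, ← pullback.condition, ← Category.assoc, hfst,
        pullback.condition]), huniq U.hom (fun i => rfl)]
  refine ⟨Over.homMk g hgS, ?_⟩
  apply Desc.SchDDFam.hom_ext
  funext i
  apply Over.OverMorphism.ext
  refine pullback.hom_ext (f := f i) (g := U'.hom) ?_ ?_
  · refine (pullback.lift_fst _ _ _).trans ?_
    rw [Category.comp_id]
    exact (hfst i).symm
  · refine (pullback.lift_snd _ _ _).trans ?_
    exact hg i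

theorem main (hf : Presieve.ofArrows X f ∈ Scheme.fpqcPrecoverage S) :
    (Desc.toDDFam f).Full ∧ (Desc.toDDFam f).Faithful :=
  ⟨full f hf, faithful f hf⟩

end Groth.Agent.Lib.Helper26.DDFamFF
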