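import Groth.Agent.Lib.Helper26.FlatLocal
import Mathlib.AlgebraicGeometry.Sites.QuasiCompact
import Mathlib.AlgebraicGeometry.Cover.Sigma

/-!
# From fpqc descent along one morphism to locality on the target for the fpqc precoverage (helper26)
-/

set_option autoImplicit false
universe u

namespace Groth.Agent.Lib.Helper26.FpqcLocal

open CategoryTheory Limits AlgebraicGeometry MorphismProperty

lemma snd_comp_iff (P : MorphismProperty Scheme.{u}) [P.RespectsIso] {X Y A B : Scheme.{u}}
    (f : X ⟶ Y) (b : B ⟶ Y) (a : A ⟶ B) :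
    P (pullback.snd f (a ≫ b)) ↔ P (pullback.snd (pullback.snd f b) a) := by
  rw [← P.cancel_left_of_respectsIso (pullbackLeftPullbackSndIso f b a).hom,
    pullbackLeftPullbackSndIso_hom_snd]

lemma snd_comp (P : MorphismProperty Scheme.{u}) [P.IsStableUnderBaseChange] {X Y A B : Scheme.{u}}
    (f : X ⟶ Y) (b : B ⟶ Y) (a : A ⟶ B) (h : P (pullback.snd f b)) :
    P (pullback.snd f (a ≫ b)) := by
  exact (snd_comp_iff P f b a).mpr (P.pullback_snd _ _ h)

/-- A property of morphisms of schemes which is Zariski local on the target, stable under base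
change and descends along fpqc morphisms is local on the target for the fpqc precoverage. -/
theorem isLocalAtTarget_fpqc_of_descendsAlong (P : MorphismProperty Scheme.{u})
    [IsZariskiLocalAtTarget P] [P.IsStableUnderBaseChange]
    [P.DescendsAlong (@Surjective ⊓ @Flat ⊓ @QuasiCompact)] :
    P.IsLocalAtTarget Scheme.fpqcPrecoverage := by
  have : Precoverage.Small.{u} Scheme.fpqcPrecoverage.{u} :=
    inferInstanceAs <| Precoverage.Small.{u} (Scheme.propQCPrecoverage @Flat)
  refine IsLocalAtTarget.mk_of_small.{u} (fun 𝒰 hf i ↦ P.pullback_snd _ _ hf) ?_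
  intro X Y f 𝒰 h
  let 𝒰' : Scheme.Cover.{u} (Scheme.propQCPrecoverage @Flat) Y := 𝒰
  refine IsZariskiLocalAtTarget.of_openCover Y.affineCover fun j ↦ ?_
  let 𝒱₀ : Scheme.Cover.{u} (Scheme.precoverage @Flat) (Y.affineCover.X j) :=
    𝒰'.forgetQc.pullback₁ (Y.affineCover.f j)
  haveI : QuasiCompactCover 𝒱₀.toPreZeroHypercover := by
    change QuasiCompactCover (𝒰'.forgetQc.toPreZeroHypercover.pullback₁ (Y.affineCover.f j))
    infer_instance
  obtain ⟨𝒱, φ, hfin, ho⟩ := QuasiCompactCover.exists_hom.{u} 𝒱₀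
  let q : (∐ 𝒱.cover.X) ⟶ Y.affineCover.X j := Sigma.desc 𝒱.cover.f
  have hq : (@Surjective ⊓ @Flat ⊓ @QuasiCompact : MorphismProperty Scheme.{u}) q := by
    have hmem := 𝒱.cover.sigma.mem₀
    rw [Scheme.presieve₀_mem_precoverage_iff] at hmem
    obtain ⟨hs, hp⟩ := hmem
    have hp' : Flat q := hp PUnit.unit
    refine ⟨⟨⟨fun y ↦ ?_⟩, hp'⟩, ?_⟩
    · obtain ⟨_, z, hz⟩ := hs y
      exact ⟨z, hz⟩
    · haveI : Finite 𝒱.cover.I₀ := hfin
      haveI : IsAffine (∐ 𝒱.cover.X) := by infer_instance
      change QuasiCompact q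
      infer_instance
  refine MorphismProperty.of_pullback_snd_of_descendsAlong
    (f := pullback.snd f (Y.affineCover.f j)) (g := q) hq ?_
  refine IsZariskiLocalAtTarget.of_openCover (AlgebraicGeometry.sigmaOpenCover 𝒱.cover.X) fun k ↦ ?_
  change P (pullback.snd (pullback.snd (pullback.snd f (Y.affineCover.f j)) q)
    ((AlgebraicGeometry.sigmaOpenCover 𝒱.cover.X).f k))
  refine (snd_comp_iff P _ _ _).mp ((snd_comp_iff P _ _ _).mp ?_)
  have e1 : (AlgebraicGeometry.sigmaOpenCover 𝒱.cover.X).f k ≫ q = 𝒱.cover.f k := Sigma.ι_desc _ _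
  have e2 : φ.h₀ k ≫ pullback.fst (Y.affineCover.f j) (𝒰.f (φ.s₀ k)) = 𝒱.cover.f k := φ.w₀ k
  have e : ((AlgebraicGeometry.sigmaOpenCover 𝒱.cover.X).f k ≫ q) ≫ Y.affineCover.f j =
      (φ.h₀ k ≫ pullback.snd (Y.affineCover.f j) (𝒰.f (φ.s₀ k))) ≫ 𝒰.f (φ.s₀ k) := by
    exact ((congrArg (· ≫ Y.affineCover.f j) (e1.trans e2.symm)).trans
      (Category.assoc _ _ _)).trans ((congrArg (φ.h₀ k ≫ ·) pullback.condition).trans
      (Category.assoc _ _ _).symm)
  rw [e]
  exact snd_comp P f _ _ (h (φ.s₀ k))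

/-- Quasi-compactness descends along surjective quasi-compact morphisms. -/
instance quasiCompact_descendsAlong :
    MorphismProperty.DescendsAlong @QuasiCompact
      (@Surjective ⊓ @Flat ⊓ @QuasiCompact : MorphismProperty Scheme.{u}) := by
  apply MorphismProperty.DescendsAlong.mk'
  intro X Y Z f g _ hf hfst
  obtain ⟨⟨hsurj, hflat⟩, hqc⟩ := hf
  refine ⟨fun U hU hUc => ?_⟩
  have h1 : IsCompact (f ⁻¹' U) := hqc.isCompact_preimage U hU hUc
  have h2 : IsCompact ((pullback.fst f g) ⁻¹' (f ⁻¹' U)) :=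
    hfst.isCompact_preimage _ (hU.preimage f.continuous) h1
  have h3 : (pullback.snd f g) '' ((pullback.fst f g) ⁻¹' (f ⁻¹' U)) = g ⁻¹' U := by
    ext y
    constructor
    · rintro ⟨z, hz, rfl⟩
      change g (pullback.snd f g z) ∈ U
      rw [← Scheme.Hom.comp_apply, ← pullback.condition, Scheme.Hom.comp_apply]
      exact hz
    · intro hy
      obtain ⟨z, rfl⟩ := (inferInstance : Surjective (pullback.snd f g)).surj y
      refine ⟨z, ?_, rfl⟩
      change f (pullback.fst f g z) ∈ U
      rw [← Scheme.Hom.comp_apply, pullback.condition, Scheme.Hom.comp_apply]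
      exact hy
  rw [← h3]
  exact h2.image (pullback.snd f g).continuous

instance flat_isLocalAtTarget_fpqc :
    MorphismProperty.IsLocalAtTarget (@Flat : MorphismProperty Scheme.{u})
      Scheme.fpqcPrecoverage := isLocalAtTarget_fpqc_of_descendsAlong _

instance surjective_isLocalAtTarget_fpqc :
    MorphismProperty.IsLocalAtTarget (@Surjective : MorphismProperty Scheme.{u})
      Scheme.fpqcPrecoverage := isLocalAtTarget_fpqc_of_descendsAlong _

instance quasiCompact_isLocalAtTarget_fpqc :
    MorphismProperty.IsLocalAtTarget (@QuasiCompact : MorphismProperty Scheme.{u})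
      Scheme.fpqcPrecoverage := isLocalAtTarget_fpqc_of_descendsAlong _

instance lfp_isLocalAtTarget_fpqc :
    MorphismProperty.IsLocalAtTarget (@LocallyOfFinitePresentation : MorphismProperty Scheme.{u})
      Scheme.fpqcPrecoverage := isLocalAtTarget_fpqc_of_descendsAlong _

instance lft_isLocalAtTarget_fpqc :
    MorphismProperty.IsLocalAtTarget (@LocallyOfFiniteType : MorphismProperty Scheme.{u})
      Scheme.fpqcPrecoverage := isLocalAtTarget_fpqc_of_descendsAlong _

instance etale_isLocalAtTarget_fpqc :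
    MorphismProperty.IsLocalAtTarget (@Etale : MorphismProperty Scheme.{u})
      Scheme.fpqcPrecoverage := isLocalAtTarget_fpqc_of_descendsAlong _

instance smooth_isLocalAtTarget_fpqc :
    MorphismProperty.IsLocalAtTarget (@Smooth : MorphismProperty Scheme.{u})
      Scheme.fpqcPrecoverage := isLocalAtTarget_fpqc_of_descendsAlong _

instance isOpenImmersion_isLocalAtTarget_fpqc :
    MorphismProperty.IsLocalAtTarget (@IsOpenImmersion : MorphismProperty Scheme.{u})
      Scheme.fpqcPrecoverage := isLocalAtTarget_fpqc_of_descendsAlong _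

instance isomorphisms_isLocalAtTarget_fpqc :
    MorphismProperty.IsLocalAtTarget (MorphismProperty.isomorphisms Scheme.{u})
      Scheme.fpqcPrecoverage := isLocalAtTarget_fpqc_of_descendsAlong _

end Groth.Agent.Lib.Helper26.FpqcLocal
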