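import Mathlib.RingTheory.Ideal.KrullsHeightTheorem
import Mathlib.RingTheory.Ideal.MinimalPrime.Noetherian
import Mathlib.RingTheory.LocalRing.Quotient

/-!
# Primes of coheight one avoiding an ideal in a Noetherian local ring (helper26)
-/

set_option autoImplicit false
universe u

namespace Groth.Agent.Lib.Helper26.CoheightOne

/-- In a Noetherian local domain in which every nonzero prime contains a fixed nonzero nonunit `x`,
the maximal ideal is minimal over `(x)`. -/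
lemma maximalIdeal_mem_minimalPrimes (B : Type u) [CommRing B] [IsDomain B] [IsNoetherianRing B]
    [IsLocalRing B] (x : B) (hx0 : x ≠ 0) (hxm : x ∈ IsLocalRing.maximalIdeal B)
    (hx : ∀ Q : Ideal B, Q.IsPrime → Q ≠ ⊥ → x ∈ Q) :
    IsLocalRing.maximalIdeal B ∈ (Ideal.span {x}).minimalPrimes := by
  by_contra hnot
  have hfin : ((Ideal.span {x}).minimalPrimes).Finite :=
    Ideal.finite_minimalPrimes_of_isNoetherianRing B _
  have hxtop : Ideal.span {x} ≠ ⊤ := by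
    rw [Ne, Ideal.span_singleton_eq_top]
    exact hxm
  obtain ⟨⟨Q₀, hQ₀⟩⟩ := Ideal.nonempty_minimalPrimes hxtop
  have hnotsub : ¬ ((IsLocalRing.maximalIdeal B : Set B) ⊆
      ⋃ Q ∈ (↑hfin.toFinset : Set (Ideal B)), ((id Q : Ideal B) : Set B)) := by
    rw [Ideal.subset_union_prime (R := B) (s := hfin.toFinset) (f := id) ⊥ ⊥
      (fun Q hQ _ _ => (hfin.mem_toFinset.mp hQ).1.1)]
    rintro ⟨Q', hQ', hle⟩
    have hQ'F := hfin.mem_toFinset.mp hQ'
    have hQ'prime : Q'.IsPrime := hQ'F.1.1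
    have : Q' = IsLocalRing.maximalIdeal B :=
      le_antisymm (IsLocalRing.le_maximalIdeal hQ'prime.ne_top) hle
    exact hnot (this ▸ hQ'F)
  obtain ⟨y, hym, hyF⟩ := Set.not_subset.mp hnotsub
  have hyF' : ∀ Q' ∈ (Ideal.span {x}).minimalPrimes, y ∉ Q' := by
    intro Q' hQ' hy
    apply hyF
    simp only [Set.mem_iUnion]
    exact ⟨Q', hfin.mem_toFinset.mpr hQ', hy⟩
  have hy0 : y ≠ 0 := by
    rintro rfl
    exact hyF' Q₀ hQ₀ (zero_mem _)
  have hytop : Ideal.span {y} ≠ ⊤ := by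
    rw [Ne, Ideal.span_singleton_eq_top]
    exact hym
  obtain ⟨⟨Q, hQ⟩⟩ := Ideal.nonempty_minimalPrimes hytop
  have hQprime : Q.IsPrime := hQ.1.1
  have hyQ : y ∈ Q := hQ.1.2 (Ideal.subset_span (Set.mem_singleton y))
  have hQbot : Q ≠ ⊥ := by
    rintro rfl
    exact hy0 ((Submodule.mem_bot B).mp hyQ)
  have hxQ : x ∈ Q := hx Q hQprime hQbot
  obtain ⟨Q', hQ'F, hQ'Q⟩ := Ideal.exists_minimalPrimes_le
    (show Ideal.span {x} ≤ Q from (Ideal.span_singleton_le_iff_mem Q).mpr hxQ)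
  have hQ'prime : Q'.IsPrime := hQ'F.1.1
  have hxQ' : x ∈ Q' := hQ'F.1.2 (Ideal.subset_span (Set.mem_singleton x))
  have hQ'bot : Q' ≠ ⊥ := by
    rintro rfl
    exact hx0 ((Submodule.mem_bot B).mp hxQ')
  have hQht : Q.height ≤ 1 := Ideal.height_le_one_of_isPrincipal_of_mem_minimalPrimes _ Q hQ
  rcases hQ'Q.lt_or_eq with hlt | heq
  · have h1 := Ideal.height_add_one_le_of_lt_of_isPrime hlt
    have h2 : Q'.height + 1 ≤ 1 := h1.trans hQht
    have h3 : Q'.height = 0 := by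
      by_contra h0
      have h4 : 1 ≤ Q'.height := Order.one_le_iff_ne_zero.mpr h0
      have h5 : (1 : ℕ∞) + 1 ≤ 1 := (add_le_add_left h4 1).trans h2
      exact absurd h5 (by decide)
    exact hQ'bot (Ideal.height_eq_zero_iff_eq_bot.mp h3)
  · exact hyF' Q' hQ'F (heq ▸ hyQ)

theorem main (A : Type u) [CommRing A] [IsLocalRing A] [IsNoetherianRing A] (I : Ideal A)
    (hI : I ≠ ⊤) (hdense : ∀ q ∈ minimalPrimes A, ¬ I ≤ q) :
    ∃ p : PrimeSpectrum A, ¬ I ≤ p.asIdeal ∧ ringKrullDim (A ⧸ p.asIdeal) = 1 := by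
  obtain ⟨⟨q₀, hq₀⟩⟩ := Ideal.nonempty_minimalPrimes (bot_ne_top : (⊥ : Ideal A) ≠ ⊤)
  let S : Set (Ideal A) := {p | p.IsPrime ∧ ¬ I ≤ p}
  have hS : S.Nonempty := ⟨q₀, hq₀.1.1, hdense q₀ hq₀⟩
  obtain ⟨(p : Ideal A), hpS, hpmax⟩ := set_has_maximal_iff_noetherian.mpr
    (inferInstance : IsNoetherian A A) S hS
  have hpprime : p.IsPrime := hpS.1
  have : IsLocalRing (A ⧸ p) :=
    IsLocalRing.of_surjective' (Ideal.Quotient.mk p) Ideal.Quotient.mk_surjective
  obtain ⟨i, hiI, hip⟩ := Set.not_subset.mp hpS.2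
  have hx0 : Ideal.Quotient.mk p i ≠ 0 := fun h => hip (Ideal.Quotient.eq_zero_iff_mem.mp h)
  have hxm : Ideal.Quotient.mk p i ∈ IsLocalRing.maximalIdeal (A ⧸ p) := by
    rw [IsLocalRing.mem_maximalIdeal, mem_nonunits_iff]
    intro hu
    obtain ⟨b, hb⟩ := hu.exists_right_inv
    obtain ⟨j, rfl⟩ := Ideal.Quotient.mk_surjective b
    rw [← map_mul, ← map_one (Ideal.Quotient.mk p), Ideal.Quotient.eq] at hb
    have h1 : i * j - 1 ∈ IsLocalRing.maximalIdeal A := IsLocalRing.le_maximalIdeal hpprime.ne_top hb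
    have h2 : i * j ∈ IsLocalRing.maximalIdeal A :=
      Ideal.mul_mem_right _ _ (IsLocalRing.le_maximalIdeal hI hiI)
    have h3 : (1 : A) ∈ IsLocalRing.maximalIdeal A := by
      have := Ideal.sub_mem _ h2 h1
      simpa using this
    exact (Ideal.ne_top_iff_one _).mp (IsLocalRing.maximalIdeal.isMaximal A).ne_top h3
  have hx : ∀ Q : Ideal (A ⧸ p), Q.IsPrime → Q ≠ ⊥ → Ideal.Quotient.mk p i ∈ Q := by
    intro Q hQ hQbot
    have hP'prime : (Q.comap (Ideal.Quotient.mk p)).IsPrime := Ideal.comap_isPrime _ _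
    have hle : p ≤ Q.comap (Ideal.Quotient.mk p) := by
      intro a ha
      rw [Ideal.mem_comap, Ideal.Quotient.eq_zero_iff_mem.mpr ha]
      exact zero_mem _
    have hne : p ≠ Q.comap (Ideal.Quotient.mk p) := by
      intro h
      apply hQbot
      rw [← Ideal.map_comap_of_surjective _ Ideal.Quotient.mk_surjective Q, ← h,
        Ideal.map_quotient_self]
    have hlt : p < Q.comap (Ideal.Quotient.mk p) := lt_of_le_of_ne hle hne
    have hIle : I ≤ Q.comap (Ideal.Quotient.mk p) := by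
      by_contra hcon
      exact hpmax _ ⟨hP'prime, hcon⟩ hlt
    exact hIle hiI
  have hmin := maximalIdeal_mem_minimalPrimes (A ⧸ p) _ hx0 hxm hx
  have hle1 : (IsLocalRing.maximalIdeal (A ⧸ p)).height ≤ 1 :=
    Ideal.height_le_one_of_isPrincipal_of_mem_minimalPrimes _ _ hmin
  have hbotlt : (⊥ : Ideal (A ⧸ p)) < IsLocalRing.maximalIdeal (A ⧸ p) := by
    rw [bot_lt_iff_ne_bot]
    intro h
    rw [h] at hxm
    exact hx0 ((Submodule.mem_bot _).mp hxm)
  have hge1 : 1 ≤ (IsLocalRing.maximalIdeal (A ⧸ p)).height := by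
    have := Ideal.height_add_one_le_of_lt_of_isPrime hbotlt
    rw [Ideal.height_bot, zero_add] at this
    exact this
  refine ⟨⟨p, hpprime⟩, hpS.2, ?_⟩
  change ringKrullDim (A ⧸ p) = 1
  rw [← IsLocalRing.maximalIdeal_height_eq_ringKrullDim, le_antisymm hle1 hge1]
  rfl

end Groth.Agent.Lib.Helper26.CoheightOne
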