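import Mathlib.RingTheory.AdicCompletion.AsTensorProduct
import Groth.Prelude.Def_Wider

/-!
# Power-torsion modules are unchanged by tensoring with the adic completion (helper26)
-/

set_option autoImplicit false
universe u

open scoped TensorProduct

namespace Groth.Agent.Lib.Helper26.ComplTorsion

variable {A : Type u} [CommRing A] (J : Ideal A)

lemma isAdicComplete_of_pow_smul_eq_bot (N : Type*) [AddCommGroup N] [Module A N] (n : ℕ)
    (h : J ^ n • (⊤ : Submodule A N) = ⊥) : IsAdicComplete J N := by
  have hH : IsHausdorff J N := ⟨fun x hx => by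
    have := hx n
    rw [h] at this
    exact SModEq.bot.mp this⟩
  have hP : IsPrecomplete J N := ⟨fun f hf => by
    refine ⟨f n, fun k => ?_⟩
    rcases le_total k n with hkn | hnk
    · exact hf hkn
    · have := hf hnk
      rw [h] at this
      rw [SModEq.bot.mp this]⟩
  exact { toIsHausdorff := hH, toIsPrecomplete := hP }

variable [IsNoetherianRing A]

lemma mk_one_bijective_of_finite (N : Type u) [AddCommGroup N] [Module A N] [Module.Finite A N]
    (n : ℕ) (h : J ^ n • (⊤ : Submodule A N) = ⊥) :
    Function.Bijective (TensorProduct.mk A (AdicCompletion J A) N 1) := by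
  have h1 := AdicCompletion.ofTensorProduct_bijective_of_finite_of_isNoetherian J N
  have h2 : Function.Bijective (AdicCompletion.of J N) :=
    AdicCompletion.of_bijective_iff.mpr (isAdicComplete_of_pow_smul_eq_bot J N n h)
  have hcomp : (AdicCompletion.ofTensorProduct J N) ∘ (TensorProduct.mk A (AdicCompletion J A) N 1) =
      AdicCompletion.of J N := by
    funext x
    simp [AdicCompletion.ofTensorProduct_tmul]
  exact (Function.Bijective.of_comp_iff' h1 _).mp (hcomp ▸ h2)

theorem main (I : Type u) [AddCommGroup I] [Module A I] (hI : LocCoh.IsPowerTorsion J I) :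
    Function.Bijective (TensorProduct.mk A (AdicCompletion J A) I 1) := by
  have key : ∀ x : I, ∃ n, J ^ n • (⊤ : Submodule A (Submodule.span A {x})) = ⊥ := by
    intro x
    obtain ⟨n, hn⟩ := hI x
    refine ⟨n, ?_⟩
    rw [eq_bot_iff, Submodule.smul_le]
    rintro j hj ⟨y, hy⟩ _
    obtain ⟨r, rfl⟩ := Submodule.mem_span_singleton.mp hy
    rw [Submodule.mem_bot]
    apply Subtype.ext
    change j • r • x = 0
    rw [smul_comm, hn j hj, smul_zero]
  constructor
  · rw [injective_iff_map_eq_zero]
    intro x hx
    obtain ⟨n, hn⟩ := key x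
    have hb := mk_one_bijective_of_finite J (Submodule.span A {x}) n hn
    have hinj : Function.Injective
        (LinearMap.lTensor (AdicCompletion J A) (Submodule.span A {x}).subtype) :=
      Module.Flat.lTensor_preserves_injective_linearMap _ (Submodule.span A {x}).injective_subtype
    have hx' : (TensorProduct.mk A (AdicCompletion J A) (Submodule.span A {x}) 1)
        ⟨x, Submodule.mem_span_singleton_self x⟩ = 0 := by
      apply hinj
      rw [map_zero]
      simpa using hx
    have := hb.1 (hx'.trans (map_zero _).symm)
    exact congrArg Subtype.val this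
  · intro t
    induction t using TensorProduct.induction_on with
    | zero => exact ⟨0, map_zero _⟩
    | tmul a x =>
      obtain ⟨n, hn⟩ := key x
      have hb := mk_one_bijective_of_finite J (Submodule.span A {x}) n hn
      obtain ⟨y, hy⟩ := hb.2 (a ⊗ₜ ⟨x, Submodule.mem_span_singleton_self x⟩)
      refine ⟨y.1, ?_⟩
      have := congrArg (LinearMap.lTensor (AdicCompletion J A) (Submodule.span A {x}).subtype) hy
      simpa using this
    | add t₁ t₂ h₁ h₂ =>
      obtain ⟨y₁, rfl⟩ := h₁
      obtain ⟨y₂, rfl⟩ := h₂
      exact ⟨y₁ + y₂, map_add _ _ _⟩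

end Groth.Agent.Lib.Helper26.ComplTorsion
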