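import Groth.Agent.Lib.Helper26.TorsorQuotRel
import Groth.Agent.Lib.Helper26.CentralExt

/-!
# Exact sequences of group schemes: the quotient property (helper26)
-/

set_option autoImplicit false
open CategoryTheory CategoryTheory.Limits MonoidalCategory AlgebraicGeometry
open MonObj CartesianMonoidalCategory SemiCartesianMonoidalCategory
universe u

namespace Groth.Agent.Lib.Helper26.ExactSeqQuot

variable {S : Scheme.{u}} {G' G G'' : Over S} [GrpObj G'] [GrpObj G] [GrpObj G'']

omit [GrpObj G'] [GrpObj G] [GrpObj G''] in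
lemma isLocallyTrivialFor_of_le {K L : Precoverage Scheme.{u}} (hKL : K ≤ L) {B : Scheme.{u}}
    {X : Over B} (h : NonAbH1.IsLocallyTrivialFor K X) : NonAbH1.IsLocallyTrivialFor L X := by
  obtain ⟨R, hR, hsec⟩ := h
  exact ⟨R, hKL _ hR, hsec⟩

lemma isExactSeq_of_le {K L : Precoverage Scheme.{u}} (hKL : K ≤ L) {u : G' ⟶ G} {v : G ⟶ G''}
    (h : NonAbH1.IsExactSeq K u v) : NonAbH1.IsExactSeq L u v :=
  ⟨h.1, h.2.1, h.2.2.1, h.2.2.2.1, isLocallyTrivialFor_of_le hKL h.2.2.2.2⟩

/-- In an fpqc-exact sequence `G''` is universally the quotient of `G` by `G'`. -/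
theorem isUnivQuotHom_of_isExactSeq_fpqc {u : G' ⟶ G} {v : G ⟶ G''}
    (hex : NonAbH1.IsExactSeq Scheme.fpqcPrecoverage u v) : CentralExt.IsUnivQuotHom u v :=
  fun T Z m hm => TorsorQuotRel.existsUnique_desc_of_isExactSeq u v hex T Z m hm

/-- In an fppf-exact sequence `G''` is universally the quotient of `G` by `G'`. -/
theorem isUnivQuotHom_of_isExactSeq_fppf {u : G' ⟶ G} {v : G ⟶ G''}
    (hex : NonAbH1.IsExactSeq Scheme.fppfPrecoverage u v) : CentralExt.IsUnivQuotHom u v :=
  isUnivQuotHom_of_isExactSeq_fpqc (isExactSeq_of_le Scheme.fppfPrecoverage_le_fpqcPrecoverage hex)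

end Groth.Agent.Lib.Helper26.ExactSeqQuot
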