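import Mathlib
import Groth.Agent.Lib.Helper26.ExactSeqQuot
import Groth.Agent.Lib.Helper43.ConstPts
import Groth.Agent.Lib.Helper7.ConstTorsor.Action

/-!
# Rigidity of extensions by a constant torsion-free group scheme (helper26)

`1 → G → E → P → 1` with `G ≅ Z_S` constant, `Z` torsion-free.  An automorphism `φ` of the extension
gives `h(x) = φ(x) x⁻¹ : E → G`, invariant under `G`, hence descending to `h̄ : P → G`.  If `P` is
connected, or quasi-compact with `E` commutative, `h̄ = 1`, so `φ = id`.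
-/

set_option autoImplicit false
open CategoryTheory CategoryTheory.Limits MonoidalCategory AlgebraicGeometry
open MonObj CartesianMonoidalCategory SemiCartesianMonoidalCategory
universe v₁ u₁ u

namespace Groth.Agent.Lib.Helper26.ConstExtRigid

open Groth.Agent.Lib.Helper26.ExactSeqTorsor Groth.Agent.Lib.Helper26.CentralExt

section abstract

variable {𝒮 : Type u₁} [Category.{v₁} 𝒮] [CartesianMonoidalCategory 𝒮]
variable {G E P : 𝒮} [GrpObj G] [GrpObj E] [GrpObj P]
  (u : G ⟶ E) (v : E ⟶ P) [IsMonHom u] [IsMonHom v]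
  (huv : u ≫ v = 1) (hEx : IsPullback (fst E G) ((E ◁ u) ≫ μ[E]) v v)
  (φ : E ⟶ E) [IsMonHom φ] (hφu : u ≫ φ = u) (hφv : φ ≫ v = v)

/-- `x ↦ φ(x) x⁻¹` -/
def yy : E ⟶ E := φ * (𝟙 E)⁻¹

omit [IsMonHom φ] in
lemma comp_yy {W : 𝒮} (x : W ⟶ E) : x ≫ yy φ = (x ≫ φ) * x⁻¹ := by
  rw [yy, MonObj.comp_mul, GrpObj.comp_inv, Category.comp_id]

omit [IsMonHom φ] in
include hφv in
lemma yy_comp_v : yy φ ≫ v = 1 := by
  rw [yy, MonObj.mul_comp, GrpObj.inv_comp, hφv, Category.id_comp, _root_.mul_inv_cancel]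

/-- `h(x) = u⁻¹(φ(x) x⁻¹)` -/
noncomputable def hh : E ⟶ G := diff u v hEx 1 (yy φ)

omit [IsMonHom φ] in
include hφv in
lemma hh_comp_u : hh u v hEx φ ≫ u = yy φ :=
  diff_one_comp u v hEx (yy φ) (yy_comp_v v φ hφv)

include hφu hφv in
lemma hh_invariant {W : 𝒮} (x : W ⟶ E) (g : W ⟶ G) :
    (x * (g ≫ u)) ≫ hh u v hEx φ = x ≫ hh u v hEx φ := by
  apply u_cancel u v hEx
  rw [Category.assoc, Category.assoc, hh_comp_u u v hEx φ hφv, comp_yy, comp_yy, MonObj.mul_comp,
    Category.assoc, hφu, _root_.mul_inv_rev]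
  group

include hφu hφv in
/-- `h` descends to the quotient -/
theorem exists_hbar (hq : IsUnivQuotHom u v) : ∃ hb : P ⟶ G, v ≫ hb = hh u v hEx φ := by
  obtain ⟨r, hr, -⟩ := hq (𝟙_ 𝒮) G (fst E (𝟙_ 𝒮) ≫ hh u v hEx φ) (by
    intro W x g t
    rw [← Category.assoc, ← Category.assoc, lift_fst, lift_fst]
    exact hh_invariant u v hEx φ hφu hφv x g)
  refine ⟨(ρ_ P).inv ≫ r, ?_⟩
  have h1 : v ≫ (ρ_ P).inv = (ρ_ E).inv ≫ (v ▷ 𝟙_ 𝒮) := by
    rw [← cancel_mono (ρ_ P).hom]
    simp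
  rw [← Category.assoc, h1, Category.assoc, hr, ← Category.assoc]
  have h2 : (ρ_ E).inv ≫ fst E (𝟙_ 𝒮) = 𝟙 E := by simp
  rw [h2, Category.id_comp]

include hφv in
lemma one_comp_hh {W : 𝒮} : (1 : W ⟶ E) ≫ hh u v hEx φ = 1 := by
  apply u_cancel u v hEx
  rw [Category.assoc, hh_comp_u u v hEx φ hφv, comp_yy, MonObj.one_comp, MonObj.one_comp,
    inv_one, _root_.mul_one]

omit [IsMonHom φ] in
include hφv in
/-- if `h = 1` then `φ = id` -/
theorem phi_eq_id (h1 : hh u v hEx φ = 1) : φ = 𝟙 E := by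
  have h2 := hh_comp_u u v hEx φ hφv
  rw [h1, MonObj.one_comp, yy] at h2
  have h3 : φ = (φ * (𝟙 E)⁻¹) * 𝟙 E := by group
  rw [h3, ← h2, _root_.one_mul]

include hφv in
/-- in the commutative case `h` commutes with powers -/
lemma pow_comp_hh [BraidedCategory 𝒮] [IsCommMonObj E] (n : ℕ) :
    ((𝟙 E : E ⟶ E) ^ n) ≫ hh u v hEx φ = (hh u v hEx φ) ^ n := by
  haveI : IsMulCommutative (E ⟶ E) := (isCommMonObj_iff_isMulCommutative E).mp inferInstance E
  apply u_cancel u v hEx
  rw [Category.assoc, hh_comp_u u v hEx φ hφv, comp_yy, MonObj.pow_comp, Category.id_comp,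
    MonObj.pow_comp, hh_comp_u u v hEx φ hφv, yy, ← inv_pow]
  exact ((Commute.all φ (𝟙 E)⁻¹).mul_pow n).symm

end abstract

section const

open Groth.Agent.Lib.Helper43 Groth.Agent.Lib.Helper7.ConstTorsor TopologicalSpace

variable {S : Scheme.{u}} {Z : Type u} [Group Z] {G P : Over S} [GrpObj G] [GrpObj P]
  (eG : G ≅ TwC.const S Z) (hG : TwC.IsConstGrp Z G eG)

/-- the open piece of `P` on which `hb : P ⟶ G ≅ Z_S` takes the constant value `m` -/
noncomputable def pc (hb : P ⟶ G) (m : Z) : P.left.Opens := piece (hb ≫ eG.hom) m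

omit [Group Z] [GrpObj G] [GrpObj P] in
lemma iSup_pc (hb : P ⟶ G) : ⨆ m, pc eG hb m = ⊤ := iSup_piece _

omit [Group Z] [GrpObj G] [GrpObj P] in
lemma disjoint_pc (hb : P ⟶ G) {m m' : Z} (h : m ≠ m') : Disjoint (pc eG hb m) (pc eG hb m') :=
  disjoint_piece _ h

omit [Group Z] [GrpObj G] [GrpObj P] in
lemma hb_on_pc (hb : P ⟶ G) (m : Z) (U : P.left.Opens) (hU : U ≤ pc eG hb m) :
    resIncl P U ≫ hb = toUnit (resOver P U) ≫ cst eG m := by
  have h := resIncl_comp_of_le_piece (hb ≫ eG.hom) m U hU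
  have h2 := congrArg (fun t => t ≫ eG.inv) h
  simp only [Category.assoc, Iso.hom_inv_id, Category.comp_id] at h2
  exact h2

omit [Group Z] [GrpObj G] [GrpObj P] in
lemma mem_pc_iff (hb : P ⟶ G) (m : Z) (x : P.left) :
    x ∈ pc eG hb m ↔ (hb ≫ eG.hom).left x ∈ Set.range (Sigma.ι (fun _ : Z => S) m) := Iff.rfl

include hG in
omit [GrpObj P] in
lemma eq_one_of_pc_one_eq_top (hb : P ⟶ G) (h : pc eG hb 1 = ⊤) : hb = 1 := by
  have hz : hb ≫ eG.hom = toUnit P ≫ TwC.pt S Z 1 := by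
    apply eq_of_piece_le
    intro m
    by_cases hm : m = 1
    · subst hm
      intro x _
      change (toUnit P ≫ TwC.pt S Z 1).left x ∈ Set.range (Sigma.ι (fun _ : Z => S) 1)
      exact ⟨(toUnit P).left x, rfl⟩
    · have hd := disjoint_pc eG hb hm
      rw [h, disjoint_top] at hd
      change pc eG hb m ≤ _
      rw [hd]
      exact bot_le
  have h2 := congrArg (fun t => t ≫ eG.inv) hz
  simp only [Category.assoc, Iso.hom_inv_id, Category.comp_id] at h2
  rw [h2]
  change toUnit P ≫ cst eG 1 = 1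
  rw [cst_one hG, MonObj.comp_one]

include hG in
/-- a morphism from a connected scheme to a constant group scheme, trivial at the unit section,
is trivial -/
theorem eq_one_of_connected [ConnectedSpace ↥P.left] (hb : P ⟶ G) (h1 : η[P] ≫ hb = η[G]) :
    hb = 1 := by
  apply eq_one_of_pc_one_eq_top eG hG
  have hclopen : IsClopen ((pc eG hb 1 : P.left.Opens) : Set ↥P.left) := by
    refine ⟨?_, (pc eG hb 1).isOpen⟩
    have hcompl : ((pc eG hb 1 : P.left.Opens) : Set ↥P.left)ᶜ =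
        ⋃ m ∈ {m : Z | m ≠ 1}, ((pc eG hb m : P.left.Opens) : Set ↥P.left) := by
      ext x
      simp only [Set.mem_compl_iff, SetLike.mem_coe, Set.mem_iUnion, Set.mem_ofPred_eq]
      constructor
      · intro hx
        have hx' : x ∈ (⨆ m, pc eG hb m : P.left.Opens) := by rw [iSup_pc]; trivial
        obtain ⟨m, hm⟩ := Opens.mem_iSup.mp hx'
        refine ⟨m, ?_, hm⟩
        rintro rfl
        exact hx hm
      · rintro ⟨m, hm, hxm⟩ hx1
        have := disjoint_pc eG hb hm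
        exact (disjoint_iff.mp this).le ⟨hxm, hx1⟩
    rw [← isOpen_compl_iff, hcompl]
    exact isOpen_biUnion fun m _ => (pc eG hb m).isOpen
  obtain ⟨p₀⟩ : Nonempty ↥P.left := inferInstance
  have hne : ((pc eG hb 1 : P.left.Opens) : Set ↥P.left).Nonempty := by
    refine ⟨η[P].left (P.hom p₀), ?_⟩
    change (hb ≫ eG.hom).left (η[P].left (P.hom p₀)) ∈ Set.range (Sigma.ι (fun _ : Z => S) 1)
    have h2 : η[P].left ≫ (hb ≫ eG.hom).left = (TwC.pt S Z 1).left := by
      rw [← Over.comp_left, ← Category.assoc, h1, MonObj.one_eq_one, ← cst_one hG, cst,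
        Category.assoc, Iso.inv_hom_id, Category.comp_id]
    rw [← Scheme.Hom.comp_apply, h2]
    exact ⟨_, rfl⟩
  exact Opens.ext (hclopen.eq_univ hne)

include hG in
/-- a morphism from a quasi-compact scheme to a constant torsion-free group scheme which commutes
with powers is trivial -/
theorem eq_one_of_compact [CompactSpace ↥P.left] (hZ : ∀ z : Z, IsOfFinOrder z → z = 1)
    (hb : P ⟶ G) (hpow : ∀ n : ℕ, ((𝟙 P : P ⟶ P) ^ n) ≫ hb = hb ^ n) : hb = 1 := by
  apply eq_one_of_pc_one_eq_top eG hG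
  -- finitely many pieces cover
  obtain ⟨t, ht⟩ := isCompact_univ.elim_finite_subcover
    (fun m : Z => ((pc eG hb m : P.left.Opens) : Set ↥P.left)) (fun m => (pc eG hb m).isOpen)
    (by
      intro x _
      have hx' : x ∈ (⨆ m, pc eG hb m : P.left.Opens) := by rw [iSup_pc]; trivial
      obtain ⟨m, hm⟩ := Opens.mem_iSup.mp hx'
      exact Set.mem_iUnion.mpr ⟨m, hm⟩)
  have hmem : ∀ (m : Z) (x : ↥P.left), x ∈ pc eG hb m → m ∈ t := by
    intro m x hx
    obtain ⟨m', hm'⟩ := Set.mem_iUnion.mp (ht (Set.mem_univ x))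
    obtain ⟨hm't, hxm'⟩ := Set.mem_iUnion.mp hm'
    by_cases hmm : m = m'
    · rw [hmm]; exact hm't
    · exact ((disjoint_iff.mp (disjoint_pc eG hb hmm)).le ⟨hx, hxm'⟩).elim
  -- powers
  have hcstpow : ∀ (m : Z) (n : ℕ), (cst eG m) ^ n = cst eG (m ^ n) := by
    intro m n
    induction n with
    | zero => rw [pow_zero, pow_zero, cst_one hG]
    | succ n ih => rw [pow_succ, pow_succ, ih, cst_mul hG]
  have hpowmem : ∀ (m : Z) (x : ↥P.left), x ∈ pc eG hb m → ∀ n : ℕ,
      ((𝟙 P : P ⟶ P) ^ n).left x ∈ pc eG hb (m ^ n) := by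
    intro m x hx n
    have h1 := hb_on_pc eG hb m (pc eG hb m) le_rfl
    have h2 : resIncl P (pc eG hb m) ≫ ((𝟙 P : P ⟶ P) ^ n) ≫ hb =
        toUnit _ ≫ cst eG (m ^ n) := by
      rw [hpow, MonObj.comp_pow, h1, ← MonObj.comp_pow, hcstpow]
    change (hb ≫ eG.hom).left (((𝟙 P : P ⟶ P) ^ n).left x) ∈
      Set.range (Sigma.ι (fun _ : Z => S) (m ^ n))
    have h3 := congrArg (fun t => (t ≫ eG.hom).left) h2
    simp only [Category.assoc] at h3
    have h4 : (toUnit (resOver P (pc eG hb m)) ≫ cst eG (m ^ n) ≫ eG.hom).left =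
        (toUnit (resOver P (pc eG hb m))).left ≫ Sigma.ι (fun _ : Z => S) (m ^ n) := by
      rw [Over.comp_left, Over.comp_left, cst_hom_left]
    rw [h4] at h3
    have h5 := congrArg (fun t : (resOver P (pc eG hb m)).left ⟶ _ => t ⟨x, hx⟩) h3
    simp only [Over.comp_left, Scheme.Hom.comp_apply] at h5
    exact ⟨_, h5.symm⟩
  -- every nonempty piece has index of finite order
  have hall : ∀ (m : Z) (x : ↥P.left), x ∈ pc eG hb m → m = 1 := by
    intro m x hx
    apply hZ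
    have hfin : ∀ n : ℕ, m ^ n ∈ t := fun n => hmem _ _ (hpowmem m x hx n)
    have hninj : ¬ Function.Injective (fun n : ℕ => (⟨m ^ n, hfin n⟩ : t)) :=
      not_injective_infinite_finite _
    rw [Function.Injective] at hninj
    push Not at hninj
    obtain ⟨a, b, hab, hne⟩ := hninj
    have hab' : m ^ a = m ^ b := congrArg Subtype.val hab
    exact isOfFinOrder_iff_pow_eq_one.mpr (by
      rcases Nat.lt_or_gt_of_ne hne with hlt | hlt
      · refine ⟨b - a, Nat.sub_pos_of_lt hlt, ?_⟩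
        have : m ^ a * m ^ (b - a) = m ^ a * 1 := by
          rw [← pow_add, Nat.add_sub_cancel' hlt.le, _root_.mul_one, hab']
        exact mul_left_cancel this
      · refine ⟨a - b, Nat.sub_pos_of_lt hlt, ?_⟩
        have : m ^ b * m ^ (a - b) = m ^ b * 1 := by
          rw [← pow_add, Nat.add_sub_cancel' hlt.le, _root_.mul_one, hab']
        exact mul_left_cancel this)
  rw [eq_top_iff]
  intro x _
  have hx' : x ∈ (⨆ m, pc eG hb m : P.left.Opens) := by rw [iSup_pc]; trivial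
  obtain ⟨m, hm⟩ := Opens.mem_iSup.mp hx'
  rwa [hall m x hm] at hm

end const

end Groth.Agent.Lib.Helper26.ConstExtRigid
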