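import Groth.Prelude.Def_DTen2
import Groth.Agent.Lib.Helper26.DTenKProj
import Groth.Agent.Lib.Helper26.TensorHomCx

/-!
# Associativity legs of the derived tensor product are isomorphisms (helper26)
-/

set_option autoImplicit false

universe u

open CategoryTheory CategoryTheory.Limits MonoidalCategory
attribute [local instance] HasDerivedCategory.standard

namespace Groth.Agent.Lib.Helper26.DTenAssoc

open DTen Groth.Agent.Lib.Helper26.KProjQ Groth.Agent.Lib.Helper26.DTenKProj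
  Groth.Agent.Lib.Helper26.TensorHomCx

variable (A : Type u) [CommRing A]

lemma respectsHomotopy₃_tensorT₃ : RespectsHomotopy₃ (tensorT₃ A) := by
  rintro ⟨K, L, M⟩ ⟨K', L', M'⟩ ⟨f, g, h⟩ ⟨f', g', h'⟩ hf hg hh
  have h1 := respectsHomotopy₂_tensorT A (X := (L, M)) (Y := (L', M')) (g, h) (g', h') hg hh
  exact respectsHomotopy₂_tensorT A (X := (K, (tensorT A).obj (L, M)))
    (Y := (K', (tensorT A).obj (L', M'))) (f, (tensorT A).map ((g, h) : (L, M) ⟶ (L', M')))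
    (f', (tensorT A).map ((g', h') : (L, M) ⟶ (L', M'))) hf h1

/-- The counit of the derived triple tensor product is an isomorphism at K-projective triples. -/
lemma isIso_ε₃ [HasLTen₃ A] (P₁ P₂ P₃ : DRing.Cx A) [P₁.IsKProjective] [P₂.IsKProjective]
    [P₃.IsKProjective] : IsIso ((ε₃ A).app (P₁, (P₂, P₃))) :=
  isIso_counit_triple (hasKProjRes A) (hasKProjRes A) (hasKProjRes A)
    (respectsHomotopy₃_tensorT₃ A) (LTen₃ A) (ε₃ A) P₁ P₂ P₃

lemma isIso_assocR_Q [HasLTen A] [HasLTen₃ A] (P₁ P₂ P₃ : DRing.Cx A) [P₁.IsKProjective]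
    [P₂.IsKProjective] [P₃.IsKProjective] :
    IsIso ((assocR A).app (DerivedCategory.Q.obj P₁,
      (DerivedCategory.Q.obj P₂, DerivedCategory.Q.obj P₃))) := by
  have hfac := assocR_fac A (P₁, (P₂, P₃))
  have := isKProjective_tensor P₂ P₃
  have h1 : IsIso ((ε₃ A).app (P₁, (P₂, P₃))) := isIso_ε₃ A P₁ P₂ P₃
  have h2 : IsIso ((ε A).app (P₂, P₃)) := isIso_ε A P₂ P₃
  have h3 : IsIso ((ε A).app (P₁, P₂ ⊗ P₃)) := isIso_ε A P₁ (P₂ ⊗ P₃)
  have h4 : IsIso (Prod.mkHom (𝟙 (DerivedCategory.Q.obj P₁)) ((ε A).app (P₂, P₃))) := by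
    rw [isIso_prod_iff]
    exact ⟨inferInstance, h2⟩
  have h5 : IsIso ((βR A).app (P₁, (P₂, P₃))) := by
    dsimp only [βR]
    infer_instance
  have h6 : (assocR A).app (DerivedCategory.Q.obj P₁,
      (DerivedCategory.Q.obj P₂, DerivedCategory.Q.obj P₃)) =
      (βR A).app (P₁, (P₂, P₃)) ≫ inv ((ε₃ A).app (P₁, (P₂, P₃))) := by
    rw [← hfac, Category.assoc, IsIso.hom_inv_id, Category.comp_id]
    rfl
  rw [h6]
  infer_instance

lemma isIso_assocL_Q [HasLTen A] [HasLTen₃ A] (P₁ P₂ P₃ : DRing.Cx A) [P₁.IsKProjective]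
    [P₂.IsKProjective] [P₃.IsKProjective] :
    IsIso ((assocL A).app (DerivedCategory.Q.obj P₁,
      (DerivedCategory.Q.obj P₂, DerivedCategory.Q.obj P₃))) := by
  have hfac := assocL_fac A (P₁, (P₂, P₃))
  have := isKProjective_tensor P₁ P₂
  have h1 : IsIso ((ε₃ A).app (P₁, (P₂, P₃))) := isIso_ε₃ A P₁ P₂ P₃
  have h2 : IsIso ((ε A).app (P₁, P₂)) := isIso_ε A P₁ P₂
  have h3 : IsIso ((ε A).app (P₁ ⊗ P₂, P₃)) := isIso_ε A (P₁ ⊗ P₂) P₃
  have h4 : IsIso (Prod.mkHom ((ε A).app (P₁, P₂)) (𝟙 (DerivedCategory.Q.obj P₃))) := by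
    rw [isIso_prod_iff]
    exact ⟨h2, inferInstance⟩
  have h5 : IsIso ((βL A).app (P₁, (P₂, P₃))) := by
    dsimp only [βL]
    refine @IsIso.comp_isIso _ _ _ _ _ _ _ ?_ ?_
    · have : IsIso (Prod.mkHom ((ε A).app (P₁, P₂))
          (𝟙 ((DerivedCategory.Q : DRing.Cx A ⥤ _).obj P₃)) :
            ((QQ A ⋙ LTen₂ A).obj (P₁, P₂), DerivedCategory.Q.obj P₃) ⟶
              (DerivedCategory.Q.obj (P₁ ⊗ P₂), DerivedCategory.Q.obj P₃)) := by
        rw [isIso_prod_iff]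
        exact ⟨h2, inferInstance⟩
      exact Functor.map_isIso _ _
    · refine @IsIso.comp_isIso _ _ _ _ _ _ _ h3 ?_
      infer_instance
  have h6 : (assocL A).app (DerivedCategory.Q.obj P₁,
      (DerivedCategory.Q.obj P₂, DerivedCategory.Q.obj P₃)) =
      (βL A).app (P₁, (P₂, P₃)) ≫ inv ((ε₃ A).app (P₁, (P₂, P₃))) := by
    rw [← hfac, Category.assoc, IsIso.hom_inv_id, Category.comp_id]
    rfl
  rw [h6]
  infer_instance

/-- Both associativity legs are isomorphisms at every triple of `D(A)`. -/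
theorem isIso_assocL_and_assocR [HasLTen A] [HasLTen₃ A] (a b c : Dual.D A) :
    IsIso ((assocL A).app (a, (b, c))) ∧ IsIso ((assocR A).app (a, (b, c))) := by
  obtain ⟨P₁, hP₁, ⟨e₁⟩⟩ := Groth.Agent.Lib.Helper32.LBC.exists_kproj_iso a
  obtain ⟨P₂, hP₂, ⟨e₂⟩⟩ := Groth.Agent.Lib.Helper32.LBC.exists_kproj_iso b
  obtain ⟨P₃, hP₃, ⟨e₃⟩⟩ := Groth.Agent.Lib.Helper32.LBC.exists_kproj_iso c
  have hL := isIso_assocL_Q A P₁ P₂ P₃
  have hR := isIso_assocR_Q A P₁ P₂ P₃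
  exact ⟨(NatTrans.isIso_app_iff_of_iso (assocL A) (Iso.prod e₁ (Iso.prod e₂ e₃))).1 hL,
    (NatTrans.isIso_app_iff_of_iso (assocR A) (Iso.prod e₁ (Iso.prod e₂ e₃))).1 hR⟩

end Groth.Agent.Lib.Helper26.DTenAssoc
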