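import Groth.Prelude.Def_DTen3

/-!
# The curry map of the closed structure on `D(A)` is an isomorphism (helper26)
-/

set_option autoImplicit false
universe u
open CategoryTheory CategoryTheory.Limits MonoidalCategory Opposite
attribute [local instance] HasDerivedCategory.standard

namespace Groth.Agent.Lib.Helper26.DTenCurry

open DTen

variable {A : Type u} [CommRing A] [HasLTen A] [HasLTen₃ A] [IsSymMonoidal A] [HasRHom A]

/-- Naturality of the associator in its first variable. -/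
lemma associator_naturality_left {T T' : Dual.D A} (g : T ⟶ T') (K L : Dual.D A) :
    (LTen₂ A).map (Prod.mkHom ((LTen₂ A).map (Prod.mkHom g (𝟙 K))) (𝟙 L)) ≫
        (associator T' K L).hom =
      (associator T K L).hom ≫ (LTen₂ A).map (Prod.mkHom g (𝟙 ((LTen₂ A).obj (K, L)))) := by
  have hL := (assocL A).naturality
    (Prod.mkHom g (Prod.mkHom (𝟙 K) (𝟙 L)) : (T, (K, L)) ⟶ (T', (K, L)))
  have hR := (assocR A).naturality
    (Prod.mkHom g (Prod.mkHom (𝟙 K) (𝟙 L)) : (T, (K, L)) ⟶ (T', (K, L)))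
  have eR : (LTenR A).map
      (Prod.mkHom g (Prod.mkHom (𝟙 K) (𝟙 L)) : (T, (K, L)) ⟶ (T', (K, L))) =
      (LTen₂ A).map (Prod.mkHom g (𝟙 ((LTen₂ A).obj (K, L)))) := by
    dsimp [LTenR]
    congr 1
    have : (LTen₂ A).map (Prod.mkHom (𝟙 K) (𝟙 L)) = 𝟙 ((LTen₂ A).obj (K, L)) :=
      (LTen₂ A).map_id (K, L)
    rw [← this]
  have eL : (LTenL A).map
      (Prod.mkHom g (Prod.mkHom (𝟙 K) (𝟙 L)) : (T, (K, L)) ⟶ (T', (K, L))) =
      (LTen₂ A).map (Prod.mkHom ((LTen₂ A).map (Prod.mkHom g (𝟙 K))) (𝟙 L)) := rfl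
  rw [eL] at hL
  rw [eR] at hR
  -- `associator = assocL ≫ inv assocR`
  have h1 : ∀ a : Dual.D A, (associator a K L).hom ≫ (assocR A).app (a, (K, L)) =
      (assocL A).app (a, (K, L)) := fun a => associator_hom_assocR a K L
  have hiso : IsIso ((assocR A).app (T', (K, L))) := inferInstance
  apply (cancel_mono ((assocR A).app (T', (K, L)))).1
  have step0 : ((LTen₂ A).map (Prod.mkHom ((LTen₂ A).map (Prod.mkHom g (𝟙 K))) (𝟙 L)) ≫
          (associator T' K L).hom) ≫ (assocR A).app (T', (K, L))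
      = (LTen₂ A).map (Prod.mkHom ((LTen₂ A).map (Prod.mkHom g (𝟙 K))) (𝟙 L)) ≫
          ((associator T' K L).hom ≫ (assocR A).app (T', (K, L))) := Category.assoc _ _ _
  have step1 := congrArg
    (fun t => (LTen₂ A).map (Prod.mkHom ((LTen₂ A).map (Prod.mkHom g (𝟙 K))) (𝟙 L)) ≫ t) (h1 T')
  have step4 := congrArg (fun t => t ≫ (LTen₃ A).map
    (Prod.mkHom g (Prod.mkHom (𝟙 K) (𝟙 L)) : (T, (K, L)) ⟶ (T', (K, L)))) (h1 T)
  have step3 : ((associator T K L).hom ≫ (assocR A).app (T, (K, L))) ≫ (LTen₃ A).map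
        (Prod.mkHom g (Prod.mkHom (𝟙 K) (𝟙 L)) : (T, (K, L)) ⟶ (T', (K, L))) =
      (associator T K L).hom ≫ ((assocR A).app (T, (K, L)) ≫ (LTen₃ A).map
        (Prod.mkHom g (Prod.mkHom (𝟙 K) (𝟙 L)) : (T, (K, L)) ⟶ (T', (K, L)))) :=
    Category.assoc _ _ _
  have step2 := congrArg (fun t => (associator T K L).hom ≫ t) hR
  have step5 : (associator T K L).hom ≫ ((LTen₂ A).map
        (Prod.mkHom g (𝟙 ((LTen₂ A).obj (K, L)))) ≫ (assocR A).app (T', (K, L))) =
      ((associator T K L).hom ≫ (LTen₂ A).map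
        (Prod.mkHom g (𝟙 ((LTen₂ A).obj (K, L))))) ≫ (assocR A).app (T', (K, L)) :=
    (Category.assoc _ _ _).symm
  exact step0.trans (step1.trans (hL.trans (step4.symm.trans (step3.trans
    (step2.symm.trans step5)))))

/-- Postcomposition with `curryHom` is the composite of the adjunction bijections with the
associator. -/
lemma comp_curryHom {T : Dual.D A} (K L M : Dual.D A)
    (g : T ⟶ (RHomR A ((LTen₂ A).obj (K, L))).obj M) :
    g ≫ curryHom K L M =
      rhomHomEquiv _ _ _ (rhomHomEquiv _ _ _ ((associator T K L).hom ≫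
        (rhomHomEquiv T ((LTen₂ A).obj (K, L)) M).symm g)) := by
  have hA : g ≫ curryHom K L M = rhomHomEquiv _ _ _ ((tensorRightD A K).map g ≫
      rhomHomEquiv _ _ _ (curryHomAux K L M)) :=
    ((rhomAdj A K).homEquiv_naturality_left g _).symm
  have hB : (tensorRightD A K).map g ≫ rhomHomEquiv _ _ _ (curryHomAux K L M) =
      rhomHomEquiv _ _ _ ((tensorRightD A L).map ((tensorRightD A K).map g) ≫
        curryHomAux K L M) :=
    ((rhomAdj A L).homEquiv_naturality_left _ _).symm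
  rw [hA, hB]
  congr 2
  have e1 : (rhomHomEquiv T ((LTen₂ A).obj (K, L)) M).symm g =
      (LTen₂ A).map (Prod.mkHom g (𝟙 ((LTen₂ A).obj (K, L)))) ≫ ev ((LTen₂ A).obj (K, L)) M :=
    (rhomAdj A ((LTen₂ A).obj (K, L))).homEquiv_counit T M g
  have h := associator_naturality_left g K L
  have e2 : (tensorRightD A L).map ((tensorRightD A K).map g) =
      (LTen₂ A).map (Prod.mkHom ((LTen₂ A).map (Prod.mkHom g (𝟙 K))) (𝟙 L)) := rfl
  rw [e1, e2]
  unfold curryHomAux
  rw [← Category.assoc, h, Category.assoc]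

theorem isIso_curryHom (K L M : Dual.D A) : IsIso (curryHom K L M) := by
  have hb : ∀ T : Dual.D A, Function.Bijective
      (fun g : T ⟶ (RHomR A ((LTen₂ A).obj (K, L))).obj M => g ≫ curryHom K L M) := by
    intro T
    have e : (fun g : T ⟶ (RHomR A ((LTen₂ A).obj (K, L))).obj M => g ≫ curryHom K L M) =
        fun g => rhomHomEquiv _ _ _ (rhomHomEquiv _ _ _ ((associator T K L).hom ≫
          (rhomHomEquiv T ((LTen₂ A).obj (K, L)) M).symm g)) := by
      funext g
      exact comp_curryHom K L M g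
    rw [e]
    refine (Equiv.bijective _).comp ((Equiv.bijective _).comp ?_)
    refine Function.Bijective.comp (g := fun h => (associator T K L).hom ≫ h) ?_
      (Equiv.bijective _)
    exact ⟨fun a b h => (cancel_epi _).1 h, fun b => ⟨(associator T K L).inv ≫ b, by simp⟩⟩
  -- Yoneda
  obtain ⟨s, hs⟩ := (hb _).2 (𝟙 _)
  have hs' : s ≫ curryHom K L M = 𝟙 _ := hs
  refine ⟨s, ?_, hs'⟩
  apply (hb _).1
  change (curryHom K L M ≫ s) ≫ curryHom K L M = 𝟙 _ ≫ curryHom K L M
  rw [Category.assoc, hs', Category.comp_id, Category.id_comp]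

end Groth.Agent.Lib.Helper26.DTenCurry
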