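import Groth.Prelude.Def_DTen6
import Groth.Agent.Lib.Helper26.DTenSplit
import Groth.Agent.Lib.Helper26.TensorHomCx

/-!
# The two legs of the iterated change of rings are isomorphisms (helper26)
-/

set_option autoImplicit false

universe u

open CategoryTheory CategoryTheory.Limits MonoidalCategory
attribute [local instance] HasDerivedCategory.standard

namespace Groth.Agent.Lib.Helper26.DTenLeg3

open DTen Groth.Agent.Lib.Helper26.KProjQ Groth.Agent.Lib.Helper26.DTenKProj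
  Groth.Agent.Lib.Helper26.TensorHomCx Groth.Agent.Lib.Helper26.DTenSplit

variable {A B C : Type u} [CommRing A] [CommRing B] [CommRing C] (φ : A →+* B) (ψ : B →+* C)

lemma isKProjective_mixT (M : DRing.Cx A) (N : DRing.Cx B) [M.IsKProjective] [N.IsKProjective] :
    CochainComplex.IsKProjective ((mixT φ).obj (M, N)) := by
  have := isKProjective_extCx φ M
  exact isKProjective_tensor ((extCx φ).obj M) N

lemma respectsHomotopy₃_mixT₃ : RespectsHomotopy₃ (mixT₃ φ ψ) := by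
  rintro ⟨M, N, K⟩ ⟨M', N', K'⟩ ⟨f, g, k⟩ ⟨f', g', k'⟩ hf hg hk
  have h1 := respectsHomotopy₂_mixT φ (X := (M, N)) (Y := (M', N')) (f, g) (f', g') hf hg
  exact respectsHomotopy₂_mixT ψ (X := ((mixT φ).obj (M, N), K))
    (Y := ((mixT φ).obj (M', N'), K')) ((mixT φ).map ((f, g) : (M, N) ⟶ (M', N')), k)
    ((mixT φ).map ((f', g') : (M, N) ⟶ (M', N')), k') h1 hk

lemma isIso_εMix₃ [HasLTenMix₃ φ ψ] (M : DRing.Cx A) (N : DRing.Cx B) (K : DRing.Cx C)
    [M.IsKProjective] [N.IsKProjective] [K.IsKProjective] :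
    IsIso ((εMix₃ φ ψ).app (M, (N, K))) :=
  isIso_counit_triple (hasKProjRes A) (hasKProjRes B) (hasKProjRes C)
    (respectsHomotopy₃_mixT₃ φ ψ) (LTenMix₃ φ ψ) (εMix₃ φ ψ) M N K

lemma isIso_leg₃L_Q [HasLTenMix φ] [HasLTenMix ψ] [HasLTenMix₃ φ ψ]
    (M : DRing.Cx A) (N : DRing.Cx B) (K : DRing.Cx C)
    [M.IsKProjective] [N.IsKProjective] [K.IsKProjective] :
    IsIso ((leg₃L φ ψ).app (DerivedCategory.Q.obj M,
      (DerivedCategory.Q.obj N, DerivedCategory.Q.obj K))) := by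
  have hfac := leg₃L_fac φ ψ (M, (N, K))
  have := isKProjective_mixT φ M N
  have h1 : IsIso ((εMix₃ φ ψ).app (M, (N, K))) := isIso_εMix₃ φ ψ M N K
  have h2 : IsIso ((εMix φ).app (M, N)) := isIso_εMix φ M N
  have h3 : IsIso ((εMix ψ).app ((mixT φ).obj (M, N), K)) := isIso_εMix ψ _ K
  have h5 : IsIso ((β₃L φ ψ).app (M, (N, K))) := by
    dsimp only [β₃L]
    refine @IsIso.comp_isIso _ _ _ _ _ _ _ ?_ h3
    apply (config := { allowSynthFailures := true }) Functor.map_isIso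
    rw [isIso_prod_iff]
    exact ⟨h2, inferInstanceAs (IsIso (𝟙 _))⟩
  have h6 : (leg₃L φ ψ).app (DerivedCategory.Q.obj M,
      (DerivedCategory.Q.obj N, DerivedCategory.Q.obj K)) =
      (β₃L φ ψ).app (M, (N, K)) ≫ inv ((εMix₃ φ ψ).app (M, (N, K))) := by
    rw [← hfac, Category.assoc, IsIso.hom_inv_id, Category.comp_id]
    rfl
  rw [h6]
  infer_instance

lemma isIso_leg₃R_Q [HasLTenMix ψ] [HasLTenMix (ψ.comp φ)] [HasLTenMix₃ φ ψ]
    (M : DRing.Cx A) (N : DRing.Cx B) (K : DRing.Cx C)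
    [M.IsKProjective] [N.IsKProjective] [K.IsKProjective] :
    IsIso ((leg₃R φ ψ).app (DerivedCategory.Q.obj M,
      (DerivedCategory.Q.obj N, DerivedCategory.Q.obj K))) := by
  have hfac := leg₃R_fac φ ψ (M, (N, K))
  have := isKProjective_mixT ψ N K
  have h1 : IsIso ((εMix₃ φ ψ).app (M, (N, K))) := isIso_εMix₃ φ ψ M N K
  have h2 : IsIso ((εMix ψ).app (N, K)) := isIso_εMix ψ N K
  have h3 : IsIso ((εMix (ψ.comp φ)).app (M, (mixT ψ).obj (N, K))) := isIso_εMix (ψ.comp φ) M _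
  have h5 : IsIso ((β₃R φ ψ).app (M, (N, K))) := by
    dsimp only [β₃R]
    refine @IsIso.comp_isIso _ _ _ _ _ _ _ ?_ ?_
    · apply (config := { allowSynthFailures := true }) Functor.map_isIso
      rw [isIso_prod_iff]
      exact ⟨inferInstanceAs (IsIso (𝟙 _)), h2⟩
    · refine @IsIso.comp_isIso _ _ _ _ _ _ _ h3 ?_
      infer_instance
  have h6 : (leg₃R φ ψ).app (DerivedCategory.Q.obj M,
      (DerivedCategory.Q.obj N, DerivedCategory.Q.obj K)) =
      (β₃R φ ψ).app (M, (N, K)) ≫ inv ((εMix₃ φ ψ).app (M, (N, K))) := by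
    rw [← hfac, Category.assoc, IsIso.hom_inv_id, Category.comp_id]
    rfl
  rw [h6]
  infer_instance

/-- Both legs are isomorphisms at every triple. -/
theorem isIso_leg₃L_and_leg₃R [HasLTenMix φ] [HasLTenMix ψ] [HasLTenMix (ψ.comp φ)]
    [HasLTenMix₃ φ ψ] (E : Dual.D A) (F : Dual.D B) (G : Dual.D C) :
    IsIso ((leg₃L φ ψ).app (E, (F, G))) ∧ IsIso ((leg₃R φ ψ).app (E, (F, G))) := by
  obtain ⟨P₁, hP₁, ⟨e₁⟩⟩ := Groth.Agent.Lib.Helper32.LBC.exists_kproj_iso E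
  obtain ⟨P₂, hP₂, ⟨e₂⟩⟩ := Groth.Agent.Lib.Helper32.LBC.exists_kproj_iso F
  obtain ⟨P₃, hP₃, ⟨e₃⟩⟩ := Groth.Agent.Lib.Helper32.LBC.exists_kproj_iso G
  have hL := isIso_leg₃L_Q φ ψ P₁ P₂ P₃
  have hR := isIso_leg₃R_Q φ ψ P₁ P₂ P₃
  exact ⟨(NatTrans.isIso_app_iff_of_iso (leg₃L φ ψ) (Iso.prod e₁ (Iso.prod e₂ e₃))).1 hL,
    (NatTrans.isIso_app_iff_of_iso (leg₃R φ ψ) (Iso.prod e₁ (Iso.prod e₂ e₃))).1 hR⟩

end Groth.Agent.Lib.Helper26.DTenLeg3
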