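import Groth.Prelude.Def_DTen

/-!
# The symmetry of the derived tensor product is an isomorphism (helper26)
-/

set_option autoImplicit false
universe u
open CategoryTheory CategoryTheory.Limits MonoidalCategory
attribute [local instance] HasDerivedCategory.standard

namespace Groth.Agent.Lib.Helper26.DTenSymm

open DTen

variable {A : Type u} [CommRing A]

/-- The symmetry of complexes is an involution. -/
lemma braidCx_hom_comp (K L : DRing.Cx A) : (braidCx K L).hom ≫ (braidCx L K).hom = 𝟙 _ := by
  refine HomologicalComplex.hom_ext _ _ (fun n => HomologicalComplex.mapBifunctor.hom_ext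
    (fun p q h => ?_))
  rw [HomologicalComplex.comp_f]
  erw [ι_braidCx_hom_assoc K L p q n h]
  rw [Linear.units_smul_comp, Category.assoc]
  erw [ι_braidCx_hom L K q p n (by have : p + q = n := h; omega)]
  rw [Linear.comp_units_smul, smul_smul, ← Category.assoc, SymmetricCategory.symmetry,
    Category.id_comp, mul_comm q p, Int.units_mul_self, one_smul]
  erw [HomologicalComplex.id_f, Category.comp_id]

variable [HasLTen A]

/-- The double symmetry, as an endomorphism of `LTen₂`. -/
noncomputable def symmSq : LTen₂ A ⟶ LTen₂ A where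
  app X := (symm A).app (X.2, X.1) ≫ (symm A).app (X.1, X.2)
  naturality {X Y} f := by
    have h1 := (symm A).naturality (Prod.mkHom f.2 f.1 : (X.2, X.1) ⟶ (Y.2, Y.1))
    have h2 := (symm A).naturality (Prod.mkHom f.1 f.2 : (X.1, X.2) ⟶ (Y.1, Y.2))
    dsimp at h1 h2 ⊢
    rw [← Category.assoc]
    erw [h1]
    rw [Category.assoc]
    erw [h2]
    rw [Category.assoc]
    rfl

lemma symmSq_eq_id : symmSq (A := A) = 𝟙 (LTen₂ A) := by
  apply (LTen₂ A).leftDerived_ext (ε A) (qis₂ A)
  ext ⟨K, L⟩
  dsimp [symmSq]
  rw [Category.assoc]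
  erw [symm_fac A K L]
  rw [← Category.assoc]
  erw [symm_fac A L K]
  rw [Category.assoc, ← Functor.map_comp, braidCx_hom_comp]
  erw [DerivedCategory.Q.map_id, Category.comp_id, Category.id_comp]

theorem isIso_symm_app (K L : Dual.D A) : IsIso ((symm A).app (K, L)) := by
  have h1 : (symm A).app (L, K) ≫ (symm A).app (K, L) = 𝟙 _ :=
    congrArg (fun t => t.app (K, L)) (symmSq_eq_id (A := A))
  have h2 : (symm A).app (K, L) ≫ (symm A).app (L, K) = 𝟙 _ :=
    congrArg (fun t => t.app (L, K)) (symmSq_eq_id (A := A))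
  exact ⟨(symm A).app (L, K), h2, h1⟩

end Groth.Agent.Lib.Helper26.DTenSymm
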