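import Groth.Agent.Lib.Helper26.GrpQuot
import Groth.Agent.H26.UnivEffEpi
import Mathlib.Tactic.Group

/-!
# Quotient of a group object by a normal subgroup object, abstractly (helper26)

`𝒮` a cartesian monoidal category with pullbacks, `u : H ⟶ G` a homomorphism of group objects,
`π : G ⟶ Q` a universally effective epimorphism whose kernel pair is the translation relation
`G ⊗ H ⇉ G`.  If `u` is normal, `Q` carries a unique group structure making `π` a homomorphism.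
-/

set_option autoImplicit false
open CategoryTheory CategoryTheory.Limits MonoidalCategory
open MonObj CartesianMonoidalCategory SemiCartesianMonoidalCategory
open scoped MonObj
universe v₁ u₁

namespace Groth.Agent.Lib.Helper26.GrpQuotGen

open Groth.Agent.H26

variable {𝒮 : Type u₁} [Category.{v₁} 𝒮] [CartesianMonoidalCategory 𝒮]

set_option backward.isDefEq.respectTransparency false in
lemma isPullback_whiskerLeft (A : 𝒮) {X Y : 𝒮} (f : X ⟶ Y) :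
    IsPullback (A ◁ f) (snd A X) (snd A Y) f := by
  refine ⟨⟨by simp⟩, ⟨PullbackCone.IsLimit.mk _ (fun s => lift (s.fst ≫ fst A Y) s.snd) ?_ ?_ ?_⟩⟩
  · intro s
    ext
    · simp
    · simp [s.condition]
  · intro s
    simp
  · intro s m h1 h2
    ext
    · have := congrArg (fun t => t ≫ fst A Y) h1
      simpa using this
    · simpa using h2

set_option backward.isDefEq.respectTransparency false in
lemma isPullback_whiskerRight (A : 𝒮) {X Y : 𝒮} (f : X ⟶ Y) :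
    IsPullback (f ▷ A) (fst X A) (fst Y A) f := by
  refine ⟨⟨by simp⟩, ⟨PullbackCone.IsLimit.mk _ (fun s => lift s.snd (s.fst ≫ snd Y A)) ?_ ?_ ?_⟩⟩
  · intro s
    ext
    · simp [s.condition]
    · simp
  · intro s
    simp
  · intro s m h1 h2
    ext
    · simpa using h2
    · have := congrArg (fun t => t ≫ snd Y A) h1
      simpa using this

lemma uEE_whiskerLeft (A : 𝒮) {X Y : 𝒮} {f : X ⟶ Y} (hf : UEE 𝒮 f) : UEE 𝒮 (A ◁ f) :=
  hf.of_isPullback (isPullback_whiskerLeft A f)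

lemma uEE_whiskerRight (A : 𝒮) {X Y : 𝒮} {f : X ⟶ Y} (hf : UEE 𝒮 f) : UEE 𝒮 (f ▷ A) :=
  hf.of_isPullback (isPullback_whiskerRight A f)

lemma uEE_tensorHom [HasPullbacks 𝒮] {X Y X' Y' : 𝒮} {f : X ⟶ Y} {g : X' ⟶ Y'}
    (hf : UEE 𝒮 f) (hg : UEE 𝒮 g) : UEE 𝒮 (f ⊗ₘ g) := by
  rw [tensorHom_def]
  exact (uEE_whiskerRight X' hf).comp (uEE_whiskerLeft Y hg)

section Quot

variable [HasPullbacks 𝒮] {H G Q : 𝒮} [GrpObj H] [GrpObj G] (u : H ⟶ G) (π : G ⟶ Q)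

/-- The hypotheses: `π` is a universally effective epimorphism with kernel pair the translation
relation of `u`. -/
structure IsQuot : Prop where
  uEE : UEE 𝒮 π
  kp : IsKernelPair π (fst G H) ((G ◁ u) ≫ μ[G])

variable {u π}

lemma IsQuot.π_mul_right (hq : IsQuot u π) {W : 𝒮} (y : W ⟶ G) (h : W ⟶ H) :
    (y * (h ≫ u)) ≫ π = y ≫ π := by
  have h1 : lift y h ≫ (G ◁ u) ≫ μ[G] = y * (h ≫ u) := by
    rw [GrpQuot.comp_act, lift_fst, lift_snd_assoc]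
  have h2 : lift y h ≫ fst G H = y := lift_fst _ _
  have hc : fst G H ≫ π = ((G ◁ u) ≫ μ[G]) ≫ π := hq.kp.w
  calc (y * (h ≫ u)) ≫ π = (lift y h ≫ (G ◁ u) ≫ μ[G]) ≫ π := by rw [h1]
    _ = lift y h ≫ ((G ◁ u) ≫ μ[G]) ≫ π := by simp only [Category.assoc]
    _ = lift y h ≫ fst G H ≫ π := by rw [← hc]
    _ = y ≫ π := by rw [← Category.assoc, h2]

lemma IsQuot.exists_of_π_eq (hq : IsQuot u π) {W : 𝒮} (x x' : W ⟶ G) (hx : x ≫ π = x' ≫ π) :
    ∃ h : W ⟶ H, x' = x * (h ≫ u) := by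
  obtain ⟨r, hr1, hr2⟩ : ∃ r : W ⟶ G ⊗ H, r ≫ fst G H = x ∧ r ≫ (G ◁ u) ≫ μ[G] = x' :=
    ⟨hq.kp.lift x x' hx, hq.kp.lift_fst _ _ _, hq.kp.lift_snd _ _ _⟩
  refine ⟨r ≫ snd G H, ?_⟩
  rw [← hr2, GrpQuot.comp_act, hr1, Category.assoc]

omit [HasPullbacks 𝒮] in
lemma comp_mul_eq {W : 𝒮} (a : W ⟶ G ⊗ G) :
    a ≫ μ[G] = (a ≫ fst G G) * (a ≫ snd G G) := by
  rw [MonObj.mul_eq_mul, MonObj.comp_mul]

/-- normality hypothesis -/
def Normal (u : H ⟶ G) : Prop :=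
  ∀ (Y : 𝒮) (g : Y ⟶ G) (h : Y ⟶ H), ∃ h' : Y ⟶ H, g * (h ≫ u) * g⁻¹ = h' ≫ u

set_option backward.isDefEq.respectTransparency false in
lemma IsQuot.mul_kernel (hq : IsQuot u π) (hn : Normal u) {W : 𝒮} (a b : W ⟶ G ⊗ G)
    (hab : a ≫ (π ⊗ₘ π) = b ≫ (π ⊗ₘ π)) : a ≫ μ[G] ≫ π = b ≫ μ[G] ≫ π := by
  have h1 : (a ≫ fst G G) ≫ π = (b ≫ fst G G) ≫ π := by
    have := congrArg (fun t => t ≫ fst Q Q) hab
    simpa using this
  have h2 : (a ≫ snd G G) ≫ π = (b ≫ snd G G) ≫ π := by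
    have := congrArg (fun t => t ≫ snd Q Q) hab
    simpa using this
  obtain ⟨k₁, hk₁⟩ := hq.exists_of_π_eq _ _ h1
  obtain ⟨k₂, hk₂⟩ := hq.exists_of_π_eq _ _ h2
  obtain ⟨k', hk'⟩ := hn W (a ≫ snd G G)⁻¹ k₁
  rw [← Category.assoc, ← Category.assoc, comp_mul_eq, comp_mul_eq, hk₁, hk₂]
  have : (a ≫ fst G G) * (k₁ ≫ u) * ((a ≫ snd G G) * (k₂ ≫ u)) =
      (a ≫ fst G G) * (a ≫ snd G G) * (k' ≫ u) * (k₂ ≫ u) := by
    rw [← hk']
    simp only [inv_inv]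
    group
  rw [this, hq.π_mul_right, hq.π_mul_right]

variable [IsMonHom u]

lemma IsQuot.inv_kernel (hq : IsQuot u π) (hn : Normal u) {W : 𝒮} (a b : W ⟶ G)
    (hab : a ≫ π = b ≫ π) : a ≫ ι[G] ≫ π = b ≫ ι[G] ≫ π := by
  obtain ⟨k, hk⟩ := hq.exists_of_π_eq _ _ hab
  obtain ⟨k', hk'⟩ := hn W a k⁻¹
  have e1 : ∀ x : W ⟶ G, x ≫ ι[G] = x⁻¹ := fun x => (Hom.inv_def x).symm
  rw [← Category.assoc, ← Category.assoc, e1, e1, hk]
  have : (a * (k ≫ u))⁻¹ = a⁻¹ * (k' ≫ u) := by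
    rw [← hk', GrpObj.inv_comp]
    group
  rw [this, hq.π_mul_right]

section Structure

variable (hq : IsQuot u π) (hn : Normal u)

/-- multiplication on the quotient -/
noncomputable def mulQ : Q ⊗ Q ⟶ Q :=
  have := (uEE_tensorHom hq.uEE hq.uEE).effectiveEpi
  EffectiveEpi.desc (π ⊗ₘ π) (μ[G] ≫ π) (@fun _ a b hab => hq.mul_kernel hn a b hab)

@[reassoc]
lemma tensor_π_mulQ : (π ⊗ₘ π) ≫ mulQ hq hn = μ[G] ≫ π := by
  have := (uEE_tensorHom hq.uEE hq.uEE).effectiveEpi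
  exact EffectiveEpi.fac (π ⊗ₘ π) (μ[G] ≫ π) (@fun _ a b hab => hq.mul_kernel hn a b hab)

/-- inverse on the quotient -/
noncomputable def invQ : Q ⟶ Q :=
  have := hq.uEE.effectiveEpi
  EffectiveEpi.desc π (ι[G] ≫ π) (@fun _ a b hab => hq.inv_kernel hn a b hab)

@[reassoc]
lemma π_invQ : π ≫ invQ hq hn = ι[G] ≫ π := by
  have := hq.uEE.effectiveEpi
  exact EffectiveEpi.fac π (ι[G] ≫ π) (@fun _ a b hab => hq.inv_kernel hn a b hab)

set_option backward.isDefEq.respectTransparency false in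
/-- The group structure on the quotient. -/
noncomputable def grpObj : GrpObj Q where
  one := η[G] ≫ π
  mul := mulQ hq hn
  one_mul := by
    have : Epi ((𝟙_ 𝒮) ◁ π) := (uEE_whiskerLeft _ hq.uEE).epi
    rw [← cancel_epi ((𝟙_ 𝒮) ◁ π), comp_whiskerRight, Category.assoc, whisker_exchange_assoc,
      ← tensorHom_def'_assoc, tensor_π_mulQ, ← Category.assoc, MonObj.one_mul,
      leftUnitor_naturality]
  mul_one := by
    have : Epi (π ▷ (𝟙_ 𝒮)) := (uEE_whiskerRight _ hq.uEE).epi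
    rw [← cancel_epi (π ▷ (𝟙_ 𝒮)), MonoidalCategory.whiskerLeft_comp, Category.assoc,
      ← whisker_exchange_assoc, ← tensorHom_def_assoc, tensor_π_mulQ, ← Category.assoc,
      MonObj.mul_one, rightUnitor_naturality]
  mul_assoc := by
    have : Epi ((π ⊗ₘ π) ⊗ₘ π) := (uEE_tensorHom (uEE_tensorHom hq.uEE hq.uEE) hq.uEE).epi
    rw [← cancel_epi ((π ⊗ₘ π) ⊗ₘ π)]
    have e1 : ((π ⊗ₘ π) ⊗ₘ π) ≫ (mulQ hq hn ▷ Q) = (μ[G] ▷ G) ≫ (π ⊗ₘ π) := by
      rw [← tensorHom_id, tensorHom_comp_tensorHom, tensor_π_mulQ, ← tensorHom_id,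
        tensorHom_comp_tensorHom, Category.comp_id, Category.id_comp]
    have e2 : (π ⊗ₘ (π ⊗ₘ π)) ≫ (Q ◁ mulQ hq hn) = (G ◁ μ[G]) ≫ (π ⊗ₘ π) := by
      rw [← id_tensorHom, tensorHom_comp_tensorHom, tensor_π_mulQ, ← id_tensorHom,
        tensorHom_comp_tensorHom, Category.comp_id, Category.id_comp]
    rw [reassoc_of% e1, tensor_π_mulQ, associator_naturality_assoc, reassoc_of% e2,
      tensor_π_mulQ, ← Category.assoc, MonObj.mul_assoc]
    simp only [Category.assoc]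
  inv := invQ hq hn
  left_inv := by
    have : Epi π := hq.uEE.epi
    rw [← cancel_epi π, comp_lift_assoc, π_invQ, Category.comp_id]
    have e : lift (ι[G] ≫ π) π = lift ι[G] (𝟙 G) ≫ (π ⊗ₘ π) := by
      rw [lift_map, Category.id_comp]
    rw [e, Category.assoc, tensor_π_mulQ, GrpObj.left_inv_assoc, ← Category.assoc π,
      comp_toUnit]
  right_inv := by
    have : Epi π := hq.uEE.epi
    rw [← cancel_epi π, comp_lift_assoc, π_invQ, Category.comp_id]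
    have e : lift π (ι[G] ≫ π) = lift (𝟙 G) ι[G] ≫ (π ⊗ₘ π) := by
      rw [lift_map, Category.id_comp]
    rw [e, Category.assoc, tensor_π_mulQ, GrpObj.right_inv_assoc, ← Category.assoc π,
      comp_toUnit]

lemma isMonHom_π : @IsMonHom 𝒮 _ _ G Q _ (grpObj hq hn).toMonObj π :=
  @IsMonHom.mk 𝒮 _ _ G Q _ (grpObj hq hn).toMonObj π rfl (tensor_π_mulQ hq hn).symm

include hq hn in
theorem existsUnique_grpObj :
    ∃! str : GrpObj Q, @IsMonHom 𝒮 _ _ G Q _ str.toMonObj π := by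
  refine ⟨grpObj hq hn, isMonHom_π hq hn, ?_⟩
  intro str hstr
  apply GrpObj.ext
  apply MonObj.ext
  have : Epi (π ⊗ₘ π) := (uEE_tensorHom hq.uEE hq.uEE).epi
  rw [← cancel_epi (π ⊗ₘ π)]
  have h1 := @IsMonHom.mul_hom 𝒮 _ _ G Q _ str.toMonObj π hstr
  have h2 := @IsMonHom.mul_hom 𝒮 _ _ G Q _ (grpObj hq hn).toMonObj π (isMonHom_π hq hn)
  exact h1.symm.trans h2

end Structure

section Desc

variable [IsMonHom u]

set_option backward.isDefEq.respectTransparency false in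
/-- Universal property of the quotient group. -/
theorem IsQuot.existsUnique_desc (hq : IsQuot u π) [GrpObj Q] [IsMonHom π] {K : 𝒮} [GrpObj K]
    (f : G ⟶ K) [IsMonHom f] (hf : u ≫ f = 1) :
    ∃! g : Q ⟶ K, π ≫ g = f ∧ IsMonHom g := by
  have := hq.uEE.effectiveEpi
  have hepi : Epi π := hq.uEE.epi
  have hker : ∀ {W : 𝒮} (a b : W ⟶ G), a ≫ π = b ≫ π → a ≫ f = b ≫ f := by
    intro W a b hab
    obtain ⟨k, hk⟩ := hq.exists_of_π_eq _ _ hab
    rw [hk, MonObj.mul_comp, Category.assoc, hf, MonObj.comp_one, _root_.mul_one]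
  let g : Q ⟶ K := EffectiveEpi.desc π f hker
  have hg : π ≫ g = f := EffectiveEpi.fac π f hker
  refine ⟨g, ⟨hg, ?_⟩, ?_⟩
  · refine ⟨?_, ?_⟩
    · rw [← IsMonHom.one_hom π, Category.assoc, hg, IsMonHom.one_hom f]
    · have : Epi (π ⊗ₘ π) := (uEE_tensorHom hq.uEE hq.uEE).epi
      rw [← cancel_epi (π ⊗ₘ π), ← IsMonHom.mul_hom_assoc π, hg, tensorHom_comp_tensorHom_assoc,
        hg, IsMonHom.mul_hom f]
  · rintro g' ⟨hg', -⟩
    rw [← cancel_epi π, hg, hg']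

end Desc

end Quot

section QuotQuot

variable [HasPullbacks 𝒮] {H K G QH Kb QK : 𝒮} [GrpObj H] [GrpObj K] [GrpObj G]
  (h : H ⟶ K) (k : K ⟶ G) [IsMonHom h] [IsMonHom k] [Mono k]
  {πH : G ⟶ QH} {πb : K ⟶ Kb} {πK : G ⟶ QK}

omit [HasPullbacks 𝒮] [IsMonHom h] [IsMonHom k] [Mono k] in
lemma comp_whisker_mul {W : 𝒮} (a : W ⟶ G ⊗ K) :
    a ≫ (G ◁ k) ≫ μ[G] = (a ≫ fst G K) * (a ≫ snd G K ≫ k) := GrpQuot.comp_act' k a

set_option backward.isDefEq.respectTransparency false in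
/-- The action of `K/H` on `G/H` is free. -/
theorem mono_lift_act (hH : IsQuot (h ≫ k) πH) (hb : IsQuot h πb)
    (hn : ∀ (Y : 𝒮) (x : Y ⟶ K) (y : Y ⟶ H), ∃ y' : Y ⟶ H, x * (y ≫ h) * x⁻¹ = y' ≫ h)
    (act : QH ⊗ Kb ⟶ QH) (hact : (πH ⊗ₘ πb) ≫ act = (G ◁ k) ≫ μ[G] ≫ πH) :
    Mono (lift act (fst QH Kb)) := by
  apply mono_of_UEE_of_kernel_le (πH ⊗ₘ πb) (uEE_tensorHom hH.uEE hb.uEE)
  intro Z a b hab
  have e : ∀ c : Z ⟶ G ⊗ K, c ≫ (πH ⊗ₘ πb) ≫ lift act (fst QH Kb) =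
      lift (((c ≫ fst G K) * (c ≫ snd G K ≫ k)) ≫ πH) ((c ≫ fst G K) ≫ πH) := by
    intro c
    ext
    · simp only [Category.assoc, lift_fst]
      rw [hact, ← Category.assoc, ← Category.assoc, Category.assoc c, comp_whisker_mul]
    · simp
  rw [e, e] at hab
  have h1 : ((a ≫ fst G K) * (a ≫ snd G K ≫ k)) ≫ πH = ((b ≫ fst G K) * (b ≫ snd G K ≫ k)) ≫ πH := by
    have := congrArg (fun t => t ≫ fst QH QH) hab
    simpa using this
  have h2 : (a ≫ fst G K) ≫ πH = (b ≫ fst G K) ≫ πH := by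
    have := congrArg (fun t => t ≫ snd QH QH) hab
    simpa using this
  obtain ⟨y, hy⟩ := hH.exists_of_π_eq _ _ h2
  obtain ⟨y', hy'⟩ := hH.exists_of_π_eq _ _ h1
  -- g₂ = g₁ * hk(y);  g₂ * k a₂ = g₁ * k a₁ * hk(y')
  rw [hy] at hy'
  have h3 : ((y ≫ h) * (b ≫ snd G K)) ≫ k = ((a ≫ snd G K) * (y' ≫ h)) ≫ k := by
    rw [MonObj.mul_comp, MonObj.mul_comp]
    simp only [Category.assoc] at hy' ⊢
    have := hy'
    rw [_root_.mul_assoc, _root_.mul_assoc] at this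
    exact mul_left_cancel this
  have h4 : (y ≫ h) * (b ≫ snd G K) = (a ≫ snd G K) * (y' ≫ h) := (cancel_mono k).mp h3
  obtain ⟨y'', hy''⟩ := hn Z (a ≫ snd G K)⁻¹ y⁻¹
  have h5 : b ≫ snd G K = (a ≫ snd G K) * (y'' ≫ h) * (y' ≫ h) := by
    rw [← hy'', GrpObj.inv_comp]
    have : b ≫ snd G K = (y ≫ h)⁻¹ * ((a ≫ snd G K) * (y' ≫ h)) := by
      rw [← h4]; group
    rw [this]
    simp only [inv_inv]
    group
  have h6 : (b ≫ snd G K) ≫ πb = (a ≫ snd G K) ≫ πb := by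
    rw [h5, hb.π_mul_right, hb.π_mul_right]
  ext
  · simpa using h2
  · simpa using h6.symm

set_option backward.isDefEq.respectTransparency false in
/-- `G/K` is the quotient of `G/H` by `K/H`. -/
theorem quot_quot (hH : IsQuot (h ≫ k) πH) (hb : IsQuot h πb)
    (wK : fst G K ≫ πK = ((G ◁ k) ≫ μ[G]) ≫ πK) (hK : IsColimit (Cofork.ofπ πK wK))
    (act : QH ⊗ Kb ⟶ QH) (hact : (πH ⊗ₘ πb) ≫ act = (G ◁ k) ≫ μ[G] ≫ πH)
    (qbar : QH ⟶ QK) (hq : πH ≫ qbar = πK) :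
    ∃ wq : fst QH Kb ≫ qbar = act ≫ qbar, Nonempty (IsColimit (Cofork.ofπ qbar wq)) := by
  have hepi : Epi (πH ⊗ₘ πb) := (uEE_tensorHom hH.uEE hb.uEE).epi
  have hepiH : Epi πH := hH.uEE.epi
  have wq : fst QH Kb ≫ qbar = act ≫ qbar := by
    rw [← cancel_epi (πH ⊗ₘ πb), reassoc_of% hact, hq, tensorHom_fst_assoc, hq, wK,
      Category.assoc]
  refine ⟨wq, ⟨Cofork.IsColimit.mk _ (fun s => ?_) ?_ ?_⟩⟩
  · refine Cofork.IsColimit.desc hK (πH ≫ s.π) ?_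
    have hs : fst QH Kb ≫ s.π = act ≫ s.π := s.condition
    rw [Category.assoc, ← reassoc_of% hact, ← hs, tensorHom_fst_assoc]
  · intro s
    rw [← cancel_epi πH]
    have := Cofork.IsColimit.π_desc' hK (πH ≫ s.π) (by
      have hs : fst QH Kb ≫ s.π = act ≫ s.π := s.condition
      rw [Category.assoc, ← reassoc_of% hact, ← hs, tensorHom_fst_assoc])
    dsimp at this ⊢
    rw [reassoc_of% hq]
    exact this
  · intro s m hm
    apply Cofork.IsColimit.hom_ext hK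
    have := Cofork.IsColimit.π_desc' hK (πH ≫ s.π) (by
      have hs : fst QH Kb ≫ s.π = act ≫ s.π := s.condition
      rw [Category.assoc, ← reassoc_of% hact, ← hs, tensorHom_fst_assoc])
    dsimp at this hm ⊢
    rw [this, ← hq, Category.assoc, hm]

end QuotQuot

end Groth.Agent.Lib.Helper26.GrpQuotGen
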