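import Groth.Prelude.Def_NonAbH2
import Groth.Agent.Lib.Helper26.GrpQuotGen
import Groth.Agent.Lib.Helper26.FpqcLocal
import Mathlib.CategoryTheory.Limits.Constructions.Over.Connected

/-!
# Properties of the structure morphism of a torsor inherited from the group (helper26)

If `X` is a `G`-torsor for a precoverage `K` and `P` is a property of morphisms which is stable
under base change and local at the target for `K`, then `P G.hom → P X.hom`.
-/

set_option autoImplicit false
universe u

namespace Groth.Agent.Lib.Helper26.TorsorLocal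

open CategoryTheory Limits AlgebraicGeometry MorphismProperty MonoidalCategory
open CartesianMonoidalCategory SemiCartesianMonoidalCategory MonObj

variable {S : Scheme.{u}} {G X : Over S} [GrpObj G]

/-- For a pseudo-torsor `X` under `G` and a point `x : S' ⟶ X`, the base change `X ×_S S' ⟶ S'`
inherits from `G ⟶ S` every property which is stable under base change. -/
theorem prop_snd_of_point (a : AlgGrp.Action G X) (hX : NonAbH1.IsPseudoTorsorSch a)
    (P : MorphismProperty Scheme.{u}) [P.IsStableUnderBaseChange]
    (hG : P G.hom) {S' : Over S} (x : S' ⟶ X) : P (snd X S').left := by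
  haveI : P.RespectsIso := inferInstance
  have sqGX : IsPullback (fst G X).left (snd G X).left G.hom X.hom :=
    IsPullback.of_hasPullback G.hom X.hom
  have hiso : IsIso (lift a.act (snd G X)).left := by
    haveI : IsIso (lift a.act (snd G X)) := hX
    exact (inferInstance : IsIso ((Over.forget S).map (lift a.act (snd G X))))
  have e1 : (lift a.act (snd G X)).left ≫ (snd X X).left = (snd G X).left := by
    rw [← Over.comp_left, lift_snd]
  have sqx : IsPullback (X ◁ x) (snd X S') (snd X X) x :=
    Groth.Agent.Lib.Helper26.GrpQuotGen.isPullback_whiskerLeft X x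
  have sqx' : IsPullback (X ◁ x).left (snd X S').left (snd X X).left x.left :=
    sqx.map (Over.forget S)
  have h1 : P (snd G X).left := P.of_isPullback sqGX hG
  have h2 : P (snd X X).left := by
    have : (snd X X).left = inv (lift a.act (snd G X)).left ≫ (snd G X).left := by
      rw [IsIso.eq_inv_comp, e1]
    rw [this]
    exact (P.cancel_left_of_respectsIso _ _).mpr h1
  exact P.of_isPullback sqx' h2

/-- The structure morphism of a `K`-torsor under `G` inherits every property of `G ⟶ S` which is
stable under base change and `K`-local on the target. -/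
theorem prop_of_isTorsorFor (K : Precoverage Scheme.{u}) (a : AlgGrp.Action G X)
    (h : NonAbH1.IsTorsorFor K a)
    (P : MorphismProperty Scheme.{u}) [P.IsStableUnderBaseChange] [P.IsLocalAtTarget K]
    (hG : P G.hom) : P X.hom := by
  obtain ⟨hX, R, hR, hsec⟩ := h
  refine IsLocalAtTarget.of_forall_pullbackSnd (K := K) hR ?_
  intro W g _ hg
  obtain ⟨s, hs⟩ := hsec g hg
  exact prop_snd_of_point a hX P hG (S' := Over.mk g) (Over.homMk s hs)

/-- `G ⟶ S` is surjective, having the unit section. -/
theorem surjective_hom_of_grpObj : Surjective G.hom := by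
  have h : (η[G] : 𝟙_ (Over S) ⟶ G).left ≫ G.hom = 𝟙 S := by
    simpa using Over.w (η[G] : 𝟙_ (Over S) ⟶ G)
  refine ⟨fun y => ⟨(η[G] : 𝟙_ (Over S) ⟶ G).left y, ?_⟩⟩
  rw [← Scheme.Hom.comp_apply, h]
  rfl

/-- **fpqc torsors under a flat quasi-compact group**: `X` is an fpqc torsor under `G` iff it is a
pseudo-torsor with `X ⟶ S` faithfully flat and quasi-compact. -/
theorem isTorsorFor_fpqc_iff [Flat G.hom] [QuasiCompact G.hom] (a : AlgGrp.Action G X) :
    NonAbH1.IsTorsorFor Scheme.fpqcPrecoverage a ↔
      (NonAbH1.IsPseudoTorsorSch a ∧ Surjective X.hom ∧ Flat X.hom ∧ QuasiCompact X.hom) := by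
  constructor
  · intro h
    refine ⟨h.1, ?_, ?_, ?_⟩
    · exact prop_of_isTorsorFor _ a h @Surjective surjective_hom_of_grpObj
    · exact prop_of_isTorsorFor _ a h @Flat inferInstance
    · exact prop_of_isTorsorFor _ a h @QuasiCompact inferInstance
  · rintro ⟨hX, h1, h2, h3⟩
    refine ⟨hX, Presieve.singleton X.hom, X.hom.singleton_mem_fpqcPrecoverage, ?_⟩
    rintro S' f ⟨⟩
    exact ⟨𝟙 _, Category.id_comp _⟩

end Groth.Agent.Lib.Helper26.TorsorLocal

namespace Groth.Agent.Lib.Helper26.TorsorLocal

open CategoryTheory Limits AlgebraicGeometry MorphismProperty MonoidalCategory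
open CartesianMonoidalCategory SemiCartesianMonoidalCategory MonObj

variable {S : Scheme.{u}} {G X : Over S} [GrpObj G]

/-- An fpqc torsor under a flat, locally finitely presented group is an fppf torsor. -/
theorem isTorsorFor_fppf_of_fpqc [Flat G.hom] [LocallyOfFinitePresentation G.hom]
    (a : AlgGrp.Action G X) (h : NonAbH1.IsTorsorFor Scheme.fpqcPrecoverage a) :
    NonAbH1.IsTorsorFor Scheme.fppfPrecoverage a := by
  haveI h1 : Surjective X.hom := prop_of_isTorsorFor _ a h @Surjective surjective_hom_of_grpObj
  haveI h2 : Flat X.hom := prop_of_isTorsorFor _ a h @Flat inferInstance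
  haveI h3 : LocallyOfFinitePresentation X.hom :=
    prop_of_isTorsorFor _ a h @LocallyOfFinitePresentation inferInstance
  refine ⟨h.1, Presieve.singleton X.hom, X.hom.singleton_mem_fppfPrecoverage, ?_⟩
  rintro S' f ⟨⟩
  exact ⟨𝟙 _, Category.id_comp _⟩

end Groth.Agent.Lib.Helper26.TorsorLocal
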