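import Groth.Agent.Lib.Helper26.ValSection
import Groth.Agent.Lib.Helper26.TorsorLocal
import Groth.Agent.Lib.Helper51.FppfLocal
import Groth.Agent.Lib.Helper7.ProperDescent
import Groth.Prelude.Def_Neron

/-!
# Generic sections over a Dedekind domain extend (helper26)
-/

set_option autoImplicit false
universe u

open CategoryTheory Limits AlgebraicGeometry

namespace Groth.Agent.Lib.Helper26.DedekindSection

open Groth.Agent.Lib.Helper26.ValSection

theorem valuationRing_of_forall_isUnit {A : Type*} [CommRing A] [IsDomain A]
    (h : ∀ a : A, a ≠ 0 → IsUnit a) : ValuationRing A := by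
  refine { cond' := fun a b => ?_ }
  by_cases ha : a = 0
  · exact ⟨0, Or.inr (by rw [ha, mul_zero])⟩
  · obtain ⟨w, rfl⟩ := h a ha
    exact ⟨↑w⁻¹ * b, Or.inl (by rw [← mul_assoc, Units.mul_inv, one_mul])⟩

/-- A localization of a Dedekind domain at a prime is a valuation ring. -/
theorem valuationRing_of_atPrime (R : Type u) [CommRing R] [IsDedekindDomain R]
    (p : Ideal R) [p.IsPrime] (A : Type u) [CommRing A] [IsDomain A] [Algebra R A]
    [IsLocalization.AtPrime A p] : ValuationRing A := by
  by_cases hx : p = ⊥
  · apply valuationRing_of_forall_isUnit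
    intro a ha
    obtain ⟨r, s, rfl⟩ := IsLocalization.exists_mk'_eq p.primeCompl a
    have hr : r ∈ p.primeCompl := by
      intro hr'
      rw [hx] at hr'
      have hr0 : r = 0 := hr'
      rw [hr0, IsLocalization.mk'_zero] at ha
      exact ha rfl
    exact IsUnit.of_mul_eq_one (IsLocalization.mk' A (s : R) ⟨r, hr⟩)
      (IsLocalization.mk'_mul_mk'_eq_one' (S := A) _ _ hr)
  · haveI := IsLocalization.AtPrime.isDiscreteValuationRing_of_dedekind_domain R hx A
    infer_instance

/-- The local rings of the spectrum of a Dedekind domain are valuation rings. -/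
theorem valuationRing_stalk (R : Type u) [CommRing R] [IsDedekindDomain R]
    (x : Spec (CommRingCat.of R)) :
    ValuationRing ((Spec (CommRingCat.of R)).presheaf.stalk x) := by
  let p : PrimeSpectrum R := x
  haveI : p.asIdeal.IsPrime := p.isPrime
  letI : Algebra R ((Spec (CommRingCat.of R)).presheaf.stalk x) :=
    StructureSheaf.stalkAlgebra (R := R) p
  haveI hloc : IsLocalization.AtPrime ((Spec (CommRingCat.of R)).presheaf.stalk x) p.asIdeal :=
    StructureSheaf.IsLocalization.to_stalk (R := R) p
  exact valuationRing_of_atPrime R p.asIdeal ((Spec (CommRingCat.of R)).presheaf.stalk x)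

/-- Over a Dedekind domain, a separated, locally finite type, universally closed scheme with a
section over the generic point has a section. -/
theorem hasSectionOver_id_of_genPt (R : Type u) [CommRing R] [IsDedekindDomain R]
    (Y : Over (Spec (CommRingCat.of R))) [LocallyOfFiniteType Y.hom] [IsSeparated Y.hom]
    [UniversallyClosed Y.hom]
    (h : NonAbH1.HasSectionOver Y (Neron.genPt R)) :
    NonAbH1.HasSectionOver Y (𝟙 (Spec (CommRingCat.of R))) := by
  obtain ⟨s, hs⟩ := h
  have hex : ValuativeCriterion.Existence Y.hom := by
    have : (ValuativeCriterion.Existence ⊓ @QuasiCompact : MorphismProperty Scheme.{u}) Y.hom := by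
      rw [← UniversallyClosed.eq_valuativeCriterion]
      infer_instance
    exact this.1
  -- the comparison of the two fraction fields
  letI alg : Algebra R (Spec (CommRingCat.of R)).functionField :=
    AlgebraicGeometry.instAlgebraCarrierFunctionFieldSpec (CommRingCat.of R)
  haveI : IsFractionRing R (Spec (CommRingCat.of R)).functionField :=
    functionField_isFractionRing_of_affine (CommRingCat.of R)
  let e : FractionRing R ≃ₐ[R] (Spec (CommRingCat.of R)).functionField :=
    FractionRing.algEquiv R (Spec (CommRingCat.of R)).functionField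
  obtain ⟨φ, hφ⟩ : ∃ φ : Spec (Spec (CommRingCat.of R)).functionField ⟶
      Spec (CommRingCat.of (FractionRing R)), φ ≫ Neron.genPt R =
        (Spec (CommRingCat.of R)).fromSpecStalk (genericPoint (Spec (CommRingCat.of R))) := by
    refine ⟨Spec.map (CommRingCat.ofHom
      (e : FractionRing R →+* (Spec (CommRingCat.of R)).functionField)), ?_⟩
    rw [Spec.fromSpecStalk_eq']
    refine (Spec.map_comp _ _).symm.trans (congrArg Spec.map ?_)
    ext r
    exact e.commutes r
  have hg : (φ ≫ s) ≫ Y.hom =
      (Spec (CommRingCat.of R)).fromSpecStalk (genericPoint (Spec (CommRingCat.of R))) := by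
    rw [Category.assoc, hs, hφ]
  exact exists_section_of_generic (valuationRing_stalk R) Y hex (φ ≫ s) hg

set_option backward.isDefEq.respectTransparency.types false in
lemma descendsAlong_isProper_fppf : MorphismProperty.DescendsAlong @IsProper
    (@Surjective ⊓ @Flat ⊓ @LocallyOfFinitePresentation : MorphismProperty Scheme.{u}) := by
  have := Groth.Agent.Lib.Helper7.descendsAlong_isProper.{u}
  infer_instance

instance isLocalAtTarget_isProper_fppf :
    MorphismProperty.IsLocalAtTarget (@IsProper : MorphismProperty Scheme.{u})
      Scheme.fppfPrecoverage :=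
  haveI := descendsAlong_isProper_fppf.{u}
  Groth.Agent.Lib.Helper51.isLocalAtTarget_fppf_of_descendsAlong _

/-- A generically trivial fppf torsor under a proper group scheme over a Dedekind domain is
trivial. -/
theorem hasSectionOver_id_of_torsor (R : Type u) [CommRing R] [IsDedekindDomain R]
    (G : Over (Spec (CommRingCat.of R))) [GrpObj G] [IsProper G.hom]
    (P : Over (Spec (CommRingCat.of R))) (a : AlgGrp.Action G P)
    (hP : NonAbH1.IsTorsorFor Scheme.fppfPrecoverage a)
    (h : NonAbH1.HasSectionOver P (Neron.genPt R)) :
    NonAbH1.HasSectionOver P (𝟙 (Spec (CommRingCat.of R))) := by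
  haveI : IsProper P.hom :=
    Groth.Agent.Lib.Helper26.TorsorLocal.prop_of_isTorsorFor Scheme.fppfPrecoverage a hP
      @IsProper ‹IsProper G.hom›
  exact hasSectionOver_id_of_genPt R P h

end Groth.Agent.Lib.Helper26.DedekindSection
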