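import Groth.Prelude.Def_AlgGrp
import Mathlib.AlgebraicGeometry.Morphisms.UniversallyOpen
import Mathlib.AlgebraicGeometry.Morphisms.ClosedImmersion
import Mathlib.AlgebraicGeometry.ResidueField
import Mathlib.RingTheory.Artinian.Ring

/-!
# Products of dense opens in a group scheme over an artinian local ring (helper26)

`U · V = G` for dense opens `U`, `V` of a group scheme `G` over an artinian local ring.
-/

set_option autoImplicit false
universe u

namespace Groth.Agent.Lib.Helper26.DenseMul

open CategoryTheory Limits AlgebraicGeometry MonoidalCategory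
open CartesianMonoidalCategory MonObj GrpObj

/-- A surjective closed immersion is universally open (it is a universal homeomorphism). -/
lemma universallyOpen_of_isClosedImmersion_of_surjective {X Y : Scheme.{u}} (f : X ⟶ Y)
    [IsClosedImmersion f] [Surjective f] : UniversallyOpen f := by
  rw [UniversallyOpen.eq]
  intro X' Y' i₁ i₂ f' hf
  have hf' : IsClosedImmersion f' := MorphismProperty.of_isPullback hf.flip inferInstance
  have hf'' : Surjective f' := MorphismProperty.of_isPullback hf.flip inferInstance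
  have : IsHomeomorph f' :=
    isHomeomorph_iff_isEmbedding_surjective.2 ⟨f'.isClosedEmbedding.isEmbedding, f'.surjective⟩
  exact this.isOpenMap

/-- Every morphism from the spectrum of a field to the spectrum of an artinian local ring is
universally open. -/
lemma universallyOpen_of_field_of_artinian (A : Type u) [CommRing A] [IsArtinianRing A]
    [IsLocalRing A] (K : Type u) [Field K]
    (f : Spec (CommRingCat.of K) ⟶ Spec (CommRingCat.of A)) : UniversallyOpen f := by
  obtain ⟨φ, rfl⟩ := Spec.map_surjective f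
  let m := IsLocalRing.maximalIdeal A
  have hker : ∀ x ∈ m, φ.hom x = 0 := by
    intro x hx
    have hx' : x ∈ (⊥ : Ideal A).jacobson := by
      rw [IsLocalRing.jacobson_eq_maximalIdeal ⊥ bot_ne_top]
      exact hx
    obtain ⟨n, hn⟩ := IsArtinianRing.isNilpotent_jacobson_bot (R := A)
    have h1 : x ^ n ∈ (⊥ : Ideal A).jacobson ^ n := Ideal.pow_mem_pow hx' n
    rw [hn] at h1
    have h2 : x ^ n = 0 := by simpa using h1
    have h3 : (φ.hom x) ^ n = 0 := by rw [← map_pow, h2, map_zero]
    exact IsNilpotent.eq_zero (show IsNilpotent (φ.hom x) from ⟨n, h3⟩)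
  let ψ : A ⧸ m →+* K := Ideal.Quotient.lift m φ.hom hker
  have hφ : φ = CommRingCat.ofHom (Ideal.Quotient.mk m) ≫ CommRingCat.ofHom ψ := by
    ext x
    simp [ψ]
  rw [hφ, Spec.map_comp]
  haveI : IsClosedImmersion (Spec.map (CommRingCat.ofHom (Ideal.Quotient.mk m))) :=
    IsClosedImmersion.spec_of_surjective _ Ideal.Quotient.mk_surjective
  haveI : Surjective (Spec.map (CommRingCat.ofHom (Ideal.Quotient.mk m))) := by
    refine ⟨fun y => ?_⟩
    obtain ⟨x⟩ : Nonempty (Spec (CommRingCat.of (A ⧸ m))) := inferInstance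
    haveI : Subsingleton (PrimeSpectrum A) := by
      refine ⟨fun p q => ?_⟩
      have hp := (IsArtinianRing.isMaximal_of_isPrime p.asIdeal)
      have hq := (IsArtinianRing.isMaximal_of_isPrime q.asIdeal)
      ext1
      rw [IsLocalRing.eq_maximalIdeal hp, IsLocalRing.eq_maximalIdeal hq]
    exact ⟨x, Subsingleton.elim (α := PrimeSpectrum A) _ _⟩
  haveI := universallyOpen_of_isClosedImmersion_of_surjective
    (Spec.map (CommRingCat.ofHom (Ideal.Quotient.mk m)))
  letI : Field (A ⧸ m) := Ideal.Quotient.field m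
  haveI : IsIntegral (Spec (CommRingCat.of (A ⧸ m))) := inferInstance
  haveI : Subsingleton ↥(Spec (CommRingCat.of (A ⧸ m))) :=
    inferInstanceAs (Subsingleton (PrimeSpectrum (A ⧸ m)))
  haveI : UniversallyOpen (Spec.map (CommRingCat.ofHom ψ)) := inferInstance
  infer_instance

/-- `U · V = G` for dense opens of a group scheme over an artinian local ring. -/
theorem exists_mul_eq (A : Type u) [CommRing A] [IsArtinianRing A] [IsLocalRing A]
    (G : Over (Spec (CommRingCat.of A))) [GrpObj G] (U V : G.left.Opens)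
    (hU : Dense (U : Set G.left)) (hV : Dense (V : Set G.left)) (g : G.left) :
    ∃ z : ↥(G ⊗ G).left, (fst G G).left.base z ∈ U ∧ (snd G G).left.base z ∈ V ∧
      μ[G].left.base z = g := by
  let x₀ := G.left.fromSpecResidueField g
  let T : Over (Spec (CommRingCat.of A)) := Over.mk (x₀ ≫ G.hom)
  let γ : T ⟶ G := Over.homMk x₀ rfl
  haveI hT : UniversallyOpen T.hom :=
    universallyOpen_of_field_of_artinian A (G.left.residueField g) (x₀ ≫ G.hom)
  have sq : IsPullback (fst G T).left (snd G T).left G.hom T.hom :=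
    IsPullback.of_hasPullback G.hom T.hom
  haveI : UniversallyOpen (fst G T).left := MorphismProperty.of_isPullback sq.flip hT
  -- the maps `x ↦ x⁻¹ γ` and `y ↦ γ y⁻¹`
  let c : G ⊗ T ⟶ G := snd G T ≫ γ
  let ψ : G ⊗ T ⟶ G := (fst G T)⁻¹ * c
  let χ : G ⊗ T ⟶ G := c * (fst G T)⁻¹
  let ψ' : G ⊗ T ⟶ G ⊗ T := lift ψ (snd G T)
  let χ' : G ⊗ T ⟶ G ⊗ T := lift χ (snd G T)
  have hψc : ψ' ≫ c = c := by
    change lift ψ (snd G T) ≫ snd G T ≫ γ = snd G T ≫ γ
    rw [lift_snd_assoc]
  have hχc : χ' ≫ c = c := by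
    change lift χ (snd G T) ≫ snd G T ≫ γ = snd G T ≫ γ
    rw [lift_snd_assoc]
  have h1 : ψ' ≫ χ' = 𝟙 _ := by
    apply CartesianMonoidalCategory.hom_ext
    · rw [Category.assoc, lift_fst, Category.id_comp]
      change ψ' ≫ (c * (fst G T)⁻¹) = _
      rw [MonObj.comp_mul, GrpObj.comp_inv, hψc, lift_fst]
      change c * ((fst G T)⁻¹ * c)⁻¹ = _
      rw [_root_.mul_inv_rev, _root_.inv_inv, mul_inv_cancel_left]
    · rw [Category.assoc, lift_snd, lift_snd, Category.id_comp]
  have h2 : χ' ≫ ψ' = 𝟙 _ := by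
    apply CartesianMonoidalCategory.hom_ext
    · rw [Category.assoc, lift_fst, Category.id_comp]
      change χ' ≫ ((fst G T)⁻¹ * c) = _
      rw [MonObj.comp_mul, GrpObj.comp_inv, hχc, lift_fst]
      change (c * (fst G T)⁻¹)⁻¹ * c = _
      rw [_root_.mul_inv_rev, _root_.inv_inv, _root_.mul_assoc, inv_mul_cancel, _root_.mul_one]
    · rw [Category.assoc, lift_snd, lift_snd, Category.id_comp]
  haveI : IsIso ψ' := ⟨χ', h1, h2⟩
  haveI : IsIso ψ'.left := (inferInstance : IsIso ((Over.forget _).map ψ'))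
  have hψ'fst : ψ'.left ≫ (fst G T).left = ψ.left := by
    rw [← Over.comp_left, lift_fst]
  -- the two dense open subsets
  have hopen : IsOpenMap (fst G T).left := (fst G T).left.isOpenMap
  have hd1 : Dense ((fst G T).left ⁻¹' (U : Set G.left)) := hU.preimage hopen
  have hd2' : Dense ((fst G T).left ⁻¹' (V : Set G.left)) := hV.preimage hopen
  have hd2 : Dense (ψ'.left ⁻¹' ((fst G T).left ⁻¹' (V : Set G.left))) :=
    hd2'.preimage ψ'.left.isOpenEmbedding.isOpenMap
  have ho2 : IsOpen (ψ'.left ⁻¹' ((fst G T).left ⁻¹' (V : Set G.left))) :=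
    (V.isOpen.preimage (fst G T).left.continuous).preimage ψ'.left.continuous
  -- the space is nonempty
  obtain ⟨t₀⟩ : Nonempty T.left :=
    (inferInstance : Nonempty (Spec (G.left.residueField g)))
  let pt : T ⟶ G ⊗ T := lift γ (𝟙 T)
  haveI : Nonempty (G ⊗ T).left := ⟨pt.left t₀⟩
  obtain ⟨z', hz2, hz1⟩ := hd1.inter_open_nonempty _ ho2 hd2.nonempty
  let m : G ⊗ T ⟶ G ⊗ G := lift (fst G T) ψ
  refine ⟨m.left z', ?_, ?_, ?_⟩
  · change (fst G G).left (m.left z') ∈ U
    rw [← Scheme.Hom.comp_apply, ← Over.comp_left, lift_fst]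
    exact hz1
  · change (snd G G).left (m.left z') ∈ V
    rw [← Scheme.Hom.comp_apply, ← Over.comp_left, lift_snd, ← hψ'fst, Scheme.Hom.comp_apply]
    exact hz2
  · change μ[G].left (m.left z') = g
    rw [← Scheme.Hom.comp_apply, ← Over.comp_left]
    have hm : m ≫ μ[G] = c := by
      change lift (fst G T) ψ ≫ μ[G] = c
      rw [← Hom.mul_def]
      change fst G T * ((fst G T)⁻¹ * c) = c
      rw [mul_inv_cancel_left]
    rw [hm]
    change (snd G T ≫ γ).left z' = g
    rw [Over.comp_left, Scheme.Hom.comp_apply]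
    exact Scheme.fromSpecResidueField_apply _ _

end Groth.Agent.Lib.Helper26.DenseMul
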