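import Groth.Prelude.Def_HopfRep
import Mathlib.RingTheory.Coalgebra.MonoidAlgebra
import Mathlib.RingTheory.Bialgebra.MonoidAlgebra
import Mathlib.LinearAlgebra.DirectSum.Finsupp
import Mathlib.LinearAlgebra.Projection

set_option autoImplicit false
set_option linter.unusedSectionVars false
open TensorProduct
open scoped Classical

universe u w

namespace Groth.Agent.Lib.Helper26.DiagComod

variable {k : Type u} [CommRing k] {M : Type u} [CommGroup M]
variable {V : Type w} [AddCommGroup V] [Module k V]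

/-- coefficient functional -/
noncomputable def ev (m : M) : MonoidAlgebra k M →ₗ[k] k :=
  Finsupp.lapply m ∘ₗ (MonoidAlgebra.coeffLinearEquiv k).toLinearMap

lemma ev_single (m x : M) (c : k) :
    ev m (MonoidAlgebra.single x c) = if x = m then c else 0 := by
  simp [ev, Finsupp.single_apply]

variable (V) in
noncomputable def q (m : M) : V ⊗[k] MonoidAlgebra k M →ₗ[k] V :=
  (TensorProduct.rid k V).toLinearMap ∘ₗ LinearMap.lTensor V (ev m)

@[simp] lemma q_tmul (m : M) (v : V) (a : MonoidAlgebra k M) : q V m (v ⊗ₜ a) = ev m a • v := by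
  simp [q]

variable (V) in
noncomputable def Φ : V ⊗[k] MonoidAlgebra k M ≃ₗ[k] (M →₀ V) :=
  (LinearEquiv.lTensor V (MonoidAlgebra.coeffLinearEquiv k)) ≪≫ₗ
    TensorProduct.finsuppScalarRight k k V M

lemma Φ_apply (t : V ⊗[k] MonoidAlgebra k M) (m : M) : Φ V t m = q V m t := by
  simp only [Φ, LinearEquiv.trans_apply, TensorProduct.finsuppScalarRight_apply, q]
  induction t with
  | zero => simp
  | tmul v a => simp [ev]
  | add x y hx hy => simp only [map_add, hx, hy]

lemma Φ_symm_single (m : M) (v : V) :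
    (Φ V).symm (Finsupp.single m v) = v ⊗ₜ MonoidAlgebra.single m (1 : k) := by
  simp [Φ, LinearEquiv.trans_symm]

/-- every tensor is the sum of its homogeneous parts -/
lemma eq_sum (t : V ⊗[k] MonoidAlgebra k M) :
    t = (Φ V t).sum (fun m x => x ⊗ₜ[k] MonoidAlgebra.single m (1 : k)) := by
  conv_lhs => rw [← (Φ V).symm_apply_apply t, ← Finsupp.sum_single (Φ V t)]
  rw [map_finsuppSum]
  simp only [Φ_symm_single]

/-- `ev n ⊗ ev m` on `A ⊗ A` -/
noncomputable def evv (n m : M) : MonoidAlgebra k M ⊗[k] MonoidAlgebra k M →ₗ[k] k :=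
  (TensorProduct.lid k k).toLinearMap ∘ₗ TensorProduct.map (ev n) (ev m)

lemma evv_comul (n m : M) :
    evv n m ∘ₗ (CoalgebraStruct.comul (R := k) (A := MonoidAlgebra k M)) =
      if n = m then ev m else 0 := by
  apply MonoidAlgebra.lhom_ext'
  intro x
  ext
  simp only [LinearMap.comp_apply, MonoidAlgebra.lsingle_apply, MonoidAlgebra.comul_single]
  simp [evv, ev_single, CommSemiring.comul_apply]
  by_cases hnm : n = m
  · subst hnm
    simp [ev_single]
    intro h1 h2
    exact absurd h2 h1
  · simp only [if_neg hnm, LinearMap.zero_apply]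
    by_cases hx : x = m
    · subst hx
      simp [Ne.symm hnm]
    · simp [hx]

lemma counit_eq (a : MonoidAlgebra k M) :
    CoalgebraStruct.counit (R := k) a = ((MonoidAlgebra.coeffLinearEquiv k) a).sum (fun _ c => c) := by
  have : (CoalgebraStruct.counit (R := k) (A := MonoidAlgebra k M)) =
      (Finsupp.lsum k (fun _ : M => (LinearMap.id : k →ₗ[k] k))) ∘ₗ
        (MonoidAlgebra.coeffLinearEquiv k).toLinearMap := by
    apply MonoidAlgebra.lhom_ext'
    intro x
    ext
    simp
  rw [this]
  simp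
  rfl

section Comod
variable [HopfRep.Comod k (MonoidAlgebra k M) V]

variable (k V) in
/-- the coaction as a finitely supported family -/
noncomputable def ρt : V →ₗ[k] (M →₀ V) :=
  (Φ V).toLinearMap ∘ₗ HopfRep.Comod.coact (k := k) (A := MonoidAlgebra k M)

variable (k V) in
/-- homogeneous projection -/
noncomputable def p (m : M) : V →ₗ[k] V :=
  q V m ∘ₗ HopfRep.Comod.coact (k := k) (A := MonoidAlgebra k M)

lemma ρt_apply (v : V) (m : M) : ρt k V v m = p k V m v := by
  simp [ρt, p, Φ_apply]

lemma Φ_tmul_single (x : V) (m : M) (c : k) :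
    Φ V (x ⊗ₜ[k] MonoidAlgebra.single m c) = Finsupp.single m (c • x) := by
  ext n
  rw [Φ_apply, q_tmul, ev_single, Finsupp.single_apply]
  split_ifs <;> simp

variable (V) in
noncomputable def Q (n m : M) : V ⊗[k] (MonoidAlgebra k M ⊗[k] MonoidAlgebra k M) →ₗ[k] V :=
  (TensorProduct.rid k V).toLinearMap ∘ₗ LinearMap.lTensor V (evv n m)

lemma Q_assoc_tmul (n m : M) (s : V ⊗[k] MonoidAlgebra k M) (a : MonoidAlgebra k M) :
    Q V n m ((TensorProduct.assoc k V (MonoidAlgebra k M) (MonoidAlgebra k M)) (s ⊗ₜ a)) =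
      ev m a • q V n s := by
  induction s with
  | zero => simp
  | tmul y b => simp [Q, evv, smul_smul, mul_comm]
  | add x y hx hy => simp only [add_tmul, map_add, hx, hy, smul_add]

lemma p_p (n m : M) (v : V) : p k V n (p k V m v) = if n = m then p k V m v else 0 := by
  have hL : Q V n m ∘ₗ (TensorProduct.assoc k V (MonoidAlgebra k M) (MonoidAlgebra k M)).toLinearMap ∘ₗ
      (HopfRep.Comod.coact (k := k) (A := MonoidAlgebra k M) (V := V)).rTensor (MonoidAlgebra k M) =
      p k V n ∘ₗ q V m := by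
    apply TensorProduct.ext'
    intro x a
    simp only [LinearMap.comp_apply, LinearMap.rTensor_tmul, LinearEquiv.coe_coe, Q_assoc_tmul,
      q_tmul, map_smul]
    rfl
  have hR : Q V n m ∘ₗ (CoalgebraStruct.comul (R := k) (A := MonoidAlgebra k M)).lTensor V =
      if n = m then q V m else 0 := by
    rw [Q, LinearMap.comp_assoc, ← LinearMap.lTensor_comp, evv_comul]
    split_ifs
    · rfl
    · simp
  have h := congrArg (fun f => Q V n m (f v)) (HopfRep.Comod.coassoc (k := k) (A := MonoidAlgebra k M) (V := V))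
  simp only [LinearMap.comp_apply] at h
  have h1 : p k V n (p k V m v) = (p k V n ∘ₗ q V m) (HopfRep.Comod.coact (k := k) (A := MonoidAlgebra k M) v) := rfl
  rw [h1, ← hL]
  simp only [LinearMap.comp_apply]
  rw [h]
  have h2 := congrArg (fun f => f (HopfRep.Comod.coact (k := k) (A := MonoidAlgebra k M) v)) hR
  simp only [LinearMap.comp_apply] at h2
  rw [h2]
  split_ifs <;> rfl

lemma sum_Φ (t : V ⊗[k] MonoidAlgebra k M) :
    (Φ V t).sum (fun _ x => x) =
      TensorProduct.rid k V ((CoalgebraStruct.counit (R := k) (A := MonoidAlgebra k M)).lTensor V t) := by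
  have : (Finsupp.lsum k (fun _ : M => (LinearMap.id : V →ₗ[k] V))) ∘ₗ (Φ V).toLinearMap =
      (TensorProduct.rid k V).toLinearMap ∘ₗ
        (CoalgebraStruct.counit (R := k) (A := MonoidAlgebra k M)).lTensor V := by
    apply TensorProduct.ext
    apply LinearMap.ext
    intro x
    apply MonoidAlgebra.lhom_ext'
    intro m
    ext
    simp [Φ_tmul_single]
  have h := congrArg (fun f => f t) this
  simp only [LinearMap.comp_apply, LinearEquiv.coe_coe, Finsupp.lsum_apply] at h
  exact h

lemma sum_p (v : V) : (ρt k V (M := M) v).sum (fun _ x => x) = v := by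
  rw [ρt, LinearMap.comp_apply, LinearEquiv.coe_coe, sum_Φ]
  have h := congrArg (fun f => f v) (HopfRep.Comod.counit_comp (k := k) (A := MonoidAlgebra k M) (V := V))
  simp only [LinearMap.comp_apply] at h
  rw [h]
  simp

lemma ρt_p (m : M) (v : V) : ρt k V (p k V m v) = Finsupp.single m (p k V m v) := by
  ext n
  rw [ρt_apply, p_p, Finsupp.single_apply]
  by_cases h : n = m
  · subst h; simp
  · rw [if_neg h, if_neg (Ne.symm h)]

end Comod

lemma q_rTensor {V' : Type w} [AddCommGroup V'] [Module k V'] (f : V →ₗ[k] V') (m : M)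
    (t : V ⊗[k] MonoidAlgebra k M) :
    q V' m (f.rTensor (MonoidAlgebra k M) t) = f (q V m t) := by
  induction t with
  | zero => simp
  | tmul y b => simp
  | add x y hx hy => simp only [map_add, hx, hy]

section Main
variable [HopfRep.Comod k (MonoidAlgebra k M) V]

theorem exists_compl (W : Submodule k V)
    (hW : HopfRep.IsSubcomod (k := k) (A := MonoidAlgebra k M) W)
    (hsplit : ∃ W' : Submodule k V, IsCompl W W') :
    ∃ W'' : Submodule k V,
      HopfRep.IsSubcomod (k := k) (A := MonoidAlgebra k M) W'' ∧ IsCompl W W'' := by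
  obtain ⟨W', hc⟩ := hsplit
  have p_mem : ∀ (m : M) (w : V), w ∈ W → p k V m w ∈ W := by
    intro m w hw
    obtain ⟨s, hs⟩ := hW w hw
    have : p k V m w = W.subtype (q W m s) := by
      rw [← q_rTensor, hs]; rfl
    rw [this]
    exact (q W m s).2
  let π : V →ₗ[k] V := W.subtype ∘ₗ W.projectionOnto W' hc
  have hπ_mem : ∀ v, π v ∈ W := fun v => (W.projectionOnto W' hc v).2
  have hπ_id : ∀ w ∈ W, π w = w := by
    intro w hw
    have := Submodule.projectionOnto_apply_left hc ⟨w, hw⟩
    exact congrArg Subtype.val this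
  let π' : V →ₗ[k] V := Finsupp.lsum k (fun m : M => p k V m ∘ₗ π) ∘ₗ ρt k V
  have π'_apply : ∀ v, π' v = (ρt k V v).sum (fun (m : M) x => p k V m (π x)) := by
    intro v
    simp only [π', LinearMap.comp_apply, Finsupp.lsum_apply]
    rfl
  have hπ'_mem : ∀ v, π' v ∈ W := by
    intro v
    rw [π'_apply, Finsupp.sum]
    exact Submodule.sum_mem _ (fun m _ => p_mem m _ (hπ_mem _))
  have hπ'_id : ∀ w ∈ W, π' w = w := by
    intro w hw
    rw [π'_apply]
    conv_rhs => rw [← sum_p (k := k) (M := M) w]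
    apply Finsupp.sum_congr
    intro m _
    rw [ρt_apply, hπ_id _ (p_mem m w hw), p_p, if_pos rfl]
  have hπ'_p : ∀ (m : M) (v : V), π' (p k V m v) = p k V m (π (p k V m v)) := by
    intro m v
    rw [π'_apply, ρt_p, Finsupp.sum_single_index]
    simp
  have hp_π' : ∀ (m : M) (v : V), p k V m (π' v) = p k V m (π (p k V m v)) := by
    intro m v
    rw [π'_apply, map_finsuppSum]
    rw [Finsupp.sum_eq_single m]
    · rw [ρt_apply, p_p, if_pos rfl]
    · intro n _ hn
      rw [p_p, if_neg (Ne.symm hn)]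
    · simp
  refine ⟨LinearMap.ker π', ?_, ?_⟩
  · intro v hv
    rw [LinearMap.mem_ker] at hv
    have hmem : ∀ m : M, p k V m v ∈ LinearMap.ker π' := by
      intro m
      rw [LinearMap.mem_ker, hπ'_p, ← hp_π', hv, map_zero]
    rw [eq_sum (HopfRep.Comod.coact (k := k) (A := MonoidAlgebra k M) v), Finsupp.sum]
    refine Submodule.sum_mem _ (fun m _ => ?_)
    refine ⟨(⟨p k V m v, hmem m⟩ : LinearMap.ker π') ⊗ₜ[k] MonoidAlgebra.single m (1 : k), ?_⟩
    rw [LinearMap.rTensor_tmul, Φ_apply]
    rfl
  · have := LinearMap.isCompl_of_proj (f := π'.codRestrict W hπ'_mem)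
      (fun x => Subtype.ext (hπ'_id x.1 x.2))
    rwa [LinearMap.ker_codRestrict] at this

end Main

end Groth.Agent.Lib.Helper26.DiagComod
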