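import Groth.Agent.S5128
import Groth.Prelude.Def_Desc

/-!
# Descent of morphisms to an étale scheme along a submersive morphism (helper26)

`exists_descend`: let `π : X' ⟶ U₁` be surjective, `U₁, U₂` schemes over `S` with `U₂` étale over `S`, and
`g : X' ⟶ U₂` an `S`-morphism which is constant on the fibres of `π` (on `T`-points).  If the morphism
`X' ×_S U₂ ⟶ U₁ ×_S U₂` induced by `π` is a topological quotient map, then `g` factors through `π`.
The proof descends the graph of `g`, an open subset, and uses helper's `S5128`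
(opens of `U₁ ×_S U₂` radicial and surjective over `U₁` are graphs).
-/

set_option autoImplicit false
universe u
open CategoryTheory CategoryTheory.Limits AlgebraicGeometry

namespace Groth.Agent.Lib.Helper26.EtaleFF

instance : MorphismProperty.DescendsAlong @UniversallyInjective.{u} @Surjective.{u} := by
  rw [universallyInjective_eq_diagonal]
  infer_instance

section Descend

variable {X' U₁ U₂ S : Scheme.{u}} (π : X' ⟶ U₁) (r₁ : U₁ ⟶ S) (r₂ : U₂ ⟶ S)
  (g : X' ⟶ U₂) (hg : g ≫ r₂ = π ≫ r₁)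

/-- the morphism `X' ×_S U₂ ⟶ U₁ ×_S U₂` induced by `π`. -/
noncomputable def rho : pullback (π ≫ r₁) r₂ ⟶ pullback r₁ r₂ :=
  pullback.map (π ≫ r₁) r₂ r₁ r₂ π (𝟙 U₂) (𝟙 S) (by simp) (by simp)

@[reassoc (attr := simp)]
lemma rho_fst : rho π r₁ r₂ ≫ pullback.fst r₁ r₂ = pullback.fst (π ≫ r₁) r₂ ≫ π :=
  pullback.lift_fst _ _ _

@[reassoc (attr := simp)]
lemma rho_snd : rho π r₁ r₂ ≫ pullback.snd r₁ r₂ = pullback.snd (π ≫ r₁) r₂ :=
  (pullback.lift_snd _ _ _).trans (Category.comp_id _)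

/-- the graph of `g`. -/
noncomputable def gam : X' ⟶ pullback (π ≫ r₁) r₂ :=
  pullback.lift (𝟙 X') g (by rw [Category.id_comp, hg])

@[reassoc (attr := simp)]
lemma gam_fst : gam π r₁ r₂ g hg ≫ pullback.fst (π ≫ r₁) r₂ = 𝟙 X' :=
  pullback.lift_fst _ _ _

@[reassoc (attr := simp)]
lemma gam_snd : gam π r₁ r₂ g hg ≫ pullback.snd (π ≫ r₁) r₂ = g :=
  pullback.lift_snd _ _ _

variable [Etale r₂]

include hg in
lemma isOpenImmersion_gam : IsOpenImmersion (gam π r₁ r₂ g hg) :=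
  (Groth.Agent.S5128.result (π ≫ r₁) r₂).1 ⟨g, hg⟩

variable (hinv : ∀ ⦃T : Scheme.{u}⦄ (a a' : T ⟶ X'), a ≫ π = a' ≫ π → a ≫ g = a' ≫ g)

include hinv in
/-- the graph of `g` is saturated for `rho`. -/
lemma mem_range_gam_of_rho_eq (z : ↥(pullback (π ≫ r₁) r₂)) (x' : X')
    (h : (rho π r₁ r₂).base z = (rho π r₁ r₂).base ((gam π r₁ r₂ g hg).base x')) :
    z ∈ Set.range (gam π r₁ r₂ g hg).base := by
  have h' : (rho π r₁ r₂).base z = (gam π r₁ r₂ g hg ≫ rho π r₁ r₂).base x' := by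
    rw [h, Scheme.Hom.comp_base]; rfl
  obtain ⟨w, hw1, hw2⟩ := Scheme.Pullback.exists_preimage_pullback
    (f := rho π r₁ r₂) (g := gam π r₁ r₂ g hg ≫ rho π r₁ r₂) z x' h'
  set zQ := pullback.fst (rho π r₁ r₂) (gam π r₁ r₂ g hg ≫ rho π r₁ r₂) with hzQ
  set xQ := pullback.snd (rho π r₁ r₂) (gam π r₁ r₂ g hg ≫ rho π r₁ r₂) with hxQ
  have cond : zQ ≫ rho π r₁ r₂ = xQ ≫ gam π r₁ r₂ g hg ≫ rho π r₁ r₂ := pullback.condition
  have c1 : (zQ ≫ pullback.fst (π ≫ r₁) r₂) ≫ π = xQ ≫ π := by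
    have := congrArg (· ≫ pullback.fst r₁ r₂) cond
    simpa using this
  have c2 : zQ ≫ pullback.snd (π ≫ r₁) r₂ = xQ ≫ g := by
    have := congrArg (· ≫ pullback.snd r₁ r₂) cond
    simpa using this
  have c3 : zQ ≫ pullback.snd (π ≫ r₁) r₂ = (zQ ≫ pullback.fst (π ≫ r₁) r₂) ≫ g := by
    rw [c2]; exact (hinv _ _ c1).symm
  have c4 : zQ = (zQ ≫ pullback.fst (π ≫ r₁) r₂) ≫ gam π r₁ r₂ g hg := by
    apply pullback.hom_ext
    · simp
    · rw [Category.assoc, gam_snd]; exact c3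
  refine ⟨(zQ ≫ pullback.fst (π ≫ r₁) r₂).base w, ?_⟩
  rw [← hw1]
  conv_rhs => rw [c4]
  rw [Scheme.Hom.comp_base]; rfl

variable (hπ : Surjective π) (hρ : Topology.IsQuotientMap (rho π r₁ r₂).base)

include hinv hρ in
lemma preimage_image_range :
    (rho π r₁ r₂).base ⁻¹' ((rho π r₁ r₂).base '' Set.range (gam π r₁ r₂ g hg).base) =
      Set.range (gam π r₁ r₂ g hg).base := by
  apply Set.Subset.antisymm
  · rintro z ⟨_, ⟨x', rfl⟩, hz⟩
    exact mem_range_gam_of_rho_eq π r₁ r₂ g hg hinv z x' hz.symm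
  · exact Set.subset_preimage_image _ _

include hinv hρ in
lemma isOpen_image_range :
    IsOpen ((rho π r₁ r₂).base '' Set.range (gam π r₁ r₂ g hg).base) := by
  rw [← hρ.isOpen_preimage, preimage_image_range π r₁ r₂ g hg hinv hρ]
  haveI := isOpenImmersion_gam π r₁ r₂ g hg
  exact (gam π r₁ r₂ g hg).isOpenEmbedding.isOpen_range

/-- the descended graph. -/
noncomputable def Gam : (pullback r₁ r₂).Opens :=
  ⟨(rho π r₁ r₂).base '' Set.range (gam π r₁ r₂ g hg).base, isOpen_image_range π r₁ r₂ g hg hinv hρ⟩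

include hπ in
lemma surjective_Gam :
    Surjective ((Gam π r₁ r₂ g hg hinv hρ).ι ≫ pullback.fst r₁ r₂) := by
  constructor
  intro u
  obtain ⟨x', rfl⟩ := hπ.surj u
  have hmem : (rho π r₁ r₂).base ((gam π r₁ r₂ g hg).base x') ∈ Gam π r₁ r₂ g hg hinv hρ :=
    ⟨_, ⟨x', rfl⟩, rfl⟩
  refine ⟨⟨_, hmem⟩, ?_⟩
  have e : gam π r₁ r₂ g hg ≫ rho π r₁ r₂ ≫ pullback.fst r₁ r₂ = π := by simp
  calc ((Gam π r₁ r₂ g hg hinv hρ).ι ≫ pullback.fst r₁ r₂).base ⟨_, hmem⟩
      = (gam π r₁ r₂ g hg ≫ rho π r₁ r₂ ≫ pullback.fst r₁ r₂).base x' := by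
        simp only [Scheme.Hom.comp_base]; rfl
    _ = π.base x' := by rw [e]

/-- a morphism to `X' ×_S U₂` whose image under `rho` lies in the descended graph factors through the
graph. -/
lemma eq_comp_gam {T : Scheme.{u}} (z : T ⟶ pullback (π ≫ r₁) r₂)
    (hz : ∀ t : T, (rho π r₁ r₂).base (z.base t) ∈ Gam π r₁ r₂ g hg hinv hρ) :
    z = (z ≫ pullback.fst (π ≫ r₁) r₂) ≫ gam π r₁ r₂ g hg := by
  haveI := isOpenImmersion_gam π r₁ r₂ g hg
  have hsub : Set.range z.base ⊆ Set.range (gam π r₁ r₂ g hg).base := by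
    rintro _ ⟨t, rfl⟩
    have := hz t
    rw [← preimage_image_range π r₁ r₂ g hg hinv hρ]
    exact this
  have hfac := IsOpenImmersion.lift_fac (gam π r₁ r₂ g hg) z hsub
  have hl : IsOpenImmersion.lift (gam π r₁ r₂ g hg) z hsub = z ≫ pullback.fst (π ≫ r₁) r₂ := by
    have := congrArg (· ≫ pullback.fst (π ≫ r₁) r₂) hfac
    simp only [Category.assoc, gam_fst, Category.comp_id] at this
    exact this
  rw [← hl, hfac]

/-- the morphism `X' ⟶ Γ` through which `gam ≫ rho` factors. -/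
noncomputable def kk : X' ⟶ (Gam π r₁ r₂ g hg hinv hρ : Scheme.{u}) :=
  IsOpenImmersion.lift (Gam π r₁ r₂ g hg hinv hρ).ι (gam π r₁ r₂ g hg ≫ rho π r₁ r₂) (by
    rw [Scheme.Opens.range_ι]
    rintro _ ⟨x', rfl⟩
    exact ⟨_, ⟨x', rfl⟩, rfl⟩)

@[reassoc]
lemma kk_ι : kk π r₁ r₂ g hg hinv hρ ≫ (Gam π r₁ r₂ g hg hinv hρ).ι =
    gam π r₁ r₂ g hg ≫ rho π r₁ r₂ :=
  IsOpenImmersion.lift_fac _ _ _

lemma isPullback_kk :
    IsPullback (𝟙 X') (kk π r₁ r₂ g hg hinv hρ) π
      ((Gam π r₁ r₂ g hg hinv hρ).ι ≫ pullback.fst r₁ r₂) := by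
  refine ⟨⟨?_⟩, ⟨PullbackCone.IsLimit.mk _ (fun c => c.fst) (fun c => Category.comp_id _) ?_ ?_⟩⟩
  · rw [Category.id_comp, kk_ι_assoc, rho_fst, gam_fst_assoc]
  · intro c
    rw [← cancel_mono (Gam π r₁ r₂ g hg hinv hρ).ι, Category.assoc, kk_ι]
    -- the point of `X' ×_S U₂`
    have hc : c.fst ≫ π = c.snd ≫ (Gam π r₁ r₂ g hg hinv hρ).ι ≫ pullback.fst r₁ r₂ := c.condition
    let z : c.pt ⟶ pullback (π ≫ r₁) r₂ :=
      pullback.lift c.fst (c.snd ≫ (Gam π r₁ r₂ g hg hinv hρ).ι ≫ pullback.snd r₁ r₂) (by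
        rw [← Category.assoc, hc]
        simp only [Category.assoc]
        rw [pullback.condition])
    have hz1 : z ≫ pullback.fst (π ≫ r₁) r₂ = c.fst := pullback.lift_fst _ _ _
    have hz2 : z ≫ pullback.snd (π ≫ r₁) r₂ =
        c.snd ≫ (Gam π r₁ r₂ g hg hinv hρ).ι ≫ pullback.snd r₁ r₂ := pullback.lift_snd _ _ _
    have hzρ : z ≫ rho π r₁ r₂ = c.snd ≫ (Gam π r₁ r₂ g hg hinv hρ).ι := by
      apply pullback.hom_ext
      · rw [Category.assoc, rho_fst, ← Category.assoc, hz1, hc, Category.assoc]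
      · rw [Category.assoc, rho_snd, hz2, Category.assoc]
    have hz : z = (z ≫ pullback.fst (π ≫ r₁) r₂) ≫ gam π r₁ r₂ g hg := by
      apply eq_comp_gam π r₁ r₂ g hg hinv hρ z
      intro t
      have e : (rho π r₁ r₂).base (z.base t) =
          (Gam π r₁ r₂ g hg hinv hρ).ι.base (c.snd.base t) := by
        have := congrArg (fun f => f.base t) hzρ
        exact this
      rw [e]
      exact (c.snd.base t).2
    rw [hz1] at hz
    rw [← hzρ, hz, Category.assoc]
  · intro c m hm _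
    rw [← hm, Category.comp_id]

include hπ in
lemma universallyInjective_Gam :
    UniversallyInjective ((Gam π r₁ r₂ g hg hinv hρ).ι ≫ pullback.fst r₁ r₂) :=
  MorphismProperty.of_isPullback_of_descendsAlong (P := @UniversallyInjective)
    (Q := @Surjective) (isPullback_kk π r₁ r₂ g hg hinv hρ) hπ
    (inferInstance : UniversallyInjective (𝟙 X'))

include hg hinv hπ hρ in
/-- Descent of a fibrewise constant morphism to an étale scheme along a surjective morphism whose base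
change to `U₁ ×_S U₂` is a quotient map. -/
theorem exists_descend : ∃ f : U₁ ⟶ U₂, f ≫ r₂ = r₁ ∧ π ≫ f = g := by
  obtain ⟨⟨f, hf⟩, hrange, -⟩ := (Groth.Agent.S5128.result r₁ r₂).2 (Gam π r₁ r₂ g hg hinv hρ)
    (universallyInjective_Gam π r₁ r₂ g hg hinv hπ hρ) (surjective_Gam π r₁ r₂ g hg hinv hπ hρ)
  refine ⟨f, hf, ?_⟩
  have hrange' : Set.range (pullback.lift (𝟙 U₁) f ((Category.id_comp r₁).trans hf.symm) :
      U₁ ⟶ pullback r₁ r₂).base = (Gam π r₁ r₂ g hg hinv hρ : Set ↥(pullback r₁ r₂)) := hrange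
  -- the graph of `π ≫ f`
  have hπf : (π ≫ f) ≫ r₂ = π ≫ r₁ := by rw [Category.assoc, hf]
  let γ'' : X' ⟶ pullback (π ≫ r₁) r₂ := gam π r₁ r₂ (π ≫ f) hπf
  have h1 : γ'' ≫ rho π r₁ r₂ =
      π ≫ (pullback.lift (𝟙 U₁) f ((Category.id_comp r₁).trans hf.symm) : U₁ ⟶ pullback r₁ r₂) := by
    apply pullback.hom_ext
    · rw [Category.assoc, rho_fst, gam_fst_assoc, Category.assoc, pullback.lift_fst,
        Category.comp_id]
    · rw [Category.assoc, rho_snd, gam_snd, Category.assoc, pullback.lift_snd]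
  have h2 : γ'' = (γ'' ≫ pullback.fst (π ≫ r₁) r₂) ≫ gam π r₁ r₂ g hg := by
    apply eq_comp_gam π r₁ r₂ g hg hinv hρ γ''
    intro t
    have e : (rho π r₁ r₂).base (γ''.base t) =
        (pullback.lift (𝟙 U₁) f ((Category.id_comp r₁).trans hf.symm) :
          U₁ ⟶ pullback r₁ r₂).base (π.base t) := by
      have := congrArg (fun f => f.base t) h1
      exact this
    rw [e]
    have : (pullback.lift (𝟙 U₁) f ((Category.id_comp r₁).trans hf.symm) :
        U₁ ⟶ pullback r₁ r₂).base (π.base t) ∈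
        (Gam π r₁ r₂ g hg hinv hρ : Set ↥(pullback r₁ r₂)) := by
      rw [← hrange']; exact ⟨_, rfl⟩
    exact this
  rw [gam_fst, Category.id_comp] at h2
  have h3 := congrArg (· ≫ pullback.snd (π ≫ r₁) r₂) h2
  have h3' : γ'' ≫ pullback.snd (π ≫ r₁) r₂ = π ≫ f := gam_snd π r₁ r₂ (π ≫ f) hπf
  have h3'' : gam π r₁ r₂ g hg ≫ pullback.snd (π ≫ r₁) r₂ = g := gam_snd π r₁ r₂ g hg
  rw [← h3', ← h3'']
  exact h3

end Descend

section Apply

open Desc

variable {X S : Scheme.{u}} (p : X ⟶ S) (U₁ U₂ : Over S)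

/-- `X ×_S (U₁ ×_S U₂)` as `(X ×_S U₁) ×_S U₂`. -/
noncomputable def assocIso :
    pullback (pullback.snd p U₁.hom ≫ U₁.hom) U₂.hom ≅
      pullback p (pullback.fst U₁.hom U₂.hom ≫ U₁.hom) where
  hom := pullback.lift (pullback.fst (pullback.snd p U₁.hom ≫ U₁.hom) U₂.hom ≫ pullback.fst p U₁.hom)
    (rho (pullback.snd p U₁.hom) U₁.hom U₂.hom) (by
      rw [← Category.assoc, rho_fst, Category.assoc, Category.assoc, pullback.condition])
  inv := pullback.lift
    (pullback.lift (pullback.fst p (pullback.fst U₁.hom U₂.hom ≫ U₁.hom))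
      (pullback.snd p (pullback.fst U₁.hom U₂.hom ≫ U₁.hom) ≫ pullback.fst U₁.hom U₂.hom) (by
      rw [Category.assoc]; exact pullback.condition))
    (pullback.snd p (pullback.fst U₁.hom U₂.hom ≫ U₁.hom) ≫ pullback.snd U₁.hom U₂.hom) (by
      rw [← Category.assoc, pullback.lift_snd, Category.assoc, Category.assoc, pullback.condition])
  hom_inv_id := by
    apply pullback.hom_ext
    · apply pullback.hom_ext
      · simp only [Category.assoc, pullback.lift_fst, Category.id_comp]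
      · simp only [Category.assoc, pullback.lift_fst, pullback.lift_snd, Category.id_comp]
        rw [pullback.lift_snd_assoc, rho_fst]
    · simp only [Category.assoc, pullback.lift_snd, Category.id_comp]
      rw [pullback.lift_snd_assoc, rho_snd]
  inv_hom_id := by
    apply pullback.hom_ext
    · simp only [Category.assoc, pullback.lift_fst, Category.id_comp]
      rw [pullback.lift_fst_assoc, pullback.lift_fst]
    · simp only [Category.assoc, pullback.lift_snd, Category.id_comp]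
      apply pullback.hom_ext
      · rw [Category.assoc, rho_fst, pullback.lift_fst_assoc, pullback.lift_snd]
      · rw [Category.assoc, rho_snd, pullback.lift_snd]

lemma assocIso_hom_snd :
    (assocIso p U₁ U₂).hom ≫ pullback.snd p (pullback.fst U₁.hom U₂.hom ≫ U₁.hom) =
      rho (pullback.snd p U₁.hom) U₁.hom U₂.hom :=
  pullback.lift_snd _ _ _

variable [Etale U₁.hom] [Etale U₂.hom]

/-- Let `p : X ⟶ S` be such that `X ×_S U ⟶ U` is a quotient map for every `U` étale over `S`.  Then the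
canonical-descent-datum functor is full on schemes étale over `S`. -/
theorem toDD_map_surjective
    (hp : ∀ U : Over S, Etale U.hom → Topology.IsQuotientMap (pullback.snd p U.hom).base) :
    Function.Surjective ((toDD p).map : (U₁ ⟶ U₂) → _) := by
  intro ψ
  let ψl : pullback p U₁.hom ⟶ pullback p U₂.hom := ψ.hom.left
  have hψfst : ψl ≫ pullback.fst p U₂.hom = pullback.fst p U₁.hom := Over.w ψ.hom
  have hg : (ψl ≫ pullback.snd p U₂.hom) ≫ U₂.hom = pullback.snd p U₁.hom ≫ U₁.hom := by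
    rw [Category.assoc, ← pullback.condition, ← Category.assoc, hψfst, pullback.condition]
  have hinv : ∀ ⦃T : Scheme.{u}⦄ (a a' : T ⟶ pullback p U₁.hom),
      a ≫ pullback.snd p U₁.hom = a' ≫ pullback.snd p U₁.hom →
      a ≫ ψl ≫ pullback.snd p U₂.hom = a' ≫ ψl ≫ pullback.snd p U₂.hom := by
    intro T a a' haa'
    have h : (a ≫ pullback.fst p U₁.hom) ≫ p = (a' ≫ pullback.fst p U₁.hom) ≫ p := by
      rw [Category.assoc, Category.assoc, pullback.condition, ← Category.assoc, ← Category.assoc,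
        haa']
    let v : Lifts ((toDD p).obj U₁).obj (a ≫ pullback.fst p U₁.hom) := ⟨a, rfl⟩
    let w : Lifts ((toDD p).obj U₂).obj (a ≫ pullback.fst p U₁.hom) :=
      ⟨a ≫ ψl, by
        show (a ≫ ψl) ≫ pullback.fst p U₂.hom = _
        rw [Category.assoc, hψfst]⟩
    have hcomm : (((toDD p).obj U₂).φ (a ≫ pullback.fst p U₁.hom) (a' ≫ pullback.fst p U₁.hom) h
        w).1 = (((toDD p).obj U₁).φ (a ≫ pullback.fst p U₁.hom) (a' ≫ pullback.fst p U₁.hom) h
        v).1 ≫ ψl :=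
      ψ.comm (a ≫ pullback.fst p U₁.hom) (a' ≫ pullback.fst p U₁.hom) h v w rfl
    have hv : (((toDD p).obj U₁).φ (a ≫ pullback.fst p U₁.hom) (a' ≫ pullback.fst p U₁.hom) h
        v).1 = a' := by
      apply pullback.hom_ext
      · exact pullback.lift_fst _ _ _
      · exact (pullback.lift_snd _ _ _).trans haa'
    have hw : (((toDD p).obj U₂).φ (a ≫ pullback.fst p U₁.hom) (a' ≫ pullback.fst p U₁.hom) h
        w).1 ≫ pullback.snd p U₂.hom = (a ≫ ψl) ≫ pullback.snd p U₂.hom :=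
      pullback.lift_snd _ _ _
    rw [hcomm, hv] at hw
    rw [← Category.assoc, ← Category.assoc]
    exact hw.symm
  have hπ : Surjective (pullback.snd p U₁.hom) := ⟨(hp U₁ inferInstance).surjective⟩
  have hρ : Topology.IsQuotientMap (rho (pullback.snd p U₁.hom) U₁.hom U₂.hom).base := by
    have h1 := hp (Over.mk (pullback.fst U₁.hom U₂.hom ≫ U₁.hom)) (by dsimp; infer_instance)
    have h2 : (rho (pullback.snd p U₁.hom) U₁.hom U₂.hom).base =
        (assocIso p U₁ U₂).hom.base ≫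
          (pullback.snd p (pullback.fst U₁.hom U₂.hom ≫ U₁.hom)).base := by
      rw [← Scheme.Hom.comp_base, assocIso_hom_snd]
    rw [h2]
    exact h1.comp (assocIso p U₁ U₂).hom.homeomorph.isQuotientMap
  obtain ⟨f, hf1, hf2⟩ := exists_descend (pullback.snd p U₁.hom) U₁.hom U₂.hom
    (ψl ≫ pullback.snd p U₂.hom) hg hinv hπ hρ
  refine ⟨Over.homMk f hf1, ?_⟩
  apply SchDD.hom_ext
  apply Over.OverMorphism.ext
  refine pullback.hom_ext (f := p) (g := U₂.hom) ?_ ?_
  · refine (pullback.lift_fst _ _ _).trans ?_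
    rw [Category.comp_id]
    exact hψfst.symm
  · refine (pullback.lift_snd _ _ _).trans ?_
    exact hf2

end Apply

end Groth.Agent.Lib.Helper26.EtaleFF
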