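import Groth.Agent.Lib.Helper26.FpqcQuot
import Groth.Agent.Lib.Helper71.FppfChart
import Mathlib.AlgebraicGeometry.Morphisms.Etale

/-!
# The quotient of a flat group scheme by an open subgroup is étale (helper26)
-/

set_option autoImplicit false
open CategoryTheory CategoryTheory.Limits MonoidalCategory AlgebraicGeometry
open MonObj CartesianMonoidalCategory SemiCartesianMonoidalCategory
open scoped MonObj
universe v₁ u₁ u

namespace Groth.Agent.Lib.Helper26.EtaleQuot

section Abstract

variable {𝒮 : Type u₁} [Category.{v₁} 𝒮] [CartesianMonoidalCategory 𝒮] {Q : 𝒮} [GrpObj Q]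

/-- The diagonal of a group object is the base change of its unit section along
`(x, y) ↦ x⁻¹ y`. -/
theorem isPullback_diag_unit :
    IsPullback (lift (𝟙 Q) (𝟙 Q)) (toUnit Q) ((fst Q Q)⁻¹ * snd Q Q) η[Q] := by
  have key : ∀ s : PullbackCone ((fst Q Q)⁻¹ * snd Q Q) η[Q],
      s.fst ≫ snd Q Q = s.fst ≫ fst Q Q := by
    intro s
    have h := s.condition
    rw [comp_mul, GrpObj.comp_inv, toUnit_unique s.snd (toUnit _), ← Hom.one_def,
      inv_mul_eq_one] at h
    exact h.symm
  refine ⟨⟨?_⟩, ⟨PullbackCone.IsLimit.mk _ (fun s => s.fst ≫ fst Q Q) ?_ ?_ ?_⟩⟩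
  · rw [comp_mul, GrpObj.comp_inv, lift_fst, lift_snd, inv_mul_cancel, Hom.one_def]
  · intro s
    apply CartesianMonoidalCategory.hom_ext
    · rw [Category.assoc, lift_fst, Category.comp_id]
    · rw [Category.assoc, lift_snd, Category.comp_id, key s]
  · intro s
    exact toUnit_unique _ _
  · intro s m h1 _
    rw [← h1, Category.assoc, lift_fst, Category.comp_id]

end Abstract

variable {S : Scheme.{u}} {G0 G Q : Over S} [GrpObj G0] [GrpObj G] [GrpObj Q]

/-- A group scheme whose unit section is an open immersion is formally unramified. -/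
theorem formallyUnramified_of_unit_isOpenImmersion (hη : IsOpenImmersion η[Q].left) :
    FormallyUnramified Q.hom := by
  have sqΔ := (isPullback_diag_unit (Q := Q)).map (Over.forget S)
  have hΔ : IsOpenImmersion (lift (𝟙 Q) (𝟙 Q)).left :=
    MorphismProperty.of_isPullback (P := @IsOpenImmersion) sqΔ.flip hη
  rw [Groth.Agent.Lib.Helper26.FpqcQuot.diagonal_left] at hΔ
  infer_instance

theorem etale_of_open_kernel (i : G0 ⟶ G) [IsOpenImmersion i.left] (p : G ⟶ Q)
    [Surjective p.left] [Flat p.left] [LocallyOfFinitePresentation p.left]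
    (hK : AlgGrp.IsKernel i p) [Flat G.hom] [LocallyOfFinitePresentation G.hom] :
    Etale Q.hom := by
  have sqK : IsPullback i.left (toUnit G0).left p.left η[Q].left := hK.map (Over.forget S)
  have hη : IsOpenImmersion η[Q].left :=
    MorphismProperty.of_isPullback_of_descendsAlong (P := @IsOpenImmersion)
      (Q := (@Surjective ⊓ @Flat ⊓ @LocallyOfFinitePresentation : MorphismProperty Scheme.{u}))
      sqK ⟨⟨inferInstance, inferInstance⟩, inferInstance⟩ (inferInstance : IsOpenImmersion i.left)
  haveI := formallyUnramified_of_unit_isOpenImmersion hη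
  haveI : Flat (p.left ≫ Q.hom) := by rw [Over.w p]; infer_instance
  haveI : Flat Q.hom := Groth.Agent.Lib.Helper26.FpqcQuot.flat_of_flat_comp p.left Q.hom
  haveI : LocallyOfFinitePresentation (p.left ≫ Q.hom) := by rw [Over.w p]; infer_instance
  haveI : LocallyOfFinitePresentation Q.hom :=
    Groth.Agent.Lib.Helper71.FppfChart.locallyOfFinitePresentation_of_fppf_comp p.left Q.hom
  exact Etale.of_formallyUnramified_of_flat Q.hom

end Groth.Agent.Lib.Helper26.EtaleQuot
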