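import Groth.Prelude.Def_SekSuwa2
import Mathlib

/-!
# α^{λ,N} : G_{λ,N} → μ_N is an isomorphism where λ is invertible (helper26)

Functor-of-points proof: for an `R`-scheme `W` on which `λ` is invertible, composition with
`alphaN` is a bijection `Hom_R(W, G_{λ,N}) → Hom_R(W, μ_N)`; hence `alphaN` becomes an isomorphism
after base change along any `t : T ⟶ Spec R` inverting `λ`.
-/

set_option autoImplicit false
universe u

open CategoryTheory Limits AlgebraicGeometry

namespace Groth.Agent.Lib.Helper26.SekSuwaGeneric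

open SekSuwa

/-! ### A right adjoint maps `g` to an iso if composition with `g` is bijective on `F`-objects -/

theorem isIso_map_of_bijective {C D : Type*} [Category C] [Category D] {F : C ⥤ D} {U : D ⥤ C}
    (adj : F ⊣ U) {G G' : D} (g : G ⟶ G')
    (hg : ∀ T : C, Function.Bijective (fun x : F.obj T ⟶ G => x ≫ g)) : IsIso (U.map g) := by
  refine isIso_of_yoneda_map_bijective _ (fun T => ?_)
  have e : (fun x : T ⟶ U.obj G => x ≫ U.map g) =
      (adj.homEquiv T G') ∘ (fun x : F.obj T ⟶ G => x ≫ g) ∘ (adj.homEquiv T G).symm := by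
    funext x
    simp only [Function.comp_apply]
    rw [Adjunction.homEquiv_naturality_right, Equiv.apply_symm_apply]
  rw [e]
  exact (adj.homEquiv T G').bijective.comp ((hg T).comp (adj.homEquiv T G).symm.bijective)

/-! ### Morphisms to an affine scheme and ring maps -/

section ToΓ
variable {T : Scheme.{u}} {B C : CommRingCat.{u}}

/-- The ring map attached to a morphism to an affine scheme. -/
noncomputable def toΓ (x : T ⟶ Spec B) : B ⟶ Γ(T, ⊤) := (Scheme.ΓSpecIso B).inv ≫ x.appTop

/-- The morphism to an affine scheme attached to a ring map. -/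
noncomputable def ofΓ (ψ : B ⟶ Γ(T, ⊤)) : T ⟶ Spec B := T.toSpecΓ ≫ Spec.map ψ

theorem toΓ_injective : Function.Injective (toΓ (T := T) (B := B)) := by
  intro x y hxy
  exact ext_to_Spec (R := B) hxy

theorem toΓ_comp (x : T ⟶ Spec B) (φ : C ⟶ B) : toΓ (x ≫ Spec.map φ) = φ ≫ toΓ x := by
  unfold toΓ
  rw [Scheme.Hom.comp_appTop, ← Category.assoc, ← Scheme.ΓSpecIso_inv_naturality, Category.assoc]

theorem toΓ_comp' {T' : Scheme.{u}} (y : T' ⟶ T) (x : T ⟶ Spec B) :
    toΓ (y ≫ x) = toΓ x ≫ y.appTop := by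
  unfold toΓ
  rw [Scheme.Hom.comp_appTop, Category.assoc]

theorem toΓ_ofΓ (ψ : B ⟶ Γ(T, ⊤)) : toΓ (ofΓ ψ) = ψ := by
  unfold ofΓ
  rw [toΓ_comp]
  unfold toΓ
  rw [Scheme.toSpecΓ_appTop, Iso.inv_hom_id, Category.comp_id]

end ToΓ

/-! ### The algebra: `R`-algebra maps out of the coordinate rings when `λ` is invertible -/

section Alg
variable {R : Type u} [CommRing R] {lam : R} {N : ℕ} {h : DivCond lam N}
  {C : Type u} [CommRing C] [Algebra R C]

theorem AK_u_mul_inv : (1 + lam • (AK.t : AK R lam N h)) * AK.inv = 1 := by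
  have := congrArg (AK.mkHom R lam N h) (A.u_mul_inv (R := R) (lam := lam))
  rw [map_mul, map_one, A.u, map_add, map_one, map_smul] at this
  exact this

theorem algHom_AK_ext (hu : IsUnit (algebraMap R C lam)) (φ₁ φ₂ : AK R lam N h →ₐ[R] C)
    (he : φ₁ (1 + lam • AK.t) = φ₂ (1 + lam • AK.t)) : φ₁ = φ₂ := by
  have ht : φ₁ AK.t = φ₂ AK.t := by
    have he' := he
    rw [map_add, map_add, map_one, map_one, map_smul, map_smul, Algebra.smul_def,
      Algebra.smul_def] at he'
    exact hu.mul_left_cancel (add_left_cancel he')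
  refine AK.algHom_ext ht ?_
  have h1 : φ₁ (1 + lam • AK.t) * φ₁ AK.inv = 1 := by
    rw [← map_mul, AK_u_mul_inv, map_one]
  have h2 : φ₂ (1 + lam • AK.t) * φ₂ AK.inv = 1 := by
    rw [← map_mul, AK_u_mul_inv, map_one]
  calc φ₁ AK.inv = φ₁ AK.inv * (φ₂ (1 + lam • AK.t) * φ₂ AK.inv) := by rw [h2, mul_one]
    _ = (φ₁ (1 + lam • AK.t) * φ₁ AK.inv) * φ₂ AK.inv := by rw [← he]; ring
    _ = φ₂ AK.inv := by rw [h1, one_mul]

theorem algHom_monoidAlgebra_ext [NeZero N]
    (ψ₁ ψ₂ : MonoidAlgebra R (Multiplicative (ZMod N)) →ₐ[R] C)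
    (he : ψ₁ (MonoidAlgebra.single (Multiplicative.ofAdd (1 : ZMod N)) 1) =
      ψ₂ (MonoidAlgebra.single (Multiplicative.ofAdd (1 : ZMod N)) 1)) : ψ₁ = ψ₂ := by
  refine MonoidAlgebra.algHom_ext (fun g => ?_) (Subsingleton.elim _ _)
  obtain ⟨k, rfl⟩ : ∃ k : ℕ, g = Multiplicative.ofAdd ((k : ZMod N)) :=
    ⟨(Multiplicative.toAdd g).val, by simp⟩
  have e : MonoidAlgebra.single (Multiplicative.ofAdd (k : ZMod N)) (1 : R) =
      (MonoidAlgebra.single (Multiplicative.ofAdd (1 : ZMod N)) 1) ^ k := by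
    rw [MonoidAlgebra.single_pow, one_pow, ← ofAdd_nsmul, nsmul_one]
  rw [e, map_pow, map_pow, he]

theorem exists_algHom_AK [NeZero N] (hu : IsUnit (algebraMap R C lam))
    (ψ : MonoidAlgebra R (Multiplicative (ZMod N)) →ₐ[R] C) :
    ∃ φ : AK R lam N h →ₐ[R] C,
      φ.comp (alphaNHom R lam N h : MonoidAlgebra R (Multiplicative (ZMod N)) →ₐ[R] AK R lam N h) = ψ := by
  set v := ψ (MonoidAlgebra.single (Multiplicative.ofAdd (1 : ZMod N)) 1) with hv
  set c := ψ (MonoidAlgebra.single (Multiplicative.ofAdd (-1 : ZMod N)) 1) with hc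
  have hvc : v * c = 1 := by
    rw [hv, hc, ← map_mul, MonoidAlgebra.single_mul_single, ← ofAdd_add, add_neg_cancel, ofAdd_zero,
      one_mul]
    exact map_one ψ
  have hvN : v ^ N = 1 := by
    rw [hv, ← map_pow, MonoidAlgebra.single_pow, one_pow, ← ofAdd_nsmul, nsmul_one,
      ZMod.natCast_self, ofAdd_zero]
    exact map_one ψ
  obtain ⟨w, hw⟩ := hu
  set b : C := ↑w⁻¹ * (v - 1) with hb
  have hlb : 1 + lam • b = v := by
    rw [Algebra.smul_def, ← hw, hb, ← mul_assoc, Units.mul_inv, one_mul]; ring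
  have hrel : (1 + lam • b) * c = 1 := by rw [hlb, hvc]
  let φ₀ : A R lam →ₐ[R] C := A.lift R lam b c hrel
  have hker : φ₀ (kerGen lam N h) = 0 := by
    have h1 : φ₀ (kerGen lam N h) = Polynomial.aeval b (psiPoly lam N h) := by
      rw [kerGen, ← Polynomial.aeval_algHom_apply, A.lift_t]
    have h2 := aeval_psiPoly h (B := C) b
    rw [← Algebra.smul_def lam b, hlb, hvN, sub_self] at h2
    have hu' : IsUnit (algebraMap R C (lam ^ N)) := by
      rw [map_pow, ← hw]; exact w.isUnit.pow N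
    rw [h1]
    exact (hu'.mul_right_eq_zero).mp h2
  let φ : AK R lam N h →ₐ[R] C := Ideal.Quotient.liftₐ (kerIdeal lam N h) φ₀ (by
    intro z hz
    obtain ⟨d, rfl⟩ := Ideal.mem_span_singleton'.mp hz
    rw [map_mul, hker, mul_zero])
  refine ⟨φ, algHom_monoidAlgebra_ext _ _ ?_⟩
  rw [AlgHom.comp_apply]
  have e1 : (alphaNHom R lam N h : MonoidAlgebra R (Multiplicative (ZMod N)) →ₐ[R] AK R lam N h)
      (MonoidAlgebra.single (Multiplicative.ofAdd (1 : ZMod N)) 1) = 1 + lam • AK.t :=
    alphaNHom_single_one R lam N h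
  have e2 : φ AK.t = b := by
    change φ₀ A.t = b
    exact A.lift_t _ _ _
  rw [e1, map_add, map_one, map_smul, e2, hlb]

end Alg

/-! ### Points of affine `R`-schemes with values in an `R`-scheme `W` -/

section Pts
variable {R : Type u} [CommRing R]

/-- The `R`-algebra structure on the global sections of an `R`-scheme. -/
@[reducible] noncomputable def algΓ (W : Over (Spec (CommRingCat.of R))) : Algebra R Γ(W.left, ⊤) :=
  (toΓ W.hom).hom.toAlgebra

attribute [local instance] algΓ

variable {W : Over (Spec (CommRingCat.of R))} {B : Type u} [CommRing B] [Algebra R B]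

theorem toΓ_over (x : W ⟶ (Spec (.of B)).asOver (Spec (.of R))) :
    CommRingCat.ofHom (algebraMap R B) ≫ toΓ x.left = toΓ W.hom :=
  (toΓ_comp (T := W.left) (B := CommRingCat.of B) x.left
    (CommRingCat.ofHom (algebraMap R B))).symm.trans (congrArg toΓ (Over.w x))

/-- The algebra map attached to a `W`-valued point of `Spec B`. -/
noncomputable def toAlgHom (x : W ⟶ (Spec (.of B)).asOver (Spec (.of R))) : B →ₐ[R] Γ(W.left, ⊤) :=
  { (toΓ x.left).hom with commutes' := fun r => congr($(toΓ_over x).hom r) }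

theorem toAlgHom_apply (x : W ⟶ (Spec (.of B)).asOver (Spec (.of R))) (b : B) :
    toAlgHom x b = (toΓ x.left).hom b := rfl

theorem toAlgHom_injective :
    Function.Injective (toAlgHom (W := W) (B := B)) := by
  intro x y hxy
  apply Over.OverMorphism.ext
  apply toΓ_injective
  ext b
  exact DFunLike.congr_fun hxy b

/-- The `W`-valued point of `Spec B` attached to an algebra map. -/
noncomputable def ofAlgHom (φ : B →ₐ[R] Γ(W.left, ⊤)) : W ⟶ (Spec (.of B)).asOver (Spec (.of R)) :=
  Over.homMk (ofΓ (CommRingCat.ofHom φ.toRingHom)) (by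
    apply toΓ_injective
    change toΓ (ofΓ _ ≫ Spec.map (CommRingCat.ofHom (algebraMap R B))) = _
    rw [toΓ_comp, toΓ_ofΓ]
    ext r
    exact φ.commutes r)

theorem toAlgHom_ofAlgHom (φ : B →ₐ[R] Γ(W.left, ⊤)) : toAlgHom (ofAlgHom φ) = φ := by
  ext b
  change (toΓ (ofΓ (CommRingCat.ofHom φ.toRingHom))).hom b = φ b
  rw [toΓ_ofΓ]
  rfl

theorem toAlgHom_comp_specHom {B₁ B₂ : Type u} [CommRing B₁] [CommRing B₂] [Bialgebra R B₁]
    [Bialgebra R B₂] (f : B₁ →ₐc[R] B₂) (x : W ⟶ (Spec (.of B₂)).asOver (Spec (.of R))) :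
    toAlgHom (x ≫ specHom f) = (toAlgHom x).comp (f : B₁ →ₐ[R] B₂) := by
  ext b
  change (toΓ (x.left ≫ Spec.map (CommRingCat.ofHom (f : B₁ →+* B₂)))).hom b = _
  exact congr($(toΓ_comp (T := W.left) (B := CommRingCat.of B₂) x.left
    (CommRingCat.ofHom (f : B₁ →+* B₂))).hom b)

variable (R) in
theorem bijective_comp_alphaN (lam : R) (N : ℕ) [NeZero N] (h : DivCond lam N)
    (W : Over (Spec (CommRingCat.of R))) (hu : IsUnit (algebraMap R Γ(W.left, ⊤) lam)) :
    Function.Bijective (fun x : W ⟶ GK R lam N h => x ≫ alphaN R lam N h) := by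
  constructor
  · intro x y hxy
    apply toAlgHom_injective
    apply algHom_AK_ext hu
    have e := congrArg toAlgHom hxy
    simp only [alphaN, toAlgHom_comp_specHom] at e
    have e' := DFunLike.congr_fun e (MonoidAlgebra.single (Multiplicative.ofAdd (1 : ZMod N)) 1)
    rw [AlgHom.comp_apply, AlgHom.comp_apply] at e'
    have e1 : (alphaNHom R lam N h : MonoidAlgebra R (Multiplicative (ZMod N)) →ₐ[R] AK R lam N h)
        (MonoidAlgebra.single (Multiplicative.ofAdd (1 : ZMod N)) 1) = 1 + lam • AK.t :=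
      alphaNHom_single_one R lam N h
    rw [e1] at e'
    exact e'
  · intro y
    obtain ⟨φ, hφ⟩ := exists_algHom_AK (h := h) hu (toAlgHom y)
    refine ⟨ofAlgHom φ, ?_⟩
    apply toAlgHom_injective
    change toAlgHom (ofAlgHom φ ≫ specHom _) = _
    rw [toAlgHom_comp_specHom, toAlgHom_ofAlgHom, hφ]

end Pts

/-! ### Base change of `alphaN` along a morphism inverting `λ` -/

section BC
variable (R : Type u) [CommRing R] (lam : R) (N : ℕ) [NeZero N] (h : DivCond lam N)

theorem isIso_pullback_alphaN {T : Scheme.{u}} (t : T ⟶ Spec (CommRingCat.of R))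
    (ht : IsUnit ((toΓ t).hom lam)) : IsIso ((Over.pullback t).map (alphaN R lam N h)) := by
  refine isIso_map_of_bijective (Over.mapPullbackAdj t) _ (fun T' => ?_)
  refine bijective_comp_alphaN R lam N h ((Over.map t).obj T') ?_
  change IsUnit ((toΓ (T'.hom ≫ t)).hom lam)
  rw [toΓ_comp']
  exact ht.map T'.hom.appTop.hom

end BC

/-! ### The generic point of a flat integral `R`-scheme inverts non-zero-divisors -/

theorem flat_fromSpecStalk (X : Scheme.{u}) (x : X) : Flat (X.fromSpecStalk x) := by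
  obtain ⟨_, ⟨U, hU, rfl⟩, hxU, -⟩ :=
    X.isBasis_affineOpens.exists_subset_of_mem_open (Set.mem_univ x) isOpen_univ
  rw [← hU.fromSpecStalk_eq_fromSpecStalk hxU]
  unfold IsAffineOpen.fromSpecStalk
  haveI : Flat (Spec.map (X.presheaf.germ U x hxU)) := by
    rw [Flat.SpecMap_iff]
    letI := X.presheaf.algebra_section_stalk ⟨x, hxU⟩
    haveI := hU.isLocalization_stalk ⟨x, hxU⟩
    exact IsLocalization.flat _ (hU.primeIdealOf ⟨x, hxU⟩).asIdeal.primeCompl
  haveI : IsOpenImmersion hU.fromSpec := hU.isOpenImmersion_fromSpec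
  infer_instance

theorem isUnit_toΓ_gen {R : Type u} [CommRing R] {X : Scheme.{u}} [IsIntegral X]
    (f : X ⟶ Spec (CommRingCat.of R)) [Flat f] (lam : R) (hlam : lam ∈ nonZeroDivisors R) :
    IsUnit ((toΓ (X.fromSpecStalk (genericPoint X) ≫ f)).hom lam) := by
  haveI := flat_fromSpecStalk X (genericPoint X)
  set t := X.fromSpecStalk (genericPoint X) ≫ f with ht
  have hflat : (toΓ t).hom.Flat := by
    unfold toΓ
    rw [CommRingCat.hom_comp]
    refine RingHom.Flat.comp ?_ (Scheme.Hom.flat_appTop t)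
    exact RingHom.Flat.of_bijective
      (ConcreteCategory.bijective_of_isIso (Scheme.ΓSpecIso (CommRingCat.of R)).inv)
  set z := (toΓ t).hom lam with hz
  have hreg : IsSMulRegular Γ(Spec X.functionField, ⊤) z := by
    letI := (toΓ t).hom.toAlgebra
    haveI : Module.Flat R Γ(Spec X.functionField, ⊤) := hflat
    have : IsSMulRegular R lam := by
      intro a b hab
      exact mul_cancel_left_mem_nonZeroDivisors hlam |>.mp hab
    exact this.of_flat
  have hz0 : (Scheme.ΓSpecIso X.functionField).hom.hom z ≠ 0 := by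
    intro h0
    have hz' : z = 0 := by
      have := congrArg (Scheme.ΓSpecIso X.functionField).inv.hom h0
      rwa [map_zero, ← CommRingCat.comp_apply, Iso.hom_inv_id, CommRingCat.id_apply] at this
    have h10 : (1 : Γ(Spec X.functionField, ⊤)) = 0 := by
      apply hreg
      simp [hz']
    have := congrArg (Scheme.ΓSpecIso X.functionField).hom.hom h10
    rw [map_one, map_zero] at this
    exact one_ne_zero this
  have hu := (isUnit_iff_ne_zero.mpr hz0).map (Scheme.ΓSpecIso X.functionField).inv.hom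
  rwa [← CommRingCat.comp_apply, Iso.hom_inv_id, CommRingCat.id_apply] at hu

end Groth.Agent.Lib.Helper26.SekSuwaGeneric
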