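import Groth.Agent.Lib.Helper26.ValSection
import Groth.Agent.Lib.Helper26.NeronTorsor
import Groth.Agent.Lib.Helper26.SekSuwaGeneric
import Groth.Agent.Lib.Helper24.SmoothNormalStalk
import Groth.Agent.Lib.Helper70.WeilF
import Groth.Prelude.Def_Pi1

/-!
# Torsors under étale groups over a normal integral base (helper26)

Let `G` be an étale group scheme over a field `k`, `S` a normal integral `k`-scheme and `E` an fppf
torsor over `S` under `G_S`.  Then every point of `E` with values in the function field of `S`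
extends uniquely to a section of `E` over `S`.
-/

set_option autoImplicit false
universe u

open CategoryTheory Limits AlgebraicGeometry MonoidalCategory CartesianMonoidalCategory

namespace Groth.Agent.Lib.Helper26.EtaleTorsorNormal

open Groth.Agent.Lib.Helper26.NeronTorsor

section Alg

/-- Factor a ring homomorphism through an injective one containing its range. -/
theorem exists_ringHom_factor {C B L : Type*} [CommRing C] [CommRing B] [CommRing L]
    (φ : C →+* L) (ι : B →+* L) (hι : Function.Injective ι) (h : ∀ c, ∃ b, ι b = φ c) :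
    ∃ ψ : C →+* B, ι.comp ψ = φ := by
  choose f hf using h
  refine ⟨{ toFun := f, map_one' := ?_, map_mul' := ?_, map_zero' := ?_, map_add' := ?_ }, ?_⟩
  · apply hι; rw [hf, map_one, map_one]
  · intro x y; apply hι; rw [hf, map_mul, map_mul, hf, hf]
  · apply hι; rw [hf, map_zero, map_zero]
  · intro x y; apply hι; rw [hf, map_add, map_add, hf, hf]
  · ext c; exact hf c

theorem isFractionRing_of_isLocalization_fractionRing {B BK L : Type*} [CommRing B] [IsDomain B]
    [CommRing BK] [Algebra B BK] (M : Submonoid B) (hM : M ≤ nonZeroDivisors B)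
    [IsLocalization M BK] [Field L] [Algebra BK L] [Algebra B L] [IsScalarTower B BK L]
    [IsFractionRing BK L] : IsFractionRing B L := by
  haveI : IsDomain BK := IsLocalization.isDomain_of_le_nonZeroDivisors BK hM
  have inj : Function.Injective (algebraMap B L) := by
    rw [IsScalarTower.algebraMap_eq B BK L]
    exact (IsFractionRing.injective BK L).comp (IsLocalization.injective BK hM)
  haveI : FaithfulSMul B L := (faithfulSMul_iff_algebraMap_injective B L).mpr inj
  refine IsFractionRing.of_field (R := B) (K := L) fun z => ?_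
  obtain ⟨x, y, hy, rfl⟩ := IsFractionRing.div_surjective (A := BK) z
  obtain ⟨⟨a, m⟩, rfl⟩ := IsLocalization.mk'_surjective M x
  obtain ⟨⟨c, n⟩, rfl⟩ := IsLocalization.mk'_surjective M y
  refine ⟨a * n, c * m, ?_⟩
  have h1 : algebraMap BK L (IsLocalization.mk' BK a m) * algebraMap B L m = algebraMap B L a := by
    rw [IsScalarTower.algebraMap_apply B BK L, IsScalarTower.algebraMap_apply B BK L, ← map_mul,
      IsLocalization.mk'_spec]
  have h2 : algebraMap BK L (IsLocalization.mk' BK c n) * algebraMap B L n = algebraMap B L c := by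
    rw [IsScalarTower.algebraMap_apply B BK L, IsScalarTower.algebraMap_apply B BK L, ← map_mul,
      IsLocalization.mk'_spec]
  have hm : algebraMap B L m ≠ 0 := by
    rw [Ne, map_eq_zero_iff _ inj]
    exact nonZeroDivisors.ne_zero (hM m.2)
  have hn : algebraMap B L n ≠ 0 := by
    rw [Ne, map_eq_zero_iff _ inj]
    exact nonZeroDivisors.ne_zero (hM n.2)
  have hy' : algebraMap BK L (IsLocalization.mk' BK c n) ≠ 0 := by
    rw [Ne, map_eq_zero_iff _ (IsFractionRing.injective BK L)]
    exact nonZeroDivisors.ne_zero hy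
  have hc : algebraMap B L c ≠ 0 := by
    rw [← h2]
    exact mul_ne_zero hy' hn
  rw [map_mul, map_mul, ← h1, ← h2]
  field_simp

end Alg

section Ext

/-- Sections of an étale scheme over a field are integral over the field. -/
theorem isIntegral_appLE_of_etale {k : Type u} [Field k] {G : Scheme.{u}}
    (p : G ⟶ Spec (CommRingCat.of k)) [Etale p] (V : G.Opens) (hV : IsAffineOpen V)
    (c : Γ(G, V)) :
    ((p.appLE ⊤ V le_top).hom.comp (Scheme.ΓSpecIso (CommRingCat.of k)).inv.hom).IsIntegralElem c := by
  have h1 : (p.appLE ⊤ V le_top).hom.Etale :=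
    HasRingHomProperty.appLE (P := @Etale) p inferInstance ⟨⊤, isAffineOpen_top _⟩ ⟨V, hV⟩ le_top
  have h2 : ((p.appLE ⊤ V le_top).hom.comp
      (Scheme.ΓSpecIso (CommRingCat.of k)).inv.hom).Etale := by
    have := RingHom.Etale.respectsIso.2 (p.appLE ⊤ V le_top).hom
      (Scheme.ΓSpecIso (CommRingCat.of k)).symm.commRingCatIsoToRingEquiv h1
    exact this
  algebraize [(p.appLE ⊤ V le_top).hom.comp (Scheme.ΓSpecIso (CommRingCat.of k)).inv.hom]
  haveI : Module.Finite k Γ(G, V) := Algebra.FormallyUnramified.finite_of_free k Γ(G, V)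
  exact (Algebra.IsIntegral.isIntegral (R := k) c)

/-- The structure morphism on an affine open of a scheme over a field, in ring terms. -/
theorem fromSpec_comp_eq {k : Type u} [Field k] {G : Scheme.{u}}
    (p : G ⟶ Spec (CommRingCat.of k)) (V : G.Opens) (hV : IsAffineOpen V) :
    hV.fromSpec ≫ p = Spec.map (CommRingCat.ofHom ((p.appLE ⊤ V le_top).hom.comp
      (Scheme.ΓSpecIso (CommRingCat.of k)).inv.hom)) := by
  rw [← IsAffineOpen.SpecMap_appLE_fromSpec p (isAffineOpen_top _) hV le_top,
    IsAffineOpen.fromSpec_top, Scheme.isoSpec_Spec_inv, ← Spec.map_comp]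
  rfl

/-- **Extension of points of an étale scheme over a field.**  Let `B` be an integrally closed
domain and `BK` a localization of `B` (at non-zero-divisors).  A `BK`-point of an étale separated
`k`-scheme `G`, compatible with a `k`-structure on `B`, extends to a `B`-point. -/
theorem exists_extension_of_etale_field {k : Type u} [Field k]
    (G : Over (Spec (CommRingCat.of k))) [Etale G.hom] [IsSeparated G.hom]
    {B BK : Type u} [CommRing B] [IsDomain B] [IsIntegrallyClosed B] [CommRing BK]
    [Algebra B BK] (M : Submonoid B) (hM : M ≤ nonZeroDivisors B) [IsLocalization M BK]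
    (t : Spec (CommRingCat.of B) ⟶ Spec (CommRingCat.of k))
    (γ : Spec (CommRingCat.of BK) ⟶ G.left)
    (hγ : γ ≫ G.hom = Spec.map (CommRingCat.ofHom (algebraMap B BK)) ≫ t) :
    ∃ g' : Spec (CommRingCat.of B) ⟶ G.left, g' ≫ G.hom = t ∧
      Spec.map (CommRingCat.ofHom (algebraMap B BK)) ≫ g' = γ := by
  haveI : IsDomain BK := IsLocalization.isDomain_of_le_nonZeroDivisors BK hM
  let L := FractionRing BK
  haveI : IsFractionRing B L := isFractionRing_of_isLocalization_fractionRing (BK := BK) M hM
  let uK : Spec (CommRingCat.of BK) ⟶ Spec (CommRingCat.of B) :=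
    Spec.map (CommRingCat.ofHom (algebraMap B BK))
  let uL : Spec (CommRingCat.of L) ⟶ Spec (CommRingCat.of BK) :=
    Spec.map (CommRingCat.ofHom (algebraMap BK L))
  let vL : Spec (CommRingCat.of L) ⟶ Spec (CommRingCat.of B) :=
    Spec.map (CommRingCat.ofHom (algebraMap B L))
  have huv : uL ≫ uK = vL := by
    rw [← Spec.map_comp]
    rfl
  let ℓ : Spec (CommRingCat.of L) ⟶ G.left := uL ≫ γ
  have hℓ : ℓ ≫ G.hom = vL ≫ t := by
    rw [Category.assoc, hγ, ← Category.assoc, huv]
  -- an affine open neighbourhood of the image point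
  let z₀ : Spec (CommRingCat.of L) := ⟨⊥, Ideal.isPrime_bot⟩
  obtain ⟨_, ⟨V₀, hV, rfl⟩, hzV, -⟩ :=
    G.left.isBasis_affineOpens.exists_subset_of_mem_open (Set.mem_univ (ℓ z₀)) isOpen_univ
  let V : G.left.Opens := V₀
  replace hV : IsAffineOpen V := hV
  have hr : Set.range ℓ ⊆ Set.range V.ι := by
    rw [Scheme.Opens.range_ι]
    rintro _ ⟨z, rfl⟩
    have : z = z₀ := by
      haveI : Subsingleton (PrimeSpectrum L) := inferInstance
      exact Subsingleton.elim (α := PrimeSpectrum L) z z₀
    rw [this]
    exact hzV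
  let ℓV : Spec (CommRingCat.of L) ⟶ V := IsOpenImmersion.lift V.ι ℓ hr
  have hℓV : ℓV ≫ V.ι = ℓ := IsOpenImmersion.lift_fac _ _ _
  let ψL : Γ(G.left, V) ⟶ CommRingCat.of L := Spec.preimage (ℓV ≫ hV.isoSpec.hom)
  have hψL : Spec.map ψL ≫ hV.fromSpec = ℓ := by
    rw [Spec.map_preimage, IsAffineOpen.fromSpec, Category.assoc, Iso.hom_inv_id_assoc, hℓV]
  let ρ : k →+* Γ(G.left, V) := (G.hom.appLE ⊤ V le_top).hom.comp
    (Scheme.ΓSpecIso (CommRingCat.of k)).inv.hom
  let τ : CommRingCat.of k ⟶ CommRingCat.of B := Spec.preimage t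
  have hτ : Spec.map τ = t := Spec.map_preimage _
  have hcomp : ψL.hom.comp ρ = (algebraMap B L).comp τ.hom := by
    have h1 : Spec.map (CommRingCat.ofHom ρ ≫ ψL) = Spec.map (τ ≫ CommRingCat.ofHom (algebraMap B L)) := by
      rw [Spec.map_comp, Spec.map_comp, ← fromSpec_comp_eq G.hom V hV, ← Category.assoc, hψL, hℓ, hτ]
    have h2 := Spec.map_injective h1
    exact congrArg CommRingCat.Hom.hom h2
  -- integrality
  have hint : ∀ c : Γ(G.left, V), ∃ b : B, algebraMap B L b = ψL.hom c := by
    intro c
    obtain ⟨q, hq, hqc⟩ := isIntegral_appLE_of_etale G.hom V hV c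
    have h3 : IsIntegral B (ψL.hom c) := by
      refine ⟨q.map τ.hom, hq.map _, ?_⟩
      rw [Polynomial.eval₂_map, ← hcomp]
      have := congrArg ψL.hom hqc
      rw [Polynomial.hom_eval₂, map_zero] at this
      exact this
    exact IsIntegrallyClosed.isIntegral_iff.mp h3
  obtain ⟨ψB, hψB⟩ := exists_ringHom_factor ψL.hom (algebraMap B L)
    (IsFractionRing.injective B L) hint
  let g' : Spec (CommRingCat.of B) ⟶ G.left := Spec.map (CommRingCat.ofHom ψB) ≫ hV.fromSpec
  have hg'L : vL ≫ g' = ℓ := by
    rw [← hψL, ← Category.assoc, ← Spec.map_comp]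
    congr 2
    ext c
    exact congrArg (fun f => f c) hψB
  haveI : IsDominant vL := isDominant_SpecMap_of_injective _ (IsFractionRing.injective B L)
  haveI : IsDominant uL := isDominant_SpecMap_of_injective _ (IsFractionRing.injective BK L)
  have hg't : g' ≫ G.hom = t := by
    refine ext_of_isDominant_of_isSeparated (terminal.from _) (terminal.hom_ext _ _) vL ?_
    rw [← Category.assoc, hg'L, hℓ]
  refine ⟨g', hg't, ?_⟩
  refine ext_of_isDominant_of_isSeparated G.hom ?_ uL ?_
  · rw [Category.assoc, hg't, hγ]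
  · rw [← Category.assoc, huv, hg'L]

end Ext

section Descent

variable {S : Scheme.{u}} [IsIntegral S]

instance quasiCompact_fromSpecStalk_genericPoint :
    QuasiCompact (S.fromSpecStalk (genericPoint S)) := by
  refine ⟨fun U _ _ => ?_⟩
  haveI : Finite (PrimeSpectrum S.functionField) := inferInstance
  exact (Set.toFinite (α := PrimeSpectrum S.functionField) _).isCompact

instance isSchemeTheoreticallyDominant_fromSpecStalk_genericPoint :
    IsSchemeTheoreticallyDominant (S.fromSpecStalk (genericPoint S)) :=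
  IsSchemeTheoreticallyDominant.of_isDominant _

variable (E : Over S) (e : E.left)

/-- The localization of the local ring of `E` at `e` at the nonzero elements of the local ring of
`S` at the image point: the coordinate ring of the generic fibre of `Spec 𝒪_{E,e} ⟶ S`. -/
abbrev BK : Type u :=
  Localization (Submonoid.map (E.hom.stalkMap e).hom (nonZeroDivisors (S.presheaf.stalk (E.hom e))))

variable {E}

omit [IsIntegral S] in
theorem stalkMap_injective_of_flat [Flat E.hom] [IsDomain (E.left.presheaf.stalk e)] :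
    Function.Injective (E.hom.stalkMap e).hom := by
  have hflat : (E.hom.stalkMap e).hom.Flat := Flat.stalkMap E.hom e
  letI : Algebra (S.presheaf.stalk (E.hom e)) (E.left.presheaf.stalk e) :=
    (E.hom.stalkMap e).hom.toAlgebra
  haveI hff : Module.FaithfullyFlat (S.presheaf.stalk (E.hom e)) (E.left.presheaf.stalk e) :=
    Groth.Agent.Lib.Helper24.faithfullyFlat_stalkMap E.hom e hflat
  exact FaithfulSMul.algebraMap_injective (S.presheaf.stalk (E.hom e)) (E.left.presheaf.stalk e)

omit [IsIntegral S] in
theorem map_nonZeroDivisors_le [Flat E.hom] [IsDomain (E.left.presheaf.stalk e)] :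
    Submonoid.map (E.hom.stalkMap e).hom (nonZeroDivisors (S.presheaf.stalk (E.hom e))) ≤
      nonZeroDivisors (E.left.presheaf.stalk e) := by
  rintro _ ⟨r, hr, rfl⟩
  exact map_mem_nonZeroDivisors _ (stalkMap_injective_of_flat e) hr

variable {H : Over S} [GrpObj H]

/-- **Local descent step.** Let `E` be a flat separated pseudo-torsor under `H` over the integral
scheme `S`, `x` a point of `E` with values in the function field, and `e` a point of `E` whose
local ring `B` is a domain.  If morphisms to `H` extend from the generic fibre of `Spec B` to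
`Spec B`, then `x` extends to a point of `E` with values in the local ring of `S` at the image
of `e`. -/
theorem exists_local_section (a : AlgGrp.Action H E) (hP : NonAbH1.IsPseudoTorsorSch a)
    [Flat E.hom] [IsSeparated E.hom]
    (x : Spec S.functionField ⟶ E.left) (hx : x ≫ E.hom = S.fromSpecStalk (genericPoint S))
    [IsDomain (E.left.presheaf.stalk e)]
    (hext : ∀ γ : Spec (CommRingCat.of (BK E e)) ⟶ H.left,
      γ ≫ H.hom = Spec.map (CommRingCat.ofHom (algebraMap (E.left.presheaf.stalk e) (BK E e))) ≫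
        E.left.fromSpecStalk e ≫ E.hom →
      ∃ g : Spec (E.left.presheaf.stalk e) ⟶ H.left, g ≫ H.hom = E.left.fromSpecStalk e ≫ E.hom ∧
        Spec.map (CommRingCat.ofHom (algebraMap (E.left.presheaf.stalk e) (BK E e))) ≫ g = γ) :
    ∃ l : Spec (S.presheaf.stalk (E.hom e)) ⟶ E.left,
      Spec.map (CommRingCat.ofHom (algebraMap (S.presheaf.stalk (E.hom e)) S.functionField)) ≫ l = x ∧
        l ≫ E.hom = S.fromSpecStalk (E.hom e) := by
  have hspec : genericPoint S ⤳ E.hom e := (genericPoint_spec S).specializes trivial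
  let φ := E.hom.stalkMap e
  -- faithful flatness of the stalk map
  have hflat : φ.hom.Flat := Flat.stalkMap E.hom e
  letI : Algebra (S.presheaf.stalk (E.hom e)) (E.left.presheaf.stalk e) := φ.hom.toAlgebra
  haveI hff : Module.FaithfullyFlat (S.presheaf.stalk (E.hom e)) (E.left.presheaf.stalk e) :=
    Groth.Agent.Lib.Helper24.faithfullyFlat_stalkMap E.hom e hflat
  -- the pullback square of generic fibres
  let fK : S.functionField →+* BK E e :=
    IsLocalization.map (M := nonZeroDivisors (S.presheaf.stalk (E.hom e))) (BK E e) φ.hom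
      (Submonoid.le_comap_map _)
  have HfK : fK.comp (algebraMap (S.presheaf.stalk (E.hom e)) S.functionField) =
      (algebraMap (E.left.presheaf.stalk e) (BK E e)).comp φ.hom := IsLocalization.map_comp _
  have po := CommRingCat.isPushout_of_isLocalization φ.hom fK HfK
    (nonZeroDivisors (S.presheaf.stalk (E.hom e)))
  have sq₀ := isPullback_SpecMap_of_isPushout _ _ _ _ po
  let u₀ : Spec (CommRingCat.of (BK E e)) ⟶ Spec (E.left.presheaf.stalk e) :=
    Spec.map (CommRingCat.ofHom (algebraMap (E.left.presheaf.stalk e) (BK E e)))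
  let q₀ : Spec (CommRingCat.of (BK E e)) ⟶ Spec S.functionField :=
    Spec.map (CommRingCat.ofHom fK)
  let π : Spec (E.left.presheaf.stalk e) ⟶ Spec (S.presheaf.stalk (E.hom e)) := Spec.map φ
  let κ : Spec S.functionField ⟶ Spec (S.presheaf.stalk (E.hom e)) :=
    Spec.map (CommRingCat.ofHom (algebraMap (S.presheaf.stalk (E.hom e)) S.functionField))
  replace sq₀ : IsPullback u₀ q₀ π κ := sq₀
  let ιs := S.fromSpecStalk (E.hom e)
  let b := E.left.fromSpecStalk e
  have hπ : π ≫ ιs = b ≫ E.hom := Scheme.SpecMap_stalkMap_fromSpecStalk E.hom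
  have hκ : κ ≫ ιs = S.fromSpecStalk (genericPoint S) :=
    Scheme.SpecMap_stalkSpecializes_fromSpecStalk hspec
  let β : Spec (E.left.presheaf.stalk e) ⟶ S := b ≫ E.hom
  have hcompat : u₀ ≫ β = q₀ ≫ S.fromSpecStalk (genericPoint S) := by
    change u₀ ≫ b ≫ E.hom = _
    rw [← hπ, ← hκ, ← Category.assoc, ← Category.assoc, sq₀.w]
  -- objects over `S`
  let YB : Over S := Over.mk β
  let T₀ : Over S := Over.mk (u₀ ≫ β)
  let u₀' : T₀ ⟶ YB := Over.homMk u₀ rfl
  let bB : YB ⟶ E := Over.homMk b rfl
  let pX : T₀ ⟶ E := Over.homMk (q₀ ≫ x) (by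
    rw [Category.assoc, hx, ← hcompat]; rfl)
  let pB : T₀ ⟶ E := u₀' ≫ bB
  let γ : T₀ ⟶ H := lift pX pB ≫ dv a hP
  obtain ⟨gB, hgB₁, hgB₂⟩ := hext γ.left (Over.w γ)
  let gB' : YB ⟶ H := Over.homMk gB hgB₁
  obtain ⟨y, hy⟩ : ∃ y : YB ⟶ E, u₀' ≫ y = pX := by
    refine ⟨lift gB' bB ≫ a.act, ?_⟩
    have h1 : u₀' ≫ gB' = γ := by
      apply Over.OverMorphism.ext
      exact hgB₂
    rw [← Category.assoc, comp_lift, h1]
    exact dv_spec a hP pX pB
  have hy' : u₀ ≫ y.left = q₀ ≫ x := congr($(hy).left)
  -- the key compatibility on generic fibres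
  have key : ∀ (T : Scheme.{u}) (u : T ⟶ Spec (E.left.presheaf.stalk e))
      (q : T ⟶ Spec S.functionField), u ≫ β = q ≫ S.fromSpecStalk (genericPoint S) →
      u ≫ y.left = q ≫ x := by
    intro T u q huq
    have h1 : u ≫ π = q ≫ κ := by
      rw [← cancel_mono ιs, Category.assoc, Category.assoc, hπ, hκ]
      exact huq
    obtain ⟨w, hw₁, hw₂⟩ : ∃ w, w ≫ u₀ = u ∧ w ≫ q₀ = q :=
      ⟨sq₀.lift u q h1, sq₀.lift_fst _ _ _, sq₀.lift_snd _ _ _⟩
    rw [← hw₁, ← hw₂, Category.assoc, Category.assoc, hy']
  -- fpqc descent along `π`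
  haveI : Flat π := by
    rw [HasRingHomProperty.Spec_iff (P := @Flat)]
    exact hflat
  haveI : Surjective π := by
    refine ⟨fun p => ?_⟩
    obtain ⟨q, hq⟩ := PrimeSpectrum.comap_surjective_of_faithfullyFlat
      (A := S.presheaf.stalk (E.hom e)) (B := E.left.presheaf.stalk e) p
    exact ⟨q, hq⟩
  haveI : Flat ιs := Groth.Agent.Lib.Helper26.SekSuwaGeneric.flat_fromSpecStalk S (E.hom e)
  haveI : Flat β := by
    change Flat (b ≫ E.hom)
    rw [← hπ]
    infer_instance
  let Y'' : Over S := Over.mk (pullback.fst π π ≫ β)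
  let p₁ : Y'' ⟶ YB := Over.homMk (pullback.fst π π) rfl
  let p₂ : Y'' ⟶ YB := Over.homMk (pullback.snd π π) (by
    change pullback.snd π π ≫ b ≫ E.hom = pullback.fst π π ≫ b ≫ E.hom
    rw [← hπ, ← Category.assoc, ← Category.assoc, pullback.condition])
  haveI : Flat Y''.hom := by
    change Flat (pullback.fst π π ≫ β)
    infer_instance
  have hcoc : p₁ ≫ y = p₂ ≫ y := by
    apply ε_ext (S.fromSpecStalk (genericPoint S))
    apply Over.OverMorphism.ext
    rw [Over.comp_left, Over.comp_left, Over.comp_left, Over.comp_left, ε_app_left]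
    rw [← Category.assoc, ← Category.assoc]
    rw [key _ (pullback.fst Y''.hom (S.fromSpecStalk (genericPoint S)) ≫ p₁.left)
      (pullback.snd Y''.hom (S.fromSpecStalk (genericPoint S))) (by
        rw [Category.assoc]
        exact pullback.condition),
      key _ (pullback.fst Y''.hom (S.fromSpecStalk (genericPoint S)) ≫ p₂.left)
      (pullback.snd Y''.hom (S.fromSpecStalk (genericPoint S))) (by
        have hp₂ : p₂.left ≫ β = Y''.hom := Over.w p₂
        rw [Category.assoc, hp₂]
        exact pullback.condition)]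
  have hdesc : ∀ {Z : Scheme.{u}} (g₁ g₂ : Z ⟶ Spec (E.left.presheaf.stalk e)),
      g₁ ≫ π = g₂ ≫ π → g₁ ≫ y.left = g₂ ≫ y.left := by
    intro Z g₁ g₂ h
    have hc : pullback.fst π π ≫ y.left = pullback.snd π π ≫ y.left := congr($(hcoc).left)
    calc g₁ ≫ y.left = pullback.lift g₁ g₂ h ≫ pullback.fst _ _ ≫ y.left := by
          rw [pullback.lift_fst_assoc]
      _ = pullback.lift g₁ g₂ h ≫ pullback.snd _ _ ≫ y.left := by rw [hc]
      _ = g₂ ≫ y.left := by rw [pullback.lift_snd_assoc]
  let l : Spec (S.presheaf.stalk (E.hom e)) ⟶ E.left := EffectiveEpi.desc π y.left hdesc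
  have hl : π ≫ l = y.left := EffectiveEpi.fac π y.left hdesc
  haveI : Epi π := Flat.epi_of_flat_of_surjective _
  refine ⟨l, ?_, ?_⟩
  · haveI : Flat q₀ := MorphismProperty.of_isPullback sq₀ (inferInstance : Flat π)
    haveI : Surjective q₀ := MorphismProperty.of_isPullback sq₀ (inferInstance : Surjective π)
    haveI : Epi q₀ := Flat.epi_of_flat_of_surjective _
    have h2 : q₀ ≫ κ ≫ l = q₀ ≫ x := by
      rw [← Category.assoc, ← sq₀.w, Category.assoc, hl]
      exact hy'
    exact (cancel_epi q₀).1 h2
  · rw [← cancel_epi π, ← Category.assoc, hl, Over.w y]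
    exact hπ.symm

end Descent

section Main

variable {k : Type u} [Field k] (G : Over (Spec (CommRingCat.of k))) [GrpObj G] [Etale G.hom]
  {S : Scheme.{u}} [IsIntegral S] (hS : Pi1.IsNormalScheme S) (s : S ⟶ Spec (CommRingCat.of k))
  (E : Over S) (a : AlgGrp.Action (Red.bc s G) E)
  (hE : NonAbH1.IsTorsorFor Scheme.fppfPrecoverage a)

include hS hE in
/-- **Torsors under étale groups over a normal integral base**: points with values in the function
field extend to sections. -/
theorem exists_section_of_generic (x : Spec S.functionField ⟶ E.left)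
    (hx : x ≫ E.hom = S.fromSpecStalk (genericPoint S)) :
    ∃ σ : S ⟶ E.left, σ ≫ E.hom = 𝟙 S ∧ S.fromSpecStalk (genericPoint S) ≫ σ = x := by
  haveI hGsep : IsSeparated G.hom := Groth.Agent.Lib.Helper70.WeilF.isSeparated_grpObj k G
  have hbc_et : Etale (Red.bc s G).hom := by
    change Etale (pullback.snd G.hom s); infer_instance
  have hbc_sep : IsSeparated (Red.bc s G).hom := by
    change IsSeparated (pullback.snd G.hom s); infer_instance
  haveI hEet : Etale E.hom :=
    Groth.Agent.Lib.Helper26.TorsorLocal.prop_of_isTorsorFor Scheme.fppfPrecoverage a hE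
      @Etale hbc_et
  haveI hEsep : IsSeparated E.hom :=
    Groth.Agent.Lib.Helper26.TorsorLocal.prop_of_isTorsorFor Scheme.fppfPrecoverage a hE
      @IsSeparated hbc_sep
  haveI hEsurj : Surjective E.hom :=
    Groth.Agent.Lib.Helper26.TorsorLocal.prop_of_isTorsorFor Scheme.fppfPrecoverage a hE
      @Surjective Groth.Agent.Lib.Helper26.TorsorLocal.surjective_hom_of_grpObj
  refine Groth.Agent.Lib.Helper26.ValSection.exists_section_of_forall_stalk E x hx (fun t => ?_)
  obtain ⟨e, rfl⟩ := hEsurj.surj t
  have Hsm : (E.hom.stalkMap e).hom.FormallySmooth := by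
    have he : e ∈ E.hom.smoothLocus := E.hom.smoothLocus_eq_top ▸ trivial
    exact he
  obtain ⟨hdom, hic⟩ :=
    Groth.Agent.Lib.Helper24.isIntegrallyClosed_stalk_of_formallySmooth_stalkMap E.hom e Hsm
      (hS (E.hom e))
  refine exists_local_section e a hE.1 x hx (fun γ hγ => ?_)
  let β : Spec (E.left.presheaf.stalk e) ⟶ S := E.left.fromSpecStalk e ≫ E.hom
  have hγ' : γ ≫ pullback.snd G.hom s =
      Spec.map (CommRingCat.ofHom (algebraMap (E.left.presheaf.stalk e) (BK E e))) ≫ β := hγ
  have h1 : (γ ≫ pullback.fst G.hom s) ≫ G.hom =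
      Spec.map (CommRingCat.ofHom (algebraMap (E.left.presheaf.stalk e) (BK E e))) ≫ β ≫ s := by
    rw [Category.assoc, pullback.condition, ← Category.assoc, hγ', Category.assoc]
  obtain ⟨g', hg'₁, hg'₂⟩ := exists_extension_of_etale_field G _ (map_nonZeroDivisors_le e)
    (β ≫ s) (γ ≫ pullback.fst G.hom s) h1
  refine ⟨pullback.lift g' β hg'₁, pullback.lift_snd _ _ _, ?_⟩
  apply pullback.hom_ext
  · rw [Category.assoc, pullback.lift_fst, hg'₂]
  · rw [Category.assoc, pullback.lift_snd, hγ']

end Main

section Residue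

variable {S : Scheme.{u}} [IsIntegral S]

instance isIso_residue_genericPoint : IsIso (S.residue (genericPoint S)) := by
  rw [ConcreteCategory.isIso_iff_bijective]
  refine ⟨?_, S.residue_surjective _⟩
  exact RingHom.injective ((S.residue (genericPoint S)).hom :
    S.functionField →+* S.residueField (genericPoint S))

instance isDominant_fromSpecResidueField_genericPoint :
    IsDominant (S.fromSpecResidueField (genericPoint S)) := by
  refine ⟨?_⟩
  rw [DenseRange, Scheme.range_fromSpecResidueField, dense_iff_closure_eq]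
  exact (genericPoint_spec S).def

variable {k : Type u} [Field k] (G : Over (Spec (CommRingCat.of k))) [GrpObj G] [Etale G.hom]
  (hS : Pi1.IsNormalScheme S) (s : S ⟶ Spec (CommRingCat.of k))
  (E : Over S) (a : AlgGrp.Action (Red.bc s G) E)
  (hE : NonAbH1.IsTorsorFor Scheme.fppfPrecoverage a)

omit [Etale G.hom] in
include hE in
/-- Sections of a torsor under an étale group are determined by their generic point. -/
theorem section_ext (σ₁ σ₂ : S ⟶ E.left) (h₁ : σ₁ ≫ E.hom = 𝟙 S) (h₂ : σ₂ ≫ E.hom = 𝟙 S)
    (h : S.fromSpecResidueField (genericPoint S) ≫ σ₁ =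
      S.fromSpecResidueField (genericPoint S) ≫ σ₂) : σ₁ = σ₂ := by
  haveI hGsep : IsSeparated G.hom := Groth.Agent.Lib.Helper70.WeilF.isSeparated_grpObj k G
  have hbc_sep : IsSeparated (Red.bc s G).hom := by
    change IsSeparated (pullback.snd G.hom s); infer_instance
  haveI hEsep : IsSeparated E.hom :=
    Groth.Agent.Lib.Helper26.TorsorLocal.prop_of_isTorsorFor Scheme.fppfPrecoverage a hE
      @IsSeparated hbc_sep
  exact ext_of_isDominant_of_isSeparated E.hom (h₁.trans h₂.symm)
    (S.fromSpecResidueField (genericPoint S)) h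

include hS hE in
/-- Points of a torsor under an étale group with values in the residue field of the generic
point extend to sections. -/
theorem exists_section_of_residueField
    (x : Spec (S.residueField (genericPoint S)) ⟶ E.left)
    (hx : x ≫ E.hom = S.fromSpecResidueField (genericPoint S)) :
    ∃ σ : S ⟶ E.left, σ ≫ E.hom = 𝟙 S ∧ S.fromSpecResidueField (genericPoint S) ≫ σ = x := by
  have hx' : (inv (Spec.map (S.residue (genericPoint S))) ≫ x) ≫ E.hom =
      S.fromSpecStalk (genericPoint S) := by
    rw [Category.assoc, hx, Scheme.fromSpecResidueField, IsIso.inv_hom_id_assoc]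
  obtain ⟨σ, hσ₁, hσ₂⟩ := exists_section_of_generic G hS s E a hE _ hx'
  refine ⟨σ, hσ₁, ?_⟩
  rw [Scheme.fromSpecResidueField, Category.assoc, hσ₂, IsIso.hom_inv_id_assoc]

end Residue

end Groth.Agent.Lib.Helper26.EtaleTorsorNormal
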