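import Groth.Agent.Lib.Helper26.ExactSeqTorsor

/-!
# The fibre over the unit of an equivariant map `P ⟶ G''` as a pseudo-torsor under `G'` (helper26)
-/

set_option autoImplicit false
open CategoryTheory CategoryTheory.Limits MonoidalCategory
open MonObj CartesianMonoidalCategory SemiCartesianMonoidalCategory
universe v₁ u₁

namespace Groth.Agent.Lib.Helper26.FibreTorsor

open Groth.Agent.Lib.Helper26.PseudoTorsor Groth.Agent.Lib.Helper26.ExactSeqTorsor

variable {𝒮 : Type u₁} [Category.{v₁} 𝒮] [CartesianMonoidalCategory 𝒮]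

section Laws

variable {G X : 𝒮} [GrpObj G] (act : G ⊗ X ⟶ X)

/-- The unit law of an action from its form on generalized points. -/
lemma one_act_of_pt (h : ∀ {W : 𝒮} (x : W ⟶ X), smul act (1 : W ⟶ G) x = x) :
    (η[G] ▷ X) ≫ act = (λ_ X).hom := by
  have e : η[G] ▷ X = lift (1 : 𝟙_ 𝒮 ⊗ X ⟶ G) (snd (𝟙_ 𝒮) X) := by
    ext
    · rw [whiskerRight_fst, lift_fst, Hom.one_def]
      congr 1
      exact toUnit_unique _ _
    · rw [whiskerRight_snd, lift_snd]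
  rw [e, leftUnitor_hom]
  exact h _

/-- The associativity law of an action from its form on generalized points. -/
lemma mul_act_of_pt
    (h : ∀ {W : 𝒮} (g k : W ⟶ G) (x : W ⟶ X), smul act (g * k) x = smul act g (smul act k x)) :
    (μ[G] ▷ X) ≫ act = (α_ G G X).hom ≫ (G ◁ act) ≫ act := by
  have e1 : μ[G] ▷ X = lift ((fst (G ⊗ G) X ≫ fst G G) * (fst (G ⊗ G) X ≫ snd G G))
      (snd (G ⊗ G) X) := by
    ext
    · rw [whiskerRight_fst, lift_fst, Hom.mul_def, ← comp_lift, lift_fst_snd, Category.comp_id]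
    · rw [whiskerRight_snd, lift_snd]
  have e2 : (α_ G G X).hom ≫ (G ◁ act) = lift (fst (G ⊗ G) X ≫ fst G G)
      (smul act (fst (G ⊗ G) X ≫ snd G G) (snd (G ⊗ G) X)) := by
    ext
    · simp
    · simp only [Category.assoc, whiskerLeft_snd, lift_snd, smul]
      rw [← Category.assoc]
      congr 1
      ext <;> simp
  rw [e1, ← Category.assoc, e2]
  exact h _ _ _

end Laws

variable {G' G G'' : 𝒮} [GrpObj G'] [GrpObj G] [GrpObj G'']
  (u : G' ⟶ G) (v : G ⟶ G'') [IsMonHom u] [IsMonHom v]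
  (huv : u ≫ v = 1) (hEx : IsPullback (fst G G') ((G ◁ u) ≫ μ[G]) v v)

variable [HasPullbacks 𝒮] {P : 𝒮} (aP : G ⊗ P ⟶ P)
  (mul_actP : (μ[G] ▷ P) ≫ aP = (α_ G G P).hom ≫ (G ◁ aP) ≫ aP)
  (one_actP : (η[G] ▷ P) ≫ aP = (λ_ P).hom)
  (φ : P ⟶ G'') (hφ : aP ≫ φ = lift (fst G P ≫ v) (snd G P ≫ φ) ≫ μ[G''])

/-- The fibre of `φ` over the unit section. -/
noncomputable abbrev Fib : 𝒮 := pullback φ η[G'']

/-- The inclusion of the fibre. -/
noncomputable abbrev fibι : Fib φ ⟶ P := pullback.fst φ η[G'']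

lemma fibι_comp : fibι φ ≫ φ = 1 := by
  rw [pullback.condition, Hom.one_def]
  congr 1
  exact toUnit_unique _ _

lemma fibι_cancel {W : 𝒮} (x y : W ⟶ Fib φ) (h : x ≫ fibι φ = y ≫ fibι φ) : x = y :=
  pullback.hom_ext h (toUnit_unique _ _)

/-- A point of `P` mapping to `1` is a point of the fibre. -/
noncomputable def fibLift {W : 𝒮} (p : W ⟶ P) (hp : p ≫ φ = 1) : W ⟶ Fib φ :=
  pullback.lift p (toUnit W) (by rw [hp, Hom.one_def])

lemma fibLift_ι {W : 𝒮} (p : W ⟶ P) (hp : p ≫ φ = 1) : fibLift φ p hp ≫ fibι φ = p :=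
  pullback.lift_fst _ _ _

omit [GrpObj G] [IsMonHom v] [HasPullbacks 𝒮] in
include hφ in
lemma smul_φ {W : 𝒮} (g : W ⟶ G) (p : W ⟶ P) : smul aP g p ≫ φ = (g ≫ v) * (p ≫ φ) := by
  unfold smul
  rw [Category.assoc, hφ, ← Category.assoc, comp_lift, lift_fst_assoc, lift_snd_assoc, Hom.mul_def]

include huv hφ in
lemma fibAct_aux : smul aP (fst G' (Fib φ) ≫ u) (snd G' (Fib φ) ≫ fibι φ) ≫ φ = 1 := by
  rw [smul_φ v aP φ hφ, comp_u_v u v huv, Category.assoc, fibι_comp, MonObj.comp_one,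
    _root_.mul_one]

/-- The action of `G'` on the fibre. -/
noncomputable def fibAct : G' ⊗ Fib φ ⟶ Fib φ :=
  fibLift φ (smul aP (fst G' (Fib φ) ≫ u) (snd G' (Fib φ) ≫ fibι φ)) (fibAct_aux u v huv aP φ hφ)

/-- The inclusion of the fibre is `u`-equivariant. -/
lemma fibAct_ι : fibAct u v huv aP φ hφ ≫ fibι φ =
    lift (fst G' (Fib φ) ≫ u) (snd G' (Fib φ) ≫ fibι φ) ≫ aP :=
  fibLift_ι φ _ _

lemma smul_fibAct_ι {W : 𝒮} (g' : W ⟶ G') (q : W ⟶ Fib φ) :
    smul (fibAct u v huv aP φ hφ) g' q ≫ fibι φ = smul aP (g' ≫ u) (q ≫ fibι φ) := by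
  unfold smul
  rw [Category.assoc, fibAct_ι, ← Category.assoc, comp_lift, lift_fst_assoc, lift_snd_assoc]

include one_actP in
theorem fibAct_one : (η[G'] ▷ Fib φ) ≫ fibAct u v huv aP φ hφ = (λ_ (Fib φ)).hom := by
  apply one_act_of_pt
  intro W x
  apply fibι_cancel
  rw [smul_fibAct_ι, MonObj.one_comp, one_smul aP one_actP]

include mul_actP in
theorem fibAct_mul : (μ[G'] ▷ Fib φ) ≫ fibAct u v huv aP φ hφ =
    (α_ G' G' (Fib φ)).hom ≫ (G' ◁ fibAct u v huv aP φ hφ) ≫ fibAct u v huv aP φ hφ := by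
  apply mul_act_of_pt
  intro W g k x
  apply fibι_cancel
  rw [smul_fibAct_ι, smul_fibAct_ι, smul_fibAct_ι, MonObj.mul_comp, mul_smul aP mul_actP]

include hEx hφ in
/-- The fibre is a pseudo-torsor under `G'`. -/
theorem fibAct_isIso [IsIso (lift aP (snd G P))] :
    IsIso (lift (fibAct u v huv aP φ hφ) (snd G' (Fib φ))) := by
  have hker : ∀ {W : 𝒮} (q₁ q₂ : W ⟶ Fib φ),
      δ aP (q₁ ≫ fibι φ) (q₂ ≫ fibι φ) ≫ v = 1 := by
    intro W q₁ q₂
    have h1 := smul_φ v aP φ hφ (δ aP (q₁ ≫ fibι φ) (q₂ ≫ fibι φ)) (q₂ ≫ fibι φ)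
    rw [δ_smul, Category.assoc, fibι_comp, MonObj.comp_one, Category.assoc, fibι_comp,
      MonObj.comp_one, _root_.mul_one] at h1
    exact h1.symm
  have hκ : ∀ {W : 𝒮} (q₁ q₂ : W ⟶ Fib φ),
      diff u v hEx 1 (δ aP (q₁ ≫ fibι φ) (q₂ ≫ fibι φ)) ≫ u =
        δ aP (q₁ ≫ fibι φ) (q₂ ≫ fibι φ) := by
    intro W q₁ q₂
    have := mul_diff u v hEx 1 (δ aP (q₁ ≫ fibι φ) (q₂ ≫ fibι φ))
      (by rw [MonObj.one_comp, hker])
    rwa [_root_.one_mul] at this
  refine ⟨lift (diff u v hEx 1 (δ aP (fst (Fib φ) (Fib φ) ≫ fibι φ)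
    (snd (Fib φ) (Fib φ) ≫ fibι φ))) (snd (Fib φ) (Fib φ)), ?_, ?_⟩
  · apply CartesianMonoidalCategory.hom_ext
    · apply u_cancel u v hEx
      rw [Category.id_comp, Category.assoc, Category.assoc, lift_fst_assoc, hκ, comp_δ,
        lift_fst_assoc, lift_snd_assoc, fibAct_ι]
      exact δ_of_smul aP _ _
    · rw [Category.assoc, lift_snd, lift_snd, Category.id_comp]
  · apply CartesianMonoidalCategory.hom_ext
    · rw [Category.assoc, lift_fst, Category.id_comp]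
      apply fibι_cancel
      have := smul_fibAct_ι u v huv aP φ hφ
        (diff u v hEx 1 (δ aP (fst (Fib φ) (Fib φ) ≫ fibι φ) (snd (Fib φ) (Fib φ) ≫ fibι φ)))
        (snd (Fib φ) (Fib φ))
      rw [hκ, δ_smul] at this
      exact this
    · rw [Category.assoc, lift_snd, lift_snd, Category.id_comp]

end Groth.Agent.Lib.Helper26.FibreTorsor
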