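import Groth.Agent.Lib.Helper26.PseudoTorsor

/-!
# Morphisms out of a push-forward of a torsor, abstractly (helper26)

In a cartesian monoidal category: `P` with an action of `J` such that `P ⟶ 𝟙` is universally the
quotient of `P` by `J` (`IsUnivQuot`), `P'` a pseudo-torsor under `J'`, `P''` with an action of
`J''`, homomorphisms `u : J ⟶ J'`, `v : J' ⟶ J''`, a `u`-equivariant `q' : P ⟶ P'` and a
`u ≫ v`-equivariant `q'' : P ⟶ P''`.  Then there is a unique `v`-equivariant `r : P' ⟶ P''` with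
`q' ≫ r = q''`.
-/

set_option autoImplicit false
open CategoryTheory CategoryTheory.Limits MonoidalCategory
open MonObj CartesianMonoidalCategory SemiCartesianMonoidalCategory
universe v₁ u₁

namespace Groth.Agent.Lib.Helper26.PseudoTorsor

variable {𝒮 : Type u₁} [Category.{v₁} 𝒮] [CartesianMonoidalCategory 𝒮]

/-- `P ⟶ 𝟙` is universally the quotient of `P` by the action: maps out of `P ⊗ T` which are
invariant under the action on the first factor factor uniquely through `T`. -/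
def IsUnivQuot {G P : 𝒮} (act : G ⊗ P ⟶ P) : Prop :=
  ∀ (T Z : 𝒮) (m : P ⊗ T ⟶ Z),
    (∀ (W : 𝒮) (g : W ⟶ G) (p : W ⟶ P) (t : W ⟶ T),
      lift (smul act g p) t ≫ m = lift p t ≫ m) →
    ∃! r : T ⟶ Z, snd P T ≫ r = m

lemma IsUnivQuot.epi_snd {G P : 𝒮} {act : G ⊗ P ⟶ P} (hq : IsUnivQuot act) (T : 𝒮) :
    Epi (snd P T) := by
  refine ⟨fun {Z} r₁ r₂ h => ?_⟩
  obtain ⟨r, -, hr⟩ := hq T Z (snd P T ≫ r₁) (by
    intro W g p t
    rw [lift_snd_assoc, lift_snd_assoc])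
  rw [hr r₁ rfl, hr r₂ h.symm]

section Push

variable {J J' J'' P P' P'' : 𝒮} [GrpObj J] [GrpObj J'] [GrpObj J'']
  (u : J ⟶ J') [IsMonHom u] (v : J' ⟶ J'') [IsMonHom v]
  (a : J ⊗ P ⟶ P) (a' : J' ⊗ P' ⟶ P') (a'' : J'' ⊗ P'' ⟶ P'')
  (mul_act' : (μ[J'] ▷ P') ≫ a' = (α_ J' J' P').hom ≫ (J' ◁ a') ≫ a')
  (one_act' : (η[J'] ▷ P') ≫ a' = (λ_ P').hom)
  (mul_act'' : (μ[J''] ▷ P'') ≫ a'' = (α_ J'' J'' P'').hom ≫ (J'' ◁ a'') ≫ a'')
  (one_act'' : (η[J''] ▷ P'') ≫ a'' = (λ_ P'').hom)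
  [hΦ' : IsIso (lift a' (snd J' P'))]
  (hq : IsUnivQuot a)
  (q' : P ⟶ P') (hq' : a ≫ q' = lift (fst J P ≫ u) (snd J P ≫ q') ≫ a')
  (q'' : P ⟶ P'') (hq'' : a ≫ q'' = lift (fst J P ≫ u ≫ v) (snd J P ≫ q'') ≫ a'')

omit [GrpObj J] [GrpObj J'] [IsMonHom u] in
include hq' in
lemma smul_q' {W : 𝒮} (g : W ⟶ J) (p : W ⟶ P) :
    smul a g p ≫ q' = smul a' (g ≫ u) (p ≫ q') := by
  unfold smul
  rw [Category.assoc, hq', ← Category.assoc, comp_lift, lift_fst_assoc, lift_snd_assoc]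

omit [GrpObj J] [GrpObj J'] [GrpObj J''] [IsMonHom u] [IsMonHom v] in
include hq'' in
lemma smul_q'' {W : 𝒮} (g : W ⟶ J) (p : W ⟶ P) :
    smul a g p ≫ q'' = smul a'' (g ≫ u ≫ v) (p ≫ q'') := by
  unfold smul
  rw [Category.assoc, hq'', ← Category.assoc, comp_lift, lift_fst_assoc, lift_snd_assoc]

/-- the map `(p, p') ↦ v(δ(p', q'(p)))·q''(p)` -/
noncomputable def pushMap : P ⊗ P' ⟶ P'' :=
  smul a'' (δ a' (snd P P') (fst P P' ≫ q') ≫ v) (fst P P' ≫ q'')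

omit [GrpObj J'] [GrpObj J''] [IsMonHom v] in
lemma lift_pushMap {W : 𝒮} (p : W ⟶ P) (t : W ⟶ P') :
    lift p t ≫ pushMap v a' a'' q' q'' = smul a'' (δ a' t (p ≫ q') ≫ v) (p ≫ q'') := by
  unfold pushMap
  rw [comp_smul, ← Category.assoc, comp_δ, lift_snd, lift_fst_assoc, lift_fst_assoc]

include mul_act' one_act' mul_act'' hq' hq'' in
lemma pushMap_invariant {W : 𝒮} (g : W ⟶ J) (p : W ⟶ P) (t : W ⟶ P') :
    lift (smul a g p) t ≫ pushMap v a' a'' q' q'' = lift p t ≫ pushMap v a' a'' q' q'' := by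
  rw [lift_pushMap, lift_pushMap, smul_q' u a a' q' hq', smul_q'' u v a a'' q'' hq'',
    δ_smul_right a' mul_act' one_act', MonObj.mul_comp, GrpObj.inv_comp,
    ← mul_smul a'' mul_act'', Category.assoc, inv_mul_cancel_right]

include mul_act' one_act' mul_act'' one_act'' hq hq' hq'' in
theorem existsUnique_push :
    ∃! r : P' ⟶ P'', a' ≫ r = lift (fst J' P' ≫ v) (snd J' P' ≫ r) ≫ a'' ∧ q' ≫ r = q'' := by
  obtain ⟨r, hr, hr'⟩ := hq P' P'' (pushMap v a' a'' q' q'')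
    (fun W g p t => pushMap_invariant u v a a' a'' mul_act' one_act' mul_act'' q' hq' q'' hq'' g p t)
  -- points form of `hr`
  have hpt : ∀ {W : 𝒮} (p : W ⟶ P) (t : W ⟶ P'),
      t ≫ r = smul a'' (δ a' t (p ≫ q') ≫ v) (p ≫ q'') := by
    intro W p t
    rw [← lift_pushMap, ← hr, lift_snd_assoc]
  refine ⟨r, ⟨?_, ?_⟩, ?_⟩
  · -- equivariance: check after the epimorphism `snd P (J' ⊗ P')`
    haveI := hq.epi_snd (J' ⊗ P')
    rw [← cancel_epi (snd P (J' ⊗ P'))]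
    have e1 : snd P (J' ⊗ P') ≫ a' ≫ r =
        smul a'' (δ a' (snd P (J' ⊗ P') ≫ a') (fst P (J' ⊗ P') ≫ q') ≫ v)
          (fst P (J' ⊗ P') ≫ q'') := by
      rw [← Category.assoc, hpt (fst P (J' ⊗ P'))]
    have e2 : snd P (J' ⊗ P') ≫ a' =
        smul a' (snd P (J' ⊗ P') ≫ fst J' P') (snd P (J' ⊗ P') ≫ snd J' P') := by
      unfold smul
      rw [← comp_lift, lift_fst_snd, Category.comp_id]
    have e3 : snd P (J' ⊗ P') ≫ lift (fst J' P' ≫ v) (snd J' P' ≫ r) ≫ a'' =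
        smul a'' ((snd P (J' ⊗ P') ≫ fst J' P') ≫ v)
          (smul a'' (δ a' (snd P (J' ⊗ P') ≫ snd J' P') (fst P (J' ⊗ P') ≫ q') ≫ v)
            (fst P (J' ⊗ P') ≫ q'')) := by
      unfold smul
      rw [← Category.assoc, comp_lift]
      congr 2
      · rw [Category.assoc]
      · rw [← Category.assoc, hpt (fst P (J' ⊗ P'))]
    rw [e1, e3, e2, δ_smul_left a' mul_act', MonObj.mul_comp, mul_smul a'' mul_act'']
  · -- `q' ≫ r = q''`
    rw [hpt (𝟙 P) q', Category.id_comp, Category.id_comp, δ_self a' one_act', MonObj.one_comp,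
      one_smul a'' one_act'']
  · -- uniqueness
    rintro r' ⟨hr1, hr2⟩
    apply hr'
    -- `snd ≫ r' = pushMap`
    have h1 : ∀ {W : 𝒮} (g : W ⟶ J') (t : W ⟶ P'),
        smul a' g t ≫ r' = smul a'' (g ≫ v) (t ≫ r') := by
      intro W g t
      unfold smul
      rw [Category.assoc, hr1, ← Category.assoc, comp_lift, lift_fst_assoc, lift_snd_assoc]
    have h2 : snd P P' = smul a' (δ a' (snd P P') (fst P P' ≫ q')) (fst P P' ≫ q') :=
      (δ_smul a' _ _).symm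
    unfold pushMap
    conv_lhs => rw [h2]
    rw [h1, Category.assoc, hr2]

end Push

end Groth.Agent.Lib.Helper26.PseudoTorsor
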