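import Groth.Prelude.Def_NonAbH2
import Groth.Agent.Lib.Helper26.TorsorPush
import Mathlib.AlgebraicGeometry.Sites.Fpqc
import Mathlib.CategoryTheory.Limits.Constructions.Over.Connected

/-!
# An fpqc torsor is universally the quotient of itself by the group (helper26)

If `P` is an fpqc torsor under `G` over `S` then every `S`-morphism `P ×_S T ⟶ Z` which is
invariant under `G` acting on the first factor factors uniquely through `T`.
-/

set_option autoImplicit false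
open CategoryTheory CategoryTheory.Limits MonoidalCategory AlgebraicGeometry
open MonObj CartesianMonoidalCategory SemiCartesianMonoidalCategory
universe w u

namespace Groth.Agent.Lib.Helper26.TorsorQuot

open Groth.Agent.Lib.Helper26.PseudoTorsor

/-- Gluing morphisms along an fpqc covering family (any index universe). -/
lemma existsUnique_glue {I : Type w} {T : Scheme.{u}} {Y : I → Scheme.{u}} (p : ∀ i, Y i ⟶ T)
    (hp : Presieve.ofArrows Y p ∈ Scheme.fpqcPrecoverage T) (Z : Scheme.{u})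
    (h : ∀ i, Y i ⟶ Z)
    (hh : ∀ (i j : I) (W : Scheme.{u}) (gi : W ⟶ Y i) (gj : W ⟶ Y j), gi ≫ p i = gj ≫ p j →
      gi ≫ h i = gj ≫ h j) :
    ∃! g : T ⟶ Z, ∀ i, p i ≫ g = h i := by
  have hsh : Presieve.IsSheaf Scheme.fpqcTopology (yoneda.obj Z) :=
    GrothendieckTopology.Subcanonical.isSheaf_of_isRepresentable _
  have h1 := hsh.isSheafFor_of_mem_precoverage hp
  rw [Presieve.isSheafFor_arrows_iff] at h1
  exact h1 h (fun i j W gi gj hg => hh i j W gi gj hg)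

variable {S : Scheme.{u}}

/-- Gluing morphisms in `Over S` along the base change of an fpqc covering family of `S`. -/
theorem existsUnique_glue_over (𝒰 : PreZeroHypercover.{w} S)
    (h𝒰 : 𝒰.presieve₀ ∈ Scheme.fpqcPrecoverage S) (U Z : Over S)
    (k : ∀ i, U ⊗ Over.mk (𝒰.f i) ⟶ Z)
    (hk : ∀ (i j : 𝒰.I₀) (W : Over S) (x : W ⟶ U) (ti : W ⟶ Over.mk (𝒰.f i))
      (tj : W ⟶ Over.mk (𝒰.f j)), lift x ti ≫ k i = lift x tj ≫ k j) :
    ∃! r : U ⟶ Z, ∀ i, fst U (Over.mk (𝒰.f i)) ≫ r = k i := by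
  have hcov : Presieve.ofArrows (fun i => (U ⊗ Over.mk (𝒰.f i)).left)
      (fun i => (fst U (Over.mk (𝒰.f i))).left) ∈ Scheme.fpqcPrecoverage U.left :=
    Precoverage.mem_coverings_of_isPullback 𝒰.f h𝒰 U.hom _
      (fun i => (snd U (Over.mk (𝒰.f i))).left) (fun i => IsPullback.of_hasPullback _ _)
  have hw : ∀ i, (U ⊗ Over.mk (𝒰.f i)).hom = (fst U (Over.mk (𝒰.f i))).left ≫ U.hom :=
    fun i => (Over.w (fst U (Over.mk (𝒰.f i)))).symm
  -- the compatibility, at the level of schemes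
  have hcompat : ∀ (i j : 𝒰.I₀) (W : Scheme.{u}) (gi : W ⟶ (U ⊗ Over.mk (𝒰.f i)).left)
      (gj : W ⟶ (U ⊗ Over.mk (𝒰.f j)).left),
      gi ≫ (fst U (Over.mk (𝒰.f i))).left = gj ≫ (fst U (Over.mk (𝒰.f j))).left →
      gi ≫ (k i).left = gj ≫ (k j).left := by
    intro i j W gi gj hg
    have hgj : gj ≫ (U ⊗ Over.mk (𝒰.f j)).hom = gi ≫ (U ⊗ Over.mk (𝒰.f i)).hom := by
      rw [hw, hw, ← Category.assoc, ← Category.assoc, hg]
    let W' : Over S := Over.mk (gi ≫ (U ⊗ Over.mk (𝒰.f i)).hom)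
    let gi' : W' ⟶ U ⊗ Over.mk (𝒰.f i) := Over.homMk gi rfl
    let gj' : W' ⟶ U ⊗ Over.mk (𝒰.f j) := Over.homMk gj hgj
    have hx : gi' ≫ fst U (Over.mk (𝒰.f i)) = gj' ≫ fst U (Over.mk (𝒰.f j)) :=
      Over.OverMorphism.ext hg
    have e1 : lift (gi' ≫ fst U (Over.mk (𝒰.f i))) (gi' ≫ snd U (Over.mk (𝒰.f i))) = gi' := by
      rw [← comp_lift, lift_fst_snd, Category.comp_id]
    have e2 : lift (gi' ≫ fst U (Over.mk (𝒰.f i))) (gj' ≫ snd U (Over.mk (𝒰.f j))) = gj' := by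
      rw [hx, ← comp_lift, lift_fst_snd, Category.comp_id]
    have := hk i j W' (gi' ≫ fst U (Over.mk (𝒰.f i))) (gi' ≫ snd U (Over.mk (𝒰.f i)))
      (gj' ≫ snd U (Over.mk (𝒰.f j)))
    rw [e1, e2] at this
    exact congrArg (fun φ => φ.left) this
  obtain ⟨r₀, hr₀, hr₀'⟩ := existsUnique_glue (fun i => (fst U (Over.mk (𝒰.f i))).left) hcov Z.left
    (fun i => (k i).left) hcompat
  have hr₀S : r₀ ≫ Z.hom = U.hom := by
    obtain ⟨c, -, hc⟩ := existsUnique_glue (fun i => (fst U (Over.mk (𝒰.f i))).left) hcov S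
      (fun i => (U ⊗ Over.mk (𝒰.f i)).hom) (by
        intro i j W gi gj hg
        rw [hw, hw, ← Category.assoc, ← Category.assoc, hg])
    rw [hc (r₀ ≫ Z.hom) (fun i => by rw [← Category.assoc, hr₀ i, Over.w]),
      hc U.hom (fun i => (hw i).symm)]
  refine ⟨Over.homMk r₀ hr₀S, fun i => Over.OverMorphism.ext (hr₀ i), ?_⟩
  intro r' hr'
  apply Over.OverMorphism.ext
  exact hr₀' r'.left (fun i => congrArg (fun φ => φ.left) (hr' i))

variable {G P : Over S} [GrpObj G]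

/-- An fpqc torsor is universally the quotient of itself by the group. -/
theorem isUnivQuot_of_isTorsorFor_fpqc (a : AlgGrp.Action G P)
    (h : NonAbH1.IsTorsorFor Scheme.fpqcPrecoverage a) : IsUnivQuot a.act := by
  obtain ⟨hps, R, hR, hsec⟩ := h
  obtain ⟨𝒰, rfl⟩ := R.exists_eq_preZeroHypercover
  choose s hs using fun i => hsec (𝒰.f i) ⟨i⟩
  haveI : IsIso (lift a.act (snd G P)) := hps
  intro T Z m hm
  let σ : ∀ i, Over.mk (𝒰.f i) ⟶ P := fun i => Over.homMk (s i) (hs i)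
  -- independence of the point of `P`
  have hind : ∀ (W : Over S) (p₁ p₂ : W ⟶ P) (t : W ⟶ T), lift p₁ t ≫ m = lift p₂ t ≫ m := by
    intro W p₁ p₂ t
    rw [← δ_smul a.act p₁ p₂, hm]
  obtain ⟨r, hr, hr'⟩ := existsUnique_glue_over 𝒰 hR T Z
    (fun i => lift (snd T (Over.mk (𝒰.f i)) ≫ σ i) (fst T (Over.mk (𝒰.f i))) ≫ m) (by
      intro i j W x ti tj
      rw [← Category.assoc, ← Category.assoc, comp_lift, comp_lift, lift_snd_assoc, lift_fst,
        lift_snd_assoc, lift_fst]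
      exact hind W _ _ x)
  have hrm : snd P T ≫ r = m := by
    obtain ⟨c, -, hc⟩ := existsUnique_glue_over 𝒰 hR (P ⊗ T) Z
      (fun i => fst (P ⊗ T) (Over.mk (𝒰.f i)) ≫ m) (by
        intro i j W x ti tj
        rw [lift_fst_assoc, lift_fst_assoc])
    rw [hc (snd P T ≫ r) (fun i => ?_), hc m (fun i => rfl)]
    have e1 : fst (P ⊗ T) (Over.mk (𝒰.f i)) ≫ snd P T =
        lift (fst (P ⊗ T) (Over.mk (𝒰.f i)) ≫ snd P T) (snd (P ⊗ T) (Over.mk (𝒰.f i))) ≫
          fst T (Over.mk (𝒰.f i)) := (lift_fst _ _).symm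
    have e2 : fst (P ⊗ T) (Over.mk (𝒰.f i)) =
        lift (fst (P ⊗ T) (Over.mk (𝒰.f i)) ≫ fst P T)
          (fst (P ⊗ T) (Over.mk (𝒰.f i)) ≫ snd P T) := by
      rw [← comp_lift, lift_fst_snd, Category.comp_id]
    rw [← Category.assoc, e1, Category.assoc, hr i, ← Category.assoc, comp_lift,
      lift_snd_assoc, lift_fst]
    conv_rhs => rw [e2]
    exact hind _ _ _ _
  refine ⟨r, hrm, ?_⟩
  intro r' hr'm
  apply hr'
  intro i
  rw [← hr'm, ← Category.assoc, lift_snd]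

end Groth.Agent.Lib.Helper26.TorsorQuot
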