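import Groth.Prelude.Def_NonAbH2
import Groth.Agent.Lib.Helper26.FibreTorsor
import Groth.Agent.Lib.Helper26.TorsorQuot

/-!
# Exactness of the cohomology sequence at `H¹(S, G)` for fpqc torsors (helper26)
-/

set_option autoImplicit false
open CategoryTheory CategoryTheory.Limits MonoidalCategory AlgebraicGeometry
open MonObj CartesianMonoidalCategory SemiCartesianMonoidalCategory
universe u

namespace Groth.Agent.Lib.Helper26.ExactSeqSch

open Groth.Agent.Lib.Helper26.PseudoTorsor Groth.Agent.Lib.Helper26.ExactSeqTorsor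
  Groth.Agent.Lib.Helper26.FibreTorsor

variable {S : Scheme.{u}} {G' G G'' P : Over S} [GrpObj G'] [GrpObj G] [GrpObj G'']
  (v : G ⟶ G'') [IsMonHom v]

/-- The fibre over the unit of a `v`-equivariant map `φ : P ⟶ G''` from a locally trivial `P`
is locally trivial for the fpqc topology, if `v` has sections fpqc-locally on `G''`. -/
theorem isLocallyTrivialFor_fib (aP : G ⊗ P ⟶ P)
    (hP : NonAbH1.IsLocallyTrivialFor Scheme.fpqcPrecoverage P)
    (φ : P ⟶ G'') (hφ : aP ≫ φ = lift (fst G P ≫ v) (snd G P ≫ φ) ≫ μ[G''])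
    (hloc : NonAbH1.IsLocallyTrivialFor Scheme.fpqcPrecoverage (Over.mk v.left : Over G''.left)) :
    NonAbH1.IsLocallyTrivialFor Scheme.fpqcPrecoverage (Fib φ) := by
  obtain ⟨R, hR, hsec⟩ := hP
  obtain ⟨𝒰, rfl⟩ := R.exists_eq_preZeroHypercover
  choose p hp using fun i => hsec (𝒰.f i) ⟨i⟩
  obtain ⟨R'', hR'', hsec''⟩ := hloc
  obtain ⟨𝒱, rfl⟩ := R''.exists_eq_preZeroHypercover
  choose d hd using fun k => hsec'' (𝒱.f k) ⟨k⟩
  have hd' : ∀ k, d k ≫ v.left = 𝒱.f k := hd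
  have hcov : ∀ i, Presieve.ofArrows (fun k => pullback (p i ≫ φ.left) (𝒱.f k))
      (fun k => pullback.fst (p i ≫ φ.left) (𝒱.f k)) ∈ Scheme.fpqcPrecoverage (𝒰.X i) :=
    fun i => Precoverage.mem_coverings_of_isPullback 𝒱.f hR'' (p i ≫ φ.left) _
      (fun k => pullback.snd (p i ≫ φ.left) (𝒱.f k)) (fun k => IsPullback.of_hasPullback _ _)
  have hcomp := Precoverage.comp_mem_coverings (J := Scheme.fpqcPrecoverage) 𝒰.f hR
    (σ := fun _ => 𝒱.I₀) (Y := fun i k => pullback (p i ≫ φ.left) (𝒱.f k))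
    (fun i k => pullback.fst (p i ≫ φ.left) (𝒱.f k)) hcov
  refine ⟨_, hcomp, ?_⟩
  rintro T g ⟨⟨i, k⟩⟩
  -- the test object and its points
  let W : Over S := Over.mk (pullback.fst (p i ≫ φ.left) (𝒱.f k) ≫ 𝒰.f i)
  let pW : W ⟶ P := Over.homMk (pullback.fst (p i ≫ φ.left) (𝒱.f k) ≫ p i) (by
    rw [Category.assoc, hp]; rfl)
  let gW : W ⟶ G := Over.homMk (pullback.snd (p i ≫ φ.left) (𝒱.f k) ≫ d k) (by
    have h1 : G.hom = v.left ≫ G''.hom := (Over.w v).symm
    have h2 : φ.left ≫ G''.hom = P.hom := Over.w φ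
    change (pullback.snd (p i ≫ φ.left) (𝒱.f k) ≫ d k) ≫ G.hom =
      pullback.fst (p i ≫ φ.left) (𝒱.f k) ≫ 𝒰.f i
    rw [h1, Category.assoc, ← Category.assoc (d k), hd', ← Category.assoc, ← pullback.condition,
      Category.assoc, Category.assoc, h2, hp])
  have hgv : gW ≫ v = pW ≫ φ := by
    apply Over.OverMorphism.ext
    change (pullback.snd (p i ≫ φ.left) (𝒱.f k) ≫ d k) ≫ v.left =
      (pullback.fst (p i ≫ φ.left) (𝒱.f k) ≫ p i) ≫ φ.left
    rw [Category.assoc, hd', ← pullback.condition, Category.assoc]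
  have hq : smul aP gW⁻¹ pW ≫ φ = 1 := by
    rw [smul_φ v aP φ hφ, GrpObj.inv_comp, hgv, inv_mul_cancel]
  exact ⟨(fibLift φ (smul aP gW⁻¹ pW) hq).left, Over.w (fibLift φ (smul aP gW⁻¹ pW) hq)⟩

end Groth.Agent.Lib.Helper26.ExactSeqSch
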