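import Groth.Agent.Lib.Helper26.TorsorPush
import Mathlib.CategoryTheory.Limits.Shapes.Pullback.IsPullback.Basic

/-!
# Exact sequences of group objects and torsors, abstractly (helper26)

`u : G' ⟶ G`, `v : G ⟶ G''` homomorphisms of group objects in a cartesian monoidal category with
`u ≫ v = 1` and `G ⊗ G' ≅ G ×_{G''} G` via `(g, g') ↦ (g, g u(g'))`.
-/

set_option autoImplicit false
open CategoryTheory CategoryTheory.Limits MonoidalCategory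
open MonObj CartesianMonoidalCategory SemiCartesianMonoidalCategory
universe v₁ u₁

namespace Groth.Agent.Lib.Helper26.ExactSeqTorsor

open Groth.Agent.Lib.Helper26.PseudoTorsor

variable {𝒮 : Type u₁} [Category.{v₁} 𝒮] [CartesianMonoidalCategory 𝒮]
variable {G' G G'' : 𝒮} [GrpObj G'] [GrpObj G] [GrpObj G'']
  (u : G' ⟶ G) (v : G ⟶ G'') [IsMonHom u] [IsMonHom v]
  (huv : u ≫ v = 1) (hEx : IsPullback (fst G G') ((G ◁ u) ≫ μ[G]) v v)

omit [GrpObj G'] [IsMonHom u] in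
lemma lift_whisker_mul {W : 𝒮} (g : W ⟶ G) (g' : W ⟶ G') :
    lift g g' ≫ (G ◁ u) ≫ μ[G] = g * (g' ≫ u) := by
  rw [Hom.mul_def, ← Category.assoc]
  congr 1
  ext <;> simp

omit [GrpObj G'] [IsMonHom u] in
include huv in
lemma comp_u_v {W : 𝒮} (g' : W ⟶ G') : (g' ≫ u) ≫ v = 1 := by
  rw [Category.assoc, huv, MonObj.comp_one]

open Classical in
/-- The difference of two points of `G` with the same image in `G''`, as a point of `G'`
(junk value `1` if the images differ). -/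
noncomputable def diff {W : 𝒮} (g₁ g₂ : W ⟶ G) : W ⟶ G' :=
  if h : g₁ ≫ v = g₂ ≫ v then hEx.lift g₁ g₂ h ≫ snd G G' else 1

omit [GrpObj G''] [IsMonHom u] [IsMonHom v] in
lemma mul_diff {W : 𝒮} (g₁ g₂ : W ⟶ G) (h : g₁ ≫ v = g₂ ≫ v) :
    g₁ * (diff u v hEx g₁ g₂ ≫ u) = g₂ := by
  have h1 : hEx.lift g₁ g₂ h ≫ fst G G' = g₁ := hEx.lift_fst _ _ _
  have h2 : hEx.lift g₁ g₂ h ≫ (G ◁ u) ≫ μ[G] = g₂ := hEx.lift_snd _ _ _
  have h0 : diff u v hEx g₁ g₂ = hEx.lift g₁ g₂ h ≫ snd G G' := by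
    unfold diff; rw [dif_pos h]
  have h3 : hEx.lift g₁ g₂ h = lift g₁ (diff u v hEx g₁ g₂) := by
    ext
    · rw [h1, lift_fst]
    · rw [lift_snd, h0]
  rw [← lift_whisker_mul, ← h3, h2]

omit [GrpObj G''] [IsMonHom u] [IsMonHom v] in
lemma eq_diff {W : 𝒮} (g₁ g₂ : W ⟶ G) (g' : W ⟶ G')
    (hg' : g₁ * (g' ≫ u) = g₂) (h : g₁ ≫ v = g₂ ≫ v) : g' = diff u v hEx g₁ g₂ := by
  have h3 : lift g₁ g' = hEx.lift g₁ g₂ h := by
    apply hEx.hom_ext
    · rw [lift_fst, hEx.lift_fst]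
    · rw [lift_whisker_mul, hg', hEx.lift_snd]
  unfold diff
  rw [dif_pos h, ← h3, lift_snd]

omit [GrpObj G'] [GrpObj G''] [IsMonHom u] [IsMonHom v] in
include hEx in
/-- `u` is a monomorphism. -/
lemma u_cancel {W : 𝒮} (g₁' g₂' : W ⟶ G') (h : g₁' ≫ u = g₂' ≫ u) : g₁' = g₂' := by
  have h3 : lift (1 : W ⟶ G) g₁' = lift (1 : W ⟶ G) g₂' := by
    apply hEx.hom_ext
    · rw [lift_fst, lift_fst]
    · rw [lift_whisker_mul, lift_whisker_mul, h]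
  have := congrArg (fun t => t ≫ snd G G') h3
  simpa using this

omit [GrpObj G''] [IsMonHom u] [IsMonHom v] in
lemma comp_diff {W W' : 𝒮} (f : W' ⟶ W) (g₁ g₂ : W ⟶ G) (h : g₁ ≫ v = g₂ ≫ v) :
    f ≫ diff u v hEx g₁ g₂ = diff u v hEx (f ≫ g₁) (f ≫ g₂) := by
  apply eq_diff
  · rw [Category.assoc, ← MonObj.comp_mul, mul_diff u v hEx g₁ g₂ h]
  · rw [Category.assoc, Category.assoc, h]

section Boundary

/-! ### The boundary of a section of `G''` (S6009) -/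

variable {Q : 𝒮} (aQ : G' ⊗ Q ⟶ Q)
  (mul_actQ : (μ[G'] ▷ Q) ≫ aQ = (α_ G' G' Q).hom ≫ (G' ◁ aQ) ≫ aQ)
  (one_actQ : (η[G'] ▷ Q) ≫ aQ = (λ_ Q).hom)

omit [GrpObj G''] [IsMonHom u] in
/-- If `i(g'·q) = i(q) u(g')⁻¹` then `j = i⁻¹` is `u`-equivariant for left translation. -/
theorem equivariant_inv_of_antiEquivariant (i : Q ⟶ G)
    (hi : ∀ (T : 𝒮) (g' : T ⟶ G') (p : T ⟶ Q), lift g' p ≫ aQ ≫ i = (p ≫ i) * (g' ≫ u)⁻¹) :
    aQ ≫ (i ≫ ι[G]) = lift (fst G' Q ≫ u) (snd G' Q ≫ i ≫ ι[G]) ≫ μ[G] := by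
  have h := hi (G' ⊗ Q) (fst G' Q) (snd G' Q)
  rw [lift_fst_snd, Category.id_comp] at h
  rw [← Category.assoc, h, ← Hom.inv_def, mul_inv_rev, inv_inv, ← Hom.mul_def, Hom.inv_def,
    Category.assoc]

omit [GrpObj G''] [IsMonHom u] in
/-- If `j` is `u`-equivariant for left translation then `i = j⁻¹` satisfies
`i(g'·q) = i(q) u(g')⁻¹`. -/
theorem antiEquivariant_inv_of_equivariant (j : Q ⟶ G)
    (hj : aQ ≫ j = lift (fst G' Q ≫ u) (snd G' Q ≫ j) ≫ μ[G])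
    (T : 𝒮) (g' : T ⟶ G') (p : T ⟶ Q) :
    lift g' p ≫ aQ ≫ (j ≫ ι[G]) = (p ≫ j ≫ ι[G]) * (g' ≫ u)⁻¹ := by
  rw [← Category.assoc aQ, hj, ← Hom.mul_def, ← Hom.inv_def, GrpObj.comp_inv, MonObj.comp_mul,
    lift_fst_assoc, lift_snd_assoc, mul_inv_rev, ← Hom.inv_def, GrpObj.comp_inv]

variable (hqQ : IsUnivQuot aQ)

include huv hqQ in
omit [IsMonHom u] in
/-- An anti-equivariant `i : Q ⟶ G` has `i ≫ v` constant: it descends to a section of `G''`. -/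
theorem exists_section (i : Q ⟶ G)
    (hi : ∀ (T : 𝒮) (g' : T ⟶ G') (p : T ⟶ Q), lift g' p ≫ aQ ≫ i = (p ≫ i) * (g' ≫ u)⁻¹) :
    ∃ f : 𝟙_ 𝒮 ⟶ G'', toUnit Q ≫ f = i ≫ v := by
  obtain ⟨f, hf, -⟩ := hqQ (𝟙_ 𝒮) G'' (fst Q (𝟙_ 𝒮) ≫ i ≫ v) (by
    intro W g' q t
    rw [lift_fst_assoc, lift_fst_assoc]
    have h1 := hi W g' q
    have h2 : smul aQ g' q ≫ i = (q ≫ i) * (g' ≫ u)⁻¹ := by
      unfold smul; rw [Category.assoc]; exact h1
    rw [← Category.assoc, h2, MonObj.mul_comp, GrpObj.inv_comp, comp_u_v u v huv, inv_one,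
      _root_.mul_one, Category.assoc])
  refine ⟨f, ?_⟩
  have := congrArg (fun t => lift (𝟙 Q) (toUnit Q) ≫ t) hf
  simpa using this

include huv hEx mul_actQ one_actQ hqQ in
/-- An anti-equivariant `i : Q ⟶ G` over the section `f` of `G''` identifies `Q` with the fibre of
`v` over `f`. -/
theorem isPullback_of_antiEquivariant [HasPullbacks 𝒮] (i : Q ⟶ G)
    (hi : ∀ (T : 𝒮) (g' : T ⟶ G') (p : T ⟶ Q), lift g' p ≫ aQ ≫ i = (p ≫ i) * (g' ≫ u)⁻¹)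
    (f : 𝟙_ 𝒮 ⟶ G'') (hf : toUnit Q ≫ f = i ≫ v) : IsPullback i (toUnit Q) v f := by
  have hi' : ∀ {T : 𝒮} (g' : T ⟶ G') (p : T ⟶ Q), smul aQ g' p ≫ i = (p ≫ i) * (g' ≫ u)⁻¹ := by
    intro T g' p
    unfold smul; rw [Category.assoc]; exact hi T g' p
  -- the comparison with the pullback
  let c : Q ⟶ pullback v f := pullback.lift i (toUnit Q) hf.symm
  have hc1 : c ≫ pullback.fst v f = i := pullback.lift_fst _ _ _
  have hcomp : ∀ {W : 𝒮} (q : W ⟶ Q) (x : W ⟶ pullback v f),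
      (q ≫ i) ≫ v = (x ≫ pullback.fst v f) ≫ v := by
    intro W q x
    rw [Category.assoc, ← hf, Category.assoc, pullback.condition, ← Category.assoc,
      ← Category.assoc]
    congr 1
    exact toUnit_unique _ _
  -- the map `(q, x) ↦ d(q, x)⁻¹ · q` where `i(q) u(d) = x`
  let m : Q ⊗ pullback v f ⟶ Q :=
    smul aQ (diff u v hEx (fst Q (pullback v f) ≫ i)
      (snd Q (pullback v f) ≫ pullback.fst v f))⁻¹ (fst Q (pullback v f))
  have hm : ∀ {W : 𝒮} (q : W ⟶ Q) (x : W ⟶ pullback v f),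
      lift q x ≫ m = smul aQ (diff u v hEx (q ≫ i) (x ≫ pullback.fst v f))⁻¹ q := by
    intro W q x
    simp only [m]
    rw [comp_smul, GrpObj.comp_inv, comp_diff u v hEx _ _ _ (hcomp _ _), lift_fst_assoc,
      lift_snd_assoc, lift_fst]
  have hmi : ∀ {W : 𝒮} (q : W ⟶ Q) (x : W ⟶ pullback v f),
      (lift q x ≫ m) ≫ i = x ≫ pullback.fst v f := by
    intro W q x
    rw [hm, hi', GrpObj.inv_comp, inv_inv, mul_diff u v hEx _ _ (hcomp q x)]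
  obtain ⟨r, hr, -⟩ := hqQ (pullback v f) Q m (by
    intro W g' q x
    rw [hm, hm, hi']
    have e : diff u v hEx ((q ≫ i) * (g' ≫ u)⁻¹) (x ≫ pullback.fst v f) =
        g' * diff u v hEx (q ≫ i) (x ≫ pullback.fst v f) := by
      symm
      apply eq_diff
      · rw [MonObj.mul_comp, _root_.mul_assoc, inv_mul_cancel_left,
          mul_diff u v hEx _ _ (hcomp q x)]
      · rw [← hi']
        exact hcomp _ x
    rw [e, ← mul_smul aQ mul_actQ, mul_inv_rev, inv_mul_cancel_right])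
  have hcr : c ≫ r = 𝟙 Q := by
    have h1 : c ≫ r = lift (𝟙 Q) c ≫ m := by rw [← hr, lift_snd_assoc]
    rw [h1, hm, Category.id_comp, hc1]
    have e : diff u v hEx i i = 1 := by
      symm
      apply eq_diff
      · rw [MonObj.one_comp, _root_.mul_one]
      · rfl
    rw [e, inv_one, one_smul aQ one_actQ]
  have hrc : r ≫ c = 𝟙 (pullback v f) := by
    haveI := hqQ.epi_snd (pullback v f)
    rw [← cancel_epi (snd Q (pullback v f)), ← Category.assoc, hr, Category.comp_id]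
    apply pullback.hom_ext
    · rw [Category.assoc, hc1]
      have := hmi (fst Q (pullback v f)) (snd Q (pullback v f))
      rw [lift_fst_snd, Category.id_comp] at this
      exact this
    · exact toUnit_unique _ _
  have hciso : IsIso c := ⟨r, hcr, hrc⟩
  exact IsPullback.of_iso_pullback ⟨hf.symm⟩ (asIso c) hc1 (pullback.lift_snd _ _ _)

end Boundary

end Groth.Agent.Lib.Helper26.ExactSeqTorsor

/-! ### Reduction of the structure group along `u` (S6010) -/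

namespace Groth.Agent.Lib.Helper26.ExactSeqTorsor

open Groth.Agent.Lib.Helper26.PseudoTorsor

variable {𝒮 : Type u₁} [Category.{v₁} 𝒮] [CartesianMonoidalCategory 𝒮]
variable {G' G G'' : 𝒮} [GrpObj G'] [GrpObj G] [GrpObj G'']
  (u : G' ⟶ G) (v : G ⟶ G'') [IsMonHom u] [IsMonHom v]
  (huv : u ≫ v = 1) (hEx : IsPullback (fst G G') ((G ◁ u) ≫ μ[G]) v v)

section Reduction

variable {P : 𝒮} (aP : G ⊗ P ⟶ P)
  (mul_actP : (μ[G] ▷ P) ≫ aP = (α_ G G P).hom ≫ (G ◁ aP) ≫ aP)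
  (one_actP : (η[G] ▷ P) ≫ aP = (λ_ P).hom)
  [hΦP : IsIso (lift aP (snd G P))]

include huv mul_actP one_actP in
omit [IsMonHom u] in
/-- If `P` comes from a `G'`-torsor `Q` then `P` maps equivariantly to `G''`. -/
theorem exists_equivariant_of_reduction {Q : 𝒮} (aQ : G' ⊗ Q ⟶ Q) (hqQ : IsUnivQuot aQ)
    (w : Q ⟶ P) (hw : aQ ≫ w = lift (fst G' Q ≫ u) (snd G' Q ≫ w) ≫ aP) :
    ∃ φ : P ⟶ G'', aP ≫ φ = lift (fst G P ≫ v) (snd G P ≫ φ) ≫ μ[G''] := by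
  have hw' : ∀ {W : 𝒮} (g' : W ⟶ G') (q : W ⟶ Q),
      smul aQ g' q ≫ w = smul aP (g' ≫ u) (q ≫ w) := by
    intro W g' q
    unfold smul
    rw [Category.assoc, hw, ← Category.assoc, comp_lift, lift_fst_assoc, lift_snd_assoc]
  let m : Q ⊗ P ⟶ G'' := δ aP (snd Q P) (fst Q P ≫ w) ≫ v
  have hm : ∀ {W : 𝒮} (q : W ⟶ Q) (p : W ⟶ P), lift q p ≫ m = δ aP p (q ≫ w) ≫ v := by
    intro W q p
    simp only [m]
    rw [← Category.assoc, comp_δ, lift_snd, lift_fst_assoc]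
  obtain ⟨φ, hφ, -⟩ := hqQ P G'' m (by
    intro W g' q p
    rw [hm, hm, hw', δ_smul_right aP mul_actP one_actP, MonObj.mul_comp, GrpObj.inv_comp,
      comp_u_v u v huv, inv_one, _root_.mul_one])
  have hpt : ∀ {W : 𝒮} (q : W ⟶ Q) (p : W ⟶ P), p ≫ φ = δ aP p (q ≫ w) ≫ v := by
    intro W q p
    rw [← hm, ← hφ, lift_snd_assoc]
  refine ⟨φ, ?_⟩
  have := hqQ.epi_snd (G ⊗ P)
  rw [← cancel_epi (snd Q (G ⊗ P))]
  have e2 : snd Q (G ⊗ P) ≫ aP =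
      smul aP (snd Q (G ⊗ P) ≫ fst G P) (snd Q (G ⊗ P) ≫ snd G P) := by
    unfold smul
    rw [← comp_lift, lift_fst_snd, Category.comp_id]
  have e1 : snd Q (G ⊗ P) ≫ aP ≫ φ =
      ((snd Q (G ⊗ P) ≫ fst G P) ≫ v) *
        (δ aP (snd Q (G ⊗ P) ≫ snd G P) (fst Q (G ⊗ P) ≫ w) ≫ v) := by
    rw [← Category.assoc, hpt (fst Q (G ⊗ P)), e2, δ_smul_left aP mul_actP, MonObj.mul_comp]
  have e3 : snd Q (G ⊗ P) ≫ lift (fst G P ≫ v) (snd G P ≫ φ) ≫ μ[G''] =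
      ((snd Q (G ⊗ P) ≫ fst G P) ≫ v) *
        (δ aP (snd Q (G ⊗ P) ≫ snd G P) (fst Q (G ⊗ P) ≫ w) ≫ v) := by
    rw [← Category.assoc, comp_lift, ← Hom.mul_def, ← Category.assoc, ← Category.assoc,
      hpt (fst Q (G ⊗ P))]
  rw [e1, e3]

end Reduction

end Groth.Agent.Lib.Helper26.ExactSeqTorsor
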