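import Groth.Agent.Lib.Helper26.CentralExt

/-!
# Morphisms of extensions compatible with translations are homomorphisms (helper26)
-/

set_option autoImplicit false
open CategoryTheory CategoryTheory.Limits MonoidalCategory
open MonObj CartesianMonoidalCategory SemiCartesianMonoidalCategory
universe v₁ u₁

namespace Groth.Agent.Lib.Helper26.ExtHom

open Groth.Agent.Lib.Helper26.ExactSeqTorsor Groth.Agent.Lib.Helper26.CentralExt

variable {𝒮 : Type u₁} [Category.{v₁} 𝒮] [CartesianMonoidalCategory 𝒮] [BraidedCategory 𝒮]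
variable {G E P : 𝒮} [GrpObj G] [GrpObj E] [GrpObj P]
  (u : G ⟶ E) (v : E ⟶ P) [IsMonHom u] [IsMonHom v]
  (huv : u ≫ v = 1)

include huv in
omit [IsMonHom u] in
/-- Descent of a morphism `E ⊗ E ⟶ Z` invariant under `G` in each variable to `P ⊗ P`. -/
theorem exists_desc₂ (hq : IsUnivQuotHom u v) {Z : 𝒮} (c₀ : E ⊗ E ⟶ Z)
    (h₁ : ∀ {W : 𝒮} (x y : W ⟶ E) (h : W ⟶ G), lift (x * (h ≫ u)) y ≫ c₀ = lift x y ≫ c₀)
    (h₂ : ∀ {W : 𝒮} (x y : W ⟶ E) (h : W ⟶ G), lift x (y * (h ≫ u)) ≫ c₀ = lift x y ≫ c₀) :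
    ∃ c : P ⊗ P ⟶ Z, ∀ {W : 𝒮} (x y : W ⟶ E), lift (x ≫ v) (y ≫ v) ≫ c = lift x y ≫ c₀ := by
  obtain ⟨f₁, hf₁, -⟩ := hq E Z c₀ (fun W x h y => h₁ x y h)
  have hf₁pt : ∀ {W : 𝒮} (x y : W ⟶ E), lift (x ≫ v) y ≫ f₁ = lift x y ≫ c₀ := by
    intro W x y
    rw [← hf₁, ← Category.assoc, CartesianMonoidalCategory.lift_whiskerRight]
  have hf₁inv : ∀ {W : 𝒮} (p : W ⟶ P) (y : W ⟶ E) (h : W ⟶ G),
      lift p (y * (h ≫ u)) ≫ f₁ = lift p y ≫ f₁ := by
    have hAB : (P ◁ (fst E G * (snd E G ≫ u))) ≫ f₁ = (P ◁ fst E G) ≫ f₁ := by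
      have := epi_whiskerRight u v huv hq (E ⊗ G)
      rw [← cancel_epi (v ▷ (E ⊗ G)), ← whisker_exchange_assoc, ← whisker_exchange_assoc, hf₁]
      have e1 : ∀ (a : E ⊗ G ⟶ E), (E ◁ a) = lift (fst E (E ⊗ G)) (snd E (E ⊗ G) ≫ a) := by
        intro a
        ext <;> simp
      rw [e1, e1, MonObj.comp_mul, ← Category.assoc (snd E (E ⊗ G)) (snd E G) u, h₂]
    intro W p y h
    have e2 : ∀ (a : E ⊗ G ⟶ E), lift p (lift y h) ≫ (P ◁ a) = lift p (lift y h ≫ a) := by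
      intro a
      ext <;> simp
    have := congrArg (fun t => lift p (lift y h) ≫ t) hAB
    simp only [← Category.assoc, e2] at this
    rw [MonObj.comp_mul, lift_fst, lift_snd_assoc] at this
    exact this
  obtain ⟨f₂, hf₂, -⟩ := hq P Z ((β_ E P).hom ≫ f₁) (by
    intro W y h p
    have e3 : ∀ (y' : W ⟶ E), lift y' p ≫ (β_ E P).hom = lift p y' := by
      intro y'
      ext <;> simp
    rw [← Category.assoc, ← Category.assoc, e3, e3, hf₁inv])
  refine ⟨(β_ P P).hom ≫ f₂, ?_⟩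
  intro W x y
  have e3 : lift y (x ≫ v) ≫ (β_ E P).hom = lift (x ≫ v) y := by
    ext <;> simp
  have e4 : lift (x ≫ v) (y ≫ v) ≫ (β_ P P).hom = lift (y ≫ v) (x ≫ v) := by
    ext <;> simp
  rw [← Category.assoc, e4, ← CartesianMonoidalCategory.lift_whiskerRight, Category.assoc, hf₂, ← Category.assoc, e3, hf₁pt]

section Hom

variable (hEx : IsPullback (fst E G) ((E ◁ u) ≫ μ[E]) v v)
  {E' : 𝒮} [GrpObj E'] (u' : G ⟶ E') (v' : E' ⟶ P) [IsMonHom u'] [IsMonHom v']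
  (huv' : u' ≫ v' = 1) (hEx' : IsPullback (fst E' G) ((E' ◁ u') ≫ μ[E']) v' v')

/-- The defect of multiplicativity of `f`. -/
abbrev defect (f : E ⟶ E') {W : 𝒮} (x y : W ⟶ E) : W ⟶ E' :=
  ((x * y) ≫ f) * ((x ≫ f) * (y ≫ f))⁻¹

include huv hEx huv' hEx' in
/-- A morphism of extensions of `P` by `G` which is compatible with left and right translations
by `G` and preserves the unit is a homomorphism, provided every morphism `P ⊗ P ⟶ G` trivial on
the axes is trivial. -/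
theorem isMonHom_of_bitorsor_hom (hq : IsUnivQuotHom u v)
    (hPP : ∀ c : P ⊗ P ⟶ G, lift (𝟙 P) (toUnit P ≫ η[P]) ≫ c = 1 →
      lift (toUnit P ≫ η[P]) (𝟙 P) ≫ c = 1 → c = 1)
    (f : E ⟶ E') (hv : f ≫ v' = v) (h1 : η[E] ≫ f = η[E'])
    (hl : ∀ (T : 𝒮) (g : T ⟶ G) (x : T ⟶ E), ((g ≫ u) * x) ≫ f = (g ≫ u') * (x ≫ f))
    (hr : ∀ (T : 𝒮) (g : T ⟶ G) (x : T ⟶ E), (x * (g ≫ u)) ≫ f = (x ≫ f) * (g ≫ u')) :
    IsMonHom f := by
  have hfv : ∀ {W : 𝒮} (x : W ⟶ E), (x ≫ f) ≫ v' = x ≫ v := by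
    intro W x; rw [Category.assoc, hv]
  have hdv : ∀ {W : 𝒮} (x y : W ⟶ E), defect f x y ≫ v' = 1 := by
    intro W x y
    simp only [defect, MonObj.mul_comp, GrpObj.inv_comp, hfv]
    rw [mul_inv_cancel]
  have hcomp : ∀ {W W' : 𝒮} (t : W' ⟶ W) (x y : W ⟶ E),
      t ≫ defect f x y = defect f (t ≫ x) (t ≫ y) := by
    intro W W' t x y
    have e : t ≫ (x * y) ≫ f = ((t ≫ x) * (t ≫ y)) ≫ f := by
      rw [← Category.assoc, MonObj.comp_mul]
    simp only [defect, MonObj.comp_mul, GrpObj.comp_inv, Category.assoc, e]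
  let c₀ : E ⊗ E ⟶ G := diff u' v' hEx' 1 (defect f (fst E E) (snd E E))
  have hc : ∀ {W : 𝒮} (x y : W ⟶ E), lift x y ≫ c₀ = diff u' v' hEx' 1 (defect f x y) := by
    intro W x y
    simp only [c₀]
    rw [comp_diff_one u' v' hEx' _ _ (hdv _ _), hcomp, lift_fst, lift_snd]
  have hcu : ∀ {W : 𝒮} (x y : W ⟶ E), (lift x y ≫ c₀) ≫ u' = defect f x y := by
    intro W x y
    rw [hc, diff_one_comp u' v' hEx' _ (hdv _ _)]
  have hone : ∀ {W : 𝒮}, (1 : W ⟶ E) ≫ f = 1 := by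
    intro W
    rw [Hom.one_def, Category.assoc, h1, ← Hom.one_def]
  -- invariance in the first variable
  have hinv1 : ∀ {W : 𝒮} (x y : W ⟶ E) (h : W ⟶ G),
      defect f (x * (h ≫ u)) y = defect f x y := by
    intro W x y h
    have hk : (y⁻¹ * (h ≫ u) * y) ≫ v = 1 := by
      simp only [MonObj.mul_comp, GrpObj.inv_comp, comp_u_v u v huv]
      group
    have hh' := diff_one_comp u v hEx _ hk
    have e1 : (h ≫ u) * y = y * (diff u v hEx 1 (y⁻¹ * (h ≫ u) * y) ≫ u) := by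
      rw [hh']; group
    have e2 : (x * (h ≫ u) * y) ≫ f =
        ((x * y) ≫ f) * (diff u v hEx 1 (y⁻¹ * (h ≫ u) * y) ≫ u') := by
      rw [_root_.mul_assoc, e1, ← _root_.mul_assoc, hr]
    have e3 : ((x * (h ≫ u)) ≫ f) * (y ≫ f) =
        (x ≫ f) * ((y ≫ f) * (diff u v hEx 1 (y⁻¹ * (h ≫ u) * y) ≫ u')) := by
      rw [hr, _root_.mul_assoc, ← hl, e1, hr]
    simp only [defect]
    rw [e2, e3]
    group
  -- invariance in the second variable
  have hinv2 : ∀ {W : 𝒮} (x y : W ⟶ E) (h : W ⟶ G),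
      defect f x (y * (h ≫ u)) = defect f x y := by
    intro W x y h
    simp only [defect]
    rw [← _root_.mul_assoc, hr, hr]
    group
  obtain ⟨c, hcc⟩ := exists_desc₂ u v huv hq c₀
    (by intro W x y h; apply u_cancel u' v' hEx'; rw [hcu, hcu, hinv1])
    (by intro W x y h; apply u_cancel u' v' hEx'; rw [hcu, hcu, hinv2])
  have hvepi := epi_v u v huv hq
  have hd1 : ∀ {W : 𝒮} (x : W ⟶ E), diff u' v' hEx' 1 (defect f x 1) = 1 := by
    intro W x
    have : defect f x (1 : W ⟶ E) = 1 := by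
      simp only [defect, hone, _root_.mul_one]
      group
    rw [this, diff_one_one]
  have hd2 : ∀ {W : 𝒮} (y : W ⟶ E), diff u' v' hEx' 1 (defect f 1 y) = 1 := by
    intro W y
    have : defect f (1 : W ⟶ E) y = 1 := by
      simp only [defect, hone, _root_.one_mul]
      group
    rw [this, diff_one_one]
  have hPone : ∀ {W : 𝒮}, toUnit W ≫ η[P] = (1 : W ⟶ E) ≫ v := by
    intro W
    rw [MonObj.one_comp, Hom.one_def]
  have hc1 : lift (𝟙 P) (toUnit P ≫ η[P]) ≫ c = 1 := by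
    rw [← cancel_epi v, MonObj.comp_one, ← Category.assoc, comp_lift, Category.comp_id,
      ← Category.assoc, toUnit_unique (v ≫ toUnit P) (toUnit E), hPone]
    have := hcc (𝟙 E) (1 : E ⟶ E)
    rw [Category.id_comp] at this
    rw [this, hc, hd1]
  have hc2 : lift (toUnit P ≫ η[P]) (𝟙 P) ≫ c = 1 := by
    rw [← cancel_epi v, MonObj.comp_one, ← Category.assoc, comp_lift, Category.comp_id,
      ← Category.assoc, toUnit_unique (v ≫ toUnit P) (toUnit E), hPone]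
    have := hcc (1 : E ⟶ E) (𝟙 E)
    rw [Category.id_comp] at this
    rw [this, hc, hd2]
  have hc0 : c = 1 := hPP c hc1 hc2
  have hmul : ∀ {W : 𝒮} (x y : W ⟶ E), (x * y) ≫ f = (x ≫ f) * (y ≫ f) := by
    intro W x y
    have hd : defect f x y = 1 := by
      rw [← hcu, ← hcc, hc0, MonObj.comp_one, MonObj.one_comp]
    have : (x * y) ≫ f = defect f x y * ((x ≫ f) * (y ≫ f)) := by
      simp only [defect]; group
    rw [this, hd, _root_.one_mul]
  refine ⟨h1, ?_⟩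
  have e : (f ⊗ₘ f) = lift (fst E E ≫ f) (snd E E ≫ f) := by
    ext <;> simp
  rw [MonObj.mul_eq_mul, hmul, e, ← Hom.mul_def]

end Hom

end Groth.Agent.Lib.Helper26.ExtHom
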