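import Mathlib.RingTheory.Depth.Rees

/-!
# Ext vanishing below the length of a weakly regular sequence (no finiteness hypotheses) (helper26)

Adapted from Mathlib's `ModuleCat.subsingleton_ext_of_exists_isRegular`.
-/

set_option autoImplicit false
universe u

open LinearMap RingTheory.Sequence Ideal CategoryTheory Abelian Limits Pointwise IsSMulRegular

namespace Groth.Agent.Lib.Helper26.ExtReg

variable {R : Type u} [CommRing R]

lemma subsingleton_ext_of_isWeaklyRegular (I : Ideal R) (N : ModuleCat.{u} R) (k : ℕ)
    (hN : ∀ a ∈ I, a ^ k ∈ Module.annihilator R N)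
    (M : ModuleCat.{u} R) (rs : List R) (mem : ∀ r ∈ rs, r ∈ I) (reg : IsWeaklyRegular M rs) :
    ∀ i < rs.length, Subsingleton (Ext N M i) := by
  generalize len : rs.length = n
  induction n generalizing M rs with
  | zero => simp
  | succ n ih =>
    rintro i hi
    match rs with
    | [] => simp at len
    | a :: rs' =>
      have hk := hN a (mem a List.mem_cons_self)
      simp only [isWeaklyRegular_cons_iff] at reg
      simp only [List.mem_cons, forall_eq_or_imp] at mem
      simp only [List.length_cons, Nat.add_left_inj] at len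
      match i with
      | 0 =>
        have : Subsingleton (N →ₗ[R] M) :=
          linearMap_subsingleton_of_mem_annihilator (reg.1.pow k) hk
        exact (Ext.addEquiv₀.trans ModuleCat.homAddEquiv).subsingleton
      | i + 1 =>
        let g := (AddCommGrpCat.ofHom ((Ext.mk₀ (ModuleCat.smulShortComplex M a).f).postcomp N
          (add_zero (i + 1))))
        have mono_g : Mono g := by
          apply (Ext.covariant_sequence_exact₁' N reg.1.smulShortComplex_shortExact i (i + 1)
            rfl).mono_g ((AddCommGrpCat.isZero_of_iff_subsingleton.mpr ?_).eq_zero_of_src _)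
          exact ih (ModuleCat.of R (QuotSMulTop a M)) rs' mem.2 reg.2 len i (by omega)
        let gk := AddCommGrpCat.ofHom ((Ext.mk₀ (M.smulShortComplex (a ^ k)).f).postcomp N
          (add_zero (i + 1)))
        have mono_gk : Mono gk := by
          simp only [ModuleCat.smulShortComplex_f_eq_smul_id, g, gk] at mono_g ⊢
          exact (Ext.postcomp_smul_id_mono_iff (a ^ k) (i + 1)).mpr <|
            ((Ext.postcomp_smul_id_mono_iff a (i + 1)).mp mono_g).pow k
        have zero_gk : gk = 0 := Ext.postcomp_smul_id_eq_zero_of_mem_annihilator hk (i + 1)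
        exact AddCommGrpCat.subsingleton_of_isZero (IsZero.of_mono_eq_zero _ zero_gk)

theorem ext_subsingleton (A : Type u) [CommRing A] (I : Ideal A) (M N : Type u)
    [AddCommGroup M] [Module A M] [AddCommGroup N] [Module A N] (rs : List A)
    (hreg : RingTheory.Sequence.IsWeaklyRegular M rs) (hI : ∀ r ∈ rs, r ∈ I) (k : ℕ)
    (hN : (I ^ k) • (⊤ : Submodule A N) = ⊥) (i : ℕ) (hi : i < rs.length) :
    Subsingleton (Abelian.Ext (ModuleCat.of A N) (ModuleCat.of A M) i) := by
  refine subsingleton_ext_of_isWeaklyRegular I (ModuleCat.of A N) k ?_ (ModuleCat.of A M) rs hI hreg i hi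
  intro a ha
  rw [Module.mem_annihilator]
  intro x
  have : a ^ k • x ∈ (I ^ k) • (⊤ : Submodule A N) :=
    Submodule.smul_mem_smul (Ideal.pow_mem_pow ha k) Submodule.mem_top
  rw [hN] at this
  exact (Submodule.mem_bot A).1 this

end Groth.Agent.Lib.Helper26.ExtReg
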