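import Groth.Agent.Lib.Helper26.ShriekExact
import Groth.Prelude.Def_EtShriek2

/-!
# Extension by zero along an etale morphism is exact (helper26)
-/

set_option autoImplicit false
open CategoryTheory CategoryTheory.Limits Opposite AlgebraicGeometry
universe u

namespace Groth.Agent.Lib.Helper26.ExtZeroExact

variable {U X : Scheme.{u}} (j : U ⟶ X) [hj : Etale j]

/-- Liftings of the structure map of `V` to `U`. -/
abbrev Lift (V : X.Etale) : Type u := {φ : V.left ⟶ U // φ ≫ j = V.hom}

variable {j}

/-- The etale `U`-scheme attached to a lifting. -/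
noncomputable def etOf {V : X.Etale} (φ : Lift j V) : U.Etale :=
  MorphismProperty.Over.mk ⊤ φ.1
    (EtCoh.etaleMP.of_postcomp (W' := EtCoh.etaleMP) φ.1 j hj (by rw [φ.2]; exact V.prop))

set_option backward.isDefEq.respectTransparency.types false in
/-- The canonical object of the comma category attached to a lifting. -/
noncomputable def objOf {V : X.Etale} (φ : Lift j V) :
    CostructuredArrow (EtShriek.compEtale j).op (op V) :=
  CostructuredArrow.mk (Y := op (etOf φ))
    ((MorphismProperty.Over.homMk (𝟙 V.left) (by
      change 𝟙 V.left ≫ φ.1 ≫ j = V.hom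
      rw [Category.id_comp, φ.2]) : V ⟶ (EtShriek.compEtale j).obj (etOf φ)).op)

set_option backward.isDefEq.respectTransparency.types false in
/-- The lifting attached to an object of the comma category. -/
noncomputable def liftOf {V : X.Etale} (k : CostructuredArrow (EtShriek.compEtale j).op (op V)) :
    Lift j V :=
  ⟨k.hom.unop.left ≫ k.left.unop.hom, by
    have := MorphismProperty.Over.w k.hom.unop
    rw [Category.assoc]
    exact this⟩

set_option backward.isDefEq.respectTransparency.types false in
/-- The canonical morphism to the terminal object of the component. -/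
noncomputable def toObjOf {V : X.Etale} (k : CostructuredArrow (EtShriek.compEtale j).op (op V)) :
    k ⟶ objOf (liftOf k) :=
  CostructuredArrow.homMk
    ((MorphismProperty.Over.homMk k.hom.unop.left rfl : etOf (liftOf k) ⟶ k.left.unop).op) (by
      apply Quiver.Hom.unop_inj
      apply MorphismProperty.Over.Hom.ext
      change 𝟙 V.left ≫ k.hom.unop.left = k.hom.unop.left
      rw [Category.id_comp])

set_option backward.isDefEq.respectTransparency.types false in
lemma left_eq_of_hom {V : X.Etale} (k : CostructuredArrow (EtShriek.compEtale j).op (op V))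
    (φ : Lift j V) (m : k ⟶ objOf φ) : m.left.unop.left = k.hom.unop.left := by
  have h1 := congrArg (fun t => t.unop.left) (CostructuredArrow.w m)
  change 𝟙 V.left ≫ m.left.unop.left = k.hom.unop.left at h1
  rwa [Category.id_comp] at h1

set_option backward.isDefEq.respectTransparency.types false in
lemma liftOf_eq_of_hom {V : X.Etale} (k : CostructuredArrow (EtShriek.compEtale j).op (op V))
    (φ : Lift j V) (m : k ⟶ objOf φ) : liftOf k = φ := by
  apply Subtype.ext
  have h1 := left_eq_of_hom k φ m
  have h2 : m.left.unop.left ≫ k.left.unop.hom = φ.1 := MorphismProperty.Over.w m.left.unop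
  change k.hom.unop.left ≫ k.left.unop.hom = φ.1
  rw [← h1]
  exact h2

set_option backward.isDefEq.respectTransparency.types false in
lemma hom_objOf_ext {V : X.Etale} (k : CostructuredArrow (EtShriek.compEtale j).op (op V))
    (φ : Lift j V) (m m' : k ⟶ objOf φ) : m = m' := by
  apply CostructuredArrow.hom_ext
  apply Quiver.Hom.unop_inj
  apply MorphismProperty.Over.Hom.ext
  exact (left_eq_of_hom k φ m).trans (left_eq_of_hom k φ m').symm

variable (j)

instance final_incl (V : X.Etale) :
    (Discrete.functor (objOf (j := j) (V := V))).Final :=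
  LanMono.final_discrete_of_unique objOf liftOf toObjOf liftOf_eq_of_hom hom_objOf_ext

/-- The presheaf-level `j_!` preserves monomorphisms. -/
theorem mono_lan_map {P P' : (U.Etale)ᵒᵖ ⥤ AddCommGrpCat.{u + 1}} (α : P ⟶ P') [Mono α] :
    Mono ((EtShriek.compEtale j).op.lan.map α) := by
  have : ∀ W, Mono (α.app W) := fun W => inferInstance
  have : ∀ Y, Mono (((EtShriek.compEtale j).op.lan.map α).app Y) := fun Y => by
    obtain ⟨V⟩ := Y
    exact LanMono.mono_lan_map_app (EtShriek.compEtale j).op α (op V)
      (Discrete.functor (objOf (j := j) (V := V)))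
  exact NatTrans.mono_of_mono_app _

/-- The presheaf-level `j_!` on abelian presheaves preserves finite limits. -/
theorem preservesFiniteLimits_lan :
    PreservesFiniteLimits ((EtShriek.compEtale j).op.lan :
      ((U.Etale)ᵒᵖ ⥤ AddCommGrpCat.{u + 1}) ⥤ ((X.Etale)ᵒᵖ ⥤ AddCommGrpCat.{u + 1})) := by
  let F : ((U.Etale)ᵒᵖ ⥤ AddCommGrpCat.{u + 1}) ⥤ ((X.Etale)ᵒᵖ ⥤ AddCommGrpCat.{u + 1}) :=
    (EtShriek.compEtale j).op.lan
  have adj : F ⊣ _ := (EtShriek.compEtale j).op.lanAdjunction AddCommGrpCat.{u + 1}
  have hadd : F.Additive := adj.left_adjoint_additive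
  have hcolim : PreservesFiniteColimits F := by
    have := adj.leftAdjoint_preservesColimits
    infer_instance
  refine ((F.preservesFiniteLimits_tfae).out 0 3).1 ?_
  intro S hS
  have h30 := (F.preservesFiniteColimits_tfae).out 3 0
  refine ⟨(h30.1 hcolim S hS).1, ?_⟩
  have := hS.mono_f
  exact mono_lan_map j S.f

end Groth.Agent.Lib.Helper26.ExtZeroExact
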