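import Groth.Prelude.Def_FibCat2

/-!
# Strict fibre product of based categories (helper26)

Helpers for `FibCat.fp (FibCat.toSelf 𝒳) (FibCat.toSelf 𝒴)`: constructors for objects and morphisms,
and the characterisation of cartesian morphisms componentwise.
-/

set_option autoImplicit false
set_option backward.isDefEq.respectTransparency false
open CategoryTheory CategoryTheory.Limits

universe v₃ u₃ v₂ u₂ v u

namespace Groth.Agent.Lib.Helper26.FibProd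

variable {C : Type u} [Category.{v} C]

lemma self_ext {A B R S : C} (f : R ⟶ S) (g g' : A ⟶ B) [h : (𝟭 C).IsHomLift f g]
    [h' : (𝟭 C).IsHomLift f g'] : g = g' :=
  (IsHomLift.fac' (𝟭 C) f g).trans (IsHomLift.fac' (𝟭 C) f g').symm

lemma isCartesian_iff_map {𝒳 : Type u₂} [Category.{v₂} 𝒳] (p : 𝒳 ⥤ C) {R S : C} {a b : 𝒳}
    (f : R ⟶ S) (φ : a ⟶ b) [h : p.IsHomLift f φ] :
    p.IsCartesian f φ ↔ p.IsCartesian (p.map φ) φ := by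
  obtain ⟨⟩ := h
  rfl

variable {𝒳 : BasedCategory.{v₂, u₂} C} {𝒴 : BasedCategory.{v₃, u₃} C}

variable (𝒳 𝒴) in
/-- The strict fibre product. -/
abbrev P := FibCat.fp (FibCat.toSelf 𝒳) (FibCat.toSelf 𝒴)

lemma snd_proj (x : (P 𝒳 𝒴).obj) : 𝒴.p.obj x.obj.snd = 𝒳.p.obj x.obj.fst := by
  have hx : (𝟭 C).IsHomLift (𝟙 (𝒳.p.obj x.obj.fst)) x.obj.iso.hom := x.property
  exact IsHomLift.codomain_eq (𝟭 C) (𝟙 (𝒳.p.obj x.obj.fst)) x.obj.iso.hom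

instance iso_hom_lift (x : (P 𝒳 𝒴).obj) :
    (𝟭 C).IsHomLift (𝟙 (𝒳.p.obj x.obj.fst)) x.obj.iso.hom := x.property

/-- Constructor for objects of the strict fibre product. -/
def mkObj (a : 𝒳.obj) (b : 𝒴.obj) (h : 𝒳.p.obj a = 𝒴.p.obj b) : (P 𝒳 𝒴).obj :=
  ⟨{ fst := a, snd := b, iso := eqToIso h },
    IsHomLift.of_fac (𝟭 C) (𝟙 (𝒳.p.obj a)) (eqToHom h) rfl h.symm (by simp)⟩

@[simp] lemma mkObj_fst (a : 𝒳.obj) (b : 𝒴.obj) (h : 𝒳.p.obj a = 𝒴.p.obj b) :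
    (mkObj a b h).obj.fst = a := rfl

@[simp] lemma mkObj_snd (a : 𝒳.obj) (b : 𝒴.obj) (h : 𝒳.p.obj a = 𝒴.p.obj b) :
    (mkObj a b h).obj.snd = b := rfl

instance fst_lift {x y : (P 𝒳 𝒴).obj} {R S : C} (f : R ⟶ S) (φ : x ⟶ y) [(P 𝒳 𝒴).p.IsHomLift f φ] :
    𝒳.p.IsHomLift f φ.hom.fst :=
  BasedFunctor.preserves_isHomLift (FibCat.fpFst (FibCat.toSelf 𝒳) (FibCat.toSelf 𝒴)) f φ

instance snd_lift {x y : (P 𝒳 𝒴).obj} {R S : C} (f : R ⟶ S) (φ : x ⟶ y) [(P 𝒳 𝒴).p.IsHomLift f φ] :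
    𝒴.p.IsHomLift f φ.hom.snd :=
  BasedFunctor.preserves_isHomLift (FibCat.fpSnd (FibCat.toSelf 𝒳) (FibCat.toSelf 𝒴)) f φ

lemma lift_of_fst {x y : (P 𝒳 𝒴).obj} {R S : C} (f : R ⟶ S) (φ : x ⟶ y)
    [h : 𝒳.p.IsHomLift f φ.hom.fst] : (P 𝒳 𝒴).p.IsHomLift f φ :=
  (BasedFunctor.isHomLift_iff (FibCat.fpFst (FibCat.toSelf 𝒳) (FibCat.toSelf 𝒴)) f φ).1 h

/-- Constructor for morphisms of the strict fibre product. -/
def mkHom {x y : (P 𝒳 𝒴).obj} {R S : C} (f : R ⟶ S) (α : x.obj.fst ⟶ y.obj.fst)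
    (β : x.obj.snd ⟶ y.obj.snd) [hα : 𝒳.p.IsHomLift f α] [hβ : 𝒴.p.IsHomLift f β] : x ⟶ y :=
  ObjectProperty.homMk
    { fst := α
      snd := β
      w := by
        have h1 : (𝟭 C).IsHomLift f ((FibCat.toSelf 𝒳).toFunctor.map α) :=
          BasedFunctor.preserves_isHomLift (FibCat.toSelf 𝒳) f α
        have h2 : (𝟭 C).IsHomLift f ((FibCat.toSelf 𝒴).toFunctor.map β) :=
          BasedFunctor.preserves_isHomLift (FibCat.toSelf 𝒴) f β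
        have h3 : (𝟭 C).IsHomLift f ((FibCat.toSelf 𝒳).toFunctor.map α ≫ y.obj.iso.hom) :=
          IsHomLift.comp_lift_id_right' (𝟭 C) f _ (𝒳.p.obj y.obj.fst) y.obj.iso.hom
        have h4 : (𝟭 C).IsHomLift f (x.obj.iso.hom ≫ (FibCat.toSelf 𝒴).toFunctor.map β) :=
          IsHomLift.comp_lift_id_left' (𝟭 C) (𝒳.p.obj x.obj.fst) x.obj.iso.hom f _
        exact self_ext f _ _ }

@[simp] lemma mkHom_fst {x y : (P 𝒳 𝒴).obj} {R S : C} (f : R ⟶ S) (α : x.obj.fst ⟶ y.obj.fst)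
    (β : x.obj.snd ⟶ y.obj.snd) [𝒳.p.IsHomLift f α] [𝒴.p.IsHomLift f β] :
    (mkHom f α β).hom.fst = α := rfl

@[simp] lemma mkHom_snd {x y : (P 𝒳 𝒴).obj} {R S : C} (f : R ⟶ S) (α : x.obj.fst ⟶ y.obj.fst)
    (β : x.obj.snd ⟶ y.obj.snd) [𝒳.p.IsHomLift f α] [𝒴.p.IsHomLift f β] :
    (mkHom f α β).hom.snd = β := rfl

instance mkHom_lift {x y : (P 𝒳 𝒴).obj} {R S : C} (f : R ⟶ S) (α : x.obj.fst ⟶ y.obj.fst)
    (β : x.obj.snd ⟶ y.obj.snd) [hα : 𝒳.p.IsHomLift f α] [𝒴.p.IsHomLift f β] :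
    (P 𝒳 𝒴).p.IsHomLift f (mkHom f α β) :=
  lift_of_fst f _ (h := hα)

lemma hom_ext' {x y : (P 𝒳 𝒴).obj} {φ ψ : x ⟶ y} (h1 : φ.hom.fst = ψ.hom.fst)
    (h2 : φ.hom.snd = ψ.hom.snd) : φ = ψ :=
  ObjectProperty.hom_ext _ (CategoricalPullback.hom_ext h1 h2)

@[simp] lemma comp_hom_fst {x y z : (P 𝒳 𝒴).obj} (φ : x ⟶ y) (ψ : y ⟶ z) :
    (φ ≫ ψ).hom.fst = φ.hom.fst ≫ ψ.hom.fst := rfl

@[simp] lemma comp_hom_snd {x y z : (P 𝒳 𝒴).obj} (φ : x ⟶ y) (ψ : y ⟶ z) :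
    (φ ≫ ψ).hom.snd = φ.hom.snd ≫ ψ.hom.snd := rfl

/-- A morphism of the strict fibre product is cartesian iff both components are. -/
theorem isCartesian_iff {x y : (P 𝒳 𝒴).obj} {R S : C} (f : R ⟶ S) (φ : x ⟶ y) :
    (P 𝒳 𝒴).p.IsCartesian f φ ↔ 𝒳.p.IsCartesian f φ.hom.fst ∧ 𝒴.p.IsCartesian f φ.hom.snd := by
  constructor
  · intro hc
    have hφ : (P 𝒳 𝒴).p.IsHomLift f φ := inferInstance
    have hx1 : 𝒳.p.obj x.obj.fst = R := IsHomLift.domain_eq 𝒳.p f φ.hom.fst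
    have hx2 : 𝒴.p.obj x.obj.snd = R := IsHomLift.domain_eq 𝒴.p f φ.hom.snd
    constructor
    · refine { toIsHomLift := inferInstance, universal_property := ?_ }
      intro z₁ ψ₁ hψ₁
      have hz₁ : 𝒳.p.obj z₁ = R := IsHomLift.domain_eq 𝒳.p f ψ₁
      let z : (P 𝒳 𝒴).obj := mkObj z₁ x.obj.snd (hz₁.trans hx2.symm)
      let ψ : z ⟶ y := mkHom (x := z) f ψ₁ φ.hom.snd
      have hψ : (P 𝒳 𝒴).p.IsHomLift f ψ := mkHom_lift (x := z) f ψ₁ φ.hom.snd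
      let χ := Functor.IsCartesian.map (P 𝒳 𝒴).p f φ ψ
      have hχ : (P 𝒳 𝒴).p.IsHomLift (𝟙 R) χ := inferInstance
      have hχfac : χ ≫ φ = ψ := Functor.IsCartesian.fac (P 𝒳 𝒴).p f φ ψ
      refine ⟨χ.hom.fst, ⟨inferInstance, ?_⟩, ?_⟩
      · have := congrArg (fun t => t.hom.fst) hχfac
        exact this
      · rintro χ₁' ⟨hχ₁', hχ₁'fac⟩
        have h2 : 𝒴.p.IsHomLift (𝟙 R) (𝟙 x.obj.snd) := IsHomLift.id hx2
        let χ' : z ⟶ x := mkHom (x := z) (𝟙 R) χ₁' (𝟙 x.obj.snd)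
        have hχ' : (P 𝒳 𝒴).p.IsHomLift (𝟙 R) χ' := mkHom_lift (x := z) (𝟙 R) χ₁' (𝟙 x.obj.snd)
        have : χ' = χ := by
          apply Functor.IsCartesian.map_uniq (P 𝒳 𝒴).p f φ ψ
          apply hom_ext'
          · exact hχ₁'fac
          · exact Category.id_comp _
        rw [← this]
        rfl
    · refine { toIsHomLift := inferInstance, universal_property := ?_ }
      intro z₂ ψ₂ hψ₂
      have hz₂ : 𝒴.p.obj z₂ = R := IsHomLift.domain_eq 𝒴.p f ψ₂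
      let z : (P 𝒳 𝒴).obj := mkObj x.obj.fst z₂ (hx1.trans hz₂.symm)
      let ψ : z ⟶ y := mkHom (x := z) f φ.hom.fst ψ₂
      have hψ : (P 𝒳 𝒴).p.IsHomLift f ψ := mkHom_lift (x := z) f φ.hom.fst ψ₂
      let χ := Functor.IsCartesian.map (P 𝒳 𝒴).p f φ ψ
      have hχ : (P 𝒳 𝒴).p.IsHomLift (𝟙 R) χ := inferInstance
      have hχfac : χ ≫ φ = ψ := Functor.IsCartesian.fac (P 𝒳 𝒴).p f φ ψ
      refine ⟨χ.hom.snd, ⟨inferInstance, ?_⟩, ?_⟩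
      · have := congrArg (fun t => t.hom.snd) hχfac
        exact this
      · rintro χ₂' ⟨hχ₂', hχ₂'fac⟩
        have h2 : 𝒳.p.IsHomLift (𝟙 R) (𝟙 x.obj.fst) := IsHomLift.id hx1
        let χ' : z ⟶ x := mkHom (x := z) (𝟙 R) (𝟙 x.obj.fst) χ₂'
        have hχ' : (P 𝒳 𝒴).p.IsHomLift (𝟙 R) χ' := mkHom_lift (x := z) (𝟙 R) (𝟙 x.obj.fst) χ₂'
        have : χ' = χ := by
          apply Functor.IsCartesian.map_uniq (P 𝒳 𝒴).p f φ ψ
          apply hom_ext'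
          · exact Category.id_comp _
          · exact hχ₂'fac
        rw [← this]
        rfl
  · rintro ⟨h1, h2⟩
    have hφ : (P 𝒳 𝒴).p.IsHomLift f φ := lift_of_fst f φ
    refine { toIsHomLift := hφ, universal_property := ?_ }
    intro z ψ hψ
    let χ₁ := Functor.IsCartesian.map 𝒳.p f φ.hom.fst ψ.hom.fst
    let χ₂ := Functor.IsCartesian.map 𝒴.p f φ.hom.snd ψ.hom.snd
    have hχ₁ : 𝒳.p.IsHomLift (𝟙 R) χ₁ := inferInstance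
    have hχ₂ : 𝒴.p.IsHomLift (𝟙 R) χ₂ := inferInstance
    refine ⟨mkHom (𝟙 R) χ₁ χ₂, ⟨mkHom_lift (𝟙 R) χ₁ χ₂, ?_⟩, ?_⟩
    · apply hom_ext'
      · exact Functor.IsCartesian.fac 𝒳.p f φ.hom.fst ψ.hom.fst
      · exact Functor.IsCartesian.fac 𝒴.p f φ.hom.snd ψ.hom.snd
    · rintro χ' ⟨hχ', hχ'fac⟩
      apply hom_ext'
      · apply Functor.IsCartesian.map_uniq 𝒳.p f φ.hom.fst ψ.hom.fst
        exact congrArg (fun t => t.hom.fst) hχ'fac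
      · apply Functor.IsCartesian.map_uniq 𝒴.p f φ.hom.snd ψ.hom.snd
        exact congrArg (fun t => t.hom.snd) hχ'fac

end Groth.Agent.Lib.Helper26.FibProd
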