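import Groth.Agent.Lib.Helper26.FiniteConnTorsor
import Groth.Agent.Lib.Helper26.TorsorLocal
import Groth.Agent.Lib.Helper51.FppfLocalSurj
import Mathlib.RingTheory.Etale.Field
import Mathlib.RingTheory.Jacobson.Ring
import Mathlib.FieldTheory.Perfect

/-!
# fppf torsors under finite connected group schemes over a perfect field (helper26)
-/

set_option autoImplicit false
universe u

open CategoryTheory Limits AlgebraicGeometry MonoidalCategory CartesianMonoidalCategory MonObj

namespace Groth.Agent.Lib.Helper26.FiniteConnTorsorPerfect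

open Groth.Agent.Lib.Helper26.FiniteConnTorsor Groth.Agent.Lib.Helper26.TorsorLocal
  Groth.Agent.Lib.Helper51

variable (K : Type u) [Field K]

/-- A field finite type over a perfect field is étale over it. -/
theorem etale_of_perfectField_of_finiteType [PerfectField K] (L : Type u) [Field L] [Algebra K L]
    [Algebra.FiniteType K L] : Algebra.Etale K L := by
  haveI : Module.Finite K L := finite_of_finite_type_of_isJacobsonRing K L
  haveI : Algebra.IsSeparable K L := inferInstance
  haveI : Algebra.FormallyEtale K L := Algebra.FormallyEtale.of_isSeparable K L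
  haveI : Algebra.FinitePresentation K L := Algebra.FinitePresentation.of_finiteType.mp inferInstance
  exact {}

/-- A nonempty scheme locally of finite type over a perfect field has a point with values in an
étale covering of the base. -/
theorem exists_etale_point [PerfectField K] (X : Over (Spec (CommRingCat.of K)))
    [LocallyOfFiniteType X.hom] [Nonempty X.left] :
    ∃ (U : Scheme.{u}) (f : U ⟶ Spec (CommRingCat.of K)) (s : U ⟶ X.left),
      Etale f ∧ Surjective f ∧ s ≫ X.hom = f := by
  obtain ⟨x⟩ := (inferInstance : Nonempty X.left)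
  obtain ⟨_, ⟨V, hV, rfl⟩, hxV, -⟩ := X.left.isBasis_affineOpens.exists_subset_of_mem_open
    (Set.mem_univ x) isOpen_univ
  let B : CommRingCat.{u} := Γ(X.left, V)
  let g : Spec B ⟶ X.left := hV.fromSpec
  let ψ : CommRingCat.of K ⟶ B := Spec.preimage (g ≫ X.hom)
  have hψ : Spec.map ψ = g ≫ X.hom := Spec.map_preimage _
  have hft : LocallyOfFiniteType (Spec.map ψ) := by
    rw [hψ]
    haveI : IsOpenImmersion g := hV.isOpenImmersion_fromSpec
    infer_instance
  have hψft : ψ.hom.FiniteType := (HasRingHomProperty.Spec_iff (P := @LocallyOfFiniteType)).mp hft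
  haveI : Nontrivial B := by
    have : Nonempty (Spec B) := ⟨hV.primeIdealOf ⟨x, hxV⟩⟩
    exact (PrimeSpectrum.nonempty_iff_nontrivial).mp ‹Nonempty (PrimeSpectrum B)›
  obtain ⟨m, hm⟩ := Ideal.exists_maximal B
  algebraize [ψ.hom]
  letI : Field (B ⧸ m) := Ideal.Quotient.field m
  haveI : Algebra.FiniteType K (B ⧸ m) :=
    Algebra.FiniteType.of_surjective (Ideal.Quotient.mkₐ K m) (Ideal.Quotient.mkₐ_surjective K m)
  have het : Algebra.Etale K (B ⧸ m) := etale_of_perfectField_of_finiteType K (B ⧸ m)
  let f : Spec (CommRingCat.of (B ⧸ m)) ⟶ Spec (CommRingCat.of K) :=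
    Spec.map (CommRingCat.ofHom (algebraMap K (B ⧸ m)))
  have hf : Etale f := by
    rw [HasRingHomProperty.Spec_iff (P := @Etale)]
    exact RingHom.etale_algebraMap.mpr het
  refine ⟨_, f, Spec.map (CommRingCat.ofHom (Ideal.Quotient.mk m)) ≫ g, hf, ?_, ?_⟩
  · have : Nonempty (Spec (CommRingCat.of (B ⧸ m))) :=
      inferInstanceAs (Nonempty (PrimeSpectrum (B ⧸ m)))
    obtain ⟨y⟩ := this
    exact ⟨fun z => ⟨y, Subsingleton.elim (α := PrimeSpectrum K) _ _⟩⟩
  · rw [Category.assoc, ← hψ, ← Spec.map_comp]
    rfl

/-- A torsor for the fppf topology under a finite connected group scheme over a perfect field is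
trivial. -/
theorem hasSection_of_isTorsorFor_fppf [PerfectField K] (G X : Over (Spec (CommRingCat.of K)))
    [GrpObj G] [IsFinite G.hom] [ConnectedSpace G.left]
    (a : AlgGrp.Action G X) (h : NonAbH1.IsTorsorFor Scheme.fppfPrecoverage a) :
    NonAbH1.HasSectionOver X (𝟙 (Spec (CommRingCat.of K))) := by
  haveI hlft : LocallyOfFiniteType X.hom :=
    prop_of_isTorsorFor Scheme.fppfPrecoverage a h @LocallyOfFiniteType inferInstance
  have hsurj : Surjective X.hom :=
    prop_of_isTorsorFor Scheme.fppfPrecoverage a h @Surjective surjective_hom_of_grpObj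
  haveI : Nonempty X.left := by
    have hpt : Nonempty (Spec (CommRingCat.of K)) := inferInstanceAs (Nonempty (PrimeSpectrum K))
    obtain ⟨pt⟩ := hpt
    obtain ⟨x, -⟩ := hsurj.surj pt
    exact ⟨x⟩
  obtain ⟨U, f, s, hf, hf', hs⟩ := exists_etale_point K X
  exact hasSection_of_etale_section K G X a h.1 f s hs

end Groth.Agent.Lib.Helper26.FiniteConnTorsorPerfect
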