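import Groth.Agent.Lib.Helper26.FrobIter
import Groth.Agent.Lib.Helper26.FiniteConnTorsorPerfect
import Mathlib.RingTheory.Noetherian.Nilpotent
import Mathlib.AlgebraicGeometry.Noetherian

/-!
# Torsors under a finite connected group scheme over a field of characteristic `p` are trivialised
by a power of the Frobenius of the field (helper26)

For `G` finite connected over a field `K` of characteristic `p`, a power `F^n` of the absolute
Frobenius of `G` factors through the unit section.  For a `G`-torsor `X` the morphism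
`F^n : X ⟶ X` is then invariant under `G`, so it descends along `X ⟶ Spec K` to a morphism
`Spec K ⟶ X` lying over `F^n : Spec K ⟶ Spec K`.
-/

set_option autoImplicit false
universe u

open CategoryTheory Limits AlgebraicGeometry MonoidalCategory CartesianMonoidalCategory MonObj
  FrobSch

namespace Groth.Agent.Lib.Helper26.FiniteConnFrob

open Groth.Agent.Lib.Helper26.FrobIter Groth.Agent.Lib.Helper26.FiniteConnTorsor
  Groth.Agent.Lib.Helper26.TorsorLocal Groth.Agent.Lib.Helper51

/-- Ring-level key: if the kernel of a retraction `ε` of `ι : K' → A` consists of nilpotent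
elements and `A` is Noetherian of characteristic `p`, some power of Frobenius of `A` factors
through `ι ∘ ε`. -/
lemma ring_key {A K' : Type u} [CommRing A] [CommRing K'] (p : ℕ) [Fact p.Prime]
    (hp : (p : A) = 0) [IsNoetherianRing A] [Nontrivial A] (ε : A →+* K') (j : K' →+* A)
    (hεj : ∀ c, ε (j c) = c) (hnil : ∀ x, ε x = 0 → IsNilpotent x) :
    ∃ n : ℕ, ∀ a : A, a ^ (p ^ n) = j (ε a) ^ (p ^ n) := by
  obtain ⟨N, hN⟩ := IsNoetherianRing.isNilpotent_nilradical A
  have hchar : CharP A p := (CharP.charP_iff_prime_eq_zero Fact.out).2 hp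
  refine ⟨N, fun a => ?_⟩
  have hx : ε (a - j (ε a)) = 0 := by rw [map_sub, hεj, sub_self]
  have hmem : a - j (ε a) ∈ nilradical A := (mem_nilradical).2 (hnil _ hx)
  have h0 : (a - j (ε a)) ^ N = 0 := by
    have := Ideal.pow_mem_pow hmem N
    rw [hN] at this
    simpa using this
  have hle : N ≤ p ^ N := (Nat.lt_pow_self (Fact.out : p.Prime).one_lt).le
  have h1 : (a - j (ε a)) ^ (p ^ N) = 0 := pow_eq_zero_of_le hle h0
  rw [sub_pow_char_pow, sub_eq_zero] at h1
  exact h1

section Field

variable (K : Type u) [Field K] (p : ℕ) [Fact p.Prime] [CharP K p]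

/-- Some power of the absolute Frobenius of a finite connected group scheme over a field of
characteristic `p` factors through the unit section. -/
theorem exists_frobN_eq (G : Over (Spec (CommRingCat.of K))) [GrpObj G] [IsFinite G.hom]
    [ConnectedSpace G.left] [IsCharP G.left p] :
    ∃ n : ℕ, frobN G.left p n = G.hom ≫ frobN (Spec (CommRingCat.of K)) p n ≫
      (η[G] : 𝟙_ (Over (Spec (CommRingCat.of K))) ⟶ G).left := by
  haveI : Subsingleton G.left := subsingleton_of_finite_connected K G
  let e : Spec (CommRingCat.of K) ⟶ G.left :=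
    (η[G] : 𝟙_ (Over (Spec (CommRingCat.of K))) ⟶ G).left
  have he : e ≫ G.hom = 𝟙 _ := Over.w (η[G] : 𝟙_ (Over (Spec (CommRingCat.of K))) ⟶ G)
  haveI : IsAffine G.left := isAffine_of_isAffineHom G.hom
  have hει : ∀ c, e.appTop.hom (G.hom.appTop.hom c) = c := by
    intro c
    have h : G.hom.appTop ≫ e.appTop = 𝟙 _ := by
      rw [← Scheme.Hom.comp_appTop, he]
      rfl
    exact congrArg (fun f => f.hom c) h
  have hnil : ∀ x : Γ(G.left, ⊤), e.appTop.hom x = 0 → IsNilpotent x := by
    intro x hx
    rw [Scheme.isNilpotent_iff_basicOpen_eq_bot]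
    by_contra hne
    obtain ⟨g, hg⟩ : ∃ g : G.left, g ∈ G.left.basicOpen x := by
      by_contra hcon
      exact hne (by
        ext g
        simp only [TopologicalSpace.Opens.coe_bot, Set.mem_empty_iff_false, iff_false]
        exact fun hg => hcon ⟨g, hg⟩)
    have hpt : Nonempty (Spec (CommRingCat.of K)) := inferInstanceAs (Nonempty (PrimeSpectrum K))
    obtain ⟨pt⟩ := hpt
    have h1 : e pt = g := Subsingleton.elim _ _
    have h2 : pt ∈ e ⁻¹ᵁ G.left.basicOpen x := by
      change e pt ∈ G.left.basicOpen x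
      rw [h1]; exact hg
    rw [Scheme.preimage_basicOpen_top] at h2
    have h3 : e.appTop x = 0 := hx
    rw [h3, Scheme.basicOpen_zero] at h2
    exact h2
  -- Noetherianity
  haveI : IsNoetherianRing Γ(Spec (CommRingCat.of K), ⊤) :=
    isNoetherianRing_of_ringEquiv K
      (Scheme.ΓSpecIso (CommRingCat.of K)).commRingCatIsoToRingEquiv.symm
  haveI : Nontrivial Γ(Spec (CommRingCat.of K), ⊤) :=
    (Scheme.ΓSpecIso (CommRingCat.of K)).commRingCatIsoToRingEquiv.toEquiv.nontrivial
  haveI : Nontrivial Γ(G.left, ⊤) := RingHom.domain_nontrivial e.appTop.hom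
  haveI : IsNoetherianRing Γ(G.left, ⊤) := by
    have hft : LocallyOfFiniteType G.hom := inferInstance
    have h1 : G.hom.appTop.hom.FiniteType :=
      (HasRingHomProperty.iff_of_isAffine (P := @LocallyOfFiniteType)).mp hft
    algebraize [G.hom.appTop.hom]
    exact Algebra.FiniteType.isNoetherianRing Γ(Spec (CommRingCat.of K), ⊤) Γ(G.left, ⊤)
  obtain ⟨n, hn⟩ := ring_key p (IsCharP.natCast_eq_zero (X := G.left) (p := p))
    e.appTop.hom G.hom.appTop.hom hει hnil
  refine ⟨n, ?_⟩
  apply ext_of_isAffine
  ext a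
  rw [frobN_appTop, Scheme.Hom.comp_appTop, Scheme.Hom.comp_appTop, CommRingCat.comp_apply,
    CommRingCat.comp_apply, frobN_appTop, map_pow]
  exact hn a

end Field

section Act

variable (p : ℕ) [Fact p.Prime]

/-- If `F^n` of `G` factors through the unit section, then `F^n` of any scheme `X` with an action
of `G` is invariant under the action. -/
theorem act_frobN {S : Scheme.{u}} [IsCharP S p] (G X : Over S) [GrpObj G]
    [IsCharP G.left p] [IsCharP X.left p] [IsCharP (G ⊗ X).left p] (a : AlgGrp.Action G X) (n : ℕ)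
    (hn : frobN G.left p n = G.hom ≫ frobN S p n ≫ (η[G] : 𝟙_ (Over S) ⟶ G).left) :
    a.act.left ≫ frobN X.left p n = (snd G X).left ≫ frobN X.left p n := by
  let P' : Over S := Over.mk ((G ⊗ X).hom ≫ frobN S p n)
  let ΦP : P' ⟶ G ⊗ X := Over.homMk (frobN (G ⊗ X).left p n) (frobN_comp p (G ⊗ X).hom n)
  let ξ : P' ⟶ X := Over.homMk ((snd G X).left ≫ frobN X.left p n) (by
    change ((snd G X).left ≫ frobN X.left p n) ≫ X.hom = (G ⊗ X).hom ≫ frobN S p n
    rw [Category.assoc, frobN_comp p X.hom n, ← Category.assoc, Over.w (snd G X)])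
  have h1 : ΦP = lift (toUnit P' ≫ η[G]) ξ := by
    apply CartesianMonoidalCategory.hom_ext
    · rw [lift_fst]
      ext
      change frobN (G ⊗ X).left p n ≫ (fst G X).left = (toUnit P').left ≫ (η[G]).left
      rw [frobN_comp p (fst G X).left n, hn, ← Category.assoc, Over.w (fst G X)]
      simp [P']
    · rw [lift_snd]
      ext
      exact frobN_comp p (snd G X).left n
  have h2 : ΦP ≫ a.act = ξ := by
    rw [h1, ← lift_whiskerRight (toUnit P') ξ η[G], Category.assoc, a.one_act,
      lift_leftUnitor_hom]
  have h3 : frobN (G ⊗ X).left p n ≫ a.act.left = (snd G X).left ≫ frobN X.left p n :=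
    congrArg (fun m => m.left) h2
  rw [← h3, frobN_comp p a.act.left n]

end Act

section Field

variable (K : Type u) [Field K] (p : ℕ) [Fact p.Prime] [CharP K p]

/-- A torsor under a finite connected group scheme over a field of characteristic `p` has a point
over a power (depending only on the group) of the Frobenius of the field. -/
theorem exists_section_frobN (G : Over (Spec (CommRingCat.of K))) [GrpObj G] [IsFinite G.hom]
    [ConnectedSpace G.left] :
    ∃ n : ℕ, ∀ (X : Over (Spec (CommRingCat.of K))) (a : AlgGrp.Action G X),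
      NonAbH1.IsTorsorFor Scheme.fppfPrecoverage a →
      ∃ s : Spec (CommRingCat.of K) ⟶ X.left,
        s ≫ X.hom = frobN (Spec (CommRingCat.of K)) p n := by
  haveI : IsCharP G.left p := IsCharP.of_hom G.hom p
  obtain ⟨n, hn⟩ := exists_frobN_eq K p G
  refine ⟨n, fun X a h => ?_⟩
  haveI : IsCharP X.left p := IsCharP.of_hom X.hom p
  haveI : IsCharP (G ⊗ X).left p := IsCharP.of_hom (G ⊗ X).hom p
  have hact := act_frobN p G X a n hn
  -- invariance on `X ×_K X`
  haveI : IsIso (lift a.act (snd G X)) := h.1
  have hfs : (fst X X).left ≫ frobN X.left p n = (snd X X).left ≫ frobN X.left p n := by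
    have e1 : fst X X = inv (lift a.act (snd G X)) ≫ a.act := by
      rw [IsIso.eq_inv_comp, lift_fst]
    have e2 : snd X X = inv (lift a.act (snd G X)) ≫ snd G X := by
      rw [IsIso.eq_inv_comp, lift_snd]
    rw [e1, e2, Over.comp_left, Over.comp_left, Category.assoc, Category.assoc, hact]
  -- `X ⟶ Spec K` is an fppf covering
  haveI hlft : LocallyOfFiniteType X.hom :=
    prop_of_isTorsorFor Scheme.fppfPrecoverage a h @LocallyOfFiniteType inferInstance
  haveI hsurj : Surjective X.hom :=
    prop_of_isTorsorFor Scheme.fppfPrecoverage a h @Surjective surjective_hom_of_grpObj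
  haveI : LocallyOfFinitePresentation X.hom := by
    rw [HasRingHomProperty.iff_appLE (P := @LocallyOfFinitePresentation)]
    intro U V e
    have : IsNoetherianRing Γ(Spec (CommRingCat.of K), U.1) :=
      IsLocallyNoetherian.component_noetherian U
    exact RingHom.FinitePresentation.of_finiteType.1
      (HasRingHomProperty.appLE (P := @LocallyOfFiniteType) X.hom inferInstance U V e)
  haveI : Subsingleton (Spec (CommRingCat.of K)) :=
    inferInstanceAs (Subsingleton (PrimeSpectrum K))
  haveI : Flat X.hom := inferInstance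
  haveI : EffectiveEpi X.hom := inferInstance
  have hdesc : ∀ {Z : Scheme.{u}} (g₁ g₂ : Z ⟶ X.left), g₁ ≫ X.hom = g₂ ≫ X.hom →
      g₁ ≫ frobN X.left p n = g₂ ≫ frobN X.left p n := by
    intro Z g₁ g₂ hg
    let T₀ : Over (Spec (CommRingCat.of K)) := Over.mk (g₁ ≫ X.hom)
    let γ₁ : T₀ ⟶ X := Over.homMk g₁ rfl
    let γ₂ : T₀ ⟶ X := Over.homMk g₂ hg.symm
    have h1 : g₁ = (lift γ₁ γ₂).left ≫ (fst X X).left := by
      rw [← Over.comp_left, lift_fst]; rfl
    have h2 : g₂ = (lift γ₁ γ₂).left ≫ (snd X X).left := by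
      rw [← Over.comp_left, lift_snd]; rfl
    calc g₁ ≫ frobN X.left p n = (lift γ₁ γ₂).left ≫ (fst X X).left ≫ frobN X.left p n := by
          rw [← Category.assoc, ← h1]
      _ = (lift γ₁ γ₂).left ≫ (snd X X).left ≫ frobN X.left p n := by rw [hfs]
      _ = g₂ ≫ frobN X.left p n := by rw [← Category.assoc, ← h2]
  refine ⟨EffectiveEpi.desc X.hom (frobN X.left p n) hdesc, ?_⟩
  rw [← cancel_epi X.hom, EffectiveEpi.fac_assoc, frobN_comp p X.hom n]

end Field

/-- Torsors under a finite connected group scheme over a field of exponential characteristic `p`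
are trivialised by a power of the Frobenius of the field depending only on the group. -/
theorem exists_hasSectionOver_iterateFrobenius (K : Type u) [Field K] (p : ℕ) [hE : ExpChar K p]
    (G : Over (Spec (CommRingCat.of K))) [GrpObj G] [IsFinite G.hom] [ConnectedSpace G.left] :
    ∃ n : ℕ, ∀ (X : Over (Spec (CommRingCat.of K))) (a : AlgGrp.Action G X),
      NonAbH1.IsTorsorFor Scheme.fppfPrecoverage a →
      NonAbH1.HasSectionOver X (Spec.map (CommRingCat.ofHom (iterateFrobenius K p n))) := by
  cases hE with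
  | zero =>
    refine ⟨0, fun X a h => ?_⟩
    have h0 : Spec.map (CommRingCat.ofHom (iterateFrobenius K 1 0)) = 𝟙 _ := by
      have : iterateFrobenius K 1 0 = RingHom.id K := by
        ext x; simp
      rw [this]
      exact Spec.map_id _
    rw [h0]
    exact Groth.Agent.Lib.Helper26.FiniteConnTorsorPerfect.hasSection_of_isTorsorFor_fppf K G X a h
  | prime hp =>
    haveI : Fact p.Prime := ⟨hp⟩
    obtain ⟨n, hn⟩ := exists_section_frobN K p G
    refine ⟨n, fun X a h => ?_⟩
    obtain ⟨s, hs⟩ := hn X a h
    exact ⟨s, by rw [hs, frobN_Spec]⟩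

end Groth.Agent.Lib.Helper26.FiniteConnFrob
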