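import Groth.Agent.Lib.Helper54.Reduced
import Groth.Prelude.Def_NonAbH2
import Mathlib.AlgebraicGeometry.Morphisms.QuasiFinite
import Mathlib.AlgebraicGeometry.Morphisms.Separated
import Mathlib.AlgebraicGeometry.Morphisms.FlatDescent
import Mathlib.AlgebraicGeometry.Sites.Etale

/-!
# Torsors under finite connected group schemes over a field (helper26)

If the unit section of `G` is a surjective closed immersion (`G_red = S`), then `G` has only the
trivial point with values in any reduced scheme, so a pseudo-torsor under `G` has at most one point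
with values in any reduced scheme; a section over an étale covering of the spectrum of a field
therefore descends.
-/

set_option autoImplicit false
universe u

open CategoryTheory Limits AlgebraicGeometry MonoidalCategory CartesianMonoidalCategory MonObj

namespace Groth.Agent.Lib.Helper26.FiniteConnTorsor

section General

variable {S : Scheme.{u}} {G X : Over S} [GrpObj G]

/-- If the unit section of `G` is a surjective closed immersion, every point of `G` with values in
a reduced scheme is the unit. -/
lemma point_eq_unit [Surjective (η[G] : 𝟙_ (Over S) ⟶ G).left]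
    [IsClosedImmersion (η[G] : 𝟙_ (Over S) ⟶ G).left]
    (T : Over S) [IsReduced T.left] (g : T ⟶ G) : g = toUnit T ≫ η[G] := by
  let e : S ⟶ G.left := (η[G] : 𝟙_ (Over S) ⟶ G).left
  have he : e ≫ G.hom = 𝟙 S := Over.w (η[G] : 𝟙_ (Over S) ⟶ G)
  haveI : IsClosedImmersion e := inferInstanceAs (IsClosedImmersion (η[G] : 𝟙_ (Over S) ⟶ G).left)
  haveI : Surjective e := inferInstanceAs (Surjective (η[G] : 𝟙_ (Over S) ⟶ G).left)
  have h1 : IsClosedImmersion (pullback.fst g.left e) := inferInstance
  have h2 : Surjective (pullback.fst g.left e) := inferInstance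
  have h3 : IsIso (pullback.fst g.left e) := isIso_of_isClosedImmersion_of_surjective _
  have h4 : pullback.fst g.left e ≫ T.hom = pullback.snd g.left e := by
    have := pullback.condition (f := g.left) (g := e) =≫ G.hom
    simp only [Category.assoc, Over.w, he, Category.comp_id] at this
    exact this
  ext
  have h5 : g.left = inv (pullback.fst g.left e) ≫ pullback.snd g.left e ≫ e := by
    rw [← pullback.condition, IsIso.inv_hom_id_assoc]
  rw [h5, ← h4]
  simp [e]

/-- A pseudo-torsor under a group with only trivial reduced-valued points has at most one point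
with values in any reduced scheme. -/
lemma hom_ext_of_reduced (a : AlgGrp.Action G X) (ha : NonAbH1.IsPseudoTorsorSch a)
    (T : Over S) (hG : ∀ g : T ⟶ G, g = toUnit T ≫ η[G]) (σ₁ σ₂ : T ⟶ X) : σ₁ = σ₂ := by
  haveI : IsIso (lift a.act (snd G X)) := ha
  let w : T ⟶ G ⊗ X := lift σ₁ σ₂ ≫ inv (lift a.act (snd G X))
  have hw : w ≫ lift a.act (snd G X) = lift σ₁ σ₂ := by
    change (lift σ₁ σ₂ ≫ inv (lift a.act (snd G X))) ≫ lift a.act (snd G X) = lift σ₁ σ₂
    rw [Category.assoc, IsIso.inv_hom_id, Category.comp_id]
  have hw1 : w ≫ a.act = σ₁ := by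
    have := hw =≫ fst X X
    simpa using this
  have hw2 : w ≫ snd G X = σ₂ := by
    have := hw =≫ snd X X
    simpa using this
  have hw3 : w = lift (toUnit T) σ₂ ≫ (η[G] ▷ X) := by
    rw [lift_whiskerRight, ← hG (w ≫ fst G X), ← hw2]
    simp
  rw [← hw1, hw3, Category.assoc, a.one_act, lift_leftUnitor_hom]

end General

section Field

variable (K : Type u) [Field K]

/-- A finite connected scheme over a field has at most one point. -/
lemma subsingleton_of_finite_connected (G : Over (Spec (CommRingCat.of K)))
    [IsFinite G.hom] [ConnectedSpace G.left] : Subsingleton G.left := by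
  have hsub : ∀ y : (Spec (CommRingCat.of K)), G.hom ⁻¹' {y} = Set.univ := by
    intro y
    ext x
    simp only [Set.mem_preimage, Set.mem_singleton_iff, Set.mem_univ, iff_true]
    exact Subsingleton.elim (α := PrimeSpectrum K) _ _
  have hne : Nonempty G.left := inferInstance
  obtain ⟨x⟩ := hne
  have hd : _root_.IsDiscrete (Set.univ : Set G.left) := by
    rw [← hsub (G.hom x)]
    exact G.hom.isDiscrete_preimage_singleton _
  have := (isPreconnected_univ (α := G.left)).isDiscrete_iff_subsingleton.mp hd
  exact ⟨fun x y => this (Set.mem_univ x) (Set.mem_univ y)⟩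

end Field

end Groth.Agent.Lib.Helper26.FiniteConnTorsor

namespace Groth.Agent.Lib.Helper26.FiniteConnTorsor

section Main

variable (K : Type u) [Field K]

/-- A pseudo-torsor under a finite connected group scheme over a field with a section over an
étale covering of the base has a rational point. -/
theorem hasSection_of_etale_section (G X : Over (Spec (CommRingCat.of K))) [GrpObj G]
    [IsFinite G.hom] [ConnectedSpace G.left]
    (a : AlgGrp.Action G X) (ha : NonAbH1.IsPseudoTorsorSch a)
    {U : Scheme.{u}} (f : U ⟶ Spec (CommRingCat.of K)) [Etale f] [Surjective f]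
    (s : U ⟶ X.left) (hs : s ≫ X.hom = f) :
    NonAbH1.HasSectionOver X (𝟙 (Spec (CommRingCat.of K))) := by
  haveI : Subsingleton G.left := subsingleton_of_finite_connected K G
  let e : Spec (CommRingCat.of K) ⟶ G.left := (η[G] : 𝟙_ (Over (Spec (CommRingCat.of K))) ⟶ G).left
  have he : e ≫ G.hom = 𝟙 _ := Over.w (η[G] : 𝟙_ (Over (Spec (CommRingCat.of K))) ⟶ G)
  haveI : IsClosedImmersion (e ≫ G.hom) := by rw [he]; infer_instance
  haveI h1 : IsClosedImmersion e := IsClosedImmersion.of_comp e G.hom
  haveI h2 : Surjective e := ⟨fun g => ⟨G.hom g, Subsingleton.elim _ _⟩⟩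
  haveI : IsClosedImmersion (η[G] : 𝟙_ (Over (Spec (CommRingCat.of K))) ⟶ G).left := h1
  haveI : Surjective (η[G] : 𝟙_ (Over (Spec (CommRingCat.of K))) ⟶ G).left := h2
  haveI : IsReduced (pullback f f) :=
    Groth.Agent.Lib.Helper54.isReduced_of_etale_scheme (pullback.fst f f ≫ f)
  let T : Over (Spec (CommRingCat.of K)) := Over.mk (pullback.fst f f ≫ f)
  haveI : IsReduced T.left := inferInstanceAs (IsReduced (pullback f f))
  let σ₁ : T ⟶ X := Over.homMk (pullback.fst f f ≫ s) (by simp [T, hs])
  let σ₂ : T ⟶ X := Over.homMk (pullback.snd f f ≫ s) (by simp [T, hs, pullback.condition])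
  have hσ : σ₁ = σ₂ := hom_ext_of_reduced a ha T (fun g => point_eq_unit T g) σ₁ σ₂
  have hσ' : pullback.fst f f ≫ s = pullback.snd f f ≫ s := congrArg (fun t => t.left) hσ
  haveI : EffectiveEpi f := inferInstance
  have hdesc : ∀ {Z : Scheme.{u}} (g₁ g₂ : Z ⟶ U), g₁ ≫ f = g₂ ≫ f → g₁ ≫ s = g₂ ≫ s := by
    intro Z g₁ g₂ hg
    have h1 : g₁ = pullback.lift g₁ g₂ hg ≫ pullback.fst f f := (pullback.lift_fst _ _ _).symm
    have h2 : g₂ = pullback.lift g₁ g₂ hg ≫ pullback.snd f f := (pullback.lift_snd _ _ _).symm
    calc g₁ ≫ s = pullback.lift g₁ g₂ hg ≫ pullback.fst f f ≫ s := by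
          rw [← Category.assoc, ← h1]
      _ = pullback.lift g₁ g₂ hg ≫ pullback.snd f f ≫ s := by rw [hσ']
      _ = g₂ ≫ s := by rw [← Category.assoc, ← h2]
  refine ⟨EffectiveEpi.desc f s hdesc, ?_⟩
  rw [← cancel_epi f, EffectiveEpi.fac_assoc, hs, Category.comp_id]

/-- A torsor for the étale topology under a finite connected group scheme over a field is
trivial. -/
theorem hasSection_of_isTorsorFor_etale (G X : Over (Spec (CommRingCat.of K))) [GrpObj G]
    [IsFinite G.hom] [ConnectedSpace G.left]
    (a : AlgGrp.Action G X) (h : NonAbH1.IsTorsorFor Scheme.etalePrecoverage a) :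
    NonAbH1.HasSectionOver X (𝟙 (Spec (CommRingCat.of K))) := by
  obtain ⟨ha, R, hR, hsec⟩ := h
  have hpt : Nonempty (Spec (CommRingCat.of K)) := inferInstanceAs (Nonempty (PrimeSpectrum K))
  obtain ⟨pt⟩ := hpt
  obtain ⟨Y, f, hf, y, hy⟩ := (Presieve.mem_comap_jointlySurjectivePrecoverage_iff _).mp hR.1 pt
  haveI : Etale f := hR.2 hf
  haveI : Surjective f := ⟨fun x => ⟨y, Subsingleton.elim (α := PrimeSpectrum K) _ _⟩⟩
  obtain ⟨s, hs⟩ := hsec f hf
  exact hasSection_of_etale_section K G X a ha f s hs

end Main

end Groth.Agent.Lib.Helper26.FiniteConnTorsor
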