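import Groth.Agent.Lib.Helper26.OverUEE
import Groth.Agent.Lib.Helper26.GrpQuotGen
import Mathlib.AlgebraicGeometry.Sites.Fpqc
import Mathlib.CategoryTheory.Sites.EffectiveEpimorphic

/-!
# Coverings for a subcanonical topology are universally effective epimorphisms (helper26)

and the fpqc case for schemes, in the form "some flat surjective `q : Z ⟶ Y` with the
quasi-compactness condition factors through `p`".
-/

set_option autoImplicit false
universe v₁ u₁ u

namespace Groth.Agent.Lib.Helper26.FpqcCovUEE

open CategoryTheory Limits Groth.Agent.H26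

section General

variable {C : Type u₁} [Category.{v₁} C]

/-- A morphism generating a covering sieve of a subcanonical topology is a universally effective
epimorphism. -/
lemma uEE_of_generate_mem (J : GrothendieckTopology C) [J.Subcanonical] {X Y : C} (f : X ⟶ Y)
    (hf : Sieve.generate (Presieve.singleton f) ∈ J Y) : UEE C f := by
  intro X' Y' i₁ i₂ f' h
  have h1 : Sieve.generate (Presieve.singleton f') ∈ J Y' := by
    refine J.superset_covering ?_ (J.pullback_stable i₂ hf)
    intro W w hw
    obtain ⟨T, a, b, ⟨⟩, hab⟩ := hw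
    exact ⟨X', h.lift w a hab.symm, f', Presieve.singleton.mk, h.lift_fst _ _ _⟩
  change EffectiveEpi f'
  rw [← Sieve.effectiveEpimorphic_singleton,
    Presieve.EffectiveEpimorphic.iff_forall_isSheafFor_yoneda]
  intro Z
  exact (GrothendieckTopology.Subcanonical.isSheaf_of_isRepresentable (J := J)
    (yoneda.obj Z)).isSheafFor _ h1

/-- If `r ≫ p` generates a covering sieve then so does `p`. -/
lemma generate_mem_of_comp (J : GrothendieckTopology C) {Z X Y : C} (r : Z ⟶ X) (p : X ⟶ Y)
    (h : Sieve.generate (Presieve.singleton (r ≫ p)) ∈ J Y) :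
    Sieve.generate (Presieve.singleton p) ∈ J Y := by
  refine J.superset_covering ?_ h
  rintro W w ⟨T, a, b, ⟨⟩, rfl⟩
  exact ⟨X, a ≫ r, p, Presieve.singleton.mk, by simp⟩

end General

section Scheme

open AlgebraicGeometry

/-- A flat surjective morphism satisfying the quasi-compactness condition of fpqc coverings
generates a covering sieve for the fpqc topology. -/
lemma singleton_mem_fpqcPrecoverage {Z Y : Scheme.{u}} (q : Z ⟶ Y) [Flat q] [Surjective q]
    (hqc : ∀ V : Y.Opens, IsAffineOpen V →
      ∃ W : Z.Opens, IsCompact (W : Set Z) ∧ q.base '' (W : Set Z) = (V : Set Y)) :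
    Presieve.singleton q ∈ Scheme.fpqcPrecoverage Y := by
  refine ⟨?_, ?_⟩
  · rw [Scheme.qcPrecoverage, PreZeroHypercoverFamily.mem_precoverage_iff]
    refine ⟨(q.cover (P := ⊤) trivial).toPreZeroHypercover, ?_, by simp⟩
    simp only [Scheme.qcCoverFamily_property, Scheme.quasiCompactCover_iff]
    refine ⟨fun {U} hU => ?_⟩
    obtain ⟨W, hW, hWU⟩ := hqc U hU
    rw [IsCompactOpenCovered.iff_of_unique]
    exact ⟨W, hW, hWU⟩
  · rw [Scheme.singleton_mem_precoverage_iff]
    exact ⟨q.surjective, inferInstance⟩

/-- A morphism of schemes through which an fpqc covering morphism factors is a universally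
effective epimorphism. -/
lemma uEE_of_fpqc_cov {X Y : Scheme.{u}} (p : X ⟶ Y)
    (hcov : ∃ (Z : Scheme.{u}) (q : Z ⟶ Y) (r : Z ⟶ X), r ≫ p = q ∧ Surjective q ∧ Flat q ∧
      ∀ V : Y.Opens, IsAffineOpen V →
        ∃ W : Z.Opens, IsCompact (W : Set Z) ∧ q.base '' (W : Set Z) = (V : Set Y)) :
    UEE Scheme.{u} p := by
  obtain ⟨Z, q, r, rfl, h1, h2, h3⟩ := hcov
  refine uEE_of_generate_mem Scheme.fpqcTopology p ?_
  refine generate_mem_of_comp _ r p ?_
  exact Precoverage.generate_mem_toGrothendieck (singleton_mem_fpqcPrecoverage (r ≫ p) h3)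

end Scheme

end Groth.Agent.Lib.Helper26.FpqcCovUEE
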