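import Groth.Prelude.Def_AlgGrp
import Groth.Agent.Lib.Helper26.FpqcCovUEE
import Groth.Agent.Lib.Helper26.FpqcLocal
import Groth.Agent.Lib.Helper9.FlatDescent
import Groth.Agent.Lib.Helper1.AffineAndDescent

/-!
# Properties of an fpqc quotient `G ⟶ G'' = G/G'` (helper26)  [SGA3 VI_B 9.2]
-/

set_option autoImplicit false
universe u

namespace Groth.Agent.Lib.Helper26.FpqcQuot

open CategoryTheory Limits AlgebraicGeometry MonoidalCategory
open CartesianMonoidalCategory MonObj GrpObj

section Abstract

variable {𝒮 : Type*} [Category 𝒮] [CartesianMonoidalCategory 𝒮] {G G' G'' : 𝒮} [GrpObj G]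
  [GrpObj G'] (u : G' ⟶ G) (p : G ⟶ G'')

/-- The kernel square: the fibre of `p` over the image of the unit section is `G'`. -/
theorem isPullback_kernel (hsq : IsPullback ((G ◁ u) ≫ μ[G]) (fst G G') p p) :
    IsPullback u (toUnit G') p (η[G] ≫ p) := by
  have h1 : IsPullback (η[G] ▷ G') (fst (𝟙_ 𝒮) G') (fst G G') η[G] :=
    Groth.Agent.Lib.Helper26.GrpQuotGen.isPullback_whiskerRight G' η[G]
  have h2 : IsPullback ((λ_ G').inv ≫ η[G] ▷ G') (toUnit G') (fst G G') η[G] := by
    refine IsPullback.of_iso h1 (λ_ G') (Iso.refl _) (Iso.refl _) (Iso.refl _)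
      ?_ ?_ ?_ ?_
    · simp
    · exact toUnit_unique _ _
    · simp
    · simp
  have h3 := h2.paste_horiz hsq
  have e : ((λ_ G').inv ≫ η[G] ▷ G') ≫ (G ◁ u) ≫ μ[G] = u := by
    have : (λ_ G').inv ≫ η[G] ▷ G' = lift (toUnit G' ≫ η[G]) (𝟙 G') := by
      apply CartesianMonoidalCategory.hom_ext
      · simp only [Category.assoc, whiskerRight_fst, lift_fst]
        rw [← Category.assoc]
        congr 1
        exact toUnit_unique _ _
      · simp
    rw [this, lift_whiskerLeft_assoc, Category.id_comp, ← Hom.mul_def, ← Hom.one_def, _root_.one_mul]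
  rwa [e] at h3

end Abstract

section Scheme

variable {S : Scheme.{u}} {G G' G'' : Over S} [GrpObj G] [GrpObj G'] (u : G' ⟶ G) (p : G ⟶ G'')

/-- Flatness descends along a flat surjective morphism on the source. -/
theorem flat_of_flat_comp {U V W : Scheme.{u}} (k : U ⟶ V) (h : V ⟶ W) [Flat k] [Surjective k]
    [Flat (k ≫ h)] : Flat h := by
  rw [Flat.iff_flat_stalkMap]
  intro y
  obtain ⟨x, rfl⟩ := k.surjective y
  have h1 : ((k ≫ h).stalkMap x).hom.Flat := Flat.stalkMap (k ≫ h) x
  rw [Scheme.Hom.stalkMap_comp] at h1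
  have h2 : (k.stalkMap x).hom.Flat := Flat.stalkMap k x
  have h3 : (k.stalkMap x).hom.FaithfullyFlat := by
    algebraize [(k.stalkMap x).hom]
    have : IsLocalHom (algebraMap (V.presheaf.stalk (k x)) (U.presheaf.stalk x)) :=
      inferInstanceAs (IsLocalHom (k.stalkMap x).hom)
    exact Module.FaithfullyFlat.of_flat_of_isLocalHom
  exact RingHom.Flat.of_comp_of_faithfullyFlat_helper9 h3 h1

/-- The target of a flat surjective-type covering from a reduced scheme is reduced. -/
theorem isReduced_of_cov {X Y Z : Scheme.{u}} (p : X ⟶ Y) (r : Z ⟶ X) [Flat (r ≫ p)]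
    [Surjective (r ≫ p)] [IsReduced X] : IsReduced Y := by
  haveI : ∀ y : Y, _root_.IsReduced (Y.presheaf.stalk y) := by
    intro y
    obtain ⟨z, rfl⟩ := (r ≫ p).surjective y
    have h1 : ((r ≫ p).stalkMap z).hom.Flat := Flat.stalkMap (r ≫ p) z
    have h3 : ((r ≫ p).stalkMap z).hom.FaithfullyFlat := by
      algebraize [((r ≫ p).stalkMap z).hom]
      have : IsLocalHom (algebraMap (Y.presheaf.stalk ((r ≫ p) z)) (Z.presheaf.stalk z)) :=
        inferInstanceAs (IsLocalHom ((r ≫ p).stalkMap z).hom)
      exact Module.FaithfullyFlat.of_flat_of_isLocalHom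
    have hinj : Function.Injective ((r ≫ p).stalkMap z).hom := h3.injective
    rw [Scheme.Hom.stalkMap_comp] at hinj
    have hinj' : Function.Injective (p.stalkMap (r z)).hom :=
      Function.Injective.of_comp
        (show Function.Injective ((r.stalkMap z).hom ∘ (p.stalkMap (r z)).hom) from hinj)
    exact isReduced_of_injective (p.stalkMap (r z)).hom hinj'
  exact isReduced_of_isReduced_stalk Y

/-- The hypothesis "`p` is covering for the fpqc topology". -/
def IsCov {X Y : Scheme.{u}} (p : X ⟶ Y) : Prop :=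
  ∃ (Z : Scheme.{u}) (q : Z ⟶ Y) (r : Z ⟶ X), r ≫ p = q ∧ Surjective q ∧ Flat q ∧
    ∀ V : Y.Opens, IsAffineOpen V →
      ∃ W : Z.Opens, IsCompact (W : Set Z) ∧ q.base '' (W : Set Z) = (V : Set Y)

lemma IsCov.surjective {X Y : Scheme.{u}} {p : X ⟶ Y} (h : IsCov p) : Surjective p := by
  obtain ⟨Z, q, r, rfl, h1, -, -⟩ := h
  exact Surjective.of_comp r p

/-- A property which is fpqc local on the target holds for `p` as soon as it holds for the
base change of `p` along itself. -/
theorem prop_of_kernelPair {X Y R : Scheme.{u}} {p : X ⟶ Y} (hcov : IsCov p) {a b : R ⟶ X}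
    (hsq : IsPullback a b p p) (P : MorphismProperty Scheme.{u}) [P.IsStableUnderBaseChange]
    [P.IsLocalAtTarget Scheme.fpqcPrecoverage] (hb : P b) : P p := by
  obtain ⟨Z, q, r, rfl, h1, h2, h3⟩ := hcov
  have hR : Presieve.singleton (r ≫ p) ∈ Scheme.fpqcPrecoverage Y :=
    Groth.Agent.Lib.Helper26.FpqcCovUEE.singleton_mem_fpqcPrecoverage (r ≫ p) h3
  refine MorphismProperty.IsLocalAtTarget.of_forall_pullbackSnd (K := Scheme.fpqcPrecoverage) hR ?_
  rintro W g _ ⟨⟩
  have s := IsPullback.of_hasPullback p (r ≫ p)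
  have t := s.of_right' hsq
  exact MorphismProperty.of_isPullback t hb

variable {u p}

theorem flat_iff_flat (hcov : IsCov p.left)
    (hsq : IsPullback ((G ◁ u) ≫ μ[G]) (fst G G') p p) : Flat G'.hom ↔ Flat p.left := by
  constructor
  · intro h
    have sq : IsPullback (fst G G').left (snd G G').left G.hom G'.hom :=
      IsPullback.of_hasPullback G.hom G'.hom
    have hfst : Flat (fst G G').left := MorphismProperty.of_isPullback sq.flip h
    have hsq' : IsPullback ((G ◁ u) ≫ μ[G]).left (fst G G').left p.left p.left :=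
      hsq.map (Over.forget S)
    exact prop_of_kernelPair hcov hsq' @Flat hfst
  · intro h
    have hk := (isPullback_kernel u p hsq).map (Over.forget S)
    have hk' : IsPullback u.left (toUnit G').left p.left (η[G] ≫ p).left := hk
    have e : (toUnit G').left = G'.hom := by
      have := Over.w (toUnit G')
      simpa using this
    rw [e] at hk'
    exact MorphismProperty.of_isPullback hk' h

theorem flat_iff_of_flat (hcov : IsCov p.left) (hp : Flat p.left) :
    Flat G''.hom ↔ Flat G.hom := by
  haveI := hcov.surjective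
  constructor
  · intro h
    rw [← Over.w p]
    infer_instance
  · intro h
    haveI : Flat (p.left ≫ G''.hom) := by rwa [Over.w p]
    exact flat_of_flat_comp p.left G''.hom

theorem isReduced_of_isCov {X Y : Scheme.{u}} {p : X ⟶ Y} (hcov : IsCov p) [IsReduced X] :
    IsReduced Y := by
  obtain ⟨Z, q, r, rfl, h1, h2, -⟩ := hcov
  exact isReduced_of_cov p r

end Scheme

end Groth.Agent.Lib.Helper26.FpqcQuot

namespace Groth.Agent.Lib.Helper26.FpqcQuot

open CategoryTheory Limits AlgebraicGeometry MonoidalCategory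
open CartesianMonoidalCategory MonObj GrpObj

section Cov'

/-- `p` is dominated by a singleton fpqc covering. -/
def IsCov' {X Y : Scheme.{u}} (p : X ⟶ Y) : Prop :=
  ∃ (Z : Scheme.{u}) (r : Z ⟶ X), Presieve.singleton (r ≫ p) ∈ Scheme.fpqcPrecoverage Y

lemma IsCov.isCov' {X Y : Scheme.{u}} {p : X ⟶ Y} (h : IsCov p) : IsCov' p := by
  obtain ⟨Z, q, r, rfl, h1, h2, h3⟩ := h
  exact ⟨Z, r, Groth.Agent.Lib.Helper26.FpqcCovUEE.singleton_mem_fpqcPrecoverage (r ≫ p) h3⟩

lemma IsCov'.of_isPullback {X Y X' Y' : Scheme.{u}} {p : X ⟶ Y} (h : IsCov' p) {p' : X' ⟶ Y'}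
    {a : X' ⟶ X} {b : Y' ⟶ Y} (sq : IsPullback p' a b p) : IsCov' p' := by
  obtain ⟨Z, r, hr⟩ := h
  have h1 : Presieve.singleton (pullback.snd (r ≫ p) b) ∈ Scheme.fpqcPrecoverage Y' := by
    rw [← Presieve.pullback_singleton]
    exact Precoverage.pullbackArrows_mem b hr
  refine ⟨pullback (r ≫ p) b, sq.lift (pullback.snd (r ≫ p) b) (pullback.fst (r ≫ p) b ≫ r)
    (by rw [Category.assoc, pullback.condition]), ?_⟩
  rwa [sq.lift_fst]

/-- Descent of a property of `f` along a covering `c` of the target. -/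
theorem prop_of_isCov' {A B C A' : Scheme.{u}} {f : A ⟶ B} {c : C ⟶ B} (hc : IsCov' c)
    {f' : A' ⟶ C} {a : A' ⟶ A} (sq : IsPullback a f' f c)
    (P : MorphismProperty Scheme.{u}) [P.IsStableUnderBaseChange]
    [P.IsLocalAtTarget Scheme.fpqcPrecoverage] (hf' : P f') : P f := by
  obtain ⟨Z, r, hr⟩ := hc
  refine MorphismProperty.IsLocalAtTarget.of_forall_pullbackSnd (K := Scheme.fpqcPrecoverage) hr ?_
  rintro W g _ ⟨⟩
  have s := IsPullback.of_hasPullback f (r ≫ c)
  have t := s.of_right' sq
  exact MorphismProperty.of_isPullback t hf'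

end Cov'

section Squares

variable {𝒮 : Type*} [Category 𝒮] [CartesianMonoidalCategory 𝒮] {G G' G'' : 𝒮} [GrpObj G]
  [GrpObj G'] (u : G' ⟶ G) (p : G ⟶ G'')

/-- The graph square. -/
theorem isPullback_graph :
    IsPullback p (lift (𝟙 G) p) (lift (𝟙 G'') (𝟙 G'')) (p ▷ G'') := by
  refine ⟨⟨?_⟩, ⟨PullbackCone.IsLimit.mk _ (fun s => s.snd ≫ fst G G'') ?_ ?_ ?_⟩⟩
  · apply CartesianMonoidalCategory.hom_ext <;> simp
  · intro s
    have h1 := congrArg (fun t => t ≫ fst G'' G'') s.condition
    simp only [Category.assoc, lift_fst, whiskerRight_fst, Category.comp_id] at h1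
    rw [Category.assoc, h1]
  · intro s
    have h1 := congrArg (fun t => t ≫ fst G'' G'') s.condition
    have h2 := congrArg (fun t => t ≫ snd G'' G'') s.condition
    simp only [Category.assoc, lift_fst, lift_snd, whiskerRight_fst, whiskerRight_snd,
      Category.comp_id] at h1 h2
    apply CartesianMonoidalCategory.hom_ext
    · simp
    · simp only [Category.assoc, lift_snd]
      rw [← h1, h2]
  · intro s m h1 h2
    have := congrArg (fun t => t ≫ fst G G'') h2
    simpa using this

/-- `(g, h) ↦ (g, g u(h))`. -/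
noncomputable def vMap : G ⊗ G' ⟶ G ⊗ G := lift (fst G G') ((G ◁ u) ≫ μ[G])

variable {u p}

/-- The square exhibiting `vMap` as the base change of the graph of `p`. -/
theorem isPullback_vMap (hsq : IsPullback ((G ◁ u) ≫ μ[G]) (fst G G') p p) :
    IsPullback (fst G G') (vMap u) (lift (𝟙 G) p) (G ◁ p) := by
  have key : ∀ s : PullbackCone (lift (𝟙 G) p) (G ◁ p),
      (s.snd ≫ snd G G) ≫ p = (s.snd ≫ fst G G) ≫ p ∧ s.fst = s.snd ≫ fst G G := by
    intro s
    have h1 := congrArg (fun t => t ≫ fst G G'') s.condition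
    have h2 := congrArg (fun t => t ≫ snd G G'') s.condition
    simp only [Category.assoc, lift_fst, lift_snd, whiskerLeft_fst, whiskerLeft_snd,
      Category.comp_id] at h1 h2
    exact ⟨by rw [Category.assoc, ← h2, h1, Category.assoc], h1⟩
  refine ⟨⟨?_⟩, ⟨PullbackCone.IsLimit.mk _
    (fun s => hsq.lift (s.snd ≫ snd G G) (s.snd ≫ fst G G) (key s).1) ?_ ?_ ?_⟩⟩
  · apply CartesianMonoidalCategory.hom_ext
    · simp [vMap]
    · simp only [vMap, Category.assoc, lift_snd, whiskerLeft_snd, lift_snd_assoc]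
      rw [← Category.assoc]
      exact hsq.w.symm
  · intro s
    rw [hsq.lift_snd, (key s).2]
  · intro s
    apply CartesianMonoidalCategory.hom_ext
    · simp only [vMap, Category.assoc, lift_fst]
      exact hsq.lift_snd _ _ _
    · simp only [vMap, Category.assoc, lift_snd]
      exact hsq.lift_fst _ _ _
  · intro s m h1 h2
    apply hsq.hom_ext
    · rw [hsq.lift_fst, ← h2]
      simp [vMap]
    · rw [hsq.lift_snd, ← h2]
      simp [vMap]

omit [GrpObj G'] in
lemma whiskerLeft_mul : (G ◁ u) ≫ μ[G] = fst G G' * (snd G G' ≫ u) := by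
  rw [Hom.mul_def]
  congr 1
  apply CartesianMonoidalCategory.hom_ext <;> simp

/-- `vMap` is a base change of `u`. -/
theorem isPullback_vMap_u :
    IsPullback (vMap u) (snd G G') ((fst G G)⁻¹ * snd G G) u := by
  refine ⟨⟨?_⟩, ⟨PullbackCone.IsLimit.mk _ (fun s => lift (s.fst ≫ fst G G) s.snd) ?_ ?_ ?_⟩⟩
  · rw [MonObj.comp_mul, GrpObj.comp_inv]
    simp only [vMap, lift_fst, lift_snd]
    rw [whiskerLeft_mul, inv_mul_cancel_left]
  · intro s
    have h := s.condition
    rw [MonObj.comp_mul, GrpObj.comp_inv] at h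
    apply CartesianMonoidalCategory.hom_ext
    · simp [vMap]
    · simp only [vMap, Category.assoc, lift_snd]
      rw [whiskerLeft_mul, MonObj.comp_mul, lift_fst, lift_snd_assoc, ← h, mul_inv_cancel_left]
  · intro s
    simp
  · intro s m h1 h2
    apply CartesianMonoidalCategory.hom_ext
    · rw [lift_fst, ← h1]
      simp [vMap]
    · rw [lift_snd, ← h2]

end Squares

end Groth.Agent.Lib.Helper26.FpqcQuot

namespace Groth.Agent.Lib.Helper26.FpqcQuot

open CategoryTheory Limits AlgebraicGeometry MonoidalCategory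
open CartesianMonoidalCategory MonObj GrpObj

section Sep

variable {S : Scheme.{u}} {G G' G'' : Over S} [GrpObj G] [GrpObj G'] {u : G' ⟶ G} {p : G ⟶ G''}

lemma isLocalAtTarget_isClosedImmersion_fpqc :
    MorphismProperty.IsLocalAtTarget (@IsClosedImmersion : MorphismProperty Scheme.{u})
      Scheme.fpqcPrecoverage := by
  haveI : MorphismProperty.DescendsAlong @IsClosedImmersion
      (@Surjective ⊓ @Flat ⊓ @QuasiCompact : MorphismProperty Scheme.{u}) :=
    Groth.Agent.Lib.Helper1.descendsAlong_isClosedImmersion_fpqc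
  exact Groth.Agent.Lib.Helper26.FpqcLocal.isLocalAtTarget_fpqc_of_descendsAlong _

lemma unit_comp_left_hom : (η[G] ≫ p).left ≫ G''.hom = 𝟙 S := by
  have := Over.w (η[G] ≫ p)
  simpa using this

lemma isPullback_kernel_left (hsq : IsPullback ((G ◁ u) ≫ μ[G]) (fst G G') p p) :
    IsPullback u.left G'.hom p.left (η[G] ≫ p).left := by
  have hk : IsPullback u.left (toUnit G').left p.left (η[G] ≫ p).left :=
    (isPullback_kernel u p hsq).map (Over.forget S)
  have e : (toUnit G').left = G'.hom := by
    have := Over.w (toUnit G')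
    simpa using this
  rwa [e] at hk

theorem isImmersion_u (hsq : IsPullback ((G ◁ u) ≫ μ[G]) (fst G G') p p) :
    IsImmersion u.left := by
  haveI : IsImmersion ((η[G] ≫ p).left ≫ G''.hom) := by
    rw [unit_comp_left_hom]
    exact (inferInstance : @IsImmersion S S (𝟙 S))
  have h : IsImmersion (η[G] ≫ p).left := IsImmersion.of_comp _ G''.hom
  exact MorphismProperty.of_isPullback (isPullback_kernel_left hsq).flip h

theorem isClosedImmersion_iff (hcov : IsCov p.left)
    (hsq : IsPullback ((G ◁ u) ≫ μ[G]) (fst G G') p p) :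
    IsClosedImmersion u.left ↔ IsClosedImmersion (η[G] ≫ p).left := by
  haveI := isLocalAtTarget_isClosedImmersion_fpqc.{u}
  constructor
  · intro h
    exact prop_of_isCov' hcov.isCov' (isPullback_kernel_left hsq).flip @IsClosedImmersion h
  · intro h
    exact MorphismProperty.of_isPullback (isPullback_kernel_left hsq).flip h

theorem isSeparated_iff (hcov : IsCov p.left)
    (hsq : IsPullback ((G ◁ u) ≫ μ[G]) (fst G G') p p) :
    IsSeparated G''.hom ↔ IsClosedImmersion u.left := by
  haveI := isLocalAtTarget_isClosedImmersion_fpqc.{u}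
  constructor
  · intro h
    rw [isClosedImmersion_iff hcov hsq]
    haveI : IsClosedImmersion ((η[G] ≫ p).left ≫ G''.hom) := by
      rw [unit_comp_left_hom]
      exact (inferInstance : @IsClosedImmersion S S (𝟙 S))
    exact IsClosedImmersion.of_comp (η[G] ≫ p).left G''.hom
  · intro h
    have hc := hcov.isCov'
    have hc1 : IsCov' (G ◁ p).left :=
      hc.of_isPullback ((Groth.Agent.Lib.Helper26.GrpQuotGen.isPullback_whiskerLeft G p).map
        (Over.forget S))
    have hc2 : IsCov' (p ▷ G'').left :=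
      hc.of_isPullback ((Groth.Agent.Lib.Helper26.GrpQuotGen.isPullback_whiskerRight G'' p).map
        (Over.forget S))
    have hv : IsClosedImmersion (vMap u).left := by
      have sq : IsPullback (vMap u).left (snd G G').left ((fst G G)⁻¹ * snd G G).left u.left :=
        (isPullback_vMap_u (u := u)).map (Over.forget S)
      exact MorphismProperty.of_isPullback sq.flip h
    have hΓ : IsClosedImmersion (lift (𝟙 G) p).left := by
      have sq : IsPullback (fst G G').left (vMap u).left (lift (𝟙 G) p).left (G ◁ p).left :=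
        (isPullback_vMap hsq).map (Over.forget S)
      exact prop_of_isCov' hc1 sq @IsClosedImmersion hv
    have hΔ : IsClosedImmersion (lift (𝟙 G'') (𝟙 G'')).left := by
      have sq : IsPullback p.left (lift (𝟙 G) p).left (lift (𝟙 G'') (𝟙 G'')).left (p ▷ G'').left :=
        (isPullback_graph p).map (Over.forget S)
      exact prop_of_isCov' hc2 sq @IsClosedImmersion hΓ
    have e : (lift (𝟙 G'') (𝟙 G'')).left = pullback.diagonal G''.hom := by
      apply pullback.hom_ext
      · have : (lift (𝟙 G'') (𝟙 G'') ≫ fst G'' G'').left = 𝟙 _ := by rw [lift_fst]; rfl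
        rw [pullback.diagonal_fst]
        exact this
      · have : (lift (𝟙 G'') (𝟙 G'') ≫ snd G'' G'').left = 𝟙 _ := by rw [lift_snd]; rfl
        rw [pullback.diagonal_snd]
        exact this
    rw [e] at hΔ
    exact ⟨hΔ⟩

end Sep

end Groth.Agent.Lib.Helper26.FpqcQuot

namespace Groth.Agent.Lib.Helper26.FpqcQuot

open CategoryTheory Limits AlgebraicGeometry MonoidalCategory
open CartesianMonoidalCategory

section Eff

variable {𝒮 : Type*} [Category 𝒮] [CartesianMonoidalCategory 𝒮] {X Y : 𝒮} (p : X ⟶ Y)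

/-- The graph square (no group structure). -/
theorem isPullback_graph' :
    IsPullback p (lift (𝟙 X) p) (lift (𝟙 Y) (𝟙 Y)) (p ▷ Y) := by
  refine ⟨⟨?_⟩, ⟨PullbackCone.IsLimit.mk _ (fun s => s.snd ≫ fst X Y) ?_ ?_ ?_⟩⟩
  · apply CartesianMonoidalCategory.hom_ext <;> simp
  · intro s
    have h1 := congrArg (fun t => t ≫ fst Y Y) s.condition
    simp only [Category.assoc, lift_fst, whiskerRight_fst, Category.comp_id] at h1
    rw [Category.assoc, h1]
  · intro s
    have h1 := congrArg (fun t => t ≫ fst Y Y) s.condition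
    have h2 := congrArg (fun t => t ≫ snd Y Y) s.condition
    simp only [Category.assoc, lift_fst, lift_snd, whiskerRight_fst, whiskerRight_snd,
      Category.comp_id] at h1 h2
    apply CartesianMonoidalCategory.hom_ext
    · simp
    · simp only [Category.assoc, lift_snd]
      rw [← h1, h2]
  · intro s m h1 h2
    have := congrArg (fun t => t ≫ fst X Y) h2
    simpa using this

variable {p}

/-- The graph of a kernel pair as the base change of the graph of `p`. -/
theorem isPullback_kernelPair_graph {R : 𝒮} {a b : R ⟶ X} (hsq : IsPullback a b p p) :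
    IsPullback a (lift a b) (lift (𝟙 X) p) (X ◁ p) := by
  have key : ∀ s : PullbackCone (lift (𝟙 X) p) (X ◁ p),
      (s.snd ≫ fst X X) ≫ p = (s.snd ≫ snd X X) ≫ p ∧ s.fst = s.snd ≫ fst X X := by
    intro s
    have h1 := congrArg (fun t => t ≫ fst X Y) s.condition
    have h2 := congrArg (fun t => t ≫ snd X Y) s.condition
    simp only [Category.assoc, lift_fst, lift_snd, whiskerLeft_fst, whiskerLeft_snd,
      Category.comp_id] at h1 h2
    refine ⟨?_, h1⟩
    simp only [Category.assoc]
    rw [← h2, h1, Category.assoc]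
  refine ⟨⟨?_⟩, ⟨PullbackCone.IsLimit.mk _
    (fun s => hsq.lift (s.snd ≫ fst X X) (s.snd ≫ snd X X) (key s).1) ?_ ?_ ?_⟩⟩
  · apply CartesianMonoidalCategory.hom_ext
    · simp
    · simp only [Category.assoc, lift_snd, whiskerLeft_snd, lift_snd_assoc]
      exact hsq.w
  · intro s
    rw [hsq.lift_fst, (key s).2]
  · intro s
    apply CartesianMonoidalCategory.hom_ext
    · simp only [Category.assoc, lift_fst]
      exact hsq.lift_fst _ _ _
    · simp only [Category.assoc, lift_snd]
      exact hsq.lift_snd _ _ _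
  · intro s m h1 h2
    apply hsq.hom_ext
    · rw [hsq.lift_fst, ← h2]
      simp
    · rw [hsq.lift_snd, ← h2]
      simp

/-- The graph of a kernel pair as the base change of the diagonal. -/
theorem isPullback_kernelPair_diagonal {R : 𝒮} {a b : R ⟶ X} (hsq : IsPullback a b p p) :
    IsPullback (a ≫ p) (lift a b) (lift (𝟙 Y) (𝟙 Y)) ((X ◁ p) ≫ (p ▷ Y)) :=
  (isPullback_kernelPair_graph hsq).paste_horiz (isPullback_graph' p)

end Eff

section EffSch

variable {S : Scheme.{u}} {X Y : Over S} (p : X ⟶ Y)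

lemma diagonal_left : (lift (𝟙 Y) (𝟙 Y)).left = pullback.diagonal Y.hom := by
  apply pullback.hom_ext
  · have : (lift (𝟙 Y) (𝟙 Y) ≫ fst Y Y).left = 𝟙 _ := by rw [lift_fst]; rfl
    rw [pullback.diagonal_fst]
    exact this
  · have : (lift (𝟙 Y) (𝟙 Y) ≫ snd Y Y).left = 𝟙 _ := by rw [lift_snd]; rfl
    rw [pullback.diagonal_snd]
    exact this

variable {p}

theorem isImmersion_graph_kernelPair {R : Over S} {a b : R ⟶ X} (hsq : IsPullback a b p p) :
    IsImmersion (lift a b).left := by
  have sq : IsPullback (a ≫ p).left (lift a b).left (lift (𝟙 Y) (𝟙 Y)).left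
      ((X ◁ p) ≫ (p ▷ Y)).left := (isPullback_kernelPair_diagonal hsq).map (Over.forget S)
  have h : IsImmersion (lift (𝟙 Y) (𝟙 Y)).left := by
    rw [diagonal_left]
    infer_instance
  exact MorphismProperty.of_isPullback sq h

theorem isClosedImmersion_graph_kernelPair {R : Over S} {a b : R ⟶ X} (hsq : IsPullback a b p p)
    [IsSeparated Y.hom] : IsClosedImmersion (lift a b).left := by
  have sq : IsPullback (a ≫ p).left (lift a b).left (lift (𝟙 Y) (𝟙 Y)).left
      ((X ◁ p) ≫ (p ▷ Y)).left := (isPullback_kernelPair_diagonal hsq).map (Over.forget S)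
  have h : IsClosedImmersion (lift (𝟙 Y) (𝟙 Y)).left := by
    rw [diagonal_left]
    infer_instance
  exact MorphismProperty.of_isPullback sq h

theorem isSeparated_of_isClosedImmersion_graph {R : Over S} {a b : R ⟶ X}
    (hsq : IsPullback a b p p) (hcov : IsCov p.left) (h : IsClosedImmersion (lift a b).left) :
    IsSeparated Y.hom := by
  haveI := isLocalAtTarget_isClosedImmersion_fpqc.{u}
  have hc := hcov.isCov'
  have hc1 : IsCov' (X ◁ p).left :=
    hc.of_isPullback ((Groth.Agent.Lib.Helper26.GrpQuotGen.isPullback_whiskerLeft X p).map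
      (Over.forget S))
  have hc2 : IsCov' (p ▷ Y).left :=
    hc.of_isPullback ((Groth.Agent.Lib.Helper26.GrpQuotGen.isPullback_whiskerRight Y p).map
      (Over.forget S))
  have hΓ : IsClosedImmersion (lift (𝟙 X) p).left := by
    have sq : IsPullback a.left (lift a b).left (lift (𝟙 X) p).left (X ◁ p).left :=
      (isPullback_kernelPair_graph hsq).map (Over.forget S)
    exact prop_of_isCov' hc1 sq @IsClosedImmersion h
  have hΔ : IsClosedImmersion (lift (𝟙 Y) (𝟙 Y)).left := by
    have sq : IsPullback p.left (lift (𝟙 X) p).left (lift (𝟙 Y) (𝟙 Y)).left (p ▷ Y).left :=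
      (isPullback_graph' p).map (Over.forget S)
    exact prop_of_isCov' hc2 sq @IsClosedImmersion hΓ
  rw [diagonal_left] at hΔ
  exact ⟨hΔ⟩

end EffSch

end Groth.Agent.Lib.Helper26.FpqcQuot
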