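import Groth.Prelude.Def_Frob
import Mathlib.AlgebraicGeometry.AffineScheme
import Mathlib.FieldTheory.Perfect

/-!
# Iterates of the absolute Frobenius of a scheme (helper26)
-/

set_option autoImplicit false
universe u

open CategoryTheory Limits AlgebraicGeometry FrobSch

namespace Groth.Agent.Lib.Helper26.FrobIter

section

variable (X : Scheme.{u}) (p : ℕ) [Fact p.Prime] [IsCharP X p]

/-- The `n`-fold iterate of the absolute Frobenius. -/
noncomputable def frobN : ℕ → (X ⟶ X)
  | 0 => 𝟙 X
  | n + 1 => frobN n ≫ frob X p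

@[simp] lemma frobN_zero : frobN X p 0 = 𝟙 X := rfl

lemma frobN_succ (n : ℕ) : frobN X p (n + 1) = frobN X p n ≫ frob X p := rfl

lemma frobN_appTop (n : ℕ) (s : Γ(X, ⊤)) : (frobN X p n).appTop s = s ^ (p ^ n) := by
  induction n generalizing s with
  | zero => simp
  | succ n ih =>
    rw [frobN_succ, Scheme.Hom.comp_appTop, CommRingCat.comp_apply, frob_appTop, ih, ← pow_mul,
      pow_succ, mul_comm]

variable {X} {Y : Scheme.{u}} [IsCharP Y p]

lemma frobN_comp (f : X ⟶ Y) (n : ℕ) : frobN X p n ≫ f = f ≫ frobN Y p n := by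
  induction n with
  | zero => simp
  | succ n ih =>
    rw [frobN_succ, frobN_succ, Category.assoc, frob_comp, ← Category.assoc, ih, Category.assoc]

end

/-- On the spectrum of a ring of characteristic `p`, the iterated Frobenius is induced by the
iterated Frobenius of the ring. -/
lemma frobN_Spec (p : ℕ) [Fact p.Prime] (R : Type u) [CommRing R] [CharP R p] [ExpChar R p]
    (n : ℕ) :
    frobN (Spec (CommRingCat.of R)) p n =
      Spec.map (CommRingCat.ofHom (iterateFrobenius R p n)) := by
  apply ext_of_isAffine
  ext s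
  rw [frobN_appTop]
  have h := Scheme.ΓSpecIso_naturality (CommRingCat.ofHom (iterateFrobenius R p n))
  have h' := congrArg (fun φ => φ.hom s) h
  simp only [CommRingCat.hom_comp, RingHom.coe_comp, Function.comp_apply, CommRingCat.hom_ofHom,
    iterateFrobenius_def] at h'
  apply (ConcreteCategory.bijective_of_isIso (Scheme.ΓSpecIso (CommRingCat.of R)).hom).1
  rw [h', map_pow]

end Groth.Agent.Lib.Helper26.FrobIter
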