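import Mathlib.CategoryTheory.Monoidal.Cartesian.Grp
import Mathlib.CategoryTheory.Monoidal.Cartesian.Mon
import Mathlib.Tactic.Group

/-!
# Point calculus for pseudo-torsors in a cartesian monoidal category (helper26)

`G` a group object, `act : G ⊗ P ⟶ P` an action morphism (unital and associative), such that the
shear map `(g, p) ↦ (g·p, p)` is an isomorphism.  We define the division map
`δ : P ⊗ P ⟶ G` (`δ(x, y)·y = x`) on generalized points and prove its basic calculus.
-/

set_option autoImplicit false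
open CategoryTheory CategoryTheory.Limits MonoidalCategory
open MonObj CartesianMonoidalCategory SemiCartesianMonoidalCategory
universe v₁ u₁

namespace Groth.Agent.Lib.Helper26.PseudoTorsor

variable {𝒮 : Type u₁} [Category.{v₁} 𝒮] [CartesianMonoidalCategory 𝒮]
variable {G P : 𝒮} [GrpObj G] (act : G ⊗ P ⟶ P)

/-- Action on generalized points. -/
abbrev smul {W : 𝒮} (g : W ⟶ G) (p : W ⟶ P) : W ⟶ P := lift g p ≫ act

omit [GrpObj G] in
lemma comp_smul {W W' : 𝒮} (f : W' ⟶ W) (g : W ⟶ G) (p : W ⟶ P) :
    f ≫ smul act g p = smul act (f ≫ g) (f ≫ p) := by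
  unfold smul
  rw [← Category.assoc, comp_lift]

section Laws

variable (mul_act : (μ[G] ▷ P) ≫ act = (α_ G G P).hom ≫ (G ◁ act) ≫ act)
  (one_act : (η[G] ▷ P) ≫ act = (λ_ P).hom)

include mul_act in
lemma mul_smul {W : 𝒮} (g h : W ⟶ G) (x : W ⟶ P) :
    smul act (g * h) x = smul act g (smul act h x) := by
  have := congrArg (fun t => lift (lift g h) x ≫ t) mul_act
  simpa [smul, Hom.mul_def] using this

include one_act in
lemma one_smul {W : 𝒮} (x : W ⟶ P) : smul act (1 : W ⟶ G) x = x := by
  have := congrArg (fun t => lift (toUnit W) x ≫ t) one_act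
  simpa [smul, Hom.one_def] using this

end Laws

section Division

variable [hΦ : IsIso (lift act (snd G P))]

/-- The division map on generalized points: `δ(x, y)·y = x`. -/
noncomputable def δ {W : 𝒮} (x y : W ⟶ P) : W ⟶ G :=
  lift x y ≫ inv (lift act (snd G P)) ≫ fst G P

omit [GrpObj G] in
lemma comp_δ {W W' : 𝒮} (f : W' ⟶ W) (x y : W ⟶ P) :
    f ≫ δ act x y = δ act (f ≫ x) (f ≫ y) := by
  unfold δ
  rw [← Category.assoc, comp_lift]

omit [GrpObj G] in
lemma δ_smul {W : 𝒮} (x y : W ⟶ P) : smul act (δ act x y) y = x := by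
  have h1 : (lift x y ≫ inv (lift act (snd G P))) ≫ lift act (snd G P) = lift x y := by
    rw [Category.assoc, IsIso.inv_hom_id, Category.comp_id]
  have h2 : (lift x y ≫ inv (lift act (snd G P))) ≫ snd G P = y := by
    have := congrArg (fun u => u ≫ snd P P) h1
    simpa using this
  have h3 : (lift x y ≫ inv (lift act (snd G P))) ≫ act = x := by
    have := congrArg (fun u => u ≫ fst P P) h1
    simpa using this
  have h4 : lift (δ act x y) y = lift x y ≫ inv (lift act (snd G P)) := by
    ext
    · simp [δ]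
    · rw [lift_snd, h2]
  unfold smul
  rw [h4, h3]

omit [GrpObj G] in
lemma δ_of_smul {W : 𝒮} (g : W ⟶ G) (y : W ⟶ P) : δ act (smul act g y) y = g := by
  have h1 : lift g y ≫ lift act (snd G P) = lift (smul act g y) y := by
    ext <;> simp [smul]
  have h2 : lift (smul act g y) y ≫ inv (lift act (snd G P)) = lift g y := by
    rw [← h1, Category.assoc, IsIso.hom_inv_id, Category.comp_id]
  unfold δ
  rw [← Category.assoc, h2, lift_fst]

omit [GrpObj G] in
/-- uniqueness of the dividing element -/
lemma eq_δ_of_smul_eq {W : 𝒮} (g : W ⟶ G) (x y : W ⟶ P) (h : smul act g y = x) :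
    g = δ act x y := by
  rw [← h, δ_of_smul]

omit [GrpObj G] in
lemma smul_left_cancel {W : 𝒮} (g h : W ⟶ G) (y : W ⟶ P) (e : smul act g y = smul act h y) :
    g = h := by
  rw [eq_δ_of_smul_eq act g _ y rfl, e, δ_of_smul]

variable (mul_act : (μ[G] ▷ P) ≫ act = (α_ G G P).hom ≫ (G ◁ act) ≫ act)
  (one_act : (η[G] ▷ P) ≫ act = (λ_ P).hom)

include mul_act in
lemma δ_smul_left {W : 𝒮} (g : W ⟶ G) (x y : W ⟶ P) :
    δ act (smul act g x) y = g * δ act x y := by
  symm
  apply eq_δ_of_smul_eq
  rw [mul_smul act mul_act, δ_smul]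

include mul_act one_act in
lemma δ_smul_right {W : 𝒮} (g : W ⟶ G) (x y : W ⟶ P) :
    δ act x (smul act g y) = δ act x y * g⁻¹ := by
  symm
  apply eq_δ_of_smul_eq
  rw [mul_smul act mul_act, ← mul_smul act mul_act g⁻¹ g, inv_mul_cancel,
    one_smul act one_act, δ_smul]

include one_act in
lemma δ_self {W : 𝒮} (x : W ⟶ P) : δ act x x = 1 := by
  symm
  apply eq_δ_of_smul_eq
  exact one_smul act one_act x

end Division

end Groth.Agent.Lib.Helper26.PseudoTorsor
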