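import Groth.Prelude.Def_NonAbH2
import Groth.Prelude.Def_Red2
import Groth.Agent.Lib.Helper15.Amitsur
import Groth.Agent.Lib.Helper43.RankOneBridge
import Groth.Agent.Lib.Helper26.PseudoTorsor
import Groth.Agent.Lib.Helper26.TorsorLocal

/-!
# fpqc torsors under the additive group are trivial over affine bases (helper26)

The vanishing of the Amitsur `H¹` of a faithfully flat ring map `R → A` (helper15's exactness of
the Čech conerve complex) is used to modify a section of a `𝔾_a`-pseudo-torsor over `Spec A` so that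
its two pullbacks to `Spec (A ⊗_R A)` agree; the modified section descends to `Spec R` because
`Spec A ⟶ Spec R` is an effective epimorphism.
-/

set_option autoImplicit false
universe u
open CategoryTheory CategoryTheory.Limits AlgebraicGeometry MonoidalCategory
open CartesianMonoidalCategory MonObj GrpObj Simplicial

namespace Groth.Agent.Lib.Helper26.GaTorsor

open Groth.Agent.Lib.Helper15.Amitsur Groth.Agent.Lib.Helper43
open Groth.Agent.Lib.Helper26.PseudoTorsor

section Aux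

variable (R A : Type u) [CommRing R] [CommRing A] [Algebra R A]

/-- The inverse of the inclusion `A → W 0`. -/
noncomputable def incZeroInv : W R A 0 ⟶ CommRingCat.of A :=
  WidePushout.desc (arrows := fun _ : Fin (0 + 1) => (Arrow.mk (f R A)).hom) (f R A)
    (fun _ => 𝟙 _) (fun _ => Category.comp_id _)

lemma inc_incZeroInv : inc R A 0 0 ≫ incZeroInv R A = 𝟙 _ :=
  WidePushout.ι_desc (arrows := fun _ : Fin (0 + 1) => (Arrow.mk (f R A)).hom) _ _ _ (0 : Fin 1)

lemma hd_incZeroInv : hd R A 0 ≫ incZeroInv R A = f R A :=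
  WidePushout.head_desc (arrows := fun _ : Fin (0 + 1) => (Arrow.mk (f R A)).hom) _ _ _

lemma incZeroInv_inc : incZeroInv R A ≫ inc R A 0 0 = 𝟙 _ := by
  apply hom_ext'
  · rw [Category.comp_id, ← Category.assoc, hd_incZeroInv, f_inc]
  · intro i
    fin_cases i
    change inc R A 0 0 ≫ _ = inc R A 0 0 ≫ _
    rw [← Category.assoc, inc_incZeroInv, Category.id_comp, Category.comp_id]

lemma surj_inc_zero (w : W R A 0) : ∃ b : A, (inc R A 0 0).hom b = w :=
  ⟨(incZeroInv R A).hom w, by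
    have := congrArg (fun φ => φ.hom w) (incZeroInv_inc R A)
    simpa using this⟩

lemma inc_δ (n : ℕ) (i : Fin (n + 2)) (j : Fin (n + 1)) :
    inc R A n j ≫ (C R A).δ i = inc R A (n + 1) (i.succAbove j) := by
  dsimp only [CosimplicialObject.δ]
  rw [inc_map]
  rfl

lemma hd_δ (n : ℕ) (i : Fin (n + 2)) : hd R A n ≫ (C R A).δ i = hd R A (n + 1) := by
  dsimp only [CosimplicialObject.δ]
  rw [hd_map]

/-- The map out of `W 1` induced by a pair of maps out of `A` agreeing on `R`. -/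
noncomputable def descW1 {Z : CommRingCat.{u}} (g₀ g₁ : CommRingCat.of A ⟶ Z)
    (h : f R A ≫ g₀ = f R A ≫ g₁) : W R A 1 ⟶ Z :=
  WidePushout.desc (arrows := fun _ : Fin (1 + 1) => (Arrow.mk (f R A)).hom)
    (f R A ≫ g₀) (fun i => Fin.cases g₀ (fun _ => g₁) i) (by
      intro j
      refine Fin.cases ?_ (fun k => ?_) j
      · rfl
      · exact h.symm)

lemma inc_zero_descW1 {Z : CommRingCat.{u}} (g₀ g₁ : CommRingCat.of A ⟶ Z)
    (h : f R A ≫ g₀ = f R A ≫ g₁) : inc R A 1 0 ≫ descW1 R A g₀ g₁ h = g₀ :=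
  WidePushout.ι_desc (arrows := fun _ : Fin (1 + 1) => (Arrow.mk (f R A)).hom) _ _ _ (0 : Fin 2)

lemma inc_one_descW1 {Z : CommRingCat.{u}} (g₀ g₁ : CommRingCat.of A ⟶ Z)
    (h : f R A ≫ g₀ = f R A ≫ g₁) : inc R A 1 1 ≫ descW1 R A g₀ g₁ h = g₁ :=
  WidePushout.ι_desc (arrows := fun _ : Fin (1 + 1) => (Arrow.mk (f R A)).hom) _ _ _ (1 : Fin 2)

lemma hd_descW1 {Z : CommRingCat.{u}} (g₀ g₁ : CommRingCat.of A ⟶ Z)
    (h : f R A ≫ g₀ = f R A ≫ g₁) : hd R A 1 ≫ descW1 R A g₀ g₁ h = f R A ≫ g₀ :=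
  WidePushout.head_desc (arrows := fun _ : Fin (1 + 1) => (Arrow.mk (f R A)).hom) _ _ _

/-- `W 1` is the pushout of two copies of `A` over `R`. -/
lemma isPushout_W1 : IsPushout (f R A) (f R A) (inc R A 1 0) (inc R A 1 1) := by
  refine ⟨⟨by rw [f_inc, f_inc]⟩, ⟨PushoutCocone.IsColimit.mk _
    (fun s => descW1 R A s.inl s.inr s.condition) ?_ ?_ ?_⟩⟩
  · intro s
    exact inc_zero_descW1 R A _ _ _
  · intro s
    exact inc_one_descW1 R A _ _ _
  · intro s m h0 h1
    apply hom_ext'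
    · rw [hd_descW1, ← f_inc R A 1 0, Category.assoc, h0]
    · intro i
      fin_cases i
      · exact h0.trans (inc_zero_descW1 R A _ _ _).symm
      · exact h1.trans (inc_one_descW1 R A _ _ _).symm

lemma dW_zero_apply (w : W R A 0) :
    dW R A 0 w = ((C R A).δ 0).hom w - ((C R A).δ 1).hom w := by
  rw [dW_apply, Fin.sum_univ_two]
  simp [sub_eq_add_neg]

lemma dW_one_apply (w : W R A 1) :
    dW R A 1 w = ((C R A).δ 0).hom w - ((C R A).δ 1).hom w + ((C R A).δ 2).hom w := by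
  rw [dW_apply, Fin.sum_univ_three]
  simp [sub_eq_add_neg]

/-- **Amitsur `H¹ = 0`**: a 1-cocycle of the Čech conerve of a faithfully flat ring map is a
coboundary. -/
theorem exists_coboundary [Module.FaithfullyFlat R A] (c : W R A 1)
    (hc : ((C R A).δ 1).hom c = ((C R A).δ 2).hom c + ((C R A).δ 0).hom c) :
    ∃ b : A, c = (inc R A 1 1).hom b - (inc R A 1 0).hom b := by
  have h0 : dW R A 1 c = 0 := by
    rw [dW_one_apply, hc]
    ring
  obtain ⟨b', hb'⟩ := (exact_dW R A 0 c).mp h0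
  obtain ⟨b, rfl⟩ := surj_inc_zero R A b'
  refine ⟨b, ?_⟩
  rw [← hb', dW_zero_apply]
  have e0 := congrArg (fun φ => φ.hom b) (inc_δ R A 0 0 0)
  have e1 := congrArg (fun φ => φ.hom b) (inc_δ R A 0 1 0)
  simp only [CommRingCat.hom_comp, RingHom.comp_apply] at e0 e1
  rw [e0, e1]
  rfl

end Aux

section Core

variable {S : Scheme.{u}} {X : Over S} (a : AlgGrp.Action (Red.Ga S) X)

lemma δ_trans [IsIso (lift a.act (snd (Red.Ga S) X))] {T : Over S} (x y z : T ⟶ X) :
    δ a.act x z = δ a.act x y * δ a.act y z := by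
  symm
  apply eq_δ_of_smul_eq
  rw [mul_smul a.act a.mul_act, δ_smul, δ_smul]

/-- A pseudo-torsor under `𝔾_a` which has a section over a faithfully flat affine cover
`Spec A ⟶ Spec R` of an affine scheme over `S` has a section over `Spec R`. -/
theorem exists_section_of_faithfullyFlat (hps : NonAbH1.IsPseudoTorsorSch a)
    (R A : Type u) [CommRing R] [CommRing A] [Algebra R A] [Module.FaithfullyFlat R A]
    (u : Spec (CommRingCat.of R) ⟶ S) (x' : Spec (CommRingCat.of A) ⟶ X.left)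
    (hx' : x' ≫ X.hom = Spec.map (f R A) ≫ u) :
    ∃ s : Spec (CommRingCat.of R) ⟶ X.left, s ≫ X.hom = u := by
  haveI : IsIso (lift a.act (snd (Red.Ga S) X)) := hps
  -- objects over `S`
  let TA : Over S := Over.mk (Spec.map (f R A) ≫ u)
  let T : ℕ → Over S := fun n => Over.mk (Spec.map (hd R A n) ≫ u)
  let pr : ∀ n (i : Fin (n + 1)), T n ⟶ TA := fun n i =>
    Over.homMk (Spec.map (inc R A n i)) (by
      change Spec.map (inc R A n i) ≫ Spec.map (f R A) ≫ u = Spec.map (hd R A n) ≫ u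
      rw [← Category.assoc, ← Spec.map_comp, f_inc])
  let fc : ∀ n (i : Fin (n + 2)), T (n + 1) ⟶ T n := fun n i =>
    Over.homMk (Spec.map ((C R A).δ i)) (by
      change Spec.map ((C R A).δ i) ≫ Spec.map (hd R A n) ≫ u = Spec.map (hd R A (n + 1)) ≫ u
      rw [← Category.assoc, ← Spec.map_comp, hd_δ])
  have hfc : ∀ n (i : Fin (n + 2)) (j : Fin (n + 1)),
      fc n i ≫ pr n j = pr (n + 1) (i.succAbove j) := by
    intro n i j
    ext
    change Spec.map ((C R A).δ i) ≫ Spec.map (inc R A n j) = Spec.map (inc R A (n + 1) _)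
    rw [← Spec.map_comp, inc_δ]
  let xW : TA ⟶ X := Over.homMk x' hx'
  let y : Fin 2 → (T 1 ⟶ X) := fun i => pr 1 i ≫ xW
  let g : T 1 ⟶ Red.Ga S := δ a.act (y 0) (y 1)
  let z : Fin 3 → (T 2 ⟶ X) := fun k => pr 2 k ≫ xW
  have hy : ∀ (i : Fin 3) (j : Fin 2), fc 1 i ≫ y j = z (i.succAbove j) := by
    intro i j
    change fc 1 i ≫ pr 1 j ≫ xW = pr 2 _ ≫ xW
    rw [← Category.assoc, hfc]
  have h0 : fc 1 0 ≫ g = δ a.act (z 1) (z 2) := by
    change fc 1 0 ≫ δ a.act (y 0) (y 1) = _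
    rw [comp_δ, hy, hy]
    rfl
  have h1 : fc 1 1 ≫ g = δ a.act (z 0) (z 2) := by
    change fc 1 1 ≫ δ a.act (y 0) (y 1) = _
    rw [comp_δ, hy, hy]
    rfl
  have h2 : fc 1 2 ≫ g = δ a.act (z 0) (z 1) := by
    change fc 1 2 ≫ δ a.act (y 0) (y 1) = _
    rw [comp_δ, hy, hy]
    rfl
  have hco : fc 1 1 ≫ g = (fc 1 2 ≫ g) * (fc 1 0 ≫ g) := by
    rw [h0, h1, h2]
    exact δ_trans a _ _ _
  -- pass to functions
  let c : W R A 1 := (Scheme.ΓSpecIso (W R A 1)).hom (Red.gaFn g)
  have hface : ∀ i : Fin 3, (Scheme.ΓSpecIso (W R A 2)).hom (Red.gaFn (fc 1 i ≫ g)) =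
      ((C R A).δ i).hom c := by
    intro i
    rw [gaFn_comp]
    change ((Spec.map ((C R A).δ i)).appTop ≫ (Scheme.ΓSpecIso (W R A 2)).hom) (Red.gaFn g) = _
    rw [Scheme.ΓSpecIso_naturality]
    rfl
  have hc : ((C R A).δ 1).hom c = ((C R A).δ 2).hom c + ((C R A).δ 0).hom c := by
    rw [← hface, ← hface, ← hface, hco, gaFn_mul, map_add]
  obtain ⟨b, hb⟩ := exists_coboundary R A c hc
  let β : TA ⟶ Red.Ga S := gaPt ((Scheme.ΓSpecIso (CommRingCat.of A)).inv b)
  have hβ : ∀ i : Fin 2, Red.gaFn (pr 1 i ≫ β) =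
      (Scheme.ΓSpecIso (W R A 1)).inv ((inc R A 1 i).hom b) := by
    intro i
    rw [gaFn_comp, gaFn_gaPt]
    change (Spec.map (inc R A 1 i)).appTop ((Scheme.ΓSpecIso (CommRingCat.of A)).inv b) = _
    rw [← CommRingCat.comp_apply, ← Scheme.ΓSpecIso_inv_naturality]
    rfl
  have hg : g = (pr 1 0 ≫ β)⁻¹ * (pr 1 1 ≫ β) := by
    apply gaFn_injective
    rw [gaFn_mul, gaFn_inv, hβ, hβ]
    have : Red.gaFn g = (Scheme.ΓSpecIso (W R A 1)).inv c := by
      change _ = (Scheme.ΓSpecIso (W R A 1)).inv ((Scheme.ΓSpecIso (W R A 1)).hom (Red.gaFn g))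
      rw [← CommRingCat.comp_apply, Iso.hom_inv_id]
      rfl
    rw [this, hb, map_sub]
    ring
  let x'' : TA ⟶ X := smul a.act β xW
  have heq : pr 1 0 ≫ x'' = pr 1 1 ≫ x'' := by
    change pr 1 0 ≫ smul a.act β xW = pr 1 1 ≫ smul a.act β xW
    rw [comp_smul, comp_smul]
    have e : smul a.act g (y 1) = y 0 := δ_smul a.act _ _
    change smul a.act (pr 1 0 ≫ β) (y 0) = smul a.act (pr 1 1 ≫ β) (y 1)
    rw [← e, hg, ← mul_smul a.act a.mul_act, mul_inv_cancel_left]
  -- descent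
  have heq' : Spec.map (inc R A 1 0) ≫ x''.left = Spec.map (inc R A 1 1) ≫ x''.left :=
    congrArg (fun t => t.left) heq
  have hff : (f R A).hom.FaithfullyFlat :=
    (RingHom.faithfullyFlat_algebraMap_iff).2 inferInstance
  obtain ⟨hflat, hsurj⟩ := (flat_and_surjective_SpecMap_iff (f R A)).2 hff
  have hpb : IsPullback (Spec.map (inc R A 1 0)) (Spec.map (inc R A 1 1)) (Spec.map (f R A))
      (Spec.map (f R A)) := isPullback_SpecMap_of_isPushout _ _ _ _ (isPushout_W1 R A)
  let s : Spec (CommRingCat.of R) ⟶ X.left := EffectiveEpi.desc (Spec.map (f R A)) x''.left (by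
    intro Z g₁ g₂ hg12
    rw [← hpb.lift_fst g₁ g₂ hg12, Category.assoc, heq', ← Category.assoc, hpb.lift_snd])
  have hs : Spec.map (f R A) ≫ s = x''.left := EffectiveEpi.fac _ _ _
  refine ⟨s, ?_⟩
  rw [← cancel_epi (Spec.map (f R A)), ← Category.assoc, hs]
  exact Over.w x''

end Core

section Reduce

variable {S : Scheme.{u}} {X : Over S} (a : AlgGrp.Action (Red.Ga S) X)

/-- General affine version of `exists_section_of_faithfullyFlat`. -/
theorem exists_section_of_affine (hps : NonAbH1.IsPseudoTorsorSch a) {U W : Scheme.{u}}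
    [IsAffine U] [IsAffine W] (p : W ⟶ U) [Flat p] [Surjective p] (u : U ⟶ S)
    (x' : W ⟶ X.left) (hx' : x' ≫ X.hom = p ≫ u) : ∃ s : U ⟶ X.left, s ≫ X.hom = u := by
  letI : Algebra Γ(U, ⊤) Γ(W, ⊤) := p.appTop.hom.toAlgebra
  have hff : p.appTop.hom.FaithfullyFlat :=
    (Flat.flat_and_surjective_iff_faithfullyFlat_of_isAffine p).1 ⟨inferInstance, inferInstance⟩
  haveI : Module.FaithfullyFlat Γ(U, ⊤) Γ(W, ⊤) := hff
  have hf : f Γ(U, ⊤) Γ(W, ⊤) = p.appTop := rfl
  obtain ⟨s, hs⟩ := exists_section_of_faithfullyFlat a hps Γ(U, ⊤) Γ(W, ⊤) (U.isoSpec.inv ≫ u)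
    (W.isoSpec.inv ≫ x') (by
      rw [hf, Category.assoc, hx', ← Category.assoc, ← Category.assoc]
      congr 1
      exact (Scheme.isoSpec_inv_naturality p).symm)
  refine ⟨U.isoSpec.hom ≫ s, ?_⟩
  rw [Category.assoc, hs, Iso.hom_inv_id_assoc]

/-- A flat surjective quasi-compact morphism to an affine scheme is refined by a flat surjective
morphism from an affine scheme. -/
theorem exists_affine_refinement {Y U : Scheme.{u}} [IsAffine U] (q : Y ⟶ U) [Flat q]
    [Surjective q] [QuasiCompact q] :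
    ∃ (W : Scheme.{u}) (_ : IsAffine W) (r : W ⟶ Y), Flat (r ≫ q) ∧ Surjective (r ≫ q) := by
  haveI : CompactSpace Y := QuasiCompact.compactSpace_of_compactSpace q
  let 𝒰 : Y.OpenCover := Y.affineCover.finiteSubcover
  haveI : ∀ i, IsAffine (𝒰.X i) := fun i => by
    dsimp only [𝒰]
    infer_instance
  refine ⟨∐ 𝒰.X, inferInstance, Sigma.desc 𝒰.f, ?_, ?_⟩
  · haveI : Flat (Sigma.desc 𝒰.f) :=
      IsZariskiLocalAtSource.sigmaDesc (P := @Flat) (fun i => inferInstance)
    infer_instance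
  · infer_instance

omit a in
lemma flat_Ga_hom (S : Scheme.{u}) : Flat (Red.Ga S).hom := by
  change Flat (pullback.snd _ _)
  have : Flat (Red.GaZ.{u}).hom := by
    change Flat (Spec.map _)
    rw [HasRingHomProperty.Spec_iff (P := @Flat)]
    change (algebraMap _ _).Flat
    rw [RingHom.flat_algebraMap_iff]
    infer_instance
  infer_instance

omit a in
lemma quasiCompact_Ga_hom (S : Scheme.{u}) : QuasiCompact (Red.Ga S).hom := by
  change QuasiCompact (pullback.snd _ _)
  have : QuasiCompact (Red.GaZ.{u}).hom := by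
    change QuasiCompact (Spec.map _)
    infer_instance
  infer_instance

/-- **fpqc `𝔾_a`-torsors are trivial over affine schemes.** -/
theorem exists_section_of_isTorsorFor (h : NonAbH1.IsTorsorFor Scheme.fpqcPrecoverage a)
    {U : Scheme.{u}} [IsAffine U] (u : U ⟶ S) : ∃ s : U ⟶ X.left, s ≫ X.hom = u := by
  haveI : Flat (Red.Ga S).hom := flat_Ga_hom S
  haveI : QuasiCompact (Red.Ga S).hom := quasiCompact_Ga_hom S
  obtain ⟨hps, h1, h2, h3⟩ := (TorsorLocal.isTorsorFor_fpqc_iff a).1 h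
  obtain ⟨W, hW, r, hr1, hr2⟩ := exists_affine_refinement (pullback.snd X.hom u)
  exact exists_section_of_affine a hps (r ≫ pullback.snd X.hom u) u (r ≫ pullback.fst X.hom u)
    (by rw [Category.assoc, Category.assoc, pullback.condition])

/-- **fpqc torsors under the additive group are Zariski locally trivial.** -/
theorem isTorsorFor_zariski (h : NonAbH1.IsTorsorFor Scheme.fpqcPrecoverage a) :
    NonAbH1.IsTorsorFor Scheme.zariskiPrecoverage a := by
  refine ⟨h.1, Presieve.ofArrows S.affineCover.X S.affineCover.f, ?_, ?_⟩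
  · rw [Scheme.ofArrows_mem_precoverage_iff]
    refine ⟨fun x => ?_, fun i => inferInstance⟩
    obtain ⟨i, y, hy⟩ := S.affineCover.exists_eq x
    exact ⟨i, y, hy⟩
  · rintro S' f ⟨i⟩
    exact exists_section_of_isTorsorFor a h (S.affineCover.f i)

end Reduce

end Groth.Agent.Lib.Helper26.GaTorsor
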