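import Mathlib.CategoryTheory.Sites.PrecoverageToGrothendieck
import Mathlib.CategoryTheory.Sites.Hypercover.Zero

/-!
# The topology generated by two precoverages `P` and `P'` (helper26)
-/

set_option autoImplicit false
open CategoryTheory CategoryTheory.Limits
universe w v₁ u₁

namespace Groth.Agent.Lib.Helper26.GenTop

variable {C : Type u₁} [Category.{v₁} C] (C' : C → Prop) (P P' : Precoverage C)

/-- `S` contains a composite family `P' ∘ P` with middle objects in `C'`. -/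
def Cov (X : C) (S : Sieve X) : Prop :=
  ∃ R ∈ P X, (∀ ⦃Y : C⦄ ⦃f : Y ⟶ X⦄, R f → C' Y) ∧
    ∀ ⦃Y : C⦄ ⦃f : Y ⟶ X⦄, R f → ∃ Q ∈ P' Y, ∀ ⦃Z : C⦄ ⦃g : Z ⟶ Y⦄, Q g → S (g ≫ f)

variable {C' P P'}

lemma Cov.mono {X : C} {S T : Sieve X} (h : Cov C' P P' X S) (hST : S ≤ T) : Cov C' P P' X T := by
  obtain ⟨R, hR, hC, hQ⟩ := h
  refine ⟨R, hR, hC, fun Y f hf => ?_⟩
  obtain ⟨Q, hQ', hS⟩ := hQ hf
  exact ⟨Q, hQ', fun Z g hg => hST _ (hS hg)⟩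

section
variable [P.IsStableUnderComposition]
  (hb : ∀ X : C, ∃ R ∈ P X, ∀ ⦃Y : C⦄ ⦃f : Y ⟶ X⦄, R f → C' Y)
include hb

lemma P_refine {X : C} {R₀ : Presieve X} (hR₀ : R₀ ∈ P X) :
    ∃ R ∈ P X, (∀ ⦃Y : C⦄ ⦃f : Y ⟶ X⦄, R f → C' Y) ∧
      ∀ ⦃W : C⦄ ⦃w : W ⟶ X⦄, R w → ∃ (Y : C) (f : Y ⟶ X) (_ : R₀ f) (a : W ⟶ Y), a ≫ f = w := by
  rw [Precoverage.mem_iff_exists_zeroHypercover] at hR₀
  obtain ⟨E, rfl⟩ := hR₀
  have h := fun i : E.I₀ => hb (E.X i)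
  choose Ri hRi hRiC using h
  have h2 : ∀ i, ∃ F : P.ZeroHypercover (E.X i), Ri i = Presieve.ofArrows F.X F.f := fun i =>
    Precoverage.mem_iff_exists_zeroHypercover.mp (hRi i)
  choose F hF using h2
  refine ⟨(E.bind F).presieve₀, (E.bind F).mem₀, ?_, ?_⟩
  · rintro Y f ⟨p⟩
    exact hRiC p.1 (by rw [hF]; exact ⟨p.2⟩)
  · rintro W w ⟨p⟩
    exact ⟨E.X p.1, E.f p.1, ⟨p.1⟩, (F p.1).f p.2, rfl⟩

end

section Main
variable [P.HasPullbacks] [P.IsStableUnderBaseChange] [P.IsStableUnderComposition]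
    (hP'C : ∀ ⦃X : C⦄ ⦃R : Presieve X⦄, R ∈ P' X → C' X ∧ ∀ ⦃Y : C⦄ ⦃f : Y ⟶ X⦄, R f → C' Y)
    (hP'id : ∀ ⦃X : C⦄, C' X → Presieve.singleton (𝟙 X) ∈ P' X)
    (ha : ∀ ⦃X : C⦄ ⦃R : Presieve X⦄, R ∈ P' X → ∀ ⦃T : C⦄ (g : T ⟶ X), C' T →
      ∃ _ : R.HasPullbacks g, Presieve.pullbackArrows g R ∈ P' T)
    (hb : ∀ X : C, ∃ R ∈ P X, ∀ ⦃Y : C⦄ ⦃f : Y ⟶ X⦄, R f → C' Y)
    (hc : ∀ ⦃S : C⦄ ⦃R₁ : Presieve S⦄, R₁ ∈ P' S →
      ∀ (R₂ : ∀ ⦃Y : C⦄ ⦃f : Y ⟶ S⦄, R₁ f → Presieve Y),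
        (∀ ⦃Y : C⦄ ⦃f : Y ⟶ S⦄ (hf : R₁ f), R₂ hf ∈ P Y ∧ ∀ ⦃Z : C⦄ ⦃g : Z ⟶ Y⦄, R₂ hf g → C' Z) →
      ∀ (R₃ : ∀ ⦃Y : C⦄ ⦃f : Y ⟶ S⦄ (hf : R₁ f) ⦃Z : C⦄ ⦃g : Z ⟶ Y⦄, R₂ hf g → Presieve Z),
        (∀ ⦃Y : C⦄ ⦃f : Y ⟶ S⦄ (hf : R₁ f) ⦃Z : C⦄ ⦃g : Z ⟶ Y⦄ (hg : R₂ hf g), R₃ hf hg ∈ P' Z) →
      ∃ T ∈ P' S, ∀ ⦃W : C⦄ ⦃q : W ⟶ S⦄, T q →
        ∃ (Y Z V : C) (f : Y ⟶ S) (hf : R₁ f) (g : Z ⟶ Y) (hg : R₂ hf g) (h : V ⟶ Z) (_ : R₃ hf hg h)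
          (r : W ⟶ V), r ≫ h ≫ g ≫ f = q)

include hP'id hb in
lemma cov_of_P {X : C} {R₀ : Presieve X} (hR₀ : R₀ ∈ P X) :
    Cov C' P P' X (Sieve.generate R₀) := by
  obtain ⟨R, hR, hC, hfac⟩ := P_refine hb hR₀
  refine ⟨R, hR, hC, fun Y f hf => ⟨Presieve.singleton (𝟙 Y), hP'id (hC hf), ?_⟩⟩
  rintro Z g ⟨⟩
  obtain ⟨Y', f', hf', a, rfl⟩ := hfac hf
  rw [Category.id_comp]
  exact ⟨Y', a, f', hf', rfl⟩

include ha hb in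
lemma cov_of_P' {X : C} {R₀ : Presieve X} (hR₀ : R₀ ∈ P' X) :
    Cov C' P P' X (Sieve.generate R₀) := by
  obtain ⟨R, hR, hC⟩ := hb X
  refine ⟨R, hR, hC, fun Y f hf => ?_⟩
  obtain ⟨inst, hmem⟩ := ha hR₀ f (hC hf)
  refine ⟨Presieve.pullbackArrows f R₀, hmem, ?_⟩
  rintro Z g ⟨Z', h, hh⟩
  haveI := R₀.hasPullback f hh
  rw [← pullback.condition]
  exact ⟨Z', pullback.fst h f, h, hh, rfl⟩

include hP'id hb in
lemma cov_top (X : C) : Cov C' P P' X ⊤ := by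
  obtain ⟨R, hR, hC⟩ := hb X
  exact ⟨R, hR, hC, fun Y f hf =>
    ⟨Presieve.singleton (𝟙 Y), hP'id (hC hf), fun _ _ _ => trivial⟩⟩

include ha hb in
lemma cov_pullback {X : C} {S : Sieve X} (h : Cov C' P P' X S) {Y : C} (f : Y ⟶ X) :
    Cov C' P P' Y (S.pullback f) := by
  obtain ⟨R, hR, hC, hQ⟩ := h
  haveI : R.HasPullbacks f := P.hasPullbacks_of_mem f hR
  have hRf : R.pullbackArrows f ∈ P Y := Precoverage.pullbackArrows_mem f hR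
  obtain ⟨R'', hR'', hC'', hfac⟩ := P_refine hb hRf
  refine ⟨R'', hR'', hC'', fun W w hw => ?_⟩
  obtain ⟨V, p, hp, a, rfl⟩ := hfac hw
  obtain ⟨Yi, fi, hfi⟩ := hp
  haveI := R.hasPullback f hfi
  obtain ⟨Q, hQmem, hQS⟩ := hQ hfi
  obtain ⟨inst, hmem⟩ := ha hQmem (a ≫ pullback.fst fi f) (hC'' hw)
  refine ⟨Presieve.pullbackArrows (a ≫ pullback.fst fi f) Q, hmem, ?_⟩
  rintro Z g ⟨Z', q, hq⟩
  haveI := Q.hasPullback (a ≫ pullback.fst fi f) hq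
  rw [Sieve.pullback_apply]
  have : (pullback.snd q (a ≫ pullback.fst fi f) ≫ a ≫ pullback.snd fi f) ≫ f =
      pullback.fst q (a ≫ pullback.fst fi f) ≫ (q ≫ fi) := by
    rw [Category.assoc, Category.assoc, ← pullback.condition (f := fi) (g := f),
      ← Category.assoc a, ← Category.assoc (pullback.snd q _), ← pullback.condition,
      Category.assoc]
  rw [this]
  exact S.downward_closed (hQS hq) _

include hc in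
lemma cov_trans {X : C} {S T : Sieve X} (hS : Cov C' P P' X S)
    (hT : ∀ ⦃Y : C⦄ ⦃f : Y ⟶ X⦄, S f → Cov C' P P' Y (T.pullback f)) : Cov C' P P' X T := by
  obtain ⟨R, hR, hC, hQ⟩ := hS
  refine ⟨R, hR, hC, fun Y f hf => ?_⟩
  obtain ⟨Q, hQmem, hQS⟩ := hQ hf
  have h1 : ∀ ⦃Z : C⦄ ⦃g : Z ⟶ Y⦄, Q g → Cov C' P P' Z (T.pullback (g ≫ f)) :=
    fun Z g hg => hT (hQS hg)
  choose R₂ hR₂ hC₂ hQ₂ using h1
  choose R₃ hR₃ hT₃ using hQ₂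
  obtain ⟨T', hT', hfac⟩ := hc hQmem (fun Z g hg => R₂ hg) (fun Z g hg => ⟨hR₂ hg, hC₂ hg⟩)
    (fun Z g hg V h hh => R₃ hg hh) (fun Z g hg V h hh => hR₃ hg hh)
  refine ⟨T', hT', ?_⟩
  intro W q hq
  obtain ⟨Y₁, Z₁, V₁, f₁, hf₁, g₁, hg₁, h₁, hh₁, r, rfl⟩ := hfac hq
  have h2 := hT₃ hf₁ hg₁ hh₁
  rw [Sieve.pullback_apply] at h2
  have : (r ≫ h₁ ≫ g₁ ≫ f₁) ≫ f = r ≫ ((h₁ ≫ g₁) ≫ f₁ ≫ f) := by
    simp only [Category.assoc]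
  rw [this]
  exact T.downward_closed h2 _

include hP'C hP'id ha hb hc in
theorem mem_iff (X : C) (S' : Sieve X) :
    S' ∈ (P ⊔ P').toGrothendieck X ↔ Cov C' P P' X S' := by
  constructor
  · intro h
    rw [Precoverage.mem_toGrothendieck_iff] at h
    induction h with
    | of X S hS =>
      rcases hS with hS | hS
      · exact cov_of_P hP'id hb hS
      · exact cov_of_P' ha hb hS
    | top X => exact cov_top hP'id hb X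
    | pullback X S _ Y f ih => exact cov_pullback ha hb ih f
    | transitive X S R _ _ ih1 ih2 => exact cov_trans hc ih1 ih2
  · rintro ⟨R, hR, hC, hQ⟩
    have hRmem : Sieve.generate R ∈ (P ⊔ P').toGrothendieck X :=
      Precoverage.generate_mem_toGrothendieck (Or.inl hR)
    refine GrothendieckTopology.transitive _ hRmem S' ?_
    rintro Y f ⟨Y', a, f', hf', rfl⟩
    rw [Sieve.pullback_comp]
    apply GrothendieckTopology.pullback_stable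
    obtain ⟨Q, hQmem, hQS⟩ := hQ hf'
    refine GrothendieckTopology.superset_covering _ ?_
      (Precoverage.generate_mem_toGrothendieck (Or.inr hQmem))
    rw [Sieve.generate_le_iff]
    intro Z g hg
    exact hQS hg

end Main

end Groth.Agent.Lib.Helper26.GenTop
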