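import Groth.Agent.Lib.Helper26.GenTop
import Mathlib.CategoryTheory.Sites.SheafOfTypes

/-!
# Sheaves for the topology generated by two precoverages (helper26)
-/

set_option autoImplicit false
open CategoryTheory CategoryTheory.Limits Opposite
universe w v₁ u₁

namespace Groth.Agent.Lib.Helper26.GenTop

open Presieve

variable {C : Type u₁} [Category.{v₁} C]

lemma fam_congr {F : Cᵒᵖ ⥤ Type w} {X : C} {S : Presieve X} (x : FamilyOfElements F S)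
    {Y : C} {f g : Y ⟶ X} (h : f = g) (hf : S f) (hg : S g) : x f hf = x g hg := by
  subst h; rfl

/-- If `F` is separated for `R` and for each `Q hf`, and the composites lie in `S`, then `F` is
separated for `S`. -/
lemma isSeparatedFor_of_cov {F : Cᵒᵖ ⥤ Type w} {X : C} (S : Sieve X) (R : Presieve X)
    (hR : IsSeparatedFor F R)
    (Q : ∀ ⦃Y : C⦄ ⦃f : Y ⟶ X⦄, R f → Presieve Y)
    (hQ : ∀ ⦃Y : C⦄ ⦃f : Y ⟶ X⦄ (hf : R f), IsSeparatedFor F (Q hf))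
    (hQS : ∀ ⦃Y : C⦄ ⦃f : Y ⟶ X⦄ (hf : R f) ⦃Z : C⦄ ⦃g : Z ⟶ Y⦄, Q hf g → S (g ≫ f)) :
    IsSeparatedFor F (S : Presieve X) := by
  intro x t₁ t₂ h₁ h₂
  apply hR.ext
  intro Y f hf
  apply (hQ hf).ext
  intro Z g hg
  rw [← FunctorToTypes.map_comp_apply, ← FunctorToTypes.map_comp_apply, ← op_comp]
  rw [h₁ _ (hQS hf hg), h₂ _ (hQS hf hg)]

/-- Gluing along a composite cover. -/
lemma isSheafFor_of_cov (J : GrothendieckTopology C) {F : Cᵒᵖ ⥤ Type w} (hsep : IsSeparated J F)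
    {X : C} (S : Sieve X) (hS : S ∈ J X) (R : Presieve X) (hRJ : Sieve.generate R ∈ J X)
    (hR : IsSheafFor F R)
    (Q : ∀ ⦃Y : C⦄ ⦃f : Y ⟶ X⦄, R f → Presieve Y)
    (hQJ : ∀ ⦃Y : C⦄ ⦃f : Y ⟶ X⦄ (hf : R f), Sieve.generate (Q hf) ∈ J Y)
    (hQ : ∀ ⦃Y : C⦄ ⦃f : Y ⟶ X⦄ (hf : R f), IsSheafFor F (Q hf))
    (hQS : ∀ ⦃Y : C⦄ ⦃f : Y ⟶ X⦄ (hf : R f) ⦃Z : C⦄ ⦃g : Z ⟶ Y⦄, Q hf g → S (g ≫ f)) :
    IsSheafFor F (S : Presieve X) := by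
  rw [← isSeparatedFor_and_exists_isAmalgamation_iff_isSheafFor]
  refine ⟨hsep S hS, ?_⟩
  intro x hx
  have hx' := (compatible_iff_sieveCompatible x).mp hx
  let y : ∀ ⦃Y : C⦄ ⦃f : Y ⟶ X⦄ (hf : R f), FamilyOfElements F (Q hf) :=
    fun Y f hf Z g hg => x (g ≫ f) (hQS hf hg)
  have hy : ∀ ⦃Y : C⦄ ⦃f : Y ⟶ X⦄ (hf : R f), (y hf).Compatible := by
    intro Y f hf Z₁ Z₂ W g₁ g₂ h₁ h₂ hh₁ hh₂ e
    apply hx
    rw [← Category.assoc, e, Category.assoc]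
  let z : FamilyOfElements F R := fun Y f hf => (hQ hf).amalgamate (y hf) (hy hf)
  have hz_spec : ∀ ⦃Y : C⦄ ⦃f : Y ⟶ X⦄ (hf : R f) ⦃Z : C⦄ ⦃g : Z ⟶ Y⦄ (hg : Q hf g),
      F.map g.op (z f hf) = x (g ≫ f) (hQS hf hg) :=
    fun Y f hf Z g hg => (hQ hf).valid_glue (hy hf) g hg
  have key : ∀ ⦃Y : C⦄ ⦃f : Y ⟶ X⦄ (hf : R f) ⦃W : C⦄ (h : W ⟶ Y) (hS' : S (h ≫ f)),
      F.map h.op (z f hf) = x (h ≫ f) hS' := by
    intro Y f hf W h hS'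
    apply (hsep _ (J.pullback_stable h (hQJ hf))).ext
    rintro V c ⟨Z, a, g, hg, e⟩
    rw [← FunctorToTypes.map_comp_apply, ← op_comp, ← e, op_comp, FunctorToTypes.map_comp_apply,
      hz_spec hf hg, ← hx', ← hx']
    apply fam_congr
    rw [← Category.assoc, e, Category.assoc]
  have hz : z.Compatible := by
    intro Y₁ Y₂ W g₁ g₂ f₁ f₂ hf₁ hf₂ e
    apply (hsep _ (J.pullback_stable (g₁ ≫ f₁) hS)).ext
    intro V c hc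
    rw [Sieve.pullback_apply] at hc
    have hc₁ : S ((c ≫ g₁) ≫ f₁) := by rw [Category.assoc]; exact hc
    have hc₂ : S ((c ≫ g₂) ≫ f₂) := by rw [Category.assoc, ← e]; exact hc
    rw [← FunctorToTypes.map_comp_apply, ← FunctorToTypes.map_comp_apply, ← op_comp, ← op_comp,
      key hf₁ _ hc₁, key hf₂ _ hc₂]
    apply fam_congr
    rw [Category.assoc, Category.assoc, e]
  refine ⟨hR.amalgamate z hz, ?_⟩
  intro W s hs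
  apply (hsep _ (J.pullback_stable s hRJ)).ext
  rintro V c ⟨Y, a, f, hf, e⟩
  have hSa : S (a ≫ f) := by rw [e]; exact S.downward_closed hs c
  rw [← FunctorToTypes.map_comp_apply, ← op_comp, ← e, op_comp, FunctorToTypes.map_comp_apply,
    hR.valid_glue hz f hf, key hf a hSa, ← hx']
  exact fam_congr x e _ _

section Main
variable {C' : C → Prop} {P P' : Precoverage C}
variable [P.HasPullbacks] [P.IsStableUnderBaseChange] [P.IsStableUnderComposition]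
    (hP'C : ∀ ⦃X : C⦄ ⦃R : Presieve X⦄, R ∈ P' X → C' X ∧ ∀ ⦃Y : C⦄ ⦃f : Y ⟶ X⦄, R f → C' Y)
    (hP'id : ∀ ⦃X : C⦄, C' X → Presieve.singleton (𝟙 X) ∈ P' X)
    (ha : ∀ ⦃X : C⦄ ⦃R : Presieve X⦄, R ∈ P' X → ∀ ⦃T : C⦄ (g : T ⟶ X), C' T →
      ∃ _ : R.HasPullbacks g, Presieve.pullbackArrows g R ∈ P' T)
    (hb : ∀ X : C, ∃ R ∈ P X, ∀ ⦃Y : C⦄ ⦃f : Y ⟶ X⦄, R f → C' Y)
    (hc : ∀ ⦃S : C⦄ ⦃R₁ : Presieve S⦄, R₁ ∈ P' S →
      ∀ (R₂ : ∀ ⦃Y : C⦄ ⦃f : Y ⟶ S⦄, R₁ f → Presieve Y),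
        (∀ ⦃Y : C⦄ ⦃f : Y ⟶ S⦄ (hf : R₁ f), R₂ hf ∈ P Y ∧ ∀ ⦃Z : C⦄ ⦃g : Z ⟶ Y⦄, R₂ hf g → C' Z) →
      ∀ (R₃ : ∀ ⦃Y : C⦄ ⦃f : Y ⟶ S⦄ (hf : R₁ f) ⦃Z : C⦄ ⦃g : Z ⟶ Y⦄, R₂ hf g → Presieve Z),
        (∀ ⦃Y : C⦄ ⦃f : Y ⟶ S⦄ (hf : R₁ f) ⦃Z : C⦄ ⦃g : Z ⟶ Y⦄ (hg : R₂ hf g), R₃ hf hg ∈ P' Z) →
      ∃ T ∈ P' S, ∀ ⦃W : C⦄ ⦃q : W ⟶ S⦄, T q →
        ∃ (Y Z V : C) (f : Y ⟶ S) (hf : R₁ f) (g : Z ⟶ Y) (hg : R₂ hf g) (h : V ⟶ Z) (_ : R₃ hf hg h)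
          (r : W ⟶ V), r ≫ h ≫ g ≫ f = q)

include hP'C hP'id ha hb hc in
theorem isSheaf_iff (F : Cᵒᵖ ⥤ Type w) :
    Presieve.IsSheaf (P ⊔ P').toGrothendieck F ↔
      (∀ ⦃X : C⦄ ⦃R : Presieve X⦄, R ∈ P X → Presieve.IsSheafFor F R) ∧
      (∀ ⦃X : C⦄ ⦃R : Presieve X⦄, R ∈ P' X → Presieve.IsSheafFor F R) := by
  constructor
  · intro h
    exact ⟨fun X R hR => h.isSheafFor R (Precoverage.generate_mem_toGrothendieck (Or.inl hR)),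
      fun X R hR => h.isSheafFor R (Precoverage.generate_mem_toGrothendieck (Or.inr hR))⟩
  · rintro ⟨hP, hP'⟩
    have hsep : IsSeparated (P ⊔ P').toGrothendieck F := by
      intro X S hS
      obtain ⟨R, hR, -, hQ⟩ := (mem_iff hP'C hP'id ha hb hc X S).mp hS
      choose Q hQmem hQS using hQ
      exact isSeparatedFor_of_cov S R (hP hR).isSeparatedFor Q
        (fun Y f hf => (hP' (hQmem hf)).isSeparatedFor) hQS
    intro X S hS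
    obtain ⟨R, hR, -, hQ⟩ := (mem_iff hP'C hP'id ha hb hc X S).mp hS
    choose Q hQmem hQS using hQ
    exact isSheafFor_of_cov _ hsep S hS R
      (Precoverage.generate_mem_toGrothendieck (Or.inl hR)) (hP hR) Q
      (fun Y f hf => Precoverage.generate_mem_toGrothendieck (Or.inr (hQmem hf)))
      (fun Y f hf => hP' (hQmem hf)) hQS

end Main

end Groth.Agent.Lib.Helper26.GenTop
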