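import Mathlib

/-!
# Rank one descent: a unit cocycle is locally a coboundary (algebraic core) (helper26)

`R → A` flat, `c ∈ A ⊗[R] A` satisfying the cocycle identity in `A ⊗ (A ⊗ A)` and the counit
identity `m(c) = 1`.  Then the descended module `L = {ℓ | c * (ℓ ⊗ 1) = 1 ⊗ ℓ}` generates the unit
ideal of `A`: there are `aᵢ ∈ A`, `ℓᵢ ∈ L` with `∑ aᵢ ℓᵢ = 1`.
-/

set_option autoImplicit false
universe u
open TensorProduct

namespace Groth.Agent.Lib.Helper26.RankOneDescent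

variable {R A : Type u} [CommRing R] [CommRing A] [Algebra R A]

/-- `ρ a = c * (a ⊗ 1)`. -/
noncomputable def rho (c : A ⊗[R] A) : A →ₗ[R] A ⊗[R] A :=
  (LinearMap.mulLeft R c).comp
    (Algebra.TensorProduct.includeLeft : A →ₐ[R] A ⊗[R] A).toLinearMap

lemma rho_apply (c : A ⊗[R] A) (a : A) : rho c a = c * (a ⊗ₜ[R] 1) := rfl

/-- `a ↦ 1 ⊗ a`. -/
noncomputable def incl : A →ₗ[R] A ⊗[R] A :=
  (Algebra.TensorProduct.includeRight : A →ₐ[R] A ⊗[R] A).toLinearMap

lemma incl_apply (a : A) : (incl : A →ₗ[R] A ⊗[R] A) a = 1 ⊗ₜ[R] a := rfl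

/-- `x ⊗ y ↦ x ⊗ (y ⊗ 1)`. -/
noncomputable def j12 : A ⊗[R] A →ₐ[R] A ⊗[R] (A ⊗[R] A) :=
  Algebra.TensorProduct.map (AlgHom.id R A) Algebra.TensorProduct.includeLeft

/-- `x ⊗ y ↦ x ⊗ (1 ⊗ y)`. -/
noncomputable def j13 : A ⊗[R] A →ₐ[R] A ⊗[R] (A ⊗[R] A) :=
  Algebra.TensorProduct.map (AlgHom.id R A) Algebra.TensorProduct.includeRight

/-- `y ↦ 1 ⊗ y`. -/
noncomputable def j23 : A ⊗[R] A →ₐ[R] A ⊗[R] (A ⊗[R] A) :=
  Algebra.TensorProduct.includeRight

lemma lTensor_rho (c x : A ⊗[R] A) : (rho c).lTensor A x = j23 c * j12 x := by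
  induction x with
  | zero => simp
  | tmul a b =>
    simp only [LinearMap.lTensor_tmul, rho_apply, j23, j12, Algebra.TensorProduct.includeRight_apply,
      Algebra.TensorProduct.map_tmul, AlgHom.coe_id, id_eq,
      Algebra.TensorProduct.includeLeft_apply, Algebra.TensorProduct.tmul_mul_tmul, one_mul]
  | add x y hx hy => simp only [map_add, hx, hy, mul_add]

lemma lTensor_incl (x : A ⊗[R] A) : (incl : A →ₗ[R] A ⊗[R] A).lTensor A x = j13 x := by
  induction x with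
  | zero => simp
  | tmul a b =>
    simp only [LinearMap.lTensor_tmul, incl_apply, j13, Algebra.TensorProduct.map_tmul,
      AlgHom.coe_id, id_eq, Algebra.TensorProduct.includeRight_apply]
  | add x y hx hy => simp only [map_add, hx, hy]

/-- **Rank one descent.** -/
theorem exists_family [Module.Flat R A] (c : A ⊗[R] A)
    (hco : (j13 c : A ⊗[R] (A ⊗[R] A)) = j12 c * j23 c)
    (hcounit : LinearMap.mul' R A c = 1) :
    ∃ (n : ℕ) (a ℓ : Fin n → A), (∀ i, c * (ℓ i ⊗ₜ[R] 1) = 1 ⊗ₜ[R] ℓ i) ∧ ∑ i, a i * ℓ i = 1 := by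
  have hc : rho c 1 = c := by
    rw [rho_apply]
    exact mul_one c
  have hmem : c ∈ LinearMap.eqLocus ((rho c).lTensor A) ((incl : A →ₗ[R] A ⊗[R] A).lTensor A) := by
    change (rho c).lTensor A c = (incl : A →ₗ[R] A ⊗[R] A).lTensor A c
    rw [lTensor_rho, lTensor_incl, hco, mul_comm]
  have heq := Module.Flat.eqLocus_lTensor_eq (R := R) R A (rho c) (incl : A →ₗ[R] A ⊗[R] A)
  have hmem' : c ∈ LinearMap.range
      (AlgebraTensorModule.lTensor R A (LinearMap.eqLocus (rho c) (incl : A →ₗ[R] A ⊗[R] A)).subtype) := by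
    rw [← heq]
    exact hmem
  obtain ⟨y, hy⟩ := hmem'
  obtain ⟨n, a, ℓ, rfl⟩ := TensorProduct.exists_sum_tmul_eq y
  refine ⟨n, a, fun i => (ℓ i : A), fun i => ?_, ?_⟩
  · have := (ℓ i).2
    change rho c (ℓ i : A) = incl (ℓ i : A) at this
    rw [rho_apply, incl_apply] at this
    exact this
  · have h1 := congrArg (LinearMap.mul' R A) hy
    rw [hcounit, map_sum, map_sum] at h1
    rw [← h1]
    refine Finset.sum_congr rfl fun i _ => ?_
    simp
end Groth.Agent.Lib.Helper26.RankOneDescent
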