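import Groth.Agent.Lib.Helper26.GaTorsor
import Groth.Agent.Lib.Helper26.RankOneDescent

/-!
# fpqc torsors under the multiplicative group are Zariski locally trivial (helper26)

Rank one descent (`RankOneDescent.exists_family`) produces, from the cocycle of a section of a
`𝔾_m`-pseudo-torsor over a faithfully flat affine cover `Spec A ⟶ Spec R`, functions `ℓᵢ ∈ A`
generating the unit ideal whose non-vanishing loci are saturated; over the (open) image of `D(ℓᵢ)`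
in `Spec R` the section twisted by `ℓᵢ` descends.
-/

set_option autoImplicit false
universe u
open CategoryTheory CategoryTheory.Limits AlgebraicGeometry MonoidalCategory
open CartesianMonoidalCategory MonObj GrpObj Simplicial TensorProduct

namespace Groth.Agent.Lib.Helper26.GmTorsor

open Groth.Agent.Lib.Helper15.Amitsur Groth.Agent.Lib.Helper43
open Groth.Agent.Lib.Helper26.PseudoTorsor Groth.Agent.Lib.Helper26.GaTorsor
open Groth.Agent.Lib.Helper26.RankOneDescent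

section Bridge

variable (R A : Type u) [CommRing R] [CommRing A] [Algebra R A]

/-- `W 1 ≅ A ⊗[R] A`. -/
noncomputable def θ₁ : W R A 1 ≅ CommRingCat.of (A ⊗[R] A) :=
  (isPushout_W1 R A).isoIsPushout _ _ (CommRingCat.isPushout_tensorProduct R A A)

lemma inc_zero_θ₁ : inc R A 1 0 ≫ (θ₁ R A).hom =
    CommRingCat.ofHom (Algebra.TensorProduct.includeLeftRingHom : A →+* A ⊗[R] A) :=
  IsPushout.inl_isoIsPushout_hom _ _ (isPushout_W1 R A) (CommRingCat.isPushout_tensorProduct R A A)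

lemma inc_one_θ₁ : inc R A 1 1 ≫ (θ₁ R A).hom =
    CommRingCat.ofHom (Algebra.TensorProduct.includeRight : A →ₐ[R] A ⊗[R] A).toRingHom :=
  IsPushout.inr_isoIsPushout_hom _ _ (isPushout_W1 R A) (CommRingCat.isPushout_tensorProduct R A A)

lemma θ₁_inc_zero (a : A) : (θ₁ R A).hom ((inc R A 1 0).hom a) = a ⊗ₜ[R] 1 :=
  congrArg (fun φ => φ.hom a) (inc_zero_θ₁ R A)

lemma θ₁_inc_one (a : A) : (θ₁ R A).hom ((inc R A 1 1).hom a) = 1 ⊗ₜ[R] a :=
  congrArg (fun φ => φ.hom a) (inc_one_θ₁ R A)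

/-- the three legs `A → A ⊗ (A ⊗ A)`. -/
noncomputable def leg : Fin 3 → (A →ₐ[R] A ⊗[R] (A ⊗[R] A)) :=
  ![Algebra.TensorProduct.includeLeft,
    (Algebra.TensorProduct.includeRight).comp Algebra.TensorProduct.includeLeft,
    (Algebra.TensorProduct.includeRight).comp Algebra.TensorProduct.includeRight]

/-- `W 2 ⟶ A ⊗ (A ⊗ A)`. -/
noncomputable def θ₂ : W R A 2 ⟶ CommRingCat.of (A ⊗[R] (A ⊗[R] A)) :=
  WidePushout.desc (arrows := fun _ : Fin (2 + 1) => (Arrow.mk (f R A)).hom)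
    (CommRingCat.ofHom (algebraMap R (A ⊗[R] (A ⊗[R] A))))
    (fun i => CommRingCat.ofHom (leg R A i).toRingHom) (by
      intro i
      ext r
      exact (leg R A i).commutes r)

lemma inc_θ₂ (i : Fin 3) : inc R A 2 i ≫ θ₂ R A = CommRingCat.ofHom (leg R A i).toRingHom :=
  WidePushout.ι_desc (arrows := fun _ : Fin (2 + 1) => (Arrow.mk (f R A)).hom) _ _ _ i

lemma hd_θ₂ : hd R A 2 ≫ θ₂ R A = CommRingCat.ofHom (algebraMap R (A ⊗[R] (A ⊗[R] A))) :=
  WidePushout.head_desc (arrows := fun _ : Fin (2 + 1) => (Arrow.mk (f R A)).hom) _ _ _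

/-- compatibility of a coface with an algebra map `A ⊗ A → A ⊗ (A ⊗ A)`. -/
lemma δ_θ₂ (i : Fin 3) (j : A ⊗[R] A →ₐ[R] A ⊗[R] (A ⊗[R] A))
    (h0 : ∀ a : A, j (a ⊗ₜ 1) = leg R A (i.succAbove 0) a)
    (h1 : ∀ a : A, j (1 ⊗ₜ a) = leg R A (i.succAbove 1) a) :
    (C R A).δ i ≫ θ₂ R A = (θ₁ R A).hom ≫ CommRingCat.ofHom j.toRingHom := by
  apply hom_ext'
  · rw [← Category.assoc, hd_δ, hd_θ₂, ← f_inc R A 1 0, Category.assoc, ← Category.assoc (inc R A 1 0),
      inc_zero_θ₁]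
    ext r
    change algebraMap R _ r = j ((algebraMap R A r) ⊗ₜ 1)
    rw [h0, AlgHom.commutes]
  · intro k
    rw [← Category.assoc, inc_δ, inc_θ₂]
    fin_cases k
    · rw [← Category.assoc]
      erw [inc_zero_θ₁]
      ext a
      exact (h0 a).symm
    · rw [← Category.assoc]
      erw [inc_one_θ₁]
      ext a
      exact (h1 a).symm

lemma δ_zero_θ₂ : (C R A).δ 0 ≫ θ₂ R A = (θ₁ R A).hom ≫ CommRingCat.ofHom (j23 : _ →ₐ[R] _).toRingHom :=
  δ_θ₂ R A 0 j23 (fun a => rfl) (fun a => rfl)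

lemma δ_one_θ₂ : (C R A).δ 1 ≫ θ₂ R A = (θ₁ R A).hom ≫ CommRingCat.ofHom (j13 : _ →ₐ[R] _).toRingHom :=
  δ_θ₂ R A 1 j13 (fun a => by first | rfl | simp [j13, leg]) (fun a => by first | rfl | simp [j13, leg])

lemma δ_two_θ₂ : (C R A).δ 2 ≫ θ₂ R A = (θ₁ R A).hom ≫ CommRingCat.ofHom (j12 : _ →ₐ[R] _).toRingHom :=
  δ_θ₂ R A 2 j12 (fun a => by first | rfl | simp [j12, leg]) (fun a => by first | rfl | simp [j12, leg])

/-- `x ⊗ w ↦ (x ⊗ 1) * w`. -/
noncomputable def m12 : A ⊗[R] (A ⊗[R] A) →ₐ[R] A ⊗[R] A :=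
  Algebra.TensorProduct.productMap Algebra.TensorProduct.includeLeft (AlgHom.id R _)

lemma m12_j13 (x : A ⊗[R] A) : m12 R A (j13 x) = x := by
  induction x with
  | zero => simp
  | tmul a b => simp [m12, j13]
  | add x y hx hy => simp only [map_add, hx, hy]

lemma m12_j23 (x : A ⊗[R] A) : m12 R A (j23 x) = x := by
  simp only [m12, j23, Algebra.TensorProduct.includeRight_apply,
    Algebra.TensorProduct.productMap_apply_tmul, map_one, AlgHom.coe_id, id_eq]
  exact _root_.one_mul x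

lemma m12_j12 (x : A ⊗[R] A) : m12 R A (j12 x) = (LinearMap.mul' R A x) ⊗ₜ 1 := by
  induction x with
  | zero => simp
  | tmul a b => simp [m12, j12]
  | add x y hx hy => simp only [map_add, hx, hy, TensorProduct.add_tmul]

/-- **Rank one descent in conerve form.** -/
theorem exists_family_conerve [Module.Flat R A] (c : W R A 1) (hunit : IsUnit c)
    (hco : ((C R A).δ 1).hom c = ((C R A).δ 2).hom c * ((C R A).δ 0).hom c) :
    ∃ (n : ℕ) (a ℓ : Fin n → A),
      (∀ i, c * (inc R A 1 0).hom (ℓ i) = (inc R A 1 1).hom (ℓ i)) ∧ ∑ i, a i * ℓ i = 1 := by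
  let c' : A ⊗[R] A := (θ₁ R A).hom c
  have hc'unit : IsUnit c' := hunit.map (θ₁ R A).hom.hom
  have e0 : (θ₂ R A).hom (((C R A).δ 0).hom c) = j23 c' :=
    congrArg (fun φ => φ.hom c) (δ_zero_θ₂ R A)
  have e1 : (θ₂ R A).hom (((C R A).δ 1).hom c) = j13 c' :=
    congrArg (fun φ => φ.hom c) (δ_one_θ₂ R A)
  have e2 : (θ₂ R A).hom (((C R A).δ 2).hom c) = j12 c' :=
    congrArg (fun φ => φ.hom c) (δ_two_θ₂ R A)
  have hco' : (j13 c' : A ⊗[R] (A ⊗[R] A)) = j12 c' * j23 c' := by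
    rw [← e0, ← e1, ← e2, hco, map_mul]
  have hcounit : LinearMap.mul' R A c' = 1 := by
    have h := congrArg (m12 R A) hco'
    rw [map_mul, m12_j13, m12_j23, m12_j12] at h
    have h2 : (LinearMap.mul' R A c') ⊗ₜ[R] (1 : A) = 1 := by
      have h3 : c' * 1 = c' * ((LinearMap.mul' R A c') ⊗ₜ[R] (1 : A)) := by
        rw [_root_.mul_one, mul_comm]; exact h
      exact (hc'unit.mul_left_cancel h3).symm
    have h4 := congrArg (LinearMap.mul' R A) h2
    rw [LinearMap.mul'_apply, _root_.mul_one] at h4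
    rw [h4]
    change LinearMap.mul' R A (1 ⊗ₜ 1) = 1
    simp
  obtain ⟨n, a, ℓ, hℓ, hsum⟩ := exists_family c' hco' hcounit
  refine ⟨n, a, ℓ, fun i => ?_, hsum⟩
  have hinj : Function.Injective (θ₁ R A).hom.hom := by
    intro x y hxy
    have := congrArg (θ₁ R A).inv.hom hxy
    simpa using this
  apply hinj
  rw [map_mul]
  erw [θ₁_inc_zero, θ₁_inc_one]
  exact hℓ i

end Bridge

section Setup

variable {S : Scheme.{u}} {G X : Over S} [GrpObj G] (a : AlgGrp.Action G X)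
variable (R A : Type u) [CommRing R] [CommRing A] [Algebra R A]
variable (u : Spec (CommRingCat.of R) ⟶ S)

/-- `Spec A` over `S`. -/
noncomputable def TA : Over S := Over.mk (Spec.map (f R A) ≫ u)

/-- `Spec (W n)` over `S`. -/
noncomputable def T (n : ℕ) : Over S := Over.mk (Spec.map (hd R A n) ≫ u)

/-- the projections. -/
noncomputable def pr (n : ℕ) (i : Fin (n + 1)) : T R A u n ⟶ TA R A u :=
  Over.homMk (Spec.map (inc R A n i)) (by
    change Spec.map (inc R A n i) ≫ Spec.map (f R A) ≫ u = Spec.map (hd R A n) ≫ u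
    rw [← Category.assoc, ← Spec.map_comp, f_inc])

/-- the face maps. -/
noncomputable def fc (n : ℕ) (i : Fin (n + 2)) : T R A u (n + 1) ⟶ T R A u n :=
  Over.homMk (Spec.map ((C R A).δ i)) (by
    change Spec.map ((C R A).δ i) ≫ Spec.map (hd R A n) ≫ u = Spec.map (hd R A (n + 1)) ≫ u
    rw [← Category.assoc, ← Spec.map_comp, hd_δ])

lemma fc_pr (n : ℕ) (i : Fin (n + 2)) (j : Fin (n + 1)) :
    fc R A u n i ≫ pr R A u n j = pr R A u (n + 1) (i.succAbove j) := by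
  ext
  change Spec.map ((C R A).δ i) ≫ Spec.map (inc R A n j) = Spec.map (inc R A (n + 1) _)
  rw [← Spec.map_comp, inc_δ]

@[simp] lemma pr_left (n : ℕ) (i : Fin (n + 1)) : (pr R A u n i).left = Spec.map (inc R A n i) := rfl

@[simp] lemma fc_left (n : ℕ) (i : Fin (n + 2)) :
    (fc R A u n i).left = Spec.map ((C R A).δ i) := rfl

variable {R A u} (xW : TA R A u ⟶ X) [IsIso (lift a.act (snd G X))]

/-- the cocycle of a section over `Spec A`. -/
noncomputable def cocyc : T R A u 1 ⟶ G :=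
  δ a.act (pr R A u 1 0 ≫ xW) (pr R A u 1 1 ≫ xW)

lemma cocyc_smul : smul a.act (cocyc a xW) (pr R A u 1 1 ≫ xW) = pr R A u 1 0 ≫ xW :=
  δ_smul a.act _ _

lemma fc_comp_cocyc (i : Fin 3) : fc R A u 1 i ≫ cocyc a xW =
    δ a.act (pr R A u 2 (i.succAbove 0) ≫ xW) (pr R A u 2 (i.succAbove 1) ≫ xW) := by
  unfold cocyc
  rw [comp_δ, ← Category.assoc, ← Category.assoc, fc_pr, fc_pr]

lemma δ_trans' {T' : Over S} (x y z : T' ⟶ X) :
    δ a.act x z = δ a.act x y * δ a.act y z := by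
  symm
  apply eq_δ_of_smul_eq
  rw [mul_smul a.act a.mul_act, δ_smul, δ_smul]

lemma cocyc_cocycle : fc R A u 1 1 ≫ cocyc a xW =
    (fc R A u 1 2 ≫ cocyc a xW) * (fc R A u 1 0 ≫ cocyc a xW) := by
  rw [fc_comp_cocyc, fc_comp_cocyc, fc_comp_cocyc]
  exact δ_trans' a _ _ _

end Setup

section Gm

variable {S : Scheme.{u}} {X : Over S} (a : AlgGrp.Action (Red.Gm S) X)
variable {R A : Type u} [CommRing R] [CommRing A] [Algebra R A]
variable {u : Spec (CommRingCat.of R) ⟶ S}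
variable (xW : TA R A u ⟶ X) [IsIso (lift a.act (snd (Red.Gm S) X))]

/-- the cocycle as an element of `W 1`. -/
noncomputable def cW : W R A 1 := (Scheme.ΓSpecIso (W R A 1)).hom (Red.gmFn (cocyc a xW))

lemma isUnit_cW : IsUnit (cW a xW) :=
  (isUnit_gmFn (cocyc a xW)).map (Scheme.ΓSpecIso (W R A 1)).hom.hom

lemma cW_face (i : Fin 3) : (Scheme.ΓSpecIso (W R A 2)).hom (Red.gmFn (fc R A u 1 i ≫ cocyc a xW)) =
    ((C R A).δ i).hom (cW a xW) := by
  rw [gmFn_comp]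
  change ((Spec.map ((C R A).δ i)).appTop ≫ (Scheme.ΓSpecIso (W R A 2)).hom)
    (Red.gmFn (cocyc a xW)) = _
  rw [Scheme.ΓSpecIso_naturality]
  rfl

lemma cW_cocycle : ((C R A).δ 1).hom (cW a xW) =
    ((C R A).δ 2).hom (cW a xW) * ((C R A).δ 0).hom (cW a xW) := by
  rw [← cW_face, ← cW_face, ← cW_face, cocyc_cocycle, gmFn_mul]
  exact map_mul (Scheme.ΓSpecIso (W R A 2)).hom.hom _ _

/-- the cocycle as a function on `Spec (W 1)`. -/
noncomputable def gFn : Γ(Spec (W R A 1), ⊤) := Red.gmFn (cocyc a xW)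

lemma isUnit_gFn : IsUnit (gFn a xW) := isUnit_gmFn (cocyc a xW)

/-- translation of `c * inc₀ ℓ = inc₁ ℓ` to functions on `Spec (W 1)`. -/
lemma fn_identity (ℓ : A) (hℓ : cW a xW * (inc R A 1 0).hom ℓ = (inc R A 1 1).hom ℓ) :
    (Spec.map (inc R A 1 0)).appTop ((Scheme.ΓSpecIso (CommRingCat.of A)).inv ℓ) *
      gFn a xW =
    (Spec.map (inc R A 1 1)).appTop ((Scheme.ΓSpecIso (CommRingCat.of A)).inv ℓ) := by
  have h := congrArg (Scheme.ΓSpecIso (W R A 1)).inv hℓ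
  rw [map_mul] at h
  have e : ∀ i : Fin 2, (Scheme.ΓSpecIso (W R A 1)).inv ((inc R A 1 i).hom ℓ) =
      (Spec.map (inc R A 1 i)).appTop ((Scheme.ΓSpecIso (CommRingCat.of A)).inv ℓ) := by
    intro i
    rw [← CommRingCat.comp_apply, ← CommRingCat.comp_apply, Scheme.ΓSpecIso_inv_naturality]
  rw [e, e] at h
  have e2 : (Scheme.ΓSpecIso (W R A 1)).inv (cW a xW) = gFn a xW := by
    unfold cW gFn
    rw [← CommRingCat.comp_apply, Iso.hom_inv_id]
    rfl
  rw [e2, mul_comm] at h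
  exact h

end Gm

section Sat

variable {W U K : Scheme.{u}} (p : W ⟶ U) (k0 k1 : K ⟶ W) (hK : IsPullback k0 k1 p p)
  (φ : Γ(W, ⊤)) (ĉ : Γ(K, ⊤)) (hĉ : IsUnit ĉ) (h : k0.appTop φ * ĉ = k1.appTop φ)

include hK in
lemma exists_point (w w' : W) (hw : p w = p w') : ∃ z : K, k0 z = w ∧ k1 z = w' := by
  obtain ⟨z, hz1, hz2⟩ := Scheme.Pullback.exists_preimage_pullback (f := p) (g := p) w w' hw
  refine ⟨hK.isoPullback.inv z, ?_, ?_⟩
  · rw [← Scheme.Hom.comp_apply, hK.isoPullback_inv_fst]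
    exact hz1
  · rw [← Scheme.Hom.comp_apply, hK.isoPullback_inv_snd]
    exact hz2

include hĉ h in
lemma basicOpen_eq : K.basicOpen (k0.appTop φ) = K.basicOpen (k1.appTop φ) := by
  rw [← h, Scheme.basicOpen_mul, Scheme.basicOpen_of_isUnit _ hĉ]
  exact (inf_of_le_left le_top).symm

include hK hĉ h in
/-- the non-vanishing locus of `φ` is saturated for `p`. -/
lemma mem_basicOpen_of_eq (w w' : W) (hw : p w = p w') (hmem : w ∈ W.basicOpen φ) :
    w' ∈ W.basicOpen φ := by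
  obtain ⟨z, rfl, rfl⟩ := exists_point p k0 k1 hK w w' hw
  have h1 : z ∈ k0 ⁻¹ᵁ W.basicOpen φ := hmem
  rw [Scheme.preimage_basicOpen_top, basicOpen_eq k0 k1 φ ĉ hĉ h,
    ← Scheme.preimage_basicOpen_top] at h1
  exact h1

variable [Flat p] [Surjective p] [QuasiCompact p]

include hK hĉ h in
lemma preimage_image_basicOpen :
    p.base ⁻¹' (p.base '' (W.basicOpen φ : Set W)) = (W.basicOpen φ : Set W) := by
  apply Set.Subset.antisymm
  · rintro w' ⟨w, hw, hww⟩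
    exact mem_basicOpen_of_eq p k0 k1 hK φ ĉ hĉ h w w' hww hw
  · exact Set.subset_preimage_image _ _

/-- the image of the non-vanishing locus, an open of `U`. -/
noncomputable def imageOpen : U.Opens :=
  ⟨p.base '' (W.basicOpen φ : Set W), by
    rw [← (Flat.isQuotientMap_of_surjective p).isOpen_preimage,
      preimage_image_basicOpen p k0 k1 hK φ ĉ hĉ h]
    exact (W.basicOpen φ).2⟩

lemma preimage_imageOpen : p ⁻¹ᵁ (imageOpen p k0 k1 hK φ ĉ hĉ h) = W.basicOpen φ := by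
  ext w
  change w ∈ p.base ⁻¹' (p.base '' (W.basicOpen φ : Set W)) ↔ _
  rw [preimage_image_basicOpen p k0 k1 hK φ ĉ hĉ h]

end Sat

section Section

lemma isUnit_of_basicOpen_eq_top {Z : Scheme.{u}} (h : Γ(Z, ⊤)) (hh : Z.basicOpen h = ⊤) :
    IsUnit h := by
  apply Z.toRingedSpace.isUnit_of_isUnit_germ
  intro z hz
  have : z ∈ Z.basicOpen h := by rw [hh]; trivial
  exact (Z.mem_basicOpen_top h z).1 this

variable {S : Scheme.{u}} {X : Over S} (a : AlgGrp.Action (Red.Gm S) X)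
variable {R A : Type u} [CommRing R] [CommRing A] [Algebra R A] [Module.FaithfullyFlat R A]
variable {u : Spec (CommRingCat.of R) ⟶ S}
variable (xW : TA R A u ⟶ X) [IsIso (lift a.act (snd (Red.Gm S) X))]

/-- Over an open `O` of `Spec R` whose preimage lies in the non-vanishing locus of a function `ℓ`
in the descended module, the pseudo-torsor has a section. -/
theorem exists_section_over (ℓ : A) (hℓ : cW a xW * (inc R A 1 0).hom ℓ = (inc R A 1 1).hom ℓ)
    (O : (Spec (CommRingCat.of R)).Opens)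
    (hO : Spec.map (f R A) ⁻¹ᵁ O ≤
      (Spec (CommRingCat.of A)).basicOpen ((Scheme.ΓSpecIso (CommRingCat.of A)).inv ℓ)) :
    ∃ s : O.toScheme ⟶ X.left, s ≫ X.hom = O.ι ≫ u := by
  have hff : (f R A).hom.FaithfullyFlat :=
    (RingHom.faithfullyFlat_algebraMap_iff).2 inferInstance
  obtain ⟨hflat, hsurj⟩ := (flat_and_surjective_SpecMap_iff (f R A)).2 hff
  have hpb : IsPullback (Spec.map (inc R A 1 0)) (Spec.map (inc R A 1 1)) (Spec.map (f R A))
      (Spec.map (f R A)) := isPullback_SpecMap_of_isPushout _ _ _ _ (isPushout_W1 R A)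
  obtain ⟨p, hp⟩ : ∃ p : Spec (CommRingCat.of A) ⟶ Spec (CommRingCat.of R), p = Spec.map (f R A) :=
    ⟨_, rfl⟩
  haveI : Flat p := hp ▸ hflat
  haveI : Surjective p := hp ▸ hsurj
  haveI : QuasiCompact p := by rw [hp]; infer_instance
  rw [← hp] at hO hpb
  obtain ⟨φ, hφ⟩ : ∃ φ : Γ(Spec (CommRingCat.of A), ⊤),
      φ = (Scheme.ΓSpecIso (CommRingCat.of A)).inv ℓ := ⟨_, rfl⟩
  rw [← hφ] at hO
  have hid : (Spec.map (inc R A 1 0)).appTop φ * gFn a xW = (Spec.map (inc R A 1 1)).appTop φ := by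
    rw [hφ]
    exact fn_identity a xW ℓ hℓ
  -- the restricted function is a unit
  have hb' : IsUnit ((p ⁻¹ᵁ O).ι.appTop φ) := by
    apply isUnit_of_basicOpen_eq_top
    rw [← Scheme.preimage_basicOpen_top]
    apply le_antisymm le_top
    intro z _
    exact hO z.2
  -- objects over `S`
  let TA' : Over S := Over.mk ((p ⁻¹ᵁ O).ι ≫ (TA R A u).hom)
  let ιS : TA' ⟶ TA R A u := Over.homMk (p ⁻¹ᵁ O).ι rfl
  let β : TA' ⟶ Red.Gm S := gmPt hb'.unit
  have hβ : Red.gmFn β = (p ⁻¹ᵁ O).ι.appTop φ := gmFn_gmPt _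
  let x3 : TA' ⟶ X := smul a.act β (ιS ≫ xW)
  have hmain : ∀ ⦃Z : Scheme.{u}⦄ (g₁ g₂ : Z ⟶ (p ⁻¹ᵁ O).toScheme),
      g₁ ≫ (p ∣_ O) = g₂ ≫ (p ∣_ O) → g₁ ≫ x3.left = g₂ ≫ x3.left := by
    intro Z g₁ g₂ hg
    have hg' : (g₁ ≫ (p ⁻¹ᵁ O).ι) ≫ p = (g₂ ≫ (p ⁻¹ᵁ O).ι) ≫ p := by
      rw [Category.assoc, Category.assoc, ← morphismRestrict_ι, ← Category.assoc, hg,
        Category.assoc]
    obtain ⟨z, hz0, hz1⟩ : ∃ z : Z ⟶ Spec (W R A 1),
        z ≫ Spec.map (inc R A 1 0) = g₁ ≫ (p ⁻¹ᵁ O).ι ∧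
        z ≫ Spec.map (inc R A 1 1) = g₂ ≫ (p ⁻¹ᵁ O).ι :=
      ⟨hpb.lift _ _ hg', hpb.lift_fst _ _ _, hpb.lift_snd _ _ _⟩
    let Z₁ : Over S := Over.mk (g₁ ≫ TA'.hom)
    let G₁ : Z₁ ⟶ TA' := Over.homMk g₁ rfl
    have hG₂ : g₂ ≫ TA'.hom = Z₁.hom := by
      change g₂ ≫ (p ⁻¹ᵁ O).ι ≫ Spec.map (f R A) ≫ u = g₁ ≫ (p ⁻¹ᵁ O).ι ≫ Spec.map (f R A) ≫ u
      rw [← hp, ← Category.assoc, ← Category.assoc, ← hg', Category.assoc, Category.assoc]
    let G₂ : Z₁ ⟶ TA' := Over.homMk g₂ hG₂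
    have hzS : z ≫ (T R A u 1).hom = Z₁.hom := by
      change z ≫ Spec.map (hd R A 1) ≫ u = g₁ ≫ (p ⁻¹ᵁ O).ι ≫ Spec.map (f R A) ≫ u
      rw [← f_inc R A 1 0, Spec.map_comp, ← Category.assoc, ← Category.assoc, hz0,
        Category.assoc, Category.assoc]
    let zS : Z₁ ⟶ T R A u 1 := Over.homMk z hzS
    have e0 : zS ≫ pr R A u 1 0 = G₁ ≫ ιS := by
      ext
      exact hz0
    have e1 : zS ≫ pr R A u 1 1 = G₂ ≫ ιS := by
      ext
      exact hz1
    -- the group identity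
    have hgrp : (G₁ ≫ β) * (zS ≫ cocyc a xW) = G₂ ≫ β := by
      apply gmFn_injective
      rw [gmFn_mul, gmFn_comp, gmFn_comp, gmFn_comp, hβ]
      change g₁.appTop ((p ⁻¹ᵁ O).ι.appTop φ) * z.appTop (gFn a xW) =
        g₂.appTop ((p ⁻¹ᵁ O).ι.appTop φ)
      rw [← CommRingCat.comp_apply, ← CommRingCat.comp_apply, ← Scheme.Hom.comp_appTop,
        ← Scheme.Hom.comp_appTop, ← hz0, ← hz1, Scheme.Hom.comp_appTop, Scheme.Hom.comp_appTop,
        CommRingCat.comp_apply, CommRingCat.comp_apply, ← map_mul, hid]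
    have h1 : G₁ ≫ x3 = smul a.act (G₁ ≫ β) (zS ≫ pr R A u 1 0 ≫ xW) := by
      change G₁ ≫ smul a.act β (ιS ≫ xW) = _
      rw [comp_smul, ← Category.assoc G₁, ← e0, Category.assoc]
    have h2 : G₂ ≫ x3 = smul a.act (G₂ ≫ β) (zS ≫ pr R A u 1 1 ≫ xW) := by
      change G₂ ≫ smul a.act β (ιS ≫ xW) = _
      rw [comp_smul, ← Category.assoc G₂, ← e1, Category.assoc]
    have h3 : G₁ ≫ x3 = G₂ ≫ x3 := by
      rw [h1, h2, ← cocyc_smul a xW, comp_smul, ← mul_smul a.act a.mul_act, hgrp]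
    exact congrArg (fun t => t.left) h3
  haveI : Surjective (p ∣_ O) := IsZariskiLocalAtTarget.restrict ‹_› O
  let s : O.toScheme ⟶ X.left := EffectiveEpi.desc (p ∣_ O) x3.left (fun g₁ g₂ hg => hmain g₁ g₂ hg)
  have hs : (p ∣_ O) ≫ s = x3.left := EffectiveEpi.fac _ _ _
  refine ⟨s, ?_⟩
  rw [← cancel_epi (p ∣_ O), ← Category.assoc, hs]
  have := Over.w x3
  rw [this]
  change (p ⁻¹ᵁ O).ι ≫ Spec.map (f R A) ≫ u = _
  rw [← hp, ← Category.assoc, ← morphismRestrict_ι, Category.assoc]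

end Section

section Assemble

variable {S : Scheme.{u}} {X : Over S} (a : AlgGrp.Action (Red.Gm S) X)

/-- Ring level: a `𝔾_m`-pseudo-torsor with a section over a faithfully flat affine cover of
`Spec R` has sections Zariski locally on `Spec R`. -/
theorem exists_cover_of_faithfullyFlat (hps : NonAbH1.IsPseudoTorsorSch a)
    (R A : Type u) [CommRing R] [CommRing A] [Algebra R A] [Module.FaithfullyFlat R A]
    (u : Spec (CommRingCat.of R) ⟶ S) (x' : Spec (CommRingCat.of A) ⟶ X.left)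
    (hx' : x' ≫ X.hom = Spec.map (f R A) ≫ u) (y : Spec (CommRingCat.of R)) :
    ∃ (O : (Spec (CommRingCat.of R)).Opens) (s : O.toScheme ⟶ X.left),
      y ∈ O ∧ s ≫ X.hom = O.ι ≫ u := by
  haveI : IsIso (lift a.act (snd (Red.Gm S) X)) := hps
  let xW : TA R A u ⟶ X := Over.homMk x' hx'
  obtain ⟨n, a', ℓ, hℓ, hsum⟩ := exists_family_conerve R A (cW a xW) (isUnit_cW a xW)
    (cW_cocycle a xW)
  have hff : (f R A).hom.FaithfullyFlat :=
    (RingHom.faithfullyFlat_algebraMap_iff).2 inferInstance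
  obtain ⟨hflat, hsurj⟩ := (flat_and_surjective_SpecMap_iff (f R A)).2 hff
  have hpb : IsPullback (Spec.map (inc R A 1 0)) (Spec.map (inc R A 1 1)) (Spec.map (f R A))
      (Spec.map (f R A)) := isPullback_SpecMap_of_isPushout _ _ _ _ (isPushout_W1 R A)
  obtain ⟨w, rfl⟩ := hsurj.surj y
  -- some `ℓ i` does not vanish at `w`
  have hex : ∃ i, ℓ i ∉ w.asIdeal := by
    by_contra hcon
    push_neg at hcon
    have h1 : (1 : A) ∈ w.asIdeal := by
      rw [← hsum]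
      exact Ideal.sum_mem _ fun i _ => Ideal.mul_mem_left _ _ (hcon i)
    exact w.isPrime.ne_top ((Ideal.eq_top_iff_one _).2 h1)
  obtain ⟨i, hi⟩ := hex
  have hw : w ∈ (Spec (CommRingCat.of A)).basicOpen
      ((Scheme.ΓSpecIso (CommRingCat.of A)).inv (ℓ i)) := by
    rw [basicOpen_eq_of_affine]
    exact hi
  let O := imageOpen (Spec.map (f R A)) _ _ hpb _ (gFn a xW) (isUnit_gFn a xW)
    (fn_identity a xW (ℓ i) (hℓ i))
  obtain ⟨s, hs⟩ := exists_section_over a xW (ℓ i) (hℓ i) O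
    (le_of_eq (preimage_imageOpen _ _ _ hpb _ _ (isUnit_gFn a xW) (fn_identity a xW (ℓ i) (hℓ i))))
  exact ⟨O, s, ⟨w, hw, rfl⟩, hs⟩

/-- General affine version. -/
theorem exists_cover_of_affine (hps : NonAbH1.IsPseudoTorsorSch a) {U W : Scheme.{u}}
    [IsAffine U] [IsAffine W] (p : W ⟶ U) [Flat p] [Surjective p] (u : U ⟶ S)
    (x' : W ⟶ X.left) (hx' : x' ≫ X.hom = p ≫ u) (y : U) :
    ∃ (V : Scheme.{u}) (j : V ⟶ U) (_ : IsOpenImmersion j) (s : V ⟶ X.left),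
      y ∈ Set.range j ∧ s ≫ X.hom = j ≫ u := by
  letI : Algebra Γ(U, ⊤) Γ(W, ⊤) := p.appTop.hom.toAlgebra
  have hff : p.appTop.hom.FaithfullyFlat :=
    (Flat.flat_and_surjective_iff_faithfullyFlat_of_isAffine p).1 ⟨inferInstance, inferInstance⟩
  haveI : Module.FaithfullyFlat Γ(U, ⊤) Γ(W, ⊤) := hff
  have hf : f Γ(U, ⊤) Γ(W, ⊤) = p.appTop := rfl
  obtain ⟨O, s, hy, hs⟩ := exists_cover_of_faithfullyFlat a hps Γ(U, ⊤) Γ(W, ⊤)
    (U.isoSpec.inv ≫ u) (W.isoSpec.inv ≫ x') (by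
      rw [hf, Category.assoc, hx', ← Category.assoc, ← Category.assoc]
      congr 1
      exact (Scheme.isoSpec_inv_naturality p).symm) (U.isoSpec.hom y)
  refine ⟨O.toScheme, O.ι ≫ U.isoSpec.inv, inferInstance, s, ?_, ?_⟩
  · refine ⟨⟨_, hy⟩, ?_⟩
    rw [Scheme.Hom.comp_apply]
    change U.isoSpec.inv (U.isoSpec.hom y) = y
    rw [← Scheme.Hom.comp_apply, Iso.hom_inv_id]
    rfl
  · rw [hs, Category.assoc]

lemma flat_Gm_hom (S : Scheme.{u}) : Flat (Red.Gm S).hom := by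
  change Flat (pullback.snd _ _)
  have : Flat (Red.diag (ULift.{u} ℤ) ℤ).hom := by
    change Flat (Spec.map _)
    rw [HasRingHomProperty.Spec_iff (P := @Flat)]
    change (algebraMap _ _).Flat
    rw [RingHom.flat_algebraMap_iff]
    infer_instance
  infer_instance

lemma quasiCompact_Gm_hom (S : Scheme.{u}) : QuasiCompact (Red.Gm S).hom := by
  change QuasiCompact (pullback.snd _ _)
  have : QuasiCompact (Red.diag (ULift.{u} ℤ) ℤ).hom := by
    change QuasiCompact (Spec.map _)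
    infer_instance
  infer_instance

/-- **fpqc `𝔾_m`-torsors are Zariski locally trivial over any affine scheme over the base.** -/
theorem exists_cover_of_isTorsorFor (h : NonAbH1.IsTorsorFor Scheme.fpqcPrecoverage a)
    {U : Scheme.{u}} [IsAffine U] (u : U ⟶ S) (y : U) :
    ∃ (V : Scheme.{u}) (j : V ⟶ U) (_ : IsOpenImmersion j) (s : V ⟶ X.left),
      y ∈ Set.range j ∧ s ≫ X.hom = j ≫ u := by
  haveI : Flat (Red.Gm S).hom := flat_Gm_hom S
  haveI : QuasiCompact (Red.Gm S).hom := quasiCompact_Gm_hom S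
  obtain ⟨hps, h1, h2, h3⟩ := (TorsorLocal.isTorsorFor_fpqc_iff a).1 h
  obtain ⟨W, hW, r, hr1, hr2⟩ := exists_affine_refinement (pullback.snd X.hom u)
  exact exists_cover_of_affine a hps (r ≫ pullback.snd X.hom u) u (r ≫ pullback.fst X.hom u)
    (by rw [Category.assoc, Category.assoc, pullback.condition]) y

/-- **fpqc torsors under the multiplicative group are Zariski locally trivial.** -/
theorem isTorsorFor_zariski (h : NonAbH1.IsTorsorFor Scheme.fpqcPrecoverage a) :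
    NonAbH1.IsTorsorFor Scheme.zariskiPrecoverage a := by
  choose V j hj s hy hs using fun (i : S.affineCover.I₀) (y : S.affineCover.X i) =>
    exists_cover_of_isTorsorFor a h (S.affineCover.f i) y
  refine ⟨h.1, Presieve.ofArrows (fun q : Σ i : S.affineCover.I₀, S.affineCover.X i => V q.1 q.2)
    (fun q => j q.1 q.2 ≫ S.affineCover.f q.1), ?_, ?_⟩
  · rw [Scheme.ofArrows_mem_precoverage_iff]
    refine ⟨fun x => ?_, fun q => ?_⟩
    · obtain ⟨i, y, hyx⟩ := S.affineCover.exists_eq x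
      obtain ⟨v, hv⟩ := hy i y
      refine ⟨⟨i, y⟩, v, ?_⟩
      rw [Scheme.Hom.comp_apply, hv, hyx]
    · haveI := hj q.1 q.2
      infer_instance
  · rintro S' g ⟨q⟩
    exact ⟨s q.1 q.2, hs q.1 q.2⟩

end Assemble

end Groth.Agent.Lib.Helper26.GmTorsor
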