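import Mathlib.CategoryTheory.Monoidal.Cartesian.Grp
import Mathlib.CategoryTheory.Monoidal.Grp
import Mathlib.CategoryTheory.EquivalenceRelation
import Mathlib.CategoryTheory.Limits.Shapes.Equalizers
import Mathlib.CategoryTheory.Limits.Shapes.KernelPair

set_option autoImplicit false

open CategoryTheory CategoryTheory.Limits MonoidalCategory

universe v₁ u₁

namespace Groth.Agent.Lib.Helper26.GrpQuot

open MonObj CartesianMonoidalCategory SemiCartesianMonoidalCategory
open scoped MonObj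

variable {C : Type u₁} [Category.{v₁} C] [CartesianMonoidalCategory C]
variable {H G : C} [GrpObj H] [GrpObj G] (u : H ⟶ G)

set_option backward.isDefEq.respectTransparency false in
/-- translation by a generalized element: `φ ≫ (G ◁ u) ≫ μ = (φ ≫ fst) * (φ ≫ snd ≫ u)`. -/
lemma comp_act {T : C} (φ : T ⟶ G ⊗ H) :
    φ ≫ (G ◁ u) ≫ μ[G] = (φ ≫ fst G H) * (φ ≫ snd G H ≫ u) := by
  have hb : (G ◁ u) ≫ μ[G] = fst G H * (snd G H ≫ u) := by
    rw [MonObj.mul_eq_mul, MonObj.comp_mul]
    simp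
  rw [hb, MonObj.comp_mul]

set_option backward.isDefEq.respectTransparency false in
/-- The translation relation `G × H ⇉ G`, `(g, h) ↦ (g, g * u h)`, is an equivalence relation. -/
noncomputable def translationER [HasPullbacks C] [IsMonHom u] [Mono u] :
    EquivalenceRelation (fst G H) ((G ◁ u) ≫ μ[G]) where
  right_cancellation := by
    intro Y f g h1 h2
    rw [comp_act, comp_act, h1] at h2
    have h3 := mul_left_cancel h2
    rw [← Category.assoc, ← Category.assoc, cancel_mono] at h3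
    exact CartesianMonoidalCategory.hom_ext _ _ h1 h3
  r := lift (𝟙 G) 1
  reflexivity₁ := lift_fst _ _
  reflexivity₂ := by
    rw [comp_act, lift_fst, lift_snd_assoc, MonObj.one_comp, _root_.mul_one]
  s := lift ((G ◁ u) ≫ μ[G]) (snd G H)⁻¹
  symmetry₁ := lift_fst _ _
  symmetry₂ := by
    rw [comp_act, lift_fst, lift_snd_assoc, GrpObj.inv_comp]
    have hb : (G ◁ u) ≫ μ[G] = fst G H * (snd G H ≫ u) := by
      rw [MonObj.mul_eq_mul, MonObj.comp_mul]
      simp
    rw [hb, mul_inv_cancel_right]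
  c := PullbackCone.mk (pullback.fst ((G ◁ u) ≫ μ[G]) (fst G H))
    (pullback.snd ((G ◁ u) ≫ μ[G]) (fst G H)) pullback.condition
  isLimit := pullbackIsPullback _ _
  t := lift (pullback.fst ((G ◁ u) ≫ μ[G]) (fst G H) ≫ fst G H)
    ((pullback.fst ((G ◁ u) ≫ μ[G]) (fst G H) ≫ snd G H) *
      (pullback.snd ((G ◁ u) ≫ μ[G]) (fst G H) ≫ snd G H))
  transitivity₁ := lift_fst _ _
  transitivity₂ := by
    change lift (pullback.fst ((G ◁ u) ≫ μ[G]) (fst G H) ≫ fst G H)
      ((pullback.fst ((G ◁ u) ≫ μ[G]) (fst G H) ≫ snd G H) *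
        (pullback.snd ((G ◁ u) ≫ μ[G]) (fst G H) ≫ snd G H)) ≫ (G ◁ u) ≫ μ[G] =
      pullback.snd ((G ◁ u) ≫ μ[G]) (fst G H) ≫ (G ◁ u) ≫ μ[G]
    have hc : pullback.fst ((G ◁ u) ≫ μ[G]) (fst G H) ≫ (G ◁ u) ≫ μ[G] =
        pullback.snd ((G ◁ u) ≫ μ[G]) (fst G H) ≫ fst G H := pullback.condition
    rw [comp_act] at hc
    rw [comp_act, comp_act, lift_fst, lift_snd_assoc, MonObj.mul_comp, ← _root_.mul_assoc]
    simp only [Category.assoc] at hc ⊢
    rw [hc]

set_option backward.isDefEq.respectTransparency false in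
/-- translation by a generalized element, for an arbitrary source object. -/
lemma comp_act' {K : C} (k : K ⟶ G) {T : C} (φ : T ⟶ G ⊗ K) :
    φ ≫ (G ◁ k) ≫ μ[G] = (φ ≫ fst G K) * (φ ≫ snd G K ≫ k) := by
  have hb : (G ◁ k) ≫ μ[G] = fst G K * (snd G K ≫ k) := by
    rw [MonObj.mul_eq_mul, MonObj.comp_mul]
    simp
  rw [hb, MonObj.comp_mul]

omit [CartesianMonoidalCategory C] in
/-- Kernel pairs are stable under replacing the quotient map by any other coequalizer. -/
lemma isKernelPair_coequalizer_π {R X : C} {p₁ p₂ : R ⟶ X}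
    (E : EffectiveEquivalenceRelation p₁ p₂) [HasCoequalizer p₁ p₂] :
    IsKernelPair (coequalizer.π p₁ p₂) p₁ p₂ := by
  have hcol : IsColimit (Cofork.ofπ E.π E.isPushout.w) := E.isCoequalizer
  let φ := hcol.coconePointUniqueUpToIso (colimit.isColimit (parallelPair p₁ p₂))
  have hφ : E.π ≫ φ.hom = coequalizer.π p₁ p₂ :=
    hcol.comp_coconePointUniqueUpToIso_hom (colimit.isColimit (parallelPair p₁ p₂))
      WalkingParallelPair.one
  rw [← hφ]
  exact E.isKernelPair.comp_of_mono

end Groth.Agent.Lib.Helper26.GrpQuot
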