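import Groth.Prelude.Def_ActBC
import Groth.Agent.Lib.Helper26.EquivTorsorSch
import Groth.Agent.Lib.Helper14.GroupAction

/-!
# Basic facts on `NonAbH1.H1Sch` (helper26)

* `hasSectionOver_iff_of_equivIso`: equivariantly isomorphic schemes have sections simultaneously.
* `isEquivariant_orbitMap`: orbit maps are equivariant for left translation.
* `cl_eq_one_iff`: the class of a torsor is trivial iff the torsor has a section.
-/

set_option autoImplicit false
universe u

open CategoryTheory Limits AlgebraicGeometry MonoidalCategory CartesianMonoidalCategory MonObj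

namespace Groth.Agent.Lib.Helper26.H1SchBasic

variable {S : Scheme.{u}} {G : Over S} [GrpObj G]

theorem hasSectionOver_iff_of_equivIso {X X' : Over S} {a : AlgGrp.Action G X}
    {a' : AlgGrp.Action G X'} (e : NonAbH1.EquivIso a a') {T : Scheme.{u}} (f : T ⟶ S) :
    NonAbH1.HasSectionOver X f ↔ NonAbH1.HasSectionOver X' f := by
  constructor
  · rintro ⟨σ, hσ⟩
    exact ⟨σ ≫ e.iso.hom.left, by rw [Category.assoc, Over.w, hσ]⟩
  · rintro ⟨σ, hσ⟩
    exact ⟨σ ≫ e.iso.inv.left, by rw [Category.assoc, Over.w, hσ]⟩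

/-- Orbit maps are equivariant for left translation. -/
theorem isEquivariant_orbitMap {X : Over S} (a : AlgGrp.Action G X) (o : 𝟙_ (Over S) ⟶ X) :
    AlgGrp.Action.IsEquivariant (NonAbH1.trivialAction G) a (a.orbitMap o) := by
  change μ[G] ≫ a.orbitMap o = (G ◁ a.orbitMap o) ≫ a.act
  have h1 : μ[G] = fst G G * snd G G := by rw [Hom.mul_def, lift_fst_snd, Category.id_comp]
  have h2 : G ◁ a.orbitMap o = lift (fst G G) (snd G G ≫ a.orbitMap o) := by
    apply CartesianMonoidalCategory.hom_ext <;> simp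
  rw [h1, Groth.Agent.Lib.Helper14.comp_orbitMap, Groth.Agent.Lib.Helper14.act_mul, h2,
    Groth.Agent.Lib.Helper14.comp_orbitMap]

variable (K : Precoverage Scheme.{u}) [K.HasIsos]

/-- A torsor with trivial class has a section. -/
theorem hasSectionOver_of_cl_eq_one (P : NonAbH1.TorsorSch G K) (h : P.cl = 1) :
    NonAbH1.HasSectionOver P.X (𝟙 S) := by
  let Q : NonAbH1.H1Sch G K → Prop :=
    Quot.lift (fun P : NonAbH1.TorsorSch G K => NonAbH1.HasSectionOver P.X (𝟙 S)) (by
      rintro P Q ⟨e⟩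
      exact propext (hasSectionOver_iff_of_equivIso e _))
  have h1 : Q 1 := by
    change NonAbH1.HasSectionOver G (𝟙 S)
    refine ⟨(η[G] : 𝟙_ (Over S) ⟶ G).left, ?_⟩
    simp
  have h2 : Q P.cl := h ▸ h1
  exact h2

variable [K.HasPullbacks] [K.IsStableUnderBaseChange]
  [(MorphismProperty.isomorphisms Scheme.{u}).IsLocalAtTarget K]

/-- A torsor with a section has trivial class. -/
theorem cl_eq_one_of_hasSectionOver (P : NonAbH1.TorsorSch G K)
    (h : NonAbH1.HasSectionOver P.X (𝟙 S)) : P.cl = 1 := by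
  obtain ⟨σ, hσ⟩ := h
  let o : 𝟙_ (Over S) ⟶ P.X := Over.homMk σ (by simpa using hσ)
  have heq := isEquivariant_orbitMap P.act o
  haveI : IsIso (P.act.orbitMap o) :=
    Groth.Agent.Lib.Helper26.EquivTorsorSch.isIso_of_isEquivariant K (NonAbH1.trivialAction G)
      P.act (NonAbH1.isPseudoTorsorSch_trivialAction G)
      (NonAbH1.isTorsorFor_trivialAction G K).2 P.isTorsor.1 _ heq
  symm
  exact Quot.sound ⟨⟨asIso (P.act.orbitMap o), heq⟩⟩

theorem cl_eq_one_iff (P : NonAbH1.TorsorSch G K) :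
    P.cl = 1 ↔ NonAbH1.HasSectionOver P.X (𝟙 S) :=
  ⟨hasSectionOver_of_cl_eq_one K P, cl_eq_one_of_hasSectionOver K P⟩

end Groth.Agent.Lib.Helper26.H1SchBasic
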