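import Groth.Prelude.Def_HilbD
import Groth.Agent.Lib.Helper26.ClosedDescent
import Groth.Agent.Lib.Helper1.AffineAndDescent
import Groth.Agent.Lib.Helper26.FlatLocal

/-!
# `Hilb^d_{X/S}` satisfies the sheaf condition for a single fpqc cover (helper26)
-/

set_option autoImplicit false
open CategoryTheory CategoryTheory.Limits AlgebraicGeometry
universe u

namespace Groth.Agent.Lib.Helper26.HilbDSheaf

open Scheme IdealSheafData Groth.Agent.Lib.Helper26.ClosedDescent

variable {X S : Scheme.{u}} (f : X ⟶ S)

lemma XTmap_fst' {T T' : Over S} (h : T' ⟶ T) :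
    PicF.XTmap f h ≫ pullback.fst f T.hom = pullback.fst f T'.hom := by
  simp only [PicF.XTmap, pullback.map, pullback.lift_fst, Category.comp_id]

lemma XTmap_snd' {T T' : Over S} (h : T' ⟶ T) :
    PicF.XTmap f h ≫ pullback.snd f T.hom = pullback.snd f T'.hom ≫ h.left := by
  simp only [PicF.XTmap, pullback.map, pullback.lift_snd]

/-- `X_{T'} ⟶ X_T` is the base change of `T' ⟶ T`. -/
lemma isPullback_XTmap {T T' : Over S} (h : T' ⟶ T) :
    IsPullback (PicF.XTmap f h) (pullback.snd f T'.hom) (pullback.snd f T.hom) h.left := by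
  refine IsPullback.of_right ?_ (XTmap_snd' f h) (IsPullback.of_hasPullback f T.hom)
  rw [XTmap_fst', Over.w h]
  exact IsPullback.of_hasPullback f T'.hom

lemma pull_eq_comap {T T' : Over S} (h : T' ⟶ T) (I : (PicF.XT f T).IdealSheafData) :
    HilbD.pull f h I = I.comap (PicF.XTmap f h) := by
  unfold HilbD.pull IdealSheafData.comap
  rw [← pullbackSymmetry_hom_comp_fst, Scheme.Hom.ker_comp_of_isIso]

variable (T : Over S) {T' : Scheme.{u}} (g : T' ⟶ T.left)

/-- The comparison map `X_{T'} ×_{X_T} X_{T'} ⟶ X_{T' ×_T T'}`. -/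
noncomputable def eps :
    pullback (PicF.XTmap f (HilbD.coverHom T g)) (PicF.XTmap f (HilbD.coverHom T g)) ⟶
      PicF.XT f (HilbD.overlapOver T g) :=
  pullback.lift
    (pullback.fst (PicF.XTmap f (HilbD.coverHom T g)) (PicF.XTmap f (HilbD.coverHom T g)) ≫
      pullback.fst f (HilbD.coverOver T g).hom)
    (pullback.lift
      (pullback.fst (PicF.XTmap f (HilbD.coverHom T g)) (PicF.XTmap f (HilbD.coverHom T g)) ≫
        pullback.snd f (HilbD.coverOver T g).hom)
      (pullback.snd (PicF.XTmap f (HilbD.coverHom T g)) (PicF.XTmap f (HilbD.coverHom T g)) ≫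
        pullback.snd f (HilbD.coverOver T g).hom)
      (by
        have h1 := XTmap_snd' f (HilbD.coverHom T g)
        have h2 : (HilbD.coverHom T g).left = g := rfl
        rw [h2] at h1
        rw [Category.assoc, Category.assoc, ← h1, ← Category.assoc, ← Category.assoc,
          pullback.condition]))
    (by
      rw [Category.assoc, pullback.condition]
      change _ = _ ≫ ((pullback.fst g g ≫ g) ≫ T.hom)
      rw [← Category.assoc (pullback.lift _ _ _), ← Category.assoc (pullback.lift _ _ _),
        pullback.lift_fst]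
      simp only [Category.assoc]
      rfl)

lemma eps_fst :
    eps f T g ≫ PicF.XTmap f (HilbD.overlapFst T g) =
      pullback.fst (PicF.XTmap f (HilbD.coverHom T g)) (PicF.XTmap f (HilbD.coverHom T g)) := by
  apply pullback.hom_ext
  · rw [Category.assoc, XTmap_fst']
    exact pullback.lift_fst _ _ _
  · rw [Category.assoc, XTmap_snd', ← Category.assoc]
    have : (HilbD.overlapFst T g).left = pullback.fst g g := rfl
    rw [this]
    unfold eps
    rw [pullback.lift_snd, pullback.lift_fst]

lemma eps_snd :
    eps f T g ≫ PicF.XTmap f (HilbD.overlapSnd T g) =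
      pullback.snd (PicF.XTmap f (HilbD.coverHom T g)) (PicF.XTmap f (HilbD.coverHom T g)) := by
  apply pullback.hom_ext
  · rw [Category.assoc, XTmap_fst']
    unfold eps
    rw [pullback.lift_fst]
    have h1 := XTmap_fst' f (HilbD.coverHom T g)
    rw [← h1, ← Category.assoc, pullback.condition, Category.assoc]
  · rw [Category.assoc, XTmap_snd', ← Category.assoc]
    have : (HilbD.overlapSnd T g).left = pullback.snd g g := rfl
    rw [this]
    unfold eps
    rw [pullback.lift_snd, pullback.lift_snd]

variable [QuasiCompact g] [Flat g] [Surjective g]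

instance : Flat (PicF.XTmap f (HilbD.coverHom T g)) :=
  MorphismProperty.of_isPullback (P := @Flat) (isPullback_XTmap f (HilbD.coverHom T g)).flip
    (show Flat g from inferInstance)

instance : Surjective (PicF.XTmap f (HilbD.coverHom T g)) :=
  MorphismProperty.of_isPullback (P := @Surjective) (isPullback_XTmap f (HilbD.coverHom T g)).flip
    (show Surjective g from inferInstance)

instance : QuasiCompact (PicF.XTmap f (HilbD.coverHom T g)) :=
  MorphismProperty.of_isPullback (P := @QuasiCompact)
    (isPullback_XTmap f (HilbD.coverHom T g)).flip (show QuasiCompact g from inferInstance)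

/-- Existence of the descended ideal sheaf. -/
theorem exists_comap_eq (I' : (PicF.XT f (HilbD.coverOver T g)).IdealSheafData)
    (h : HilbD.pull f (HilbD.overlapFst T g) I' = HilbD.pull f (HilbD.overlapSnd T g) I') :
    (I'.map (PicF.XTmap f (HilbD.coverHom T g))).comap (PicF.XTmap f (HilbD.coverHom T g)) = I' := by
  apply comap_map_eq_of_stable
  rw [pull_eq_comap, pull_eq_comap] at h
  rw [← eps_fst f T g, ← eps_snd f T g, comap_comp, comap_comp, h]

/-- Descent of "finite locally free of degree `d`". -/
theorem isFinLocFreeOfDeg_descends (d : ℕ) (I : (PicF.XT f T).IdealSheafData)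
    (h : Mor2.IsFinLocFreeOfDeg d ((I.comap (PicF.XTmap f (HilbD.coverHom T g))).subschemeι ≫
      PicF.XTproj f (HilbD.coverOver T g))) :
    Mor2.IsFinLocFreeOfDeg d (I.subschemeι ≫ PicF.XTproj f T) := by
  let G := PicF.XTmap f (HilbD.coverHom T g)
  let w : pullback G I.subschemeι ⟶ T' :=
    pullback.fst G I.subschemeι ≫ pullback.snd f (HilbD.coverOver T g).hom
  have hw : (I.comap G).subschemeι ≫ PicF.XTproj f (HilbD.coverOver T g) =
      (I.comapIso G).hom ≫ w := by
    rw [← Category.assoc, comapIso_hom_fst]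
  rw [hw] at h
  obtain ⟨⟨h1, h2, h3⟩, h4⟩ := h
  have h1' : IsFinite w := (MorphismProperty.cancel_left_of_respectsIso @IsFinite _ _).1 h1
  have h2' : Flat w := (MorphismProperty.cancel_left_of_respectsIso @Flat _ _).1 h2
  have h3' : LocallyOfFinitePresentation w :=
    (MorphismProperty.cancel_left_of_respectsIso @LocallyOfFinitePresentation _ _).1 h3
  have sq : IsPullback (pullback.snd G I.subschemeι) w (I.subschemeι ≫ PicF.XTproj f T) g :=
    (IsPullback.of_hasPullback G I.subschemeι).flip.paste_vert
      (isPullback_XTmap f (HilbD.coverHom T g))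
  have hQ : (@Surjective ⊓ @Flat ⊓ @QuasiCompact : MorphismProperty Scheme.{u}) g :=
    ⟨⟨‹_›, ‹_›⟩, ‹_›⟩
  haveI := Groth.Agent.Lib.Helper1.descendsAlong_isFinite_fpqc.{u}
  have k1 : IsFinite (I.subschemeι ≫ PicF.XTproj f T) :=
    MorphismProperty.of_isPullback_of_descendsAlong (P := @IsFinite)
      (Q := (@Surjective ⊓ @Flat ⊓ @QuasiCompact : MorphismProperty Scheme.{u})) sq.flip hQ h1'
  have k2 : Flat (I.subschemeι ≫ PicF.XTproj f T) :=
    MorphismProperty.of_isPullback_of_descendsAlong (P := @Flat)
      (Q := (@Surjective ⊓ @Flat ⊓ @QuasiCompact : MorphismProperty Scheme.{u})) sq.flip hQ h2'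
  have k3 : LocallyOfFinitePresentation (I.subschemeι ≫ PicF.XTproj f T) :=
    MorphismProperty.of_isPullback_of_descendsAlong (P := @LocallyOfFinitePresentation)
      (Q := (@Surjective ⊓ @Flat ⊓ @QuasiCompact : MorphismProperty Scheme.{u})) sq.flip hQ h3'
  refine ⟨⟨k1, k2, k3⟩, fun y => ?_⟩
  obtain ⟨y', rfl⟩ := (inferInstance : Surjective g).surj y
  haveI := h1'
  haveI := h2'
  rw [← Scheme.Hom.finrank_of_isPullback _ _ _ _ sq y', ← h4 y',
    Scheme.Hom.finrank_comp_left_of_isIso (I.comapIso G).hom w]

end Groth.Agent.Lib.Helper26.HilbDSheaf
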