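import Mathlib.RingTheory.Regular.LinearMap
import Mathlib.RingTheory.Ideal.AssociatedPrime.Basic
import Mathlib.RingTheory.Support

/-!
# `Hom(P, H) = 0` and `Supp H ⊆ Supp P` force `H = 0` (helper26)
-/

set_option autoImplicit false
universe u

namespace Groth.Agent.Lib.Helper26.HomSupport

theorem main (A : Type u) [CommRing A] [IsNoetherianRing A] (P H : Type u) [AddCommGroup P]
    [Module A P] [Module.Finite A P] [AddCommGroup H] [Module A H]
    (hsupp : Module.support A H ⊆ Module.support A P) (hhom : Subsingleton (P →ₗ[A] H)) :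
    Subsingleton H := by
  by_contra hH
  rw [not_subsingleton_iff_nontrivial] at hH
  obtain ⟨𝔭, h𝔭⟩ := associatedPrimes.nonempty A H
  obtain ⟨hprime, h, hh⟩ := isAssociatedPrime_iff.mp h𝔭
  have hmem : ∀ r : A, r ∈ 𝔭 ↔ r • h = 0 := by
    intro r
    rw [hh, Submodule.mem_colon_singleton, Submodule.mem_bot]
  have hsH : (⟨𝔭, hprime⟩ : PrimeSpectrum A) ∈ Module.support A H := by
    rw [Module.mem_support_iff']
    exact ⟨h, fun r hr h0 => hr ((hmem r).mpr h0)⟩
  have hsP := hsupp hsH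
  rw [Module.support_eq_zeroLocus, PrimeSpectrum.mem_zeroLocus] at hsP
  let ι : (A ⧸ 𝔭) →ₗ[A] H := Submodule.liftQ 𝔭 (LinearMap.toSpanSingleton A H h) (by
    intro r hr
    rw [LinearMap.mem_ker, LinearMap.toSpanSingleton_apply]
    exact (hmem r).mp hr)
  have hι : Function.Injective ι := by
    rw [← LinearMap.ker_eq_bot]
    apply Submodule.ker_liftQ_eq_bot
    intro r hr
    rw [LinearMap.mem_ker, LinearMap.toSpanSingleton_apply] at hr
    exact (hmem r).mpr hr
  have hsub : Subsingleton (P →ₗ[A] A ⧸ 𝔭) := ⟨fun φ ψ => by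
    have := Subsingleton.elim (ι ∘ₗ φ) (ι ∘ₗ ψ)
    ext x
    exact hι (LinearMap.congr_fun this x)⟩
  obtain ⟨r, hr, hreg⟩ := IsSMulRegular.subsingleton_linearMap_iff.mp hsub
  have hr𝔭 : r ∈ 𝔭 := hsP hr
  have h10 : (1 : A ⧸ 𝔭) = 0 := by
    apply hreg
    change r • (1 : A ⧸ 𝔭) = r • 0
    rw [smul_zero, Algebra.smul_def, mul_one]
    exact Ideal.Quotient.eq_zero_iff_mem.mpr hr𝔭
  haveI : Nontrivial (A ⧸ 𝔭) := Ideal.Quotient.nontrivial_iff.mpr hprime.ne_top
  exact one_ne_zero h10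

end Groth.Agent.Lib.Helper26.HomSupport
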