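import Groth.Agent.Lib.Helper26.FiniteConnTorsor
import Mathlib.AlgebraicGeometry.Sites.Fpqc

/-!
# Torsors under infinitesimal group schemes: points descend along reduced covers (helper26)
-/

set_option autoImplicit false
universe u

open CategoryTheory Limits AlgebraicGeometry MonoidalCategory CartesianMonoidalCategory MonObj

namespace Groth.Agent.Lib.Helper26.InfinitesimalTorsor

open Groth.Agent.Lib.Helper26.FiniteConnTorsor

variable (K : Type u) [Field K]

/-- A pseudo-torsor under a finite one-point group scheme over a field with a section over an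
effective epimorphism `f : U ⟶ Spec K` with `U ×_K U` reduced has a rational point. -/
theorem hasSection_of_reduced_cover (G X : Over (Spec (CommRingCat.of K))) [GrpObj G]
    [IsFinite G.hom] [Subsingleton G.left]
    (a : AlgGrp.Action G X) (ha : NonAbH1.IsPseudoTorsorSch a)
    {U : Scheme.{u}} (f : U ⟶ Spec (CommRingCat.of K)) [EffectiveEpi f] [IsReduced (pullback f f)]
    (s : U ⟶ X.left) (hs : s ≫ X.hom = f) :
    NonAbH1.HasSectionOver X (𝟙 (Spec (CommRingCat.of K))) := by
  let e : Spec (CommRingCat.of K) ⟶ G.left := (η[G] : 𝟙_ (Over (Spec (CommRingCat.of K))) ⟶ G).left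
  have he : e ≫ G.hom = 𝟙 _ := Over.w (η[G] : 𝟙_ (Over (Spec (CommRingCat.of K))) ⟶ G)
  haveI : IsClosedImmersion (e ≫ G.hom) := by rw [he]; infer_instance
  haveI h1 : IsClosedImmersion e := IsClosedImmersion.of_comp e G.hom
  haveI h2 : Surjective e := ⟨fun g => ⟨G.hom g, Subsingleton.elim _ _⟩⟩
  haveI : IsClosedImmersion (η[G] : 𝟙_ (Over (Spec (CommRingCat.of K))) ⟶ G).left := h1
  haveI : Surjective (η[G] : 𝟙_ (Over (Spec (CommRingCat.of K))) ⟶ G).left := h2
  let T : Over (Spec (CommRingCat.of K)) := Over.mk (pullback.fst f f ≫ f)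
  haveI : IsReduced T.left := inferInstanceAs (IsReduced (pullback f f))
  let σ₁ : T ⟶ X := Over.homMk (pullback.fst f f ≫ s) (by simp [T, hs])
  let σ₂ : T ⟶ X := Over.homMk (pullback.snd f f ≫ s) (by simp [T, hs, pullback.condition])
  have hσ : σ₁ = σ₂ := hom_ext_of_reduced a ha T (fun g => point_eq_unit T g) σ₁ σ₂
  have hσ' : pullback.fst f f ≫ s = pullback.snd f f ≫ s := congrArg (fun t => t.left) hσ
  have hdesc : ∀ {Z : Scheme.{u}} (g₁ g₂ : Z ⟶ U), g₁ ≫ f = g₂ ≫ f → g₁ ≫ s = g₂ ≫ s := by
    intro Z g₁ g₂ hg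
    have h1 : g₁ = pullback.lift g₁ g₂ hg ≫ pullback.fst f f := (pullback.lift_fst _ _ _).symm
    have h2 : g₂ = pullback.lift g₁ g₂ hg ≫ pullback.snd f f := (pullback.lift_snd _ _ _).symm
    calc g₁ ≫ s = pullback.lift g₁ g₂ hg ≫ pullback.fst f f ≫ s := by
          rw [← Category.assoc, ← h1]
      _ = pullback.lift g₁ g₂ hg ≫ pullback.snd f f ≫ s := by rw [hσ']
      _ = g₂ ≫ s := by rw [← Category.assoc, ← h2]
  refine ⟨EffectiveEpi.desc f s hdesc, ?_⟩
  rw [← cancel_epi f, EffectiveEpi.fac_assoc, hs, Category.comp_id]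

/-- An fppf (or any) pseudo-torsor under an infinitesimal group over `k` with a point over a field
extension `L` with `L ⊗_k L` reduced has a `k`-point. -/
theorem hasSection_of_separable (L : Type u) [Field L] [Algebra K L]
    [IsReduced (TensorProduct K L L)]
    (G X : Over (Spec (CommRingCat.of K))) [GrpObj G] [IsFinite G.hom] [Subsingleton G.left]
    (a : AlgGrp.Action G X) (ha : NonAbH1.IsPseudoTorsorSch a)
    (hL : NonAbH1.HasSectionOver X (Spec.map (CommRingCat.ofHom (algebraMap K L)))) :
    NonAbH1.HasSectionOver X (𝟙 (Spec (CommRingCat.of K))) := by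
  obtain ⟨s, hs⟩ := hL
  set f := Spec.map (CommRingCat.ofHom (algebraMap K L)) with hf
  haveI : Flat f := by
    rw [hf, Flat.SpecMap_iff, CommRingCat.hom_ofHom, RingHom.flat_algebraMap_iff]
    infer_instance
  haveI : Surjective f := by
    haveI : Subsingleton (Spec (CommRingCat.of K)) :=
      inferInstanceAs (Subsingleton (PrimeSpectrum K))
    haveI : Nonempty (Spec (CommRingCat.of L)) := inferInstanceAs (Nonempty (PrimeSpectrum L))
    exact ⟨fun x => ⟨Classical.arbitrary _, Subsingleton.elim _ _⟩⟩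
  haveI : IsReduced (pullback f f) := by
    haveI : IsReduced (Spec (CommRingCat.of (TensorProduct K L L))) := inferInstance
    exact isReduced_of_isOpenImmersion (pullbackSpecIso K L L).hom
  exact hasSection_of_reduced_cover K G X a ha f s hs

end Groth.Agent.Lib.Helper26.InfinitesimalTorsor
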