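import Groth.Agent.Lib.Helper2.Matlis

/-!
# Characterisation of the injective hull of the residue field (helper26)
-/

set_option autoImplicit false
universe u

namespace Groth.Agent.Lib.Helper26.InjHullChar

open InjHull Groth.Agent.Lib.Helper2

variable (A : Type u) [CommRing A] [IsLocalRing A] [IsNoetherianRing A]
  (E : Type u) [AddCommGroup E] [Module A E]

theorem main :
    (∃ f : IsLocalRing.ResidueField A →ₗ[A] E, InjHull.IsInjectiveHull f) ↔
      (Module.Injective A E ∧ LocCoh.IsPowerTorsion (IsLocalRing.maximalIdeal A) E ∧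
        IsSimpleModule A (IsLocalRing.ResidueField A →ₗ[A] E)) := by
  constructor
  · rintro ⟨f, hf⟩
    refine ⟨hf.isInjective, isPowerTorsion_of_isInjectiveHull_residueField hf, ?_⟩
    exact Module.length_eq_one_iff.mp (length_hom_residueField hf.toIsEssentialInj)
  · rintro ⟨hinj, htors, hsimple⟩
    haveI := IsSimpleModule.nontrivial A (IsLocalRing.ResidueField A →ₗ[A] E)
    obtain ⟨f, hf0⟩ := exists_ne (0 : IsLocalRing.ResidueField A →ₗ[A] E)
    refine ⟨f, ?_⟩
    refine ⟨?_, hinj⟩
    rw [isEssentialInj_iff]
    constructor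
    · rw [injective_iff_map_eq_zero]
      intro c hc
      by_contra hc0
      apply hf0
      ext x
      obtain ⟨a, ha⟩ := IsLocalRing.residue_surjective (x * c⁻¹)
      have hx : x = a • c := by
        rw [Algebra.smul_def]
        change x = IsLocalRing.residue A a * c
        rw [ha, mul_assoc, inv_mul_cancel₀ hc0, mul_one]
      rw [hx, map_smul, hc, smul_zero, LinearMap.zero_apply]
    · intro x hx
      obtain ⟨r, hr0, hr⟩ := exists_smul_mem_torsionBy_of_isPowerTorsion _ htors x hx
      refine ⟨r, hr0, ?_⟩
      let g0 : (A ⧸ IsLocalRing.maximalIdeal A) →ₗ[A] E :=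
        Submodule.liftQ _ (LinearMap.toSpanSingleton A E (r • x)) (by
          intro a ha
          rw [LinearMap.mem_ker, LinearMap.toSpanSingleton_apply]
          exact (Submodule.mem_torsionBySet_iff _ _).1 hr ⟨a, ha⟩)
      let g : IsLocalRing.ResidueField A →ₗ[A] E := g0
      obtain ⟨a, ha⟩ := IsSimpleModule.toSpanSingleton_surjective A hf0 g
      have h1 : g 1 = r • x := by
        change g0 (Submodule.Quotient.mk 1) = _
        rw [Submodule.liftQ_apply, LinearMap.toSpanSingleton_apply, one_smul]
      refine ⟨a • 1, ?_⟩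
      rw [map_smul, ← h1, ← ha, LinearMap.toSpanSingleton_apply, LinearMap.smul_apply]

end Groth.Agent.Lib.Helper26.InjHullChar
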