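import Groth.Agent.Lib.Helper2.Matlis

/-!
# `E[a]` is an injective hull of the residue field of `A/a` (helper26)
-/

set_option autoImplicit false
universe u

namespace Groth.Agent.Lib.Helper26.InjHullQuot

open InjHull Groth.Agent.Lib.Helper2

/-- A nonzero linear map out of the residue field of a local ring is injective. -/
lemma residueField_linearMap_injective {B : Type u} [CommRing B] [IsLocalRing B] {E' : Type*}
    [AddCommGroup E'] [Module B E'] (f : IsLocalRing.ResidueField B →ₗ[B] E') (hf0 : f ≠ 0) :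
    Function.Injective f := by
  rw [injective_iff_map_eq_zero]
  intro c hc
  by_contra hc0
  apply hf0
  ext x
  obtain ⟨a, ha⟩ := IsLocalRing.residue_surjective (x * c⁻¹)
  have hx : x = a • c := by
    rw [Algebra.smul_def]
    change x = IsLocalRing.residue B a * c
    rw [ha, mul_assoc, inv_mul_cancel₀ hc0, mul_one]
  rw [hx, map_smul, hc, smul_zero, LinearMap.zero_apply]

variable (A : Type u) [CommRing A] [IsLocalRing A] [IsNoetherianRing A] (a : Ideal A)
  [IsLocalRing (A ⧸ a)] (E : Type u) [AddCommGroup E] [Module A E]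

omit [IsNoetherianRing A] in
lemma mem_maximalIdeal_of_mk_mem {x : A}
    (hx : Ideal.Quotient.mk a x ∈ IsLocalRing.maximalIdeal (A ⧸ a)) :
    x ∈ IsLocalRing.maximalIdeal A := by
  rw [IsLocalRing.mem_maximalIdeal, mem_nonunits_iff] at hx ⊢
  exact fun h => hx (h.map _)

omit [IsLocalRing A] [IsNoetherianRing A] [IsLocalRing (A ⧸ a)] in
lemma injective_torsionBy (hE : Module.Injective A E) :
    Module.Injective (A ⧸ a) (LocCoh.torsionBy a E) := by
  apply Module.Baer.injective
  intro 𝔟 g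
  let 𝔞' : Ideal A := 𝔟.comap (Ideal.Quotient.mk a)
  let g₁ : 𝔞' →ₗ[A] E :=
    { toFun := fun x => (g ⟨Ideal.Quotient.mk a x.1, x.2⟩ : E)
      map_add' := fun x y => by
        have : (⟨Ideal.Quotient.mk a (x + y : 𝔞').1, (x + y).2⟩ : 𝔟) =
            ⟨Ideal.Quotient.mk a x.1, x.2⟩ + ⟨Ideal.Quotient.mk a y.1, y.2⟩ :=
          Subtype.ext (map_add _ _ _)
        rw [this, map_add]
        rfl
      map_smul' := fun r x => by
        have : (⟨Ideal.Quotient.mk a (r • x : 𝔞').1, (r • x).2⟩ : 𝔟) =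
            (Ideal.Quotient.mk a r) • ⟨Ideal.Quotient.mk a x.1, x.2⟩ :=
          Subtype.ext (map_mul _ _ _)
        rw [this, map_smul]
        rfl }
  obtain ⟨G₁, hG₁⟩ := Module.Baer.of_injective hE 𝔞' g₁
  have he : G₁ 1 ∈ LocCoh.torsionBy a E := by
    rw [Submodule.mem_torsionBySet_iff]
    rintro ⟨x, hx⟩
    have hx0 : Ideal.Quotient.mk a x = 0 := Ideal.Quotient.eq_zero_iff_mem.mpr hx
    have hx' : x ∈ 𝔞' := by
      change Ideal.Quotient.mk a x ∈ 𝔟
      rw [hx0]
      exact zero_mem _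
    change x • G₁ 1 = 0
    rw [← map_smul, smul_eq_mul, mul_one, hG₁ x hx']
    change (g ⟨Ideal.Quotient.mk a x, _⟩ : E) = 0
    have : (⟨Ideal.Quotient.mk a x, hx'⟩ : 𝔟) = 0 := Subtype.ext hx0
    rw [this, map_zero]
    rfl
  refine ⟨LinearMap.toSpanSingleton (A ⧸ a) _ ⟨G₁ 1, he⟩, ?_⟩
  intro b hb
  obtain ⟨x, rfl⟩ := Ideal.Quotient.mk_surjective b
  rw [LinearMap.toSpanSingleton_apply]
  apply Subtype.ext
  rw [Submodule.torsionBySet.mk_smul]
  change x • G₁ 1 = _
  rw [← map_smul, smul_eq_mul, mul_one, hG₁ x hb]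
  rfl

theorem main (f : IsLocalRing.ResidueField A →ₗ[A] E) (hf : IsInjectiveHull f) :
    ∃ g : IsLocalRing.ResidueField (A ⧸ a) →ₗ[A ⧸ a] (LocCoh.torsionBy a E),
      IsInjectiveHull g := by
  have hatop : a ≠ ⊤ := Ideal.Quotient.nontrivial_iff.mp inferInstance
  have he : f 1 ∈ LocCoh.torsionBy a E := by
    rw [Submodule.mem_torsionBySet_iff]
    rintro ⟨x, hx⟩
    change x • f 1 = 0
    rw [← map_smul, maximalIdeal_smul_residueField x (IsLocalRing.le_maximalIdeal hatop hx),
      map_zero]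
  let e₀ : LocCoh.torsionBy a E := ⟨f 1, he⟩
  let g0 : ((A ⧸ a) ⧸ IsLocalRing.maximalIdeal (A ⧸ a)) →ₗ[A ⧸ a] LocCoh.torsionBy a E :=
    Submodule.liftQ _ (LinearMap.toSpanSingleton (A ⧸ a) _ e₀) (by
      intro b hb
      obtain ⟨x, rfl⟩ := Ideal.Quotient.mk_surjective b
      rw [LinearMap.mem_ker, LinearMap.toSpanSingleton_apply]
      apply Subtype.ext
      rw [Submodule.torsionBySet.mk_smul]
      change x • f 1 = 0
      rw [← map_smul, maximalIdeal_smul_residueField x (mem_maximalIdeal_of_mk_mem A a hb),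
        map_zero])
  let g : IsLocalRing.ResidueField (A ⧸ a) →ₗ[A ⧸ a] LocCoh.torsionBy a E := g0
  have hg1 : g 1 = e₀ := by
    change g0 (Submodule.Quotient.mk 1) = _
    rw [Submodule.liftQ_apply, LinearMap.toSpanSingleton_apply, one_smul]
  have he0 : e₀ ≠ 0 := by
    intro h
    have h1 : f 1 = 0 := congrArg Subtype.val h
    exact one_ne_zero ((map_eq_zero_iff _ hf.injective).mp h1)
  refine ⟨g, ⟨?_, injective_torsionBy A a E hf.isInjective⟩⟩
  rw [isEssentialInj_iff]
  constructor
  · apply residueField_linearMap_injective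
    intro h
    apply he0
    rw [← hg1, h, LinearMap.zero_apply]
  · intro y hy
    have hy' : (y : E) ≠ 0 := fun h => hy (Subtype.ext h)
    obtain ⟨r, hr0, c, hc⟩ := ((isEssentialInj_iff f).mp hf.toIsEssentialInj).2 (y : E) hy'
    obtain ⟨x, rfl⟩ := IsLocalRing.residue_surjective c
    refine ⟨Ideal.Quotient.mk a r, ?_, ?_⟩
    · intro h
      apply hr0
      have := congrArg Subtype.val h
      rw [Submodule.torsionBySet.mk_smul] at this
      exact this
    · refine ⟨Ideal.Quotient.mk a x • 1, ?_⟩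
      rw [map_smul, hg1]
      apply Subtype.ext
      rw [Submodule.torsionBySet.mk_smul, Submodule.torsionBySet.mk_smul]
      change x • f 1 = r • (y : E)
      rw [← hc, ← map_smul]
      congr 1
      rw [Algebra.smul_def, mul_one]
      rfl

end Groth.Agent.Lib.Helper26.InjHullQuot
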