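import Groth.Agent.Lib.Helper26.PseudoTorsor

/-!
# The kernel of the action of `G` on `G/H` (helper26)

Generic cartesian-monoidal version: `G` a group object, `i : H ⟶ G`, `act : G ⊗ Q ⟶ Q` an action,
`o : 𝟙 ⟶ Q` a point with orbit map `ω`, such that `G ⊗ H` is the kernel pair of `ω`
via `(g, h) ↦ (g, g h)`.  `n : N ⟶ G` represents the kernel of the action.
-/

set_option autoImplicit false
open CategoryTheory CategoryTheory.Limits MonoidalCategory
open MonObj CartesianMonoidalCategory SemiCartesianMonoidalCategory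
universe v₁ u₁

namespace Groth.Agent.Lib.Helper26.KerAction

open Groth.Agent.Lib.Helper26.PseudoTorsor

variable {𝒮 : Type u₁} [Category.{v₁} 𝒮] [CartesianMonoidalCategory 𝒮]
variable {G H Q N : 𝒮} [GrpObj G] [GrpObj H] [GrpObj N] (i : H ⟶ G) (n : N ⟶ G)
  (act : G ⊗ Q ⟶ Q)
  (mul_act : (μ[G] ▷ Q) ≫ act = (α_ G G Q).hom ≫ (G ◁ act) ≫ act)
  (one_act : (η[G] ▷ Q) ≫ act = (λ_ Q).hom)
  (o : 𝟙_ 𝒮 ⟶ Q)

/-- The orbit map. -/
abbrev orb : G ⟶ Q := lift (𝟙 G) (toUnit G ≫ o) ≫ act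

omit [GrpObj G] in
lemma comp_orb {W : 𝒮} (g : W ⟶ G) : g ≫ orb act o = smul act g (toUnit W ≫ o) := by
  unfold orb smul
  rw [← Category.assoc, comp_lift, Category.comp_id, ← Category.assoc]
  congr 3
  exact toUnit_unique _ _

variable (hN : ∀ (T : 𝒮) (g : T ⟶ G),
      (∃ m : T ⟶ N, m ≫ n = g) ↔
        ∀ (T' : 𝒮) (s : T' ⟶ T) (x : T' ⟶ Q), lift (s ≫ g) x ≫ act = x)

omit [GrpObj N] in
include mul_act one_act hN in
/-- The kernel of an action is normal. -/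
theorem normal (T : 𝒮) (g : T ⟶ G) (m : T ⟶ N) :
    ∃ n' : T ⟶ N, g * (m ≫ n) * g⁻¹ = n' ≫ n := by
  obtain ⟨n', hn'⟩ := (hN T (g * (m ≫ n) * g⁻¹)).2 (by
    intro T' s x
    have h1 := (hN T (m ≫ n)).1 ⟨m, rfl⟩ T' s (smul act (s ≫ g)⁻¹ x)
    change smul act (s ≫ (g * (m ≫ n) * g⁻¹)) x = x
    change smul act (s ≫ m ≫ n) (smul act (s ≫ g)⁻¹ x) = smul act (s ≫ g)⁻¹ x at h1
    rw [MonObj.comp_mul, MonObj.comp_mul, GrpObj.comp_inv, mul_smul act mul_act,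
      mul_smul act mul_act, h1, ← mul_smul act mul_act, mul_inv_cancel, one_smul act one_act])
  exact ⟨n', hn'.symm⟩

variable (hPB : IsPullback (fst G H) ((G ◁ i) ≫ μ[G]) (orb act o) (orb act o))

omit [GrpObj H] [GrpObj N] in
include one_act hN hPB in
/-- The kernel of the action on `G/H` is contained in `H`. -/
theorem le_stab : ∃ f : N ⟶ H, f ≫ i = n := by
  have h1 := (hN N n).1 ⟨𝟙 N, Category.id_comp n⟩ N (𝟙 N) (toUnit N ≫ o)
  rw [Category.id_comp] at h1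
  have e : (1 : N ⟶ G) ≫ orb act o = n ≫ orb act o := by
    rw [comp_orb, comp_orb]
    change _ = lift n (toUnit N ≫ o) ≫ act
    rw [h1, one_smul act one_act]
  refine ⟨hPB.lift 1 n e ≫ snd G H, ?_⟩
  have e1 := hPB.lift_fst 1 n e
  have e2 := hPB.lift_snd 1 n e
  have e3 : hPB.lift 1 n e = lift (1 : N ⟶ G) (hPB.lift 1 n e ≫ snd G H) := by
    apply CartesianMonoidalCategory.hom_ext
    · rw [e1, lift_fst]
    · rw [lift_snd]
  rw [e3, ← Category.assoc, lift_whiskerLeft, ← Hom.mul_def, _root_.one_mul] at e2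
  exact e2

omit [GrpObj H] in
include one_act hPB in
/-- `H` stabilizes the base point. -/
theorem stab {W : 𝒮} (h : W ⟶ H) : smul act (h ≫ i) (toUnit W ≫ o) = toUnit W ≫ o := by
  have e1 : lift (1 : W ⟶ G) h ≫ fst G H = 1 := lift_fst _ _
  have e2 : lift (1 : W ⟶ G) h ≫ (G ◁ i) ≫ μ[G] = h ≫ i := by
    rw [← Category.assoc, lift_whiskerLeft, ← Hom.mul_def, _root_.one_mul]
  have e : (lift (1 : W ⟶ G) h ≫ fst G H) ≫ orb act o
      = (lift (1 : W ⟶ G) h ≫ (G ◁ i) ≫ μ[G]) ≫ orb act o := by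
    rw [Category.assoc, Category.assoc, hPB.w]
  rw [e1, e2, comp_orb, comp_orb, one_smul act one_act] at e
  exact e.symm

variable {N' : 𝒮} [GrpObj N'] (n' : N' ⟶ G)
  (hn' : ∀ (T : 𝒮) (g : T ⟶ G) (m : T ⟶ N'), ∃ m' : T ⟶ N', g * (m ≫ n') * g⁻¹ = m' ≫ n')
  (hcov : ∀ (T' : 𝒮) (x : T' ⟶ Q), ∃ (T'' : 𝒮) (p : T'' ⟶ T') (y : T'' ⟶ G),
    Epi p ∧ y ≫ orb act o = p ≫ x)

omit [GrpObj N] [GrpObj N'] in
include mul_act one_act hN hPB hn' hcov in
/-- The kernel is the largest normal subgroup contained in `H`. -/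
theorem largest (f : N' ⟶ H) (hf : f ≫ i = n') : ∃ f' : N' ⟶ N, f' ≫ n = n' := by
  refine (hN N' n').2 ?_
  intro T' s x
  obtain ⟨T'', p, y, hp, hy⟩ := hcov T' x
  rw [← cancel_epi p]
  change p ≫ smul act (s ≫ n') x = p ≫ x
  rw [comp_smul, ← hy, comp_orb]
  obtain ⟨m', hm'⟩ := hn' T'' y⁻¹ (p ≫ s)
  rw [inv_inv, Category.assoc] at hm'
  have e : (p ≫ s ≫ n') * y = y * (m' ≫ n') := by
    rw [← hm']; group
  rw [← mul_smul act mul_act, e, mul_smul act mul_act, ← hf, ← Category.assoc,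
    stab i act one_act o hPB]

end Groth.Agent.Lib.Helper26.KerAction
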