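import Groth.Prelude.Def_QuotSh

/-!
# Sections of a sheaf as maps from the (sheafified) representable; singleton fppf covers (helper26)
-/

set_option autoImplicit false
open CategoryTheory CategoryTheory.Limits Opposite AlgebraicGeometry
universe u

namespace Groth.Agent.Lib.Helper26.RepSection

variable (K : Precoverage Scheme.{u}) {S : Scheme.{u}}

/-- Maps `h_V ⟶ Q` of sheaves are sections of `Q` over `V`. -/
noncomputable def secEquiv (V : Over S) (Q : QuotSh.Sh K S) :
    (QuotSh.rep K V ⟶ Q) ≃ Q.obj.obj (op V) :=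
  ((sheafificationAdjunction (QuotSh.J K S) (Type (u + 1))).homEquiv
    (uliftYoneda.{u + 1}.obj V) Q).trans uliftYonedaEquiv.{u + 1}

lemma secEquiv_naturality {V W : Over S} (g : V ⟶ W) (Q : QuotSh.Sh K S)
    (σ : QuotSh.rep K W ⟶ Q) :
    secEquiv K V Q (QuotSh.repMap K g ≫ σ) = Q.obj.map g.op (secEquiv K W Q σ) := by
  change uliftYonedaEquiv.{u + 1} (((sheafificationAdjunction (QuotSh.J K S) (Type (u + 1))).homEquiv
      (uliftYoneda.{u + 1}.obj V) Q) (QuotSh.repMap K g ≫ σ)) =
    Q.obj.map g.op (uliftYonedaEquiv.{u + 1} (((sheafificationAdjunction (QuotSh.J K S)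
      (Type (u + 1))).homEquiv (uliftYoneda.{u + 1}.obj W) Q) σ))
  rw [uliftYonedaEquiv_naturality]
  congr 1
  exact Adjunction.homEquiv_naturality_left _ _ _

lemma repMap_comp {V W X : Over S} (f : V ⟶ W) (g : W ⟶ X) :
    QuotSh.repMap K (f ≫ g) = QuotSh.repMap K f ≫ QuotSh.repMap K g := by
  change (presheafToSheaf _ _).map _ = (presheafToSheaf _ _).map _ ≫ (presheafToSheaf _ _).map _
  rw [← Functor.map_comp, ← Functor.whiskerRight_comp, ← yoneda.map_comp]

/-- An fppf cover `p : Z ⟶ T` in `Over S` generates a covering sieve of the big fppf site. -/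
lemma generate_singleton_mem {Z T : Over S} (p : Z ⟶ T) [Flat p.left] [Surjective p.left]
    [LocallyOfFinitePresentation p.left] :
    Sieve.generate (Presieve.singleton p) ∈ QuotSh.J Scheme.fppfPrecoverage S T := by
  rw [GrothendieckTopology.mem_over_iff]
  refine GrothendieckTopology.superset_covering _ ?_
    (Precoverage.generate_mem_toGrothendieck p.left.singleton_mem_fppfPrecoverage)
  rw [Sieve.generate_le_iff]
  rintro _ _ ⟨⟩
  rw [Sieve.overEquiv_iff]
  exact ⟨Z, Over.homMk (𝟙 _) (by simp), p, Presieve.singleton.mk, by ext; simp⟩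

/-- Descent of sections of an fppf sheaf along a singleton fppf cover. -/
theorem existsUnique_section {Z T : Over S} (p : Z ⟶ T) [Flat p.left] [Surjective p.left]
    [LocallyOfFinitePresentation p.left] (Q : QuotSh.Sh Scheme.fppfPrecoverage S)
    (α : QuotSh.rep Scheme.fppfPrecoverage Z ⟶ Q)
    (hα : ∀ (T' : Over S) (z₁ z₂ : T' ⟶ Z), z₁ ≫ p = z₂ ≫ p →
      QuotSh.repMap Scheme.fppfPrecoverage z₁ ≫ α = QuotSh.repMap Scheme.fppfPrecoverage z₂ ≫ α) :
    ∃! σ : QuotSh.rep Scheme.fppfPrecoverage T ⟶ Q,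
      α = QuotSh.repMap Scheme.fppfPrecoverage p ≫ σ := by
  have hQ : Presieve.IsSheaf (QuotSh.J Scheme.fppfPrecoverage S) Q.obj :=
    (isSheaf_iff_isSheaf_of_type _ _).1 Q.2
  have h1 := hQ.isSheafFor _ (generate_singleton_mem p)
  rw [Presieve.isSheafFor_singleton] at h1
  obtain ⟨y, hy, huniq⟩ := h1 (secEquiv _ Z Q α) (by
    intro T' z₁ z₂ h
    rw [← secEquiv_naturality, ← secEquiv_naturality, hα T' z₁ z₂ h])
  refine ⟨(secEquiv _ T Q).symm y, ?_, ?_⟩
  · apply (secEquiv _ Z Q).injective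
    rw [secEquiv_naturality, Equiv.apply_symm_apply, hy]
  · intro σ hσ
    apply (secEquiv _ T Q).injective
    rw [Equiv.apply_symm_apply]
    apply huniq
    rw [← secEquiv_naturality, ← hσ]

end Groth.Agent.Lib.Helper26.RepSection
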