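import Groth.Prelude.Def_QuotSh
import Groth.Agent.Lib.Helper26.RepSection
import Groth.Agent.Lib.Helper51.EffEqvRel
import Mathlib.CategoryTheory.EquivalenceRelation
import Mathlib.CategoryTheory.Limits.Shapes.KernelPair
import Mathlib.CategoryTheory.Sites.LocallySurjective
import Mathlib.CategoryTheory.MorphismProperty.Local

/-!
# Representability of the quotient sheaf `U/R` by a covering with kernel pair `R` (helper26)

Generic in the precoverage `K` (used for fppf and étale).
-/

set_option autoImplicit false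
open CategoryTheory CategoryTheory.Limits Opposite AlgebraicGeometry
universe u

namespace Groth.Agent.Lib.Helper26.QuotRep

open Groth.Agent.Lib.Helper26.RepSection

variable (K : Precoverage Scheme.{u}) {S : Scheme.{u}}

/-- A singleton `K`-cover in `Over S` generates a covering sieve of the big site. -/
lemma generate_singleton_mem {Z T : Over S} (p : Z ⟶ T)
    (hp : Presieve.singleton p.left ∈ K T.left) :
    Sieve.generate (Presieve.singleton p) ∈ QuotSh.J K S T := by
  rw [GrothendieckTopology.mem_over_iff]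
  refine GrothendieckTopology.superset_covering _ ?_
    (Precoverage.generate_mem_toGrothendieck hp)
  rw [Sieve.generate_le_iff]
  rintro _ _ ⟨⟩
  rw [Sieve.overEquiv_iff]
  exact ⟨Z, Over.homMk (𝟙 _) (by simp), p, Presieve.singleton.mk, by ext; simp⟩

/-- Descent of sections of a sheaf along a singleton cover. -/
theorem existsUnique_section {Z T : Over S} (p : Z ⟶ T)
    (hp : Presieve.singleton p.left ∈ K T.left) (Q : QuotSh.Sh K S)
    (α : QuotSh.rep K Z ⟶ Q)
    (hα : ∀ (T' : Over S) (z₁ z₂ : T' ⟶ Z), z₁ ≫ p = z₂ ≫ p →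
      QuotSh.repMap K z₁ ≫ α = QuotSh.repMap K z₂ ≫ α) :
    ∃! σ : QuotSh.rep K T ⟶ Q, α = QuotSh.repMap K p ≫ σ := by
  have hQ : Presieve.IsSheaf (QuotSh.J K S) Q.obj :=
    (isSheaf_iff_isSheaf_of_type _ _).1 Q.2
  have h1 := hQ.isSheafFor _ (generate_singleton_mem K p hp)
  rw [Presieve.isSheafFor_singleton] at h1
  obtain ⟨y, hy, huniq⟩ := h1 (secEquiv _ Z Q α) (by
    intro T' z₁ z₂ h
    rw [← secEquiv_naturality, ← secEquiv_naturality, hα T' z₁ z₂ h])
  refine ⟨(secEquiv _ T Q).symm y, ?_, ?_⟩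
  · apply (secEquiv _ Z Q).injective
    rw [secEquiv_naturality, Equiv.apply_symm_apply, hy]
  · intro σ hσ
    apply (secEquiv _ T Q).injective
    rw [Equiv.apply_symm_apply]
    apply huniq
    rw [← secEquiv_naturality, ← hσ]

variable {R U Y : Over S}

/-- A `K`-covering `q` with kernel pair `(s, t)` represents the quotient sheaf `U/R`. -/
theorem isQuotient_of_isKernelPair (s t : R ⟶ U) (q : U ⟶ Y) (hk : IsKernelPair q s t)
    (hq : Presieve.singleton q.left ∈ K Y.left) : QuotSh.IsQuotient K s t q := by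
  refine ⟨hk.w, ?_⟩
  obtain ⟨σ, hσ, -⟩ := existsUnique_section K q hq (QuotSh.quot K s t) (QuotSh.quotπ K s t) (by
    intro T' z₁ z₂ h
    obtain ⟨r, hr1, hr2⟩ := IsPullback.exists_lift hk z₁ z₂ h
    rw [← hr1, ← hr2, repMap_comp, repMap_comp, Category.assoc, Category.assoc,
      QuotSh.quot_condition])
  have hπ : QuotSh.quotπ K s t ≫ QuotSh.quotDesc K q hk.w = QuotSh.repMap K q :=
    coequalizer.π_desc _ _
  obtain ⟨τ, -, hτ⟩ := existsUnique_section K q hq (QuotSh.rep K Y) (QuotSh.repMap K q) (by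
    intro T' z₁ z₂ h
    rw [← repMap_comp, ← repMap_comp, h])
  refine ⟨σ, ?_, ?_⟩
  · apply coequalizer.hom_ext
    change QuotSh.quotπ K s t ≫ _ = QuotSh.quotπ K s t ≫ _
    rw [← Category.assoc, hπ, ← hσ, Category.comp_id]
  · rw [hτ (σ ≫ QuotSh.quotDesc K q hk.w) (by
        change _ = _ ≫ _ ≫ _
        rw [← Category.assoc, ← hσ, hπ]),
      hτ (𝟙 _) (by change _ = _ ≫ 𝟙 _; rw [Category.comp_id])]

section Backward

variable [(QuotSh.J K S).Subcanonical]

open Groth.Agent.Lib.Helper51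

lemma repMap_eq {V W : Over S} (g : V ⟶ W) :
    QuotSh.repMap K g = (QuotSh.repIsoUliftYoneda K V).hom ≫
      (QuotSh.J K S).uliftYoneda.{u + 1}.map g ≫ (QuotSh.repIsoUliftYoneda K W).inv := by
  rw [← Category.assoc, ← repMap_comp_repIsoUliftYoneda_hom, Category.assoc, Iso.hom_inv_id,
    Category.comp_id]

lemma repMap_injective {V W : Over S} {g g' : V ⟶ W}
    (h : QuotSh.repMap K g = QuotSh.repMap K g') : g = g' := by
  rw [repMap_eq, repMap_eq] at h
  apply (QuotSh.J K S).uliftYoneda.{u + 1}.map_injective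
  simpa using h

lemma exists_repMap_eq {V W : Over S} (ρ : QuotSh.rep K V ⟶ QuotSh.rep K W) :
    ∃ r : V ⟶ W, QuotSh.repMap K r = ρ := by
  obtain ⟨r, hr⟩ := (QuotSh.J K S).uliftYoneda.{u + 1}.map_surjective
    ((QuotSh.repIsoUliftYoneda K V).inv ≫ ρ ≫ (QuotSh.repIsoUliftYoneda K W).hom)
  exact ⟨r, by rw [repMap_eq, hr]; simp⟩

/-- The Hom-level equivalence relation attached to a categorical equivalence relation. -/
lemma hinj_of_equivalenceRelation {s t : R ⟶ U} (e : EquivalenceRelation s t) :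
    ∀ (T : Over S) (r r' : T ⟶ R), r ≫ t = r' ≫ t → r ≫ s = r' ≫ s → r = r' :=
  fun _ r r' h1 h2 => e.toReflexiveRelation.right_cancellation r r' h2 h1

lemma heq_of_equivalenceRelation {s t : R ⟶ U} (e : EquivalenceRelation s t) :
    ∀ (T : Over S), Equivalence (fun a b : T ⟶ U => ∃ r : T ⟶ R, r ≫ t = a ∧ r ≫ s = b) := by
  intro T
  refine ⟨fun a => ⟨a ≫ e.r, by simp, by simp⟩, ?_, ?_⟩
  · rintro a b ⟨r, h1, h2⟩
    exact ⟨r ≫ e.s, by rw [Category.assoc, e.symmetry₂, h2], by rw [Category.assoc, e.symmetry₁, h1]⟩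
  · rintro a b c ⟨r, h1, h2⟩ ⟨r', h1', h2'⟩
    refine ⟨PullbackCone.IsLimit.lift e.isLimit r' r (by rw [h1', h2]) ≫ e.t, ?_, ?_⟩
    · rw [Category.assoc, e.transitivity₂, ← Category.assoc, PullbackCone.IsLimit.lift_snd, h1]
    · rw [Category.assoc, e.transitivity₁, ← Category.assoc, PullbackCone.IsLimit.lift_fst, h2']

/-- If `q` represents the quotient sheaf of an equivalence relation, its kernel pair is the
relation. -/
theorem isKernelPair_of_isQuotient {s t : R ⟶ U} (e : EquivalenceRelation s t) (q : U ⟶ Y)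
    (h : QuotSh.IsQuotient K s t q) : IsKernelPair q s t := by
  obtain ⟨w, hiso⟩ := h
  have h1 := isPullback_repMap_quotπ K s t (hinj_of_equivalenceRelation e)
    (heq_of_equivalenceRelation e)
  have hπ : QuotSh.quotπ K s t ≫ QuotSh.quotDesc K q w = QuotSh.repMap K q :=
    coequalizer.π_desc _ _
  have h2 : IsPullback (QuotSh.repMap K t) (QuotSh.repMap K s) (QuotSh.repMap K q)
      (QuotSh.repMap K q) :=
    IsPullback.of_iso h1 (Iso.refl _) (Iso.refl _) (Iso.refl _) (asIso (QuotSh.quotDesc K q w))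
      (by simp) (by simp) (by simp [hπ]) (by simp [hπ])
  have h3 : IsPullback ((QuotSh.J K S).uliftYoneda.{u + 1}.map t)
      ((QuotSh.J K S).uliftYoneda.{u + 1}.map s) ((QuotSh.J K S).uliftYoneda.{u + 1}.map q)
      ((QuotSh.J K S).uliftYoneda.{u + 1}.map q) :=
    IsPullback.of_iso h2 (QuotSh.repIsoUliftYoneda K R) (QuotSh.repIsoUliftYoneda K U)
      (QuotSh.repIsoUliftYoneda K U) (QuotSh.repIsoUliftYoneda K Y)
      (repMap_comp_repIsoUliftYoneda_hom K t) (repMap_comp_repIsoUliftYoneda_hom K s)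
      (repMap_comp_repIsoUliftYoneda_hom K q) (repMap_comp_repIsoUliftYoneda_hom K q)
  exact (IsPullback.of_map_of_faithful (QuotSh.J K S).uliftYoneda.{u + 1} h3).flip

lemma secEquiv_comp {V : Over S} {Q Q' : QuotSh.Sh K S} (τ : QuotSh.rep K V ⟶ Q) (φ : Q ⟶ Q') :
    secEquiv K V Q' (τ ≫ φ) = φ.hom.app (op V) (secEquiv K V Q τ) := by
  change uliftYonedaEquiv.{u + 1} (((sheafificationAdjunction (QuotSh.J K S) (Type (u + 1))).homEquiv
      (uliftYoneda.{u + 1}.obj V) Q') (τ ≫ φ)) =
    φ.hom.app (op V) (uliftYonedaEquiv.{u + 1} (((sheafificationAdjunction (QuotSh.J K S)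
      (Type (u + 1))).homEquiv (uliftYoneda.{u + 1}.obj V) Q) τ))
  rw [Adjunction.homEquiv_naturality_right]
  rfl

/-- If `h_q` is an epimorphism of sheaves, `Y` has a `K`-covering by maps which lift through `q`. -/
theorem exists_cover_of_epi [K.HasIsos] [K.IsStableUnderBaseChange] [K.IsStableUnderComposition]
    [K.HasPullbacks] (q : U ⟶ Y) [Epi (QuotSh.repMap K q)] :
    ∃ R₀ ∈ K Y.left, ∀ {W : Scheme.{u}} (g : W ⟶ Y.left), R₀ g →
      ∃ σ : W ⟶ U.left, σ ≫ q.left = g := by
  have hls : Sheaf.IsLocallySurjective (QuotSh.repMap K q) :=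
    (Sheaf.isLocallySurjective_iff_epi _).2 inferInstance
  have hmem := Presheaf.imageSieve_mem (QuotSh.J K S) (QuotSh.repMap K q).hom (U := op Y)
    (secEquiv K Y (QuotSh.rep K Y) (𝟙 _))
  rw [GrothendieckTopology.mem_over_iff,
    Precoverage.mem_toGrothendieck_iff_of_isStableUnderComposition] at hmem
  obtain ⟨R₀, hR₀, hle⟩ := hmem
  refine ⟨R₀, hR₀, fun {W} g hg => ?_⟩
  have h1 := hle _ _ hg
  rw [Sieve.overEquiv_iff] at h1
  obtain ⟨x, hx⟩ := h1
  obtain ⟨σ, hσ⟩ := exists_repMap_eq K ((secEquiv K _ (QuotSh.rep K U)).symm x)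
  refine ⟨σ.left, ?_⟩
  have h2 : QuotSh.repMap K (σ ≫ q) =
      QuotSh.repMap K (Over.homMk g : Over.mk (g ≫ Y.hom) ⟶ Y) := by
    apply (secEquiv K _ _).injective
    rw [repMap_comp, hσ, secEquiv_comp, Equiv.apply_symm_apply, hx, ← secEquiv_naturality,
      Category.comp_id]
  exact congrArg (fun f => f.left) (repMap_injective K h2)

end Backward

/-- A family of maps lifting through `q` which is jointly surjective forces `q` surjective. -/
theorem surjective_of_cover (q : U ⟶ Y) (R₀ : Presieve Y.left)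
    (hR₀ : R₀ ∈ Scheme.jointlySurjectivePrecoverage Y.left)
    (hlift : ∀ {W : Scheme.{u}} (g : W ⟶ Y.left), R₀ g → ∃ σ : W ⟶ U.left, σ ≫ q.left = g) :
    Surjective q.left := by
  rw [Presieve.mem_comap_jointlySurjectivePrecoverage_iff] at hR₀
  refine ⟨fun y => ?_⟩
  obtain ⟨W, g, hg, w, hw⟩ := hR₀ y
  obtain ⟨σ, hσ⟩ := hlift g hg
  refine ⟨σ w, ?_⟩
  rw [← Scheme.Hom.comp_apply, hσ]
  exact hw

/-- The symmetry of an equivalence relation is an isomorphism. -/
lemma isIso_symm {s t : R ⟶ U} (e : EquivalenceRelation s t) : IsIso e.s := by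
  refine ⟨e.s, ?_, ?_⟩ <;>
  · apply e.toReflexiveRelation.right_cancellation
    · rw [Category.assoc, e.symmetry₁, e.symmetry₂, Category.id_comp]
    · rw [Category.assoc, e.symmetry₂, e.symmetry₁, Category.id_comp]

/-- A property local on the target for `K` and stable under base change passes from `s` to a
quotient map `q` with kernel pair `(s, t)` which has sections locally for `K`. -/
theorem prop_of_cover (Q : MorphismProperty Scheme.{u}) [Q.IsLocalAtTarget K]
    [Q.IsStableUnderBaseChange] {s t : R ⟶ U} (e : EquivalenceRelation s t) (q : U ⟶ Y)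
    (hk : IsKernelPair q s t) (hs : Q s.left) (R₀ : Presieve Y.left) (hR₀ : R₀ ∈ K Y.left)
    (hlift : ∀ {W : Scheme.{u}} (g : W ⟶ Y.left), R₀ g → ∃ σ : W ⟶ U.left, σ ≫ q.left = g) :
    Q q.left := by
  have ht : Q t.left := by
    have hiso : IsIso e.s := isIso_symm e
    have : IsIso e.s.left := (inferInstance : IsIso ((Over.forget S).map e.s))
    have h1 : t.left = e.s.left ≫ s.left := by rw [← Over.comp_left, e.symmetry₁]
    rw [h1]
    exact (Q.cancel_left_of_respectsIso _ _).mpr hs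
  have hk' : IsPullback s.left t.left q.left q.left := IsPullback.map (Over.forget S) hk
  refine MorphismProperty.IsLocalAtTarget.of_forall_pullbackSnd hR₀ (fun {W g _} hg => ?_)
  obtain ⟨σ, rfl⟩ := hlift g hg
  have h2 : IsPullback (pullback.fst t.left σ ≫ s.left) (pullback.snd t.left σ) q.left
      (σ ≫ q.left) := (IsPullback.of_hasPullback t.left σ).paste_horiz hk'
  rw [← Q.cancel_left_of_respectsIso h2.isoPullback.hom, h2.isoPullback_hom_snd]
  exact Q.pullback_snd _ _ ht

/-- A singleton `K`-cover induces an epimorphism of representable sheaves. -/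
theorem epi_repMap_of_cover {Z T : Over S} (p : Z ⟶ T)
    (hp : Presieve.singleton p.left ∈ K T.left) : Epi (QuotSh.repMap K p) := by
  refine ⟨fun {Q} α β h => ?_⟩
  obtain ⟨σ, -, huniq⟩ := existsUnique_section K p hp Q (QuotSh.repMap K p ≫ α) (by
    intro T' z₁ z₂ hz
    rw [← Category.assoc, ← Category.assoc, ← repMap_comp, ← repMap_comp, hz])
  rw [huniq α rfl, huniq β h]

end Groth.Agent.Lib.Helper26.QuotRep
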