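import Groth.Prelude.Def_AlgGrp
import Groth.Agent.Lib.Helper26.QuotRep
import Groth.Agent.Lib.Helper26.FlatLocal
import Groth.Agent.Lib.Helper21.OfComp
import Mathlib.CategoryTheory.Limits.Constructions.Over.Connected

/-!
# A homomorphism of group schemes is faithfully flat iff it is an epimorphism of fppf sheaves
with flat kernel (helper26)
-/

set_option autoImplicit false
open CategoryTheory CategoryTheory.Limits MonoidalCategory
open MonObj CartesianMonoidalCategory SemiCartesianMonoidalCategory
open scoped MonObj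
universe v₁ u₁ u

namespace Groth.Agent.Lib.Helper26.KerFlat

section Abstract

variable {𝒮 : Type u₁} [Category.{v₁} 𝒮] [CartesianMonoidalCategory 𝒮]
variable {G H N W : 𝒮} [GrpObj G] [GrpObj H]

lemma mono_of_isKernel (f : G ⟶ H) (i : N ⟶ G) (hi : IsPullback i (toUnit N) f η[H]) : Mono i :=
  ⟨fun a b h => hi.hom_ext h (toUnit_unique _ _)⟩

/-- Translating the kernel by a section: `N × W ≅ G ×_H W` when `W ⟶ H` lifts to `σ : W ⟶ G`. -/
theorem isPullback_translate (f : G ⟶ H) [IsMonHom f] (i : N ⟶ G)
    (hi : IsPullback i (toUnit N) f η[H]) (σ : W ⟶ G) :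
    IsPullback ((fst N W ≫ i) * (snd N W ≫ σ)) (snd N W) f (σ ≫ f) := by
  haveI := mono_of_isKernel f i hi
  have hif : i ≫ f = 1 := by rw [hi.w]; rfl
  have key : ∀ {T : 𝒮} (a : T ⟶ G) (w : T ⟶ W), a ≫ f = w ≫ σ ≫ f →
      ∃ n : T ⟶ N, n ≫ i = a * (w ≫ σ)⁻¹ := by
    intro T a w h
    refine ⟨hi.lift (a * (w ≫ σ)⁻¹) (toUnit T) ?_, hi.lift_fst _ _ _⟩
    rw [mul_comp, GrpObj.inv_comp, Category.assoc, h, mul_inv_cancel]
    rfl
  refine ⟨⟨?_⟩, ⟨PullbackCone.IsLimit.mk _
    (fun s => lift (key s.fst s.snd s.condition).choose s.snd) ?_ ?_ ?_⟩⟩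
  · rw [mul_comp, Category.assoc, hif, Category.assoc, comp_one, _root_.one_mul]
  · intro s
    rw [comp_mul, ← Category.assoc, lift_fst, ← Category.assoc, lift_snd,
      (key s.fst s.snd s.condition).choose_spec, inv_mul_cancel_right]
  · intro s
    exact lift_snd _ _
  · intro s m h1 h2
    apply CartesianMonoidalCategory.hom_ext
    · rw [lift_fst, ← cancel_mono i, (key s.fst s.snd s.condition).choose_spec, ← h1, ← h2,
        comp_mul, ← Category.assoc, ← Category.assoc, Category.assoc m, mul_inv_cancel_right]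
    · rw [lift_snd, h2]

end Abstract

section Sch

open AlgebraicGeometry

variable {S : Scheme.{u}} {G H N : Over S} [GrpObj G] [GrpObj H]

theorem main (f : G ⟶ H) [IsMonHom f] [LocallyOfFinitePresentation G.hom]
    [LocallyOfFinitePresentation H.hom] (i : N ⟶ G) (hi : AlgGrp.IsKernel i f) :
    (Flat f.left ∧ Surjective f.left) ↔
      (Epi (QuotSh.repMap Scheme.fppfPrecoverage f) ∧ Flat N.hom) := by
  have sqi : IsPullback i.left (toUnit N).left f.left η[H].left :=
    IsPullback.map (Over.forget S) hi
  have hN : N.hom = (toUnit N).left := by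
    have := Over.w (toUnit N)
    rw [← this]
    exact (Category.comp_id _).symm
  constructor
  · rintro ⟨hflat, hsurj⟩
    have hlfp : LocallyOfFinitePresentation f.left := by
      haveI : LocallyOfFinitePresentation (f.left ≫ H.hom) := by rw [Over.w f]; infer_instance
      exact Groth.Agent.Lib.Helper21.locallyOfFinitePresentation_of_comp_of_locallyOfFiniteType
        f.left H.hom
    refine ⟨QuotRep.epi_repMap_of_cover _ f f.left.singleton_mem_fppfPrecoverage, ?_⟩
    rw [hN]
    exact MorphismProperty.of_isPullback (P := @Flat) sqi hflat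
  · rintro ⟨hepi, hNflat⟩
    obtain ⟨R₀, hR₀, hlift⟩ := QuotRep.exists_cover_of_epi Scheme.fppfPrecoverage f
    refine ⟨?_, QuotRep.surjective_of_cover f R₀ hR₀.1 hlift⟩
    refine MorphismProperty.IsLocalAtTarget.of_forall_pullbackSnd (P := @Flat) hR₀
      (fun {W g _} hg => ?_)
    obtain ⟨σ, rfl⟩ := hlift g hg
    let W' : Over S := Over.mk (σ ≫ G.hom)
    let σ' : W' ⟶ G := Over.homMk σ rfl
    have sq := isPullback_translate f i hi σ'
    have sq' : IsPullback ((fst N W' ≫ i) * (snd N W' ≫ σ')).left (snd N W').left f.left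
        (σ ≫ f.left) := IsPullback.map (Over.forget S) sq
    have hsnd : Flat (snd N W').left := by
      have sqN : IsPullback (fst N W').left (snd N W').left N.hom W'.hom :=
        IsPullback.of_hasPullback _ _
      exact MorphismProperty.of_isPullback (P := @Flat) sqN hNflat
    rw [← MorphismProperty.cancel_left_of_respectsIso @Flat sq'.isoPullback.hom,
      sq'.isoPullback_hom_snd]
    exact hsnd

end Sch

end Groth.Agent.Lib.Helper26.KerFlat
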