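import Mathlib
import Groth.Agent.Lib.Helper26.GrpQuotGen

/-!
# The largest open on which a homomorphism is universally open is an open subgroup (helper26)

Translation argument (SGA3 VI_B 2.2): let `u : G ⟶ H` be a homomorphism of `S`-groups and `V ⊆ G` an open
with `V ⟶ S` and `u|_V` universally open.  Then `u` is universally open on `V · V` and on `V⁻¹`.
-/

set_option autoImplicit false

universe u

open CategoryTheory AlgebraicGeometry MonoidalCategory CartesianMonoidalCategory MonObj GrpObj Limits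

namespace Groth.Agent.Lib.Helper26.MaxOpenSubgroup

/-- Universal openness descends along a surjective morphism on the source. -/
lemma universallyOpen_of_comp_surjective {X Y Z : Scheme.{u}} (p : X ⟶ Y) (f : Y ⟶ Z)
    [Surjective p] [UniversallyOpen (p ≫ f)] : UniversallyOpen f := by
  constructor
  intro X' Y' i₁ i₂ f' H
  have := UniversallyOpen.universally_isOpenMap _ _ _
    ((IsPullback.of_hasPullback i₁ p).paste_horiz H)
  exact IsOpenMap.of_comp (Scheme.Hom.continuous _)
    (MorphismProperty.pullback_fst (P := @Surjective) _ _ ‹_›).1 this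

section Shear

variable {C : Type*} [Category C] [CartesianMonoidalCategory C] {G : C} [GrpObj G] {T : C}

/-- The shear automorphism `(g, t) ↦ (g · x(t), t)` of `G ⊗ T`. -/
@[simps]
def shear (x : T ⟶ G) : G ⊗ T ≅ G ⊗ T where
  hom := lift (fst G T * (snd G T ≫ x)) (snd G T)
  inv := lift (fst G T * (snd G T ≫ x)⁻¹) (snd G T)
  hom_inv_id := by
    apply CartesianMonoidalCategory.hom_ext
    · rw [Category.assoc, lift_fst, MonObj.comp_mul, GrpObj.comp_inv, lift_fst, lift_snd_assoc,
        Category.id_comp, mul_inv_cancel_right]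
    · rw [Category.assoc, lift_snd, lift_snd, Category.id_comp]
  inv_hom_id := by
    apply CartesianMonoidalCategory.hom_ext
    · rw [Category.assoc, lift_fst, MonObj.comp_mul, lift_fst, lift_snd_assoc,
        Category.id_comp, inv_mul_cancel_right]
    · rw [Category.assoc, lift_snd, lift_snd, Category.id_comp]

lemma tensorHom_mul_eq (j : T ⟶ G) :
    (j ⊗ₘ j) ≫ μ[G] = (j ▷ T) ≫ (shear j).hom ≫ fst G T := by
  rw [shear_hom, lift_fst, MonObj.comp_mul, whiskerRight_fst, whiskerRight_snd_assoc,
    Hom.mul_def]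
  congr 1
  apply CartesianMonoidalCategory.hom_ext <;> simp

lemma tensorHom_mul_comp_eq {H : C} [GrpObj H] (j : T ⟶ G) (u : G ⟶ H) [IsMonHom u] :
    ((j ⊗ₘ j) ≫ μ[G]) ≫ u = ((j ≫ u) ▷ T) ≫ (shear (j ≫ u)).hom ≫ fst H T := by
  rw [← tensorHom_mul_eq, Category.assoc, IsMonHom.mul_hom, ← Category.assoc,
    ← MonoidalCategory.tensorHom_comp_tensorHom]

end Shear

section Sch

variable {S : Scheme.{u}} {G H : Over S} [GrpObj G] [GrpObj H] (u : G ⟶ H) [IsMonHom u]

lemma fst_left_universallyOpen (G T : Over S) [UniversallyOpen T.hom] :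
    UniversallyOpen (fst G T).left :=
  MorphismProperty.of_isPullback (P := @UniversallyOpen)
    (IsPullback.of_hasPullback G.hom T.hom).flip ‹_›

lemma whiskerRight_left_universallyOpen {X Y : Over S} (f : X ⟶ Y) (T : Over S)
    [hf : UniversallyOpen f.left] : UniversallyOpen (f ▷ T).left :=
  MorphismProperty.of_isPullback (P := @UniversallyOpen)
    ((Groth.Agent.Lib.Helper26.GrpQuotGen.isPullback_whiskerRight T f).map (Over.forget S)).flip hf

variable (V : G.left.Opens)

/-- `V` as an `S`-scheme. -/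
noncomputable abbrev VO : Over S := Over.mk (V.ι ≫ G.hom)

/-- The inclusion of `V` in `G`. -/
noncomputable abbrev jV : VO V ⟶ G := Over.homMk V.ι rfl

/-- The multiplication map `V ×_S V ⟶ G`. -/
noncomputable abbrev mV : VO V ⊗ VO V ⟶ G := (jV V ⊗ₘ jV V) ≫ μ[G]

lemma mV_left_universallyOpen [hTS : UniversallyOpen (V.ι ≫ G.hom)] :
    UniversallyOpen (mV V).left := by
  rw [mV, tensorHom_mul_eq, Over.comp_left, Over.comp_left]
  haveI : UniversallyOpen (VO V).hom := hTS
  haveI : UniversallyOpen (jV V).left := by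
    change UniversallyOpen V.ι
    infer_instance
  haveI := whiskerRight_left_universallyOpen (jV V) (VO V)
  haveI := fst_left_universallyOpen G (VO V)
  haveI : IsIso (shear (jV V)).hom.left := inferInstance
  infer_instance

lemma mV_comp_left_universallyOpen [hTS : UniversallyOpen (V.ι ≫ G.hom)]
    [hV : UniversallyOpen (V.ι ≫ u.left)] :
    UniversallyOpen ((mV V).left ≫ u.left) := by
  rw [← Over.comp_left, mV, tensorHom_mul_comp_eq, Over.comp_left, Over.comp_left]
  haveI : UniversallyOpen (VO V).hom := hTS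
  haveI : UniversallyOpen (jV V ≫ u).left := by
    change UniversallyOpen (V.ι ≫ u.left)
    infer_instance
  haveI := whiskerRight_left_universallyOpen (jV V ≫ u) (VO V)
  haveI := fst_left_universallyOpen H (VO V)
  haveI : IsIso (shear (jV V ≫ u)).hom.left := inferInstance
  infer_instance

/-- Every point of `G ×_S G` with both projections in `V` comes from `V ×_S V`. -/
lemma exists_preimage_tensorHom (z : ↥(G ⊗ G).left) (h1 : (fst G G).left.base z ∈ V)
    (h2 : (snd G G).left.base z ∈ V) :
    ∃ z' : ↥(VO V ⊗ VO V).left, (jV V ⊗ₘ jV V).left.base z' = z := by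
  have sq1 := (Groth.Agent.Lib.Helper26.GrpQuotGen.isPullback_whiskerLeft G (jV V)).map
    (Over.forget S)
  have sq2 := (Groth.Agent.Lib.Helper26.GrpQuotGen.isPullback_whiskerRight (VO V) (jV V)).map
    (Over.forget S)
  obtain ⟨y, hy1, hy2⟩ := Scheme.exists_preimage_of_isPullback sq1 z ⟨_, h2⟩ rfl
  have hy3 : (fst G (VO V)).left.base y ∈ V := by
    have : (fst G (VO V)).left = (G ◁ jV V).left ≫ (fst G G).left := by
      rw [← Over.comp_left, whiskerLeft_fst]
    rw [this, Scheme.Hom.comp_base, TopCat.comp_app]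
    change (fst G G).left.base ((G ◁ jV V).left.base y) ∈ V
    have hy1' : (G ◁ jV V).left.base y = z := hy1
    rw [hy1']
    exact h1
  obtain ⟨z', hz1, hz2⟩ := Scheme.exists_preimage_of_isPullback sq2 y ⟨_, hy3⟩ rfl
  refine ⟨z', ?_⟩
  have : (jV V ⊗ₘ jV V).left = (jV V ▷ VO V).left ≫ (G ◁ jV V).left := by
    rw [← Over.comp_left, MonoidalCategory.tensorHom_def]
  rw [this, Scheme.Hom.comp_base, TopCat.comp_app]
  have hz1' : (jV V ▷ VO V).left.base z' = y := hz1
  rw [hz1']
  exact hy1

/-- The product of two points of `V` lies in the largest open where `u` is universally open. -/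
theorem mul_mem [hTS : UniversallyOpen (V.ι ≫ G.hom)] [hV : UniversallyOpen (V.ι ≫ u.left)]
    (hmax : ∀ W : G.left.Opens, UniversallyOpen (W.ι ≫ u.left) → W ≤ V)
    (z : ↥(G ⊗ G).left) (h1 : (fst G G).left.base z ∈ V) (h2 : (snd G G).left.base z ∈ V) :
    μ[G].left.base z ∈ V := by
  haveI hm := mV_left_universallyOpen V
  haveI hmu := mV_comp_left_universallyOpen u V
  let W : G.left.Opens := ⟨Set.range (mV V).left.base, (mV V).left.isOpenMap.isOpen_range⟩
  have hW : Set.range (mV V).left.base ⊆ Set.range W.ι.base := by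
    rw [Scheme.Opens.range_ι]
    exact fun _ h => h
  let p : (VO V ⊗ VO V).left ⟶ W.toScheme := IsOpenImmersion.lift W.ι (mV V).left hW
  have hp : p ≫ W.ι = (mV V).left := IsOpenImmersion.lift_fac _ _ _
  haveI : Surjective p := by
    constructor
    intro w
    obtain ⟨x, hx⟩ : w.1 ∈ Set.range (mV V).left.base := w.2
    refine ⟨x, ?_⟩
    apply W.ι.isOpenEmbedding.injective
    have : W.ι.base (p.base x) = (p ≫ W.ι).base x := rfl
    rw [this, hp, hx]
    rfl
  haveI : UniversallyOpen (p ≫ W.ι ≫ u.left) := by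
    rw [← Category.assoc, hp]
    exact hmu
  have hWu : UniversallyOpen (W.ι ≫ u.left) := universallyOpen_of_comp_surjective p _
  have hle := hmax W hWu
  obtain ⟨z', hz'⟩ := exists_preimage_tensorHom V z h1 h2
  apply hle
  refine ⟨z', ?_⟩
  change ((jV V ⊗ₘ jV V) ≫ μ[G]).left.base z' = _
  rw [Over.comp_left, Scheme.Hom.comp_base, TopCat.comp_app]
  have : (jV V ⊗ₘ jV V).left.base z' = z := hz'
  rw [this]

/-- The inverse of a point of `V` lies in the largest open where `u` is universally open. -/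
theorem inv_mem [hV : UniversallyOpen (V.ι ≫ u.left)]
    (hmax : ∀ W : G.left.Opens, UniversallyOpen (W.ι ≫ u.left) → W ≤ V)
    (g : G.left) (hg : g ∈ V) : ι[G].left.base g ∈ V := by
  let W : G.left.Opens := ι[G].left ⁻¹ᵁ V
  have h1 : W.ι ≫ u.left = (ι[G].left ∣_ V) ≫ (V.ι ≫ u.left) ≫ ι[H].left := by
    have e1 : ι[G] ≫ u = u ≫ ι[H] := GrpObj.inv_hom u
    have e2 : ι[H] ≫ ι[H] = 𝟙 H := GrpObj.inv_comp_inv H
    have e1' : ι[G].left ≫ u.left = u.left ≫ ι[H].left := by
      rw [← Over.comp_left, e1, Over.comp_left]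
    have e2' : ι[H].left ≫ ι[H].left = 𝟙 _ := by
      rw [← Over.comp_left, e2, Over.id_left]
    rw [← Category.assoc, ← Category.assoc, morphismRestrict_ι, Category.assoc, Category.assoc,
      ← Category.assoc ι[G].left, e1', Category.assoc, e2', Category.comp_id]
  haveI : IsIso ι[G].left := by
    haveI : IsIso ι[G] := inferInstance
    exact inferInstanceAs (IsIso ((Over.forget S).map ι[G]))
  haveI : IsIso ι[H].left := by
    haveI : IsIso ι[H] := inferInstance
    exact inferInstanceAs (IsIso ((Over.forget S).map ι[H]))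
  haveI : UniversallyOpen (ι[G].left ∣_ V) := inferInstance
  haveI : UniversallyOpen ι[H].left := inferInstance
  have hWu : UniversallyOpen (W.ι ≫ u.left) := by
    rw [h1]
    infer_instance
  have hle := hmax W hWu
  apply hle
  change ι[G].left.base (ι[G].left.base g) ∈ V
  have e3 : ι[G] ≫ ι[G] = 𝟙 G := GrpObj.inv_comp_inv G
  have : ι[G].left.base (ι[G].left.base g) = (ι[G] ≫ ι[G]).left.base g := rfl
  rw [this, e3]
  exact hg

lemma universallyOpen_toBase (hG : UniversallyOpen G.hom ∨ UniversallyOpen H.hom)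
    [hV : UniversallyOpen (V.ι ≫ u.left)] : UniversallyOpen (V.ι ≫ G.hom) := by
  rcases hG with hG | hH
  · infer_instance
  · have : V.ι ≫ G.hom = (V.ι ≫ u.left) ≫ H.hom := by
      rw [Category.assoc, Over.w u]
    rw [this]
    infer_instance

/-- The unit of the fibre of a point of `V` lies in `V`. -/
theorem one_mem [hTS : UniversallyOpen (V.ι ≫ G.hom)] [hV : UniversallyOpen (V.ι ≫ u.left)]
    (hmax : ∀ W : G.left.Opens, UniversallyOpen (W.ι ≫ u.left) → W ≤ V)
    (g : G.left) (hg : g ∈ V) (p : ↥(𝟙_ (Over S)).left)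
    (hp : (𝟙_ (Over S)).hom.base p = G.hom.base g) : η[G].left.base p ∈ V := by
  have hp' : p = (toUnit G).left.base g := by
    have h1 : (toUnit G).left ≫ (𝟙_ (Over S)).hom = G.hom := Over.w (toUnit G)
    have h2 : (𝟙_ (Over S)).hom.base ((toUnit G).left.base g) = G.hom.base g := by
      rw [← h1]; rfl
    have h3 : (𝟙_ (Over S)).hom = 𝟙 S := rfl
    rw [h3] at hp h2
    exact hp.trans h2.symm
  let z : ↥(G ⊗ G).left := (lift (𝟙 G) ι[G]).left.base g
  have hz1 : (fst G G).left.base z = g := by
    change ((lift (𝟙 G) ι[G]) ≫ fst G G).left.base g = g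
    rw [lift_fst]; rfl
  have hz2 : (snd G G).left.base z = ι[G].left.base g := by
    change ((lift (𝟙 G) ι[G]) ≫ snd G G).left.base g = _
    rw [lift_snd]
  have hz := mul_mem u V hmax z (hz1 ▸ hg) (hz2 ▸ inv_mem u V hmax g hg)
  have : μ[G].left.base z = η[G].left.base p := by
    change ((lift (𝟙 G) ι[G]) ≫ μ[G]).left.base g = _
    rw [GrpObj.right_inv, hp']
    rfl
  rw [← this]
  exact hz

theorem main (hG : UniversallyOpen G.hom ∨ UniversallyOpen H.hom)
    (hV : UniversallyOpen (V.ι ≫ u.left))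
    (hmax : ∀ W : G.left.Opens, UniversallyOpen (W.ι ≫ u.left) → W ≤ V) :
    IsOpen (G.hom.base '' (V : Set G.left)) ∧
    (∀ g ∈ V, ∀ p : ↥(𝟙_ (Over S)).left, (𝟙_ (Over S)).hom.base p = G.hom.base g →
      η[G].left.base p ∈ V) ∧
    (∀ g ∈ V, ι[G].left.base g ∈ V) ∧
    (∀ z : ↥(G ⊗ G).left, (fst G G).left.base z ∈ V → (snd G G).left.base z ∈ V →
      μ[G].left.base z ∈ V) := by
  haveI := hV
  haveI hTS := universallyOpen_toBase u V hG
  refine ⟨?_, fun g hg p hp => one_mem u V hmax g hg p hp, fun g hg => inv_mem u V hmax g hg,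
    fun z h1 h2 => mul_mem u V hmax z h1 h2⟩
  have : G.hom.base '' (V : Set G.left) = Set.range (V.ι ≫ G.hom).base := by
    rw [Scheme.Hom.comp_base, TopCat.coe_comp, Set.range_comp, Scheme.Opens.range_ι]
  rw [this]
  exact (V.ι ≫ G.hom).isOpenMap.isOpen_range

end Sch

end Groth.Agent.Lib.Helper26.MaxOpenSubgroup
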