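import Groth.Agent.Lib.Helper26.DiagComod
import Groth.Prelude.Def_SGA3b
import Mathlib.LinearAlgebra.TensorProduct.Quotient
import Mathlib.RingTheory.Coalgebra.Convolution
import Mathlib.RingTheory.Coalgebra.TensorProduct
import Mathlib.RingTheory.Flat.FaithfullyFlat.Algebra
import Mathlib.RingTheory.HopfAlgebra.TensorProduct
import Mathlib.RingTheory.LocalProperties.Submodule
import Mathlib.RingTheory.Localization.BaseChange

/-!
# Rigidity of homomorphisms from groups of multiplicative type modulo a nilpotent ideal (helper26)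

Idempotent argument in the convolution algebra `Hom_R(C, K)`.
-/

set_option autoImplicit false
open TensorProduct Coalgebra
open scoped Classical
universe u

namespace Groth.Agent.Lib.Helper26.MultRigid
open Groth.Agent.Lib.Helper26.DiagComod

section Conv
variable {R : Type u} [CommRing R] {K : Type u} [CommRing K] [Algebra R K]
  {C : Type u} [AddCommGroup C] [Module R C] [Coalgebra R C]

lemma val_mul (𝔞 𝔟 : Ideal K) (F G : WithConv (C →ₗ[R] K)) (hF : ∀ x, F x ∈ 𝔞)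
    (hG : ∀ x, G x ∈ 𝔟) (c : C) : (F * G) c ∈ 𝔞 * 𝔟 := by
  rw [(ℛ R c).convMul_apply]
  exact Ideal.sum_mem _ fun i _ => Ideal.mul_mem_mul (hF _) (hG _)

lemma idem_eq_zero (J : Ideal K) (hJ : IsNilpotent J) (E : WithConv (C →ₗ[R] K))
    (hE : E * E = E) (hval : ∀ x, E x ∈ J) : E = 0 := by
  have key : ∀ k : ℕ, ∀ x, E x ∈ J ^ (k + 1) := by
    intro k
    induction k with
    | zero => simpa using hval
    | succ k ih =>
      intro x
      rw [← hE, pow_succ]
      exact val_mul _ _ E E ih hval x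
  obtain ⟨n, hn⟩ := hJ
  ext x
  have := key n x
  rw [pow_succ, hn, Ideal.zero_eq_bot, Ideal.bot_mul] at this
  simpa using this

end Conv

section BC
variable {R : Type u} [CommRing R] {S : Type u} [CommRing S] [Algebra R S]
  {A : Type u} [AddCommGroup A] [Module R A] [Coalgebra R A]

lemma bc_comul {ι : Type*} (a : A) (𝓡 : Coalgebra.Repr R a ι) :
    Coalgebra.comul (R := S) ((1 : S) ⊗ₜ[R] a) =
      ∑ i ∈ 𝓡.index, ((1 : S) ⊗ₜ[R] 𝓡.left i) ⊗ₜ[S] ((1 : S) ⊗ₜ[R] 𝓡.right i) := by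
  rw [TensorProduct.comul_tmul, ← 𝓡.eq, tmul_sum, map_sum]
  rfl

lemma bc_counit (a : A) :
    Coalgebra.counit (R := S) ((1 : S) ⊗ₜ[R] a) = algebraMap R S (Coalgebra.counit a) := by
  rw [TensorProduct.counit_tmul, CommSemiring.counit_apply, Algebra.smul_def, mul_one]

/-- the representation of `1 ⊗ a` induced by a representation of `a` -/
noncomputable def bcRepr {ι : Type*} (a : A) (𝓡 : Coalgebra.Repr R a ι) :
    Coalgebra.Repr S ((1 : S) ⊗ₜ[R] a) ι where
  index := 𝓡.index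
  left i := (1 : S) ⊗ₜ[R] 𝓡.left i
  right i := (1 : S) ⊗ₜ[R] 𝓡.right i
  eq := (bc_comul a 𝓡).symm

end BC

open Groth.Agent.Lib.Helper26.DiagComod

section Coef
variable {R : Type u} [CommRing R] {K : Type u} [CommRing K] [Algebra R K] {M : Type u} [CommGroup M]
  {C : Type u} [AddCommGroup C] [Module R C] [Coalgebra R C]

/-- `Ψ` is compatible with comultiplications (relative to `R → K`). -/
def IsRel (Ψ : C →ₗ[R] MonoidAlgebra K M) : Prop :=
  ∀ c : C, Coalgebra.comul (R := K) (Ψ c) =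
    ∑ i ∈ (ℛ R c).index, Ψ ((ℛ R c).left i) ⊗ₜ[K] Ψ ((ℛ R c).right i)

noncomputable def coef (Ψ : C →ₗ[R] MonoidAlgebra K M) (m : M) : WithConv (C →ₗ[R] K) :=
  WithConv.toConv ((ev m).restrictScalars R ∘ₗ Ψ)

lemma coef_apply (Ψ : C →ₗ[R] MonoidAlgebra K M) (m : M) (c : C) : coef Ψ m c = ev m (Ψ c) := rfl

lemma evv_tmul (n m : M) (x y : MonoidAlgebra K M) : evv n m (x ⊗ₜ y) = ev n x * ev m y := by
  simp [evv]

lemma coef_mul (Ψ : C →ₗ[R] MonoidAlgebra K M) (hΨ : IsRel Ψ) (n m : M) :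
    coef Ψ n * coef Ψ m = if n = m then coef Ψ m else 0 := by
  ext c
  rw [(ℛ R c).convMul_apply]
  simp only [coef_apply]
  have h1 : ∑ i ∈ (ℛ R c).index, ev n (Ψ ((ℛ R c).left i)) * ev m (Ψ ((ℛ R c).right i)) =
      evv n m (Coalgebra.comul (R := K) (Ψ c)) := by
    rw [hΨ c, map_sum]
    simp only [evv_tmul]
  rw [h1]
  have := LinearMap.congr_fun (evv_comul (k := K) n m) (Ψ c)
  rw [LinearMap.comp_apply] at this
  rw [this]
  split_ifs <;> simp [coef_apply]

end Coef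

open Groth.Agent.Lib.Helper26.DiagComod

section Core
variable {R : Type u} [CommRing R] {K : Type u} [CommRing K] [Algebra R K] {M : Type u} [CommGroup M]
  {C : Type u} [AddCommGroup C] [Module R C] [Coalgebra R C]

lemma ma_ext {a b : MonoidAlgebra K M} (h : ∀ m, ev m a = ev m b) : a = b := by
  apply (MonoidAlgebra.coeffLinearEquiv K).injective
  ext m
  exact h m

theorem core_trivial (Ψ : C →ₗ[R] MonoidAlgebra K M) (hΨ : IsRel Ψ)
    (hε : ∀ c, Coalgebra.counit (R := K) (Ψ c) = algebraMap R K (Coalgebra.counit c))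
    (J : Ideal K) (hJ : IsNilpotent J) (h : ∀ c, ∀ m : M, m ≠ 1 → ev m (Ψ c) ∈ J) (c : C) :
    Ψ c = MonoidAlgebra.single 1 (algebraMap R K (Coalgebra.counit c)) := by
  have h0 : ∀ m : M, m ≠ 1 → ∀ x, ev m (Ψ x) = 0 := by
    intro m hm x
    have hE : coef Ψ m * coef Ψ m = coef Ψ m := by rw [coef_mul Ψ hΨ, if_pos rfl]
    have := idem_eq_zero J hJ (coef Ψ m) hE (fun x => h x m hm)
    rw [← coef_apply, this]
    rfl
  have h1 : Ψ c = MonoidAlgebra.single 1 (ev 1 (Ψ c)) := by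
    apply ma_ext
    intro m
    rw [ev_single]
    by_cases hm : (1 : M) = m
    · rw [if_pos hm, hm]
    · rw [if_neg hm]
      exact h0 m (Ne.symm hm) c
  have h2 : ev 1 (Ψ c) = algebraMap R K (Coalgebra.counit c) := by
    rw [← hε c]
    conv_rhs => rw [h1]
    rw [MonoidAlgebra.counit_single, CommSemiring.counit_apply]
  rw [← h2]
  exact h1

theorem core_eq [Coalgebra.IsCocomm R C] (Ψ₁ Ψ₂ : C →ₗ[R] MonoidAlgebra K M) (h₁ : IsRel Ψ₁)
    (h₂ : IsRel Ψ₂) (J : Ideal K) (hJ : IsNilpotent J)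
    (h : ∀ c, ∀ m : M, ev m (Ψ₁ c) - ev m (Ψ₂ c) ∈ J) : Ψ₁ = Ψ₂ := by
  have key : ∀ (P Q : WithConv (C →ₗ[R] K)), P * P = P → Q * Q = Q → (∀ x, (P - Q) x ∈ J) →
      P = P * Q := by
    intro P Q hP hQ hPQ
    have hE : (P * (1 - Q)) * (P * (1 - Q)) = P * (1 - Q) := by
      have h1 : (1 - Q) * (1 - Q) = 1 - Q := by
        have : (1 - Q) * (1 - Q) = 1 - Q - Q + Q * Q := by ring
        rw [this, hQ]
        ring
      rw [mul_mul_mul_comm, hP, h1]
    have hval : ∀ x, (P * (1 - Q)) x ∈ J := by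
      intro x
      have h1 : P * (1 - Q) = (P - Q) * (1 - Q) := by
        have : (P - Q) * (1 - Q) = P * (1 - Q) - (Q - Q * Q) := by ring
        rw [this, hQ, sub_self, sub_zero]
      rw [h1]
      have := val_mul J ⊤ (P - Q) (1 - Q) hPQ (fun _ => Submodule.mem_top) x
      rwa [Ideal.mul_top] at this
    have := idem_eq_zero J hJ _ hE hval
    have h2 : P * (1 - Q) = P - P * Q := by ring
    rw [h2, sub_eq_zero] at this
    exact this
  ext c : 1
  apply ma_ext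
  intro m
  have hP : coef Ψ₁ m * coef Ψ₁ m = coef Ψ₁ m := by rw [coef_mul Ψ₁ h₁, if_pos rfl]
  have hQ : coef Ψ₂ m * coef Ψ₂ m = coef Ψ₂ m := by rw [coef_mul Ψ₂ h₂, if_pos rfl]
  have e1 := key (coef Ψ₁ m) (coef Ψ₂ m) hP hQ (fun x => h x m)
  have e2 := key (coef Ψ₂ m) (coef Ψ₁ m) hQ hP (fun x => by
    have := J.neg_mem (h x m)
    rw [neg_sub] at this
    exact this)
  have : coef Ψ₁ m = coef Ψ₂ m := by
    calc coef Ψ₁ m = coef Ψ₁ m * coef Ψ₂ m := e1
      _ = coef Ψ₂ m * coef Ψ₁ m := mul_comm _ _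
      _ = coef Ψ₂ m := e2.symm
  rw [← coef_apply, ← coef_apply, this]

end Core

open Groth.Agent.Lib.Helper26.DiagComod

section Theta
variable {R : Type u} [CommRing R] {A : Type u} [CommRing A] [HopfAlgebra R A]
  {R₁ : Type u} [CommRing R₁] [Algebra R R₁]
  {R₂ : Type u} [CommRing R₂] [Algebra R₁ R₂] [Algebra R R₂] [IsScalarTower R R₁ R₂]
  {M : Type u} [CommGroup M]
  (e : R₂ ⊗[R₁] (R₁ ⊗[R] A) ≃ₐc[R₂] MonoidAlgebra R₂ M)

/-- `a ↦ e (1 ⊗ (1 ⊗ a))` -/
noncomputable def Θ : A →ₗ[R] MonoidAlgebra R₂ M where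
  toFun a := e ((1 : R₂) ⊗ₜ[R₁] ((1 : R₁) ⊗ₜ[R] a))
  map_add' a b := by rw [tmul_add, tmul_add, map_add]
  map_smul' r a := by
    simp only [RingHom.id_apply]
    rw [tmul_smul, ← algebraMap_smul R₁ r ((1 : R₁) ⊗ₜ[R] a), tmul_smul,
      ← algebraMap_smul R₂ (algebraMap R R₁ r) ((1 : R₂) ⊗ₜ[R₁] ((1 : R₁) ⊗ₜ[R] a)), map_smul,
      ← IsScalarTower.algebraMap_apply, algebraMap_smul]

lemma Θ_apply (a : A) : Θ e a = e ((1 : R₂) ⊗ₜ[R₁] ((1 : R₁) ⊗ₜ[R] a)) := rfl

lemma Θ_one : Θ e (1 : A) = 1 := by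
  rw [Θ_apply, ← Algebra.TensorProduct.one_def, ← Algebra.TensorProduct.one_def, map_one]

lemma Θ_comul {ι : Type*} (a : A) (𝓡 : Coalgebra.Repr R a ι) :
    Coalgebra.comul (R := R₂) (Θ e a) =
      ∑ i ∈ 𝓡.index, Θ e (𝓡.left i) ⊗ₜ[R₂] Θ e (𝓡.right i) :=
  ((bcRepr (S := R₂) _ (bcRepr (S := R₁) a 𝓡)).induced e).eq.symm

lemma Θ_counit (a : A) :
    Coalgebra.counit (R := R₂) (Θ e a) = algebraMap R R₂ (Coalgebra.counit a) := by
  rw [Θ_apply, CoalgHomClass.counit_comp_apply, bc_counit, bc_counit,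
    ← IsScalarTower.algebraMap_apply]

lemma Θ_inj [Module.FaithfullyFlat R₁ R₂] {x y : A} (h : Θ e x = Θ e y) :
    (1 : R₁) ⊗ₜ[R] x = (1 : R₁) ⊗ₜ[R] y := by
  have h1 := e.injective h
  exact Module.FaithfullyFlat.tensorProduct_mk_injective (A := R₁) (B := R₂) _ h1

end Theta

open Groth.Agent.Lib.Helper26.DiagComod SGA3b

section Main
variable (R : Type u) [CommRing R] (I : Ideal R) (A : Type u) [CommRing A] [HopfAlgebra R A]

lemma sub_mem_of_tmul_eq {x y : A} (h : (1 : R ⧸ I) ⊗ₜ[R] x = (1 : R ⧸ I) ⊗ₜ[R] y) :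
    x - y ∈ I • (⊤ : Submodule R A) := by
  have := congrArg (TensorProduct.quotTensorEquivQuotSMul A I) h
  change (TensorProduct.quotTensorEquivQuotSMul A I) (Ideal.Quotient.mk I 1 ⊗ₜ[R] x) =
    (TensorProduct.quotTensorEquivQuotSMul A I) (Ideal.Quotient.mk I 1 ⊗ₜ[R] y) at this
  rw [TensorProduct.quotTensorEquivQuotSMul_mk_tmul, TensorProduct.quotTensorEquivQuotSMul_mk_tmul,
    one_smul, one_smul] at this
  exact (Submodule.Quotient.eq _).mp this

variable {R I A}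
variable {R₁ : Type u} [CommRing R₁] [Algebra R R₁]
  {R₂ : Type u} [CommRing R₂] [Algebra R₁ R₂] [Algebra R R₂] [IsScalarTower R R₁ R₂]
  {M : Type u} [CommGroup M]
  (e : R₂ ⊗[R₁] (R₁ ⊗[R] A) ≃ₐc[R₂] MonoidAlgebra R₂ M)

lemma ev_Θ_mem (m : M) {x : A} (hx : x ∈ I • (⊤ : Submodule R A)) :
    ev m (Θ e x) ∈ Ideal.map (algebraMap R R₂) I := by
  refine Submodule.smul_induction_on hx ?_ ?_
  · intro i hi a _
    rw [map_smul, ← algebraMap_smul R₂ i (Θ e a), map_smul, smul_eq_mul]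
    exact Ideal.mul_mem_right _ _ (Ideal.mem_map_of_mem _ hi)
  · intro x y hx hy
    rw [map_add, map_add]
    exact Ideal.add_mem _ hx hy

lemma isNilpotent_map (hI : IsNilpotent I) : IsNilpotent (Ideal.map (algebraMap R R₂) I) := by
  obtain ⟨n, hn⟩ := hI
  refine ⟨n, ?_⟩
  rw [← Ideal.map_pow, hn, Ideal.zero_eq_bot, Ideal.map_bot, Ideal.zero_eq_bot]

lemma Θ_algebraMap (r : R) :
    Θ e (algebraMap R A r) = MonoidAlgebra.single 1 (algebraMap R R₂ r) := by
  rw [Algebra.algebraMap_eq_smul_one, map_smul, Θ_one, MonoidAlgebra.one_def,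
    ← algebraMap_smul R₂ r (MonoidAlgebra.single (1 : M) (1 : R₂)), MonoidAlgebra.smul_single,
    smul_eq_mul, mul_one]

variable {C : Type u} [CommRing C] [HopfAlgebra R C]

lemma isRel_comp (φ : C →ₐc[R] A) : IsRel ((Θ e) ∘ₗ (φ : C →ₗ[R] A)) := by
  intro c
  exact Θ_comul e (φ c) ((ℛ R c).induced φ)

end Main

open Groth.Agent.Lib.Helper26.DiagComod SGA3b

/-- Detection: two elements of `A` are equal if they agree after all the local diagonalising base changes. -/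
theorem detect (R : Type u) [CommRing R] (A : Type u) [CommRing A] [HopfAlgebra R A]
    (hH : IsMultType R A) (x y : A)
    (h : ∀ (f : R) (R₂ : Type u) [CommRing R₂] [Algebra (Localization.Away f) R₂] [Algebra R R₂]
      [IsScalarTower R (Localization.Away f) R₂] [Module.FaithfullyFlat (Localization.Away f) R₂]
      (M : Type u) [CommGroup M]
      (e : R₂ ⊗[Localization.Away f] (Localization.Away f ⊗[R] A) ≃ₐc[R₂] MonoidAlgebra R₂ M),
      Θ e x = Θ e y) : x = y := by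
  obtain ⟨s, hs, hloc⟩ := hH
  refine Module.eq_of_isLocalized_span s hs (fun r : s => Localization.Away r.1 ⊗[R] A)
    (fun r : s => TensorProduct.mk R (Localization.Away r.1) A 1) x y ?_
  rintro ⟨f, hf⟩
  obtain ⟨R₂, instR₂, instAlg, hff, M, instM, ⟨e⟩⟩ := hloc f hf
  letI : Algebra R R₂ :=
    ((algebraMap (Localization.Away f) R₂).comp (algebraMap R (Localization.Away f))).toAlgebra
  haveI : IsScalarTower R (Localization.Away f) R₂ := IsScalarTower.of_algebraMap_eq (fun _ => rfl)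
  exact Θ_inj e (h f R₂ M e)

theorem trivial_of_reduction (R : Type u) [CommRing R] (I : Ideal R) (hI : IsNilpotent I)
    (A : Type u) [CommRing A] [HopfAlgebra R A] (hH : IsMultType R A)
    (C : Type u) [CommRing C] [HopfAlgebra R C] (φ : C →ₐc[R] A)
    (h0 : ∀ c : C, (1 : R ⧸ I) ⊗ₜ[R] (φ c) =
      (1 : R ⧸ I) ⊗ₜ[R] (algebraMap R A (Coalgebra.counit c))) :
    ∀ c : C, φ c = algebraMap R A (Coalgebra.counit c) := by
  intro c
  apply detect R A hH
  intro f R₂ _ _ _ _ _ M _ e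
  have hcore := core_trivial ((Θ e) ∘ₗ (φ : C →ₗ[R] A)) (isRel_comp e φ)
    (fun c => by
      rw [LinearMap.comp_apply, Θ_counit]
      congr 1
      exact CoalgHomClass.counit_comp_apply φ c)
    (Ideal.map (algebraMap R R₂) I) (isNilpotent_map hI)
    (fun c m hm => by
      rw [LinearMap.comp_apply]
      have hx := sub_mem_of_tmul_eq R I A (h0 c)
      have h1 : (φ : C →ₗ[R] A) c = (φ c - algebraMap R A (Coalgebra.counit c)) +
          algebraMap R A (Coalgebra.counit c) := by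
        change φ c = _
        ring
      rw [h1, map_add, map_add, Θ_algebraMap, ev_single, if_neg (Ne.symm hm), add_zero]
      exact ev_Θ_mem e m hx) c
  rw [LinearMap.comp_apply] at hcore
  rw [Θ_algebraMap]
  exact hcore

theorem eq_of_reduction (R : Type u) [CommRing R] (I : Ideal R) (hI : IsNilpotent I)
    (A : Type u) [CommRing A] [HopfAlgebra R A] (hH : IsMultType R A)
    (C : Type u) [CommRing C] [HopfAlgebra R C] [Coalgebra.IsCocomm R C] (φ ψ : C →ₐc[R] A)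
    (h0 : ∀ c : C, (1 : R ⧸ I) ⊗ₜ[R] (φ c) = (1 : R ⧸ I) ⊗ₜ[R] (ψ c)) :
    φ = ψ := by
  ext c
  apply detect R A hH
  intro f R₂ _ _ _ _ _ M _ e
  have hcore := core_eq ((Θ e) ∘ₗ (φ : C →ₗ[R] A)) ((Θ e) ∘ₗ (ψ : C →ₗ[R] A))
    (isRel_comp e φ) (isRel_comp e ψ)
    (Ideal.map (algebraMap R R₂) I) (isNilpotent_map hI)
    (fun c m => by
      rw [LinearMap.comp_apply, LinearMap.comp_apply, ← map_sub, ← map_sub]
      exact ev_Θ_mem e m (sub_mem_of_tmul_eq R I A (h0 c)))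
  exact LinearMap.congr_fun hcore c

end Groth.Agent.Lib.Helper26.MultRigid
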