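import Groth.Agent.Lib.Helper26.NeronTorsor
import Mathlib.RingTheory.Smooth.Flat
import Mathlib.RingTheory.Flat.TorsionFree
import Mathlib.RingTheory.Algebraic.Basic
import Mathlib.RingTheory.Localization.BaseChange
import Mathlib.Algebra.Category.Ring.Constructions
import Mathlib.AlgebraicGeometry.Morphisms.Etale

/-!
# Base change of the Néron mapping property along a smooth morphism

Let `j : S₀ ⟶ S`, `f : S' ⟶ S` smooth and `j' : S₀' ⟶ S'` the base change of `j`.  If `N` over `S`
has the mapping property `Hom_S(Y, N) ≅ Hom_S(Y ×_S S₀, N)` for smooth `Y`, then `f^* N` has the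
mapping property over `S'` with respect to `j'`.

Application: Néron models over Dedekind domains are stable under finite étale extensions of
Dedekind domains.
-/

set_option autoImplicit false
open CategoryTheory CategoryTheory.Limits AlgebraicGeometry Opposite
universe u

namespace Groth.Agent.Lib.Helper26.NeronEtaleBC

open Groth.Agent.Lib.Helper26.NeronTorsor

section Alg

/-- If `S` is a localization at `N`, `M ≤ N` and every element of `N` divides an element of `M`, then
`S` is a localization at `M`. -/
theorem isLocalization_of_le_of_exists_dvd {R S : Type*} [CommRing R] [CommRing S] [Algebra R S]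
    (M N : Submonoid R) [IsLocalization N S] (h₁ : M ≤ N) (h₂ : ∀ n ∈ N, ∃ m ∈ M, n ∣ m) :
    IsLocalization M S :=
  (IsLocalization.iff_of_le_of_exists_dvd M N h₁ h₂).mpr inferInstance

variable (R R' : Type u) [CommRing R] [IsDomain R] [CommRing R'] [IsDomain R'] [Algebra R R']

/-- For a flat integral extension of domains `R ⊆ R'`, `Frac R'` is the localization of `R'` at the
nonzero elements of `R`. -/
theorem isLocalization_fractionRing [Module.Flat R R'] [Algebra.IsIntegral R R'] :
    IsLocalization ((nonZeroDivisors R).map (algebraMap R R')) (FractionRing R') := by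
  have hinj := FaithfulSMul.algebraMap_injective R R'
  refine isLocalization_of_le_of_exists_dvd _ (nonZeroDivisors R') ?_ ?_
  · rintro _ ⟨r, hr, rfl⟩
    exact map_mem_nonZeroDivisors _ hinj hr
  · intro b hb
    obtain ⟨r, hr, hdvd⟩ := (Algebra.IsIntegral.isIntegral (R := R) b).isAlgebraic.exists_nonzero_dvd hb
    exact ⟨algebraMap R R' r, ⟨r, mem_nonZeroDivisors_of_ne_zero hr, rfl⟩, hdvd⟩

/-- The generic point of `Spec R'` is the base change of the generic point of `Spec R`. -/
theorem exists_isPullback_genPt [Module.Flat R R'] [Algebra.IsIntegral R R'] :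
    ∃ φ : Spec (CommRingCat.of (FractionRing R')) ⟶ Spec (CommRingCat.of (FractionRing R)),
      IsPullback (Neron.genPt R') φ (Spec.map (CommRingCat.ofHom (algebraMap R R')))
        (Neron.genPt R) := by
  have hinj := FaithfulSMul.algebraMap_injective R R'
  haveI := isLocalization_fractionRing R R'
  have hu : ∀ y : nonZeroDivisors R,
      IsUnit (((algebraMap R' (FractionRing R')).comp (algebraMap R R')) y) := by
    intro y
    apply IsUnit.mk0
    simp only [RingHom.coe_comp, Function.comp_apply, ne_eq]
    rw [map_eq_zero_iff _ (IsFractionRing.injective R' (FractionRing R')),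
      map_eq_zero_iff _ hinj]
    exact nonZeroDivisors.coe_ne_zero y
  let fK : FractionRing R →+* FractionRing R' := IsLocalization.lift hu
  have H : fK.comp (algebraMap R (FractionRing R)) =
      (algebraMap R' (FractionRing R')).comp (algebraMap R R') := IsLocalization.lift_comp hu
  have po := CommRingCat.isPushout_of_isLocalization (algebraMap R R') fK H (nonZeroDivisors R)
  exact ⟨Spec.map (CommRingCat.ofHom fK), isPullback_SpecMap_of_isPushout _ _ _ _ po⟩

end Alg

section Cat
variable {S S' S₀ S₀' : Scheme.{u}} {j : S₀ ⟶ S} {f : S' ⟶ S} {j' : S₀' ⟶ S'} {φ : S₀' ⟶ S₀}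

/-- The generic fibre of `Y'` over `S'` is the generic fibre of `Y'` regarded over `S`. -/
theorem isPullback_big (sq : IsPullback j' φ f j) (Y' : Over S') :
    IsPullback (pullback.fst Y'.hom j') (pullback.snd Y'.hom j' ≫ φ) (Y'.hom ≫ f) j :=
  (IsPullback.of_hasPullback Y'.hom j').paste_vert sq

/-- The comparison isomorphism `f_!(Y' ×_{S'} S₀') ≅ (f_! Y') ×_S S₀`. -/
noncomputable def θ (sq : IsPullback j' φ f j) (Y' : Over S') :
    (Over.map f).obj ((gf j').obj Y') ≅ (gf j).obj ((Over.map f).obj Y') :=
  Over.isoMk (isPullback_big sq Y').isoPullback (by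
    simp only [gf, Functor.comp_obj, Over.map_obj_hom, Over.pullback_obj_hom,
      Over.map_obj_left, Over.pullback_obj_left]
    rw [← Category.assoc]
    erw [(isPullback_big sq Y').isoPullback_hom_snd]
    rw [Category.assoc, Category.assoc, sq.w])

theorem θ_hom_ε (sq : IsPullback j' φ f j) (Y' : Over S') :
    (θ sq Y').hom ≫ (ε j).app ((Over.map f).obj Y') = (Over.map f).map ((ε j').app Y') := by
  apply Over.OverMorphism.ext
  rw [Over.comp_left, ε_app_left, Over.map_map_left, ε_app_left]
  exact (isPullback_big sq Y').isoPullback_hom_fst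

/-- **Base change of the mapping property along a smooth morphism.** -/
theorem bijective_pullback_of_smooth (sq : IsPullback j' φ f j) [Smooth f] (N : Over S)
    (hN : ∀ Y : Over S, Smooth Y.hom → Function.Bijective (fun g : Y ⟶ N => (ε j).app Y ≫ g))
    (Y' : Over S') (hY' : Smooth Y'.hom) :
    Function.Bijective (fun g : Y' ⟶ (Over.pullback f).obj N => (ε j').app Y' ≫ g) := by
  haveI := hY'
  have hY : Smooth ((Over.map f).obj Y').hom := by
    rw [Over.map_obj_hom]
    infer_instance
  have h1 := hN _ hY
  let E₁ := (Over.mapPullbackAdj f).homEquiv Y' N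
  let E₂ := (Over.mapPullbackAdj f).homEquiv ((gf j').obj Y') N
  have e : (fun g : Y' ⟶ (Over.pullback f).obj N => (ε j').app Y' ≫ g) =
      E₂ ∘ (fun h => (θ sq Y').hom ≫ h) ∘
        (fun g : (Over.map f).obj Y' ⟶ N => (ε j).app ((Over.map f).obj Y') ≫ g) ∘ E₁.symm := by
    funext g
    simp only [Function.comp_apply]
    rw [← Category.assoc, θ_hom_ε]
    change _ = (Over.mapPullbackAdj f).homEquiv _ _ _
    rw [Adjunction.homEquiv_naturality_left]
    change _ = _ ≫ E₁ (E₁.symm g)
    rw [Equiv.apply_symm_apply]
  rw [e]
  refine E₂.bijective.comp (Function.Bijective.comp ?_ (h1.comp E₁.symm.bijective))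
  refine ⟨fun a b h => ?_, fun a => ⟨(θ sq Y').inv ≫ a, ?_⟩⟩
  · exact (cancel_epi (θ sq Y').hom).1 h
  · simp

end Cat

section Neron

/-- Néron models are stable under integral étale extensions of domains. -/
theorem isNeronModelOf_pullback (R R' : Type u) [CommRing R] [IsDomain R]
    [CommRing R'] [IsDomain R'] [Algebra R R'] [Algebra.IsIntegral R R'] [Algebra.Etale R R']
    (N : Over (Spec (CommRingCat.of R)))
    (hN : Neron.IsNeronModelOf R N ((Neron.genericFibre R).obj N) (Iso.refl _)) :
    Neron.IsNeronModelOf R'
      ((Over.pullback (Spec.map (CommRingCat.ofHom (algebraMap R R')))).obj N)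
      ((Neron.genericFibre R').obj
        ((Over.pullback (Spec.map (CommRingCat.ofHom (algebraMap R R')))).obj N))
      (Iso.refl _) := by
  obtain ⟨hsm, hsep, hlft, hqc, hnmp⟩ := hN
  obtain ⟨φ, sq⟩ := exists_isPullback_genPt R R'
  haveI hf : Etale (Spec.map (CommRingCat.ofHom (algebraMap R R'))) := by
    rw [HasRingHomProperty.Spec_iff (P := @Etale)]
    exact RingHom.etale_algebraMap.mpr inferInstance
  refine ⟨?_, ?_, ?_, ?_, fun Y' hY' => ?_⟩
  · change Smooth (pullback.snd N.hom _); infer_instance
  · change IsSeparated (pullback.snd N.hom _); infer_instance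
  · change LocallyOfFiniteType (pullback.snd N.hom _); infer_instance
  · change QuasiCompact (pullback.snd N.hom _); infer_instance
  · have hG : ∀ Y : Over (Spec (CommRingCat.of R)), Smooth Y.hom →
        Function.Bijective (fun g : Y ⟶ N => (ε (Neron.genPt R)).app Y ≫ g) := by
      intro Y hY
      rw [← bijective_pullback_map_iff]
      have := hnmp Y hY
      simpa using this
    have := bijective_pullback_of_smooth sq N hG Y' hY'
    rw [← bijective_pullback_map_iff] at this
    simpa using this

end Neron

end Groth.Agent.Lib.Helper26.NeronEtaleBC
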