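import Mathlib
import Groth.Agent.Lib.Helper26.NeronTorsor
import Groth.Agent.Lib.Helper26.EtaleTorsorNormal
import Groth.Agent.Lib.Helper16.FibreSurj
import Groth.Agent.Lib.Helper68.SmoothQuot

/-!
# Extensions of group schemes with the Néron mapping property (helper26)

* `isPullback_shear`: for a kernel `i : G' ⟶ G` of `q : G ⟶ G''` the shear square
  `G' × G ⟶ G ×_{G''} G` is cartesian.
* `smooth_of_isKernel`: a flat surjective homomorphism with smooth kernel is smooth.
* `nmp_of_extension`: the Néron mapping property passes to extensions.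
-/

set_option autoImplicit false
universe u
open CategoryTheory CategoryTheory.Limits AlgebraicGeometry MonoidalCategory
  CartesianMonoidalCategory MonObj GrpObj

namespace Groth.Agent.Lib.Helper26.NeronExt

open Groth.Agent.Lib.Helper26.NeronTorsor

section shear

variable {S : Scheme.{u}} {G' G G'' : Over S} [GrpObj G'] [GrpObj G] [GrpObj G'']
  (i : G' ⟶ G) (q : G ⟶ G'') [IsMonHom q] (hker : AlgGrp.IsKernel i q)

omit [GrpObj G'] [GrpObj G] [IsMonHom q] in
include hker in
theorem comp_eq_one : i ≫ q = 1 := by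
  have := hker.w
  rw [this, Hom.one_def]

omit [GrpObj G'] [GrpObj G] [IsMonHom q] in
include hker in
theorem mono_of_isKernel : Mono i := by
  constructor
  intro T a b hab
  apply hker.hom_ext hab
  exact toUnit_unique _ _

/-- a point of `G` killed by `q` factors through the kernel -/
noncomputable def kerLift {T : Over S} (d : T ⟶ G) (hd : d ≫ q = 1) : T ⟶ G' :=
  hker.lift d (toUnit T) (by rw [hd, Hom.one_def])

omit [GrpObj G'] [GrpObj G] [IsMonHom q] in
theorem kerLift_comp {T : Over S} (d : T ⟶ G) (hd : d ≫ q = 1) :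
    kerLift i q hker d hd ≫ i = d :=
  hker.lift_fst _ _ _

omit [GrpObj G'] in
include hker in
/-- the shear square -/
theorem isPullback_shear : IsPullback ((fst G' G ≫ i) * snd G' G) (snd G' G) q q := by
  haveI := mono_of_isKernel i q hker
  have hcomm : ((fst G' G ≫ i) * snd G' G) ≫ q = snd G' G ≫ q := by
    rw [MonObj.mul_comp, Category.assoc, comp_eq_one i q hker, MonObj.comp_one, _root_.one_mul]
  have hcond : ∀ s : PullbackCone q q, (s.fst * s.snd⁻¹) ≫ q = 1 := by
    intro s
    rw [MonObj.mul_comp, GrpObj.inv_comp, s.condition, _root_.mul_inv_cancel]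
  refine ⟨⟨hcomm⟩, ⟨PullbackCone.IsLimit.mk hcomm
    (fun s => lift (kerLift i q hker (s.fst * s.snd⁻¹) (hcond s)) s.snd) ?_ ?_ ?_⟩⟩
  · intro s
    rw [MonObj.comp_mul, lift_fst_assoc, lift_snd, kerLift_comp, _root_.inv_mul_cancel_right]
  · intro s
    rw [lift_snd]
  · intro s m h1 h2
    apply CartesianMonoidalCategory.hom_ext
    · rw [lift_fst, ← cancel_mono i, kerLift_comp]
      rw [← h1, ← h2, MonObj.comp_mul, Category.assoc, _root_.mul_inv_cancel_right]
    · rw [lift_snd, h2]

include hker in
omit [GrpObj G'] in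
/-- A flat surjective homomorphism of group schemes with smooth kernel is smooth. -/
theorem smooth_of_isKernel [Smooth G'.hom] [LocallyOfFinitePresentation G.hom]
    [LocallyOfFiniteType G''.hom] [Flat q.left] [Surjective q.left] : Smooth q.left := by
  haveI : LocallyOfFinitePresentation q.left :=
    Groth.Agent.Lib.Helper16.locallyOfFinitePresentation_of_comp q.left G''.hom
      (by rw [Over.w q]; infer_instance) inferInstance
  have hcov : Presieve.singleton q.left ∈ Scheme.fppfPrecoverage G''.left :=
    q.left.singleton_mem_fppfPrecoverage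
  refine MorphismProperty.IsLocalAtTarget.of_forall_pullbackSnd (P := @Smooth)
    (K := Scheme.fppfPrecoverage) hcov ?_
  rintro W g _ ⟨⟩
  have sq : IsPullback ((fst G' G ≫ i) * snd G' G).left (snd G' G).left q.left q.left :=
    (isPullback_shear i q hker).map (Over.forget S)
  have sq' : IsPullback (fst G' G).left (snd G' G).left G'.hom G.hom :=
    IsPullback.of_hasPullback G'.hom G.hom
  have h1 : Smooth (snd G' G).left := MorphismProperty.of_isPullback sq' inferInstance
  have h2 : pullback.snd q.left q.left = sq.isoPullback.inv ≫ (snd G' G).left :=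
    (sq.isoPullback_inv_snd).symm
  rw [h2]
  haveI := h1
  infer_instance

end shear

section nmp

variable {S S₀ : Scheme.{u}} (j : S₀ ⟶ S) [QuasiCompact j] [IsSchemeTheoreticallyDominant j]
  {G' G G'' : Over S} [GrpObj G'] [GrpObj G] [GrpObj G'']
  (i : G' ⟶ G) (q : G ⟶ G'') [IsMonHom i] [IsMonHom q] (hker : AlgGrp.IsKernel i q)
  [Smooth G'.hom] [Smooth G.hom] [IsSeparated G.hom] [LocallyOfFiniteType G''.hom]
  [Flat q.left] [Surjective q.left]

omit [GrpObj G'] [IsMonHom i] in
include hker in
/-- **Extensions and the Néron mapping property**: if `0 → G' → G → G'' → 0` is an exact sequence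
of group schemes (`q` flat surjective with kernel `G'`), `G'` smooth, `G` smooth separated, and `G'`,
`G''` have the extension property for morphisms from generic fibres of smooth schemes, so has `G`. -/
theorem nmp_of_extension
    (hG' : ∀ Y : Over S, Smooth Y.hom →
      Function.Surjective (fun g : Y ⟶ G' => (ε j).app Y ≫ g))
    (hG'' : ∀ Y : Over S, Smooth Y.hom →
      Function.Surjective (fun g : Y ⟶ G'' => (ε j).app Y ≫ g))
    (Y : Over S) [Smooth Y.hom] :
    Function.Bijective (fun g : Y ⟶ G => (ε j).app Y ≫ g) := by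
  refine ⟨fun g₁ g₂ h => ε_ext j h, fun ψ => ?_⟩
  -- the image in `G''` extends
  obtain ⟨v'', hv''⟩ := hG'' Y inferInstance (ψ ≫ q)
  replace hv'' : (ε j).app Y ≫ v'' = ψ ≫ q := hv''
  -- the torsor of liftings
  haveI hqsm : Smooth q.left := smooth_of_isKernel i q hker
  let a : pullback v'' q ⟶ Y := pullback.fst v'' q
  let b : pullback v'' q ⟶ G := pullback.snd v'' q
  have hab : a ≫ v'' = b ≫ q := pullback.condition
  have sqP : IsPullback a.left b.left v''.left q.left :=
    (IsPullback.of_hasPullback v'' q).map (Over.forget S)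
  have ha1 : Smooth a.left := MorphismProperty.of_isPullback sqP.flip hqsm
  have ha2 : Surjective a.left := MorphismProperty.of_isPullback sqP.flip inferInstance
  -- an étale covering with a lifting
  obtain ⟨V, v, σ, hσ, hvet, hvsurj⟩ :=
    Groth.Agent.Lib.Helper68.SmoothQuot.exists_etale_cover_section a ha1 ha2
  haveI := hvet
  haveI := hvsurj
  haveI : Smooth V.hom := by
    rw [← Over.w v]
    infer_instance
  let w₀ : V ⟶ G := σ ≫ b
  have hw₀ : w₀ ≫ q = v ≫ v'' := by
    rw [Category.assoc, ← hab, ← Category.assoc, hσ]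
  -- correct the lifting by a point of the kernel
  let ψV : (gf j).obj V ⟶ G := (gf j).map v ≫ ψ
  have hnat : (gf j).map v ≫ (ε j).app Y = (ε j).app V ≫ v := (ε j).naturality v
  let d : (gf j).obj V ⟶ G := ψV * ((ε j).app V ≫ w₀)⁻¹
  have hnat' : ∀ {T : Over S} (t : Y ⟶ T), (gf j).map v ≫ (ε j).app Y ≫ t = (ε j).app V ≫ v ≫ t := by
    intro T t
    rw [← Category.assoc, hnat, Category.assoc]
  have hd : d ≫ q = 1 := by
    rw [MonObj.mul_comp, GrpObj.inv_comp, Category.assoc, Category.assoc, hw₀, ← hv'',
      hnat', _root_.mul_inv_cancel]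
  obtain ⟨e', he'⟩ := hG' V inferInstance (kerLift i q hker d hd)
  replace he' : (ε j).app V ≫ e' = kerLift i q hker d hd := he'
  let w : V ⟶ G := (e' ≫ i) * w₀
  have hw : (ε j).app V ≫ w = ψV := by
    rw [MonObj.comp_mul, ← Category.assoc, he', kerLift_comp, _root_.inv_mul_cancel_right]
  -- descent
  let p₁ : pullback v v ⟶ V := pullback.fst v v
  let p₂ : pullback v v ⟶ V := pullback.snd v v
  have hp : p₁ ≫ v = p₂ ≫ v := pullback.condition
  have sqZ : IsPullback p₁.left p₂.left v.left v.left :=
    (IsPullback.of_hasPullback v v).map (Over.forget S)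
  haveI : Etale p₁.left := MorphismProperty.of_isPullback sqZ.flip hvet
  haveI : Flat (pullback v v).hom := by
    rw [← Over.w p₁]
    infer_instance
  have hpw : p₁ ≫ w = p₂ ≫ w := by
    apply ε_ext j
    have h1 : ∀ p : pullback v v ⟶ V, (ε j).app (pullback v v) ≫ p ≫ w =
        (gf j).map (p ≫ v) ≫ ψ := by
      intro p
      have hn : (gf j).map p ≫ (ε j).app V = (ε j).app (pullback v v) ≫ p := (ε j).naturality p
      rw [← Category.assoc, ← hn, Category.assoc, hw, Functor.map_comp, Category.assoc]
    rw [h1, h1, hp]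
  haveI : EffectiveEpi v.left := inferInstance
  let u₀ : Y.left ⟶ G.left := EffectiveEpi.desc v.left w.left (fun {T} g₁ g₂ hg => by
    have h1 : sqZ.lift g₁ g₂ hg ≫ (p₁ ≫ w).left = sqZ.lift g₁ g₂ hg ≫ (p₂ ≫ w).left := by
      rw [hpw]
    rw [Over.comp_left, Over.comp_left, sqZ.lift_fst_assoc, sqZ.lift_snd_assoc] at h1
    exact h1)
  have hu₀ : v.left ≫ u₀ = w.left := EffectiveEpi.fac v.left w.left _
  haveI hepi : Epi v.left := inferInstance
  let u : Y ⟶ G := Over.homMk u₀ (by
    rw [← cancel_epi v.left, reassoc_of% hu₀, Over.w w, Over.w v])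
  have hvu : v ≫ u = w := by
    ext
    exact hu₀
  refine ⟨u, ?_⟩
  change (ε j).app Y ≫ u = ψ
  have sqV := isPullback_gf_map j v
  haveI : Etale ((gf j).map v).left := MorphismProperty.of_isPullback sqV.flip hvet
  haveI : Surjective ((gf j).map v).left := MorphismProperty.of_isPullback sqV.flip hvsurj
  haveI : Epi ((gf j).map v).left := inferInstance
  haveI : Epi ((gf j).map v) := Over.epi_of_epi_left _
  rw [← cancel_epi ((gf j).map v), hnat', hvu, hw]

end nmp

end Groth.Agent.Lib.Helper26.NeronExt
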