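import Groth.Agent.Lib.Helper26.DedekindSection
import Groth.Agent.Lib.Helper20.ExtendVal
import Groth.Agent.Lib.Helper24.SmoothNormalStalk

/-!
# Smooth schemes over a Dedekind domain (helper26)

* `isNormal_stalk_of_smooth_dedekind`: local rings of a smooth scheme over a Dedekind domain are
  integrally closed domains.
* `valuationRing_of_normal_of_dim_le_one`: Noetherian normal local domain of dimension `≤ 1` is a
  valuation ring.
* `exists_extension_codim_two`: rational maps from a smooth scheme over a Dedekind domain to a proper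
  scheme extend off codimension two.
-/

set_option autoImplicit false
universe u

open CategoryTheory Limits AlgebraicGeometry

namespace Groth.Agent.Lib.Helper26.SmoothDedekind

lemma le_one_of_not_two_le (d : WithBot ℕ∞) (h : ¬ (2 : WithBot ℕ∞) ≤ d) : d ≤ 1 := by
  induction d using WithBot.recBotCoe with
  | bot => exact bot_le
  | coe n =>
    have h' : ¬ (2 : ℕ∞) ≤ n := fun h2 => h (WithBot.coe_le_coe.mpr h2)
    have h3 : n ≤ 1 := by
      have : n < 2 := not_le.mp h'
      have h4 : n < 1 + 1 := by rwa [one_add_one_eq_two]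
      exact Order.le_of_lt_add_one h4
    exact WithBot.coe_le_coe.mpr h3

/-- A Noetherian integrally closed local domain of dimension at most one is a valuation ring. -/
theorem valuationRing_of_normal_of_dim_le_one (R : Type u) [CommRing R] [IsDomain R] [IsLocalRing R]
    [IsNoetherianRing R] [IsIntegrallyClosed R] (h : ringKrullDim R ≤ 1) : ValuationRing R := by
  have h1 : Ring.KrullDimLE 1 R := (Ring.krullDimLE_iff).mpr h
  have h2 := (tfae_of_isNoetherianRing_of_isLocalRing_of_isDomain R).out 3 1
  refine h2.mp ⟨inferInstance, ?_⟩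
  intro P hP0 hP
  exact (IsLocalRing.eq_maximalIdeal (hP.isMaximal_of_ne_bot hP0))

variable {R : Type u} [CommRing R] [IsDedekindDomain R] {X : Scheme.{u}}
  (pX : X ⟶ Spec (CommRingCat.of R)) [Smooth pX]

include pX in
theorem isLocallyNoetherian_of_smooth_dedekind : IsLocallyNoetherian X :=
  LocallyOfFiniteType.isLocallyNoetherian pX

include pX in
/-- Local rings of a smooth scheme over a Dedekind domain are integrally closed domains. -/
theorem isNormal_stalk_of_smooth_dedekind (x : X) :
    IsDomain (X.presheaf.stalk x) ∧ IsIntegrallyClosed (X.presheaf.stalk x) := by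
  have H : (pX.stalkMap x).hom.FormallySmooth := by
    have hx : x ∈ pX.smoothLocus := pX.smoothLocus_eq_top ▸ trivial
    exact hx
  haveI := Groth.Agent.Lib.Helper26.DedekindSection.valuationRing_stalk R (pX.base x)
  exact Groth.Agent.Lib.Helper24.isIntegrallyClosed_stalk_of_formallySmooth_stalkMap pX x H
    ⟨inferInstance, inferInstance⟩

include pX in
theorem isReduced_of_smooth_dedekind : IsReduced X := by
  have : ∀ x : X, _root_.IsReduced (X.presheaf.stalk x) := fun x => by
    have := (isNormal_stalk_of_smooth_dedekind pX x).1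
    infer_instance
  exact isReduced_of_isReduced_stalk X

/-- Rational maps from a smooth scheme over a Dedekind domain to a proper scheme extend off
codimension two. -/
theorem exists_extension_codim_two {Y : Scheme.{u}} (pY : Y ⟶ Spec (CommRingCat.of R))
    [IsProper pY] (U : X.Opens) (hU : Dense (U : Set X))
    (f : (U : Scheme.{u}) ⟶ Y) (hf : f ≫ pY = U.ι ≫ pX) :
    ∃ (V : X.Opens) (hUV : U ≤ V) (g : (V : Scheme.{u}) ⟶ Y),
      g ≫ pY = V.ι ≫ pX ∧ X.homOfLE hUV ≫ g = f ∧
      ∀ x : X, x ∉ V → (2 : WithBot ℕ∞) ≤ ringKrullDim (X.presheaf.stalk x) := by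
  haveI := isLocallyNoetherian_of_smooth_dedekind pX
  haveI := isReduced_of_smooth_dedekind pX
  obtain ⟨V, hUV, g, hg1, hg2, hP⟩ :=
    Groth.Agent.Lib.Helper20.ExtendVal.exists_extension_of_forall_mem pY pX
      {x | ¬ (2 : WithBot ℕ∞) ≤ ringKrullDim (X.presheaf.stalk x)} (by
        intro x hx
        obtain ⟨hd, hi⟩ := isNormal_stalk_of_smooth_dedekind pX x
        refine ⟨Groth.Agent.Lib.Helper20.ExtendVal.exists_integral_nhd_of_isGermInjectiveAt x,
          hd, ?_⟩
        exact valuationRing_of_normal_of_dim_le_one _ (le_one_of_not_two_le _ hx)) U hU f hf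
  exact ⟨V, hUV, g, hg1, hg2, fun x hx => by_contra fun h => hx (hP h)⟩

end Groth.Agent.Lib.Helper26.SmoothDedekind
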