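import Mathlib
import Groth.Agent.Lib.Helper26.NeronTorsor
import Groth.Agent.Lib.Helper26.EtaleTorsorNormal
import Groth.Agent.Lib.Helper26.WeilExt
import Groth.Agent.Lib.Helper20.GlueOpens
import Groth.Agent.Lib.Helper20.ExtendVal

/-!
# The Néron mapping property is local on a Dedekind base (helper26)

* `exists_glue_of_local`: extensions of a morphism from the generic fibre glue.
* `nmp_of_local`: if `G ×_S Spec O_{S,p}` has the Néron mapping property for every closed point `p`
  of a Dedekind scheme `S`, so has `G`.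
-/

set_option autoImplicit false
universe u
open CategoryTheory CategoryTheory.Limits AlgebraicGeometry TopologicalSpace

namespace Groth.Agent.Lib.Helper26.NeronLocal

open Groth.Agent.Lib.Helper20 Groth.Agent.Lib.Helper26.NeronTorsor

section glue

variable {S S₀ : Scheme.{u}} (j : S₀ ⟶ S) {X G : Scheme.{u}} (pX : X ⟶ S) (pG : G ⟶ S)

theorem restr_aux (V W : X.Opens) (hVW : V ≤ W) :
    pullback.map (V.ι ≫ pX) j (W.ι ≫ pX) j (X.homOfLE hVW) (𝟙 _) (𝟙 _) (by simp) (by simp) ≫
      pullback.map (W.ι ≫ pX) j pX j W.ι (𝟙 _) (𝟙 _) (by simp) (by simp) =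
    pullback.map (V.ι ≫ pX) j pX j V.ι (𝟙 _) (𝟙 _) (by simp) (by simp) := by
  apply pullback.hom_ext
  · rw [Category.assoc, pullback.lift_fst, pullback.lift_fst_assoc, pullback.lift_fst,
      Category.assoc, Scheme.homOfLE_ι]
  · rw [Category.assoc, pullback.lift_snd, pullback.lift_snd_assoc, pullback.lift_snd]
    simp only [Category.comp_id]

variable [QuasiCompact j] [IsSchemeTheoreticallyDominant j] [Flat pX] [IsSeparated pG]

/-- Local extensions of a morphism defined on the generic fibre glue to a global extension. -/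
theorem exists_glue_of_local (ψ : pullback pX j ⟶ G)
    (hloc : ∀ x : X, ∃ (V : X.Opens) (u : (V : Scheme.{u}) ⟶ G), x ∈ V ∧ u ≫ pG = V.ι ≫ pX ∧
      pullback.fst (V.ι ≫ pX) j ≫ u =
        pullback.map (V.ι ≫ pX) j pX j V.ι (𝟙 _) (𝟙 _) (by simp) (by simp) ≫ ψ) :
    ∃ u : X ⟶ G, u ≫ pG = pX ∧ pullback.fst pX j ≫ u = ψ := by
  have huniq : ∀ (V : X.Opens) (a b : (V : Scheme.{u}) ⟶ G), a ≫ pG = V.ι ≫ pX →
      b ≫ pG = V.ι ≫ pX →
      pullback.fst (V.ι ≫ pX) j ≫ a = pullback.fst (V.ι ≫ pX) j ≫ b → a = b := by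
    intro V a b ha hb hab
    exact ext_of_schDominant_of_isSeparated pG (ha.trans hb.symm) (pullback.fst (V.ι ≫ pX) j) hab
  choose T F hxT hF1 hF2 using hloc
  obtain ⟨k, hk⟩ := GlueOpens.exists_glue T F (by
    intro x y
    apply huniq (T x ⊓ T y)
    · rw [Category.assoc, hF1, Scheme.homOfLE_ι_assoc]
    · rw [Category.assoc, hF1, Scheme.homOfLE_ι_assoc]
    · have e1 : pullback.fst ((T x ⊓ T y).ι ≫ pX) j ≫ X.homOfLE (inf_le_left : T x ⊓ T y ≤ T x) =
          pullback.map ((T x ⊓ T y).ι ≫ pX) j ((T x).ι ≫ pX) j (X.homOfLE inf_le_left) (𝟙 _) (𝟙 _)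
            (by simp) (by simp) ≫ pullback.fst ((T x).ι ≫ pX) j := by
        rw [pullback.lift_fst]
      have e2 : pullback.fst ((T x ⊓ T y).ι ≫ pX) j ≫ X.homOfLE (inf_le_right : T x ⊓ T y ≤ T y) =
          pullback.map ((T x ⊓ T y).ι ≫ pX) j ((T y).ι ≫ pX) j (X.homOfLE inf_le_right) (𝟙 _) (𝟙 _)
            (by simp) (by simp) ≫ pullback.fst ((T y).ι ≫ pX) j := by
        rw [pullback.lift_fst]
      rw [reassoc_of% e1, reassoc_of% e2, hF2, hF2, reassoc_of% (restr_aux j pX _ _ inf_le_left),
        reassoc_of% (restr_aux j pX _ _ inf_le_right)])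
  have hT : IsOpenCover T := by
    rw [IsOpenCover, eq_top_iff]
    exact fun x _ => Opens.mem_iSup.mpr ⟨x, hxT x⟩
  have htop : (⨆ x, T x) = ⊤ := hT
  haveI : IsIso (⨆ x, T x).ι := by
    rw [htop]
    exact (inferInstance : IsIso X.topIso.hom)
  have hkw : k ≫ pG = (⨆ x, T x).ι ≫ pX := by
    apply GlueOpens.hom_ext_iSup T
    intro x
    rw [reassoc_of% hk x, hF1, Scheme.homOfLE_ι_assoc]
  have hku : ∀ x, (T x).ι ≫ inv (⨆ x, T x).ι ≫ k = F x := by
    intro x
    have h1 : (T x).ι = X.homOfLE (le_iSup T x) ≫ (⨆ x, T x).ι := (Scheme.homOfLE_ι _ _).symm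
    rw [h1, Category.assoc, IsIso.hom_inv_id_assoc]
    exact hk x
  have hfst : pullback.fst pX j ≫ inv (⨆ x, T x).ι ≫ k = ψ := by
    refine Scheme.Cover.hom_ext ((X.openCoverOfIsOpenCover T hT).pullback₁ (pullback.fst pX j))
      _ _ fun x => ?_
    change pullback.fst (pullback.fst pX j) (T x).ι ≫ pullback.fst pX j ≫ inv (⨆ x, T x).ι ≫ k =
      pullback.fst (pullback.fst pX j) (T x).ι ≫ ψ
    let m : pullback (pullback.fst pX j) (T x).ι ⟶ pullback ((T x).ι ≫ pX) j :=
      pullback.lift (pullback.snd _ _) (pullback.fst _ _ ≫ pullback.snd pX j) (by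
        rw [Category.assoc, ← pullback.condition, ← pullback.condition_assoc])
    have hm1 : m ≫ pullback.fst ((T x).ι ≫ pX) j = pullback.snd _ _ := pullback.lift_fst _ _ _
    have hm2 : m ≫ pullback.map ((T x).ι ≫ pX) j pX j (T x).ι (𝟙 _) (𝟙 _) (by simp) (by simp) =
        pullback.fst (pullback.fst pX j) (T x).ι := by
      apply pullback.hom_ext
      · rw [Category.assoc, pullback.lift_fst, reassoc_of% hm1, pullback.condition]
      · rw [Category.assoc, pullback.lift_snd, Category.comp_id, pullback.lift_snd]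
    rw [pullback.condition_assoc, hku, ← hm1, Category.assoc, hF2, reassoc_of% hm2]
  exact ⟨inv (⨆ x, T x).ι ≫ k, by rw [Category.assoc, hkw, IsIso.inv_hom_id_assoc], hfst⟩

end glue

section dedekind

variable {S : Scheme.{u}}

/-- In an irreducible space of dimension one, every point other than the generic point is
closed. -/
theorem isClosed_singleton_of_ne_genericPoint [IsIntegral S] (hdim : topologicalKrullDim S = 1)
    (p : S) (hp : p ≠ genericPoint S) : IsClosed ({p} : Set S) := by
  rw [← closure_eq_iff_isClosed]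
  refine Set.Subset.antisymm ?_ subset_closure
  intro p' hp'
  by_contra hne
  have hne' : p' ≠ p := hne
  have h1 : p ⤳ p' := specializes_iff_mem_closure.mpr hp'
  have h0 : genericPoint S ⤳ p := genericPoint_specializes p
  let a : IrreducibleCloseds S := ⟨closure {p'}, isIrreducible_singleton.closure, isClosed_closure⟩
  let b : IrreducibleCloseds S := ⟨closure {p}, isIrreducible_singleton.closure, isClosed_closure⟩
  let c : IrreducibleCloseds S :=
    ⟨closure {genericPoint S}, isIrreducible_singleton.closure, isClosed_closure⟩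
  have hab : a < b := by
    refine lt_of_le_of_ne (fun x hx => ?_) (fun h => ?_)
    · exact (closure_minimal (Set.singleton_subset_iff.mpr hp') isClosed_closure) hx
    · have : p ∈ closure ({p'} : Set S) := by
        have h2 : (a : Set S) = (b : Set S) := congrArg _ h
        change closure {p'} = closure {p} at h2
        rw [h2]
        exact subset_closure rfl
      exact hne' ((specializes_iff_mem_closure.mpr this).antisymm h1).eq
  have hbc : b < c := by
    refine lt_of_le_of_ne (fun x hx => ?_) (fun h => ?_)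
    · exact (closure_minimal (Set.singleton_subset_iff.mpr
        (specializes_iff_mem_closure.mp h0)) isClosed_closure) hx
    · have : genericPoint S ∈ closure ({p} : Set S) := by
        have h2 : (b : Set S) = (c : Set S) := congrArg _ h
        change closure {p} = closure {genericPoint S} at h2
        rw [h2]
        exact subset_closure rfl
      exact hp ((specializes_iff_mem_closure.mpr this).antisymm h0).eq
  have h3 : Order.height a + 1 ≤ Order.height b := Order.height_add_one_le hab
  have h4 : Order.height b + 1 ≤ Order.height c := Order.height_add_one_le hbc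
  have h5 : (2 : ℕ∞) ≤ Order.height c := by
    calc (2 : ℕ∞) = 0 + 1 + 1 := by norm_num
      _ ≤ Order.height a + 1 + 1 := by gcongr; exact bot_le
      _ ≤ Order.height b + 1 := by gcongr
      _ ≤ Order.height c := h4
  have h6 : ((Order.height c : ℕ∞) : WithBot ℕ∞) ≤ topologicalKrullDim S :=
    Order.height_le_krullDim c
  rw [hdim] at h6
  have h7 : (2 : ℕ∞) ≤ 1 := h5.trans (WithBot.coe_le_coe.mp h6)
  exact absurd h7 (by decide)

/-- The affine coordinate rings of a locally Noetherian scheme with regular local rings are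
regular. -/
theorem isRegularRing_of_isAffineOpen [IsLocallyNoetherian S]
    (hreg : ∀ s : S, IsRegularLocalRing (S.presheaf.stalk s)) {V : S.Opens} (hV : IsAffineOpen V) :
    IsRegularRing Γ(S, V) := by
  haveI : IsNoetherianRing Γ(S, V) := IsLocallyNoetherian.component_noetherian ⟨V, hV⟩
  refine { isRegularLocalRing_localization := fun p _ => ?_ }
  let pp : Spec Γ(S, V) := ⟨p, inferInstance⟩
  have hx : hV.fromSpec pp ∈ V := by
    have : hV.fromSpec pp ∈ Set.range hV.fromSpec := ⟨pp, rfl⟩
    rwa [hV.range_fromSpec] at this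
  have hpp : hV.primeIdealOf ⟨hV.fromSpec pp, hx⟩ = pp := by
    apply hV.fromSpec.isOpenEmbedding.injective
    exact hV.fromSpec_primeIdealOf ⟨hV.fromSpec pp, hx⟩
  obtain ⟨e⟩ := Groth.Agent.Lib.Helper24.stalk_ringEquiv_atPrime hV (hV.fromSpec pp) hx
  rw [hpp] at e
  haveI := hreg (hV.fromSpec pp)
  exact IsRegularLocalRing.of_ringEquiv e

/-- Local rings of a scheme smooth over a regular locally Noetherian scheme are domains. -/
theorem isDomain_stalk_of_smooth_of_regular [IsLocallyNoetherian S]
    (hreg : ∀ s : S, IsRegularLocalRing (S.presheaf.stalk s)) {X : Scheme.{u}} (pX : X ⟶ S)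
    [Smooth pX] (x : X) : IsDomain (X.presheaf.stalk x) := by
  obtain ⟨U, hU, hxU⟩ : ∃ U : S.Opens, IsAffineOpen U ∧ pX x ∈ U := by
    obtain ⟨U, hU, hxU, -⟩ := exists_isAffineOpen_mem_and_subset (X := S) (x := pX x) (U := ⊤) trivial
    exact ⟨U, hU, hxU⟩
  obtain ⟨V, hV, hxV, hVU⟩ : ∃ V : X.Opens, IsAffineOpen V ∧ x ∈ V ∧ V ≤ pX ⁻¹ᵁ U := by
    obtain ⟨V, hV, hxV, hVU⟩ := exists_isAffineOpen_mem_and_subset (X := X) (x := x)
      (U := pX ⁻¹ᵁ U) hxU
    exact ⟨V, hV, hxV, hVU⟩
  have Hs : (pX.appLE U V hVU).hom.Smooth := Smooth.smooth_appLE pX hU hV hVU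
  algebraize [(pX.appLE U V hVU).hom]
  haveI : IsRegularRing Γ(S, U) := isRegularRing_of_isAffineOpen hreg hU
  obtain ⟨e2⟩ := Groth.Agent.Lib.Helper24.stalk_ringEquiv_atPrime hV x hxV
  have := Groth.Agent.S1535.isRegularLocalRing_atPrime_of_smooth Γ(S, U)
    Γ(X, V) (hV.primeIdealOf ⟨x, hxV⟩).asIdeal
  haveI : IsRegularLocalRing (X.presheaf.stalk x) := IsRegularLocalRing.of_ringEquiv e2.symm
  exact Groth.Agent.Lib.Helper85.isDomain_of_isRegularLocalRing _

end dedekind

section lam

variable {S : Scheme.{u}} [IsIntegral S] {X : Scheme.{u}} (pX : X ⟶ S)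

/-- the canonical lift of `Spec O_{X,x}` to the generic fibre, for `x` over the generic point -/
noncomputable def lam (x : X) (h : pX x ⤳ genericPoint S) :
    Spec (X.presheaf.stalk x) ⟶ pullback pX (S.fromSpecStalk (genericPoint S)) :=
  pullback.lift (X.fromSpecStalk x)
    (Spec.map (pX.stalkMap x) ≫ Spec.map (S.presheaf.stalkSpecializes h)) (by
      rw [Category.assoc, Scheme.SpecMap_stalkSpecializes_fromSpecStalk,
        Scheme.SpecMap_stalkMap_fromSpecStalk])

@[reassoc]
theorem lam_fst (x : X) (h : pX x ⤳ genericPoint S) :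
    lam pX x h ≫ pullback.fst pX _ = X.fromSpecStalk x :=
  pullback.lift_fst _ _ _

/-- lifts to the generic fibre are unique -/
theorem eq_lam (x : X) (h : pX x ⤳ genericPoint S)
    (a : Spec (X.presheaf.stalk x) ⟶ pullback pX (S.fromSpecStalk (genericPoint S)))
    (ha : a ≫ pullback.fst pX _ = X.fromSpecStalk x) : a = lam pX x h := by
  rw [← cancel_mono (pullback.fst pX (S.fromSpecStalk (genericPoint S))), ha, lam_fst]

/-- the generic point of an integral flat `S`-scheme lies over the generic point of `S` -/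
theorem map_genericPoint_specializes [IsIntegral X] [Flat pX] :
    pX (genericPoint X) ⤳ genericPoint S := by
  obtain ⟨x', hx', hx'2⟩ := Flat.generalizingMap pX (genericPoint_specializes (pX (genericPoint X)))
  have h2 : genericPoint X ⤳ x' := genericPoint_specializes x'
  have : x' = genericPoint X := (hx'.antisymm h2).eq
  rw [← this, hx'2]

end lam

section phi

variable {S : Scheme.{u}} [IsIntegral S] (G : Over S)
  {X : Scheme.{u}} (pX : X ⟶ S) [Smooth pX]
  (ψ : pullback pX (S.fromSpecStalk (genericPoint S)) ⟶ G.left)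
  (hψ : ψ ≫ G.hom = pullback.fst pX _ ≫ pX)

include hψ in
/-- the local extension at a point over a closed point of the base -/
theorem exists_phi_of_isClosed [IsIntegral X] (y : X)
    (hloc : ∀ Y : Over (Spec (S.presheaf.stalk (pX y))), Smooth Y.hom →
        Function.Surjective (fun g : Y ⟶ (Over.pullback (S.fromSpecStalk (pX y))).obj G =>
          (Over.pullback (Spec.map (S.presheaf.stalkSpecializes
            (genericPoint_specializes (pX y))))).map g)) :
    ∃ φ : Spec (X.presheaf.stalk y) ⟶ G.left, φ ≫ G.hom = X.fromSpecStalk y ≫ pX ∧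
      Spec.map (X.presheaf.stalkSpecializes (genericPoint_specializes y)) ≫ φ =
        lam pX (genericPoint X) (map_genericPoint_specializes pX) ≫ ψ := by
  let jp := S.fromSpecStalk (pX y)
  let tp := Spec.map (S.presheaf.stalkSpecializes (genericPoint_specializes (pX y)))
  let jS := S.fromSpecStalk (genericPoint S)
  have htj : tp ≫ jp = jS := Scheme.SpecMap_stalkSpecializes_fromSpecStalk _
  let Yp : Over (Spec (S.presheaf.stalk (pX y))) := (Over.pullback jp).obj (Over.mk pX)
  haveI : Smooth Yp.hom := (inferInstance : Smooth (pullback.snd pX jp))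
  -- the comparison of generic fibres
  let κ : pullback (pullback.snd pX jp) tp ⟶ pullback pX jS :=
    pullback.lift (pullback.fst _ _ ≫ pullback.fst _ _) (pullback.snd _ _) (by
      rw [Category.assoc, pullback.condition, ← Category.assoc, pullback.condition,
        Category.assoc, htj])
  have hκ1 : κ ≫ pullback.fst pX jS = pullback.fst _ _ ≫ pullback.fst _ _ :=
    pullback.lift_fst _ _ _
  have hκ2 : κ ≫ pullback.snd pX jS = pullback.snd _ _ := pullback.lift_snd _ _ _
  -- the morphism of generic fibres over the local ring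
  have h₁ : (κ ≫ ψ) ≫ G.hom =
      (pullback.fst (pullback.snd pX jp) tp ≫ pullback.snd pX jp) ≫ jp := by
    rw [Category.assoc, hψ, ← Category.assoc, hκ1, Category.assoc, pullback.condition,
      Category.assoc]
  let ψp₀ : pullback (pullback.snd pX jp) tp ⟶ pullback (pullback.snd G.hom jp) tp :=
    pullback.lift (pullback.lift (κ ≫ ψ) (pullback.fst _ _ ≫ pullback.snd _ _) h₁)
      (pullback.snd _ _) (by rw [pullback.lift_snd, pullback.condition])
  let ψp : (Over.pullback tp).obj Yp ⟶ (Over.pullback tp).obj ((Over.pullback jp).obj G) :=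
    Over.homMk ψp₀ (pullback.lift_snd _ _ _)
  obtain ⟨gp, hgp⟩ := hloc Yp inferInstance ψp
  replace hgp : (Over.pullback tp).map gp = ψp := hgp
  have hstar : pullback.fst (pullback.snd pX jp) tp ≫ gp.left ≫ pullback.fst G.hom jp =
      κ ≫ ψ := by
    have h1 : ((Over.pullback tp).map gp).left ≫ pullback.fst (pullback.snd G.hom jp) tp =
        pullback.fst (pullback.snd pX jp) tp ≫ gp.left := pullback.lift_fst _ _ _
    rw [← Category.assoc, ← h1, hgp]
    change (ψp₀ ≫ pullback.fst (pullback.snd G.hom jp) tp) ≫ pullback.fst G.hom jp = _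
    rw [pullback.lift_fst, pullback.lift_fst]
  have hgw : gp.left ≫ pullback.snd G.hom jp = pullback.snd pX jp := Over.w gp
  -- the point
  let lamy : Spec (X.presheaf.stalk y) ⟶ pullback pX jp :=
    pullback.lift (X.fromSpecStalk y) (Spec.map (pX.stalkMap y))
      (Scheme.SpecMap_stalkMap_fromSpecStalk (f := pX) (x := y)).symm
  have hl1 : lamy ≫ pullback.fst pX jp = X.fromSpecStalk y := pullback.lift_fst _ _ _
  have hl2 : lamy ≫ pullback.snd pX jp = Spec.map (pX.stalkMap y) := pullback.lift_snd _ _ _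
  refine ⟨lamy ≫ gp.left ≫ pullback.fst G.hom jp, ?_, ?_⟩
  · rw [Category.assoc, Category.assoc, pullback.condition, reassoc_of% hgw, reassoc_of% hl2]
    exact Scheme.SpecMap_stalkMap_fromSpecStalk (f := pX) (x := y)
  · let ζ := genericPoint X
    let tζ := lam pX ζ (map_genericPoint_specializes pX)
    let sp := Spec.map (X.presheaf.stalkSpecializes (genericPoint_specializes y))
    have hsp : sp ≫ X.fromSpecStalk y = X.fromSpecStalk ζ :=
      Scheme.SpecMap_stalkSpecializes_fromSpecStalk _
    have hs : (sp ≫ lamy) ≫ pullback.snd pX jp = (tζ ≫ pullback.snd pX jS) ≫ tp := by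
      rw [← cancel_mono jp, Category.assoc, Category.assoc, Category.assoc, Category.assoc, htj,
        ← pullback.condition, ← pullback.condition, reassoc_of% hl1, reassoc_of% hsp]
      rw [← Category.assoc, lam_fst]
    let sζ : Spec (X.presheaf.stalk ζ) ⟶ pullback (pullback.snd pX jp) tp :=
      pullback.lift (sp ≫ lamy) (tζ ≫ pullback.snd pX jS) hs
    have hs1 : sζ ≫ pullback.fst _ _ = sp ≫ lamy := pullback.lift_fst _ _ _
    have hs2 : sζ ≫ κ = tζ := by
      apply eq_lam
      rw [Category.assoc, hκ1, reassoc_of% hs1, hl1, hsp]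
    change sp ≫ lamy ≫ gp.left ≫ pullback.fst G.hom jp = tζ ≫ ψ
    rw [← Category.assoc, ← hs1, Category.assoc, hstar, reassoc_of% hs2]

end phi

section main

variable {S : Scheme.{u}} [IsIntegral S] (G : Over S) [IsSeparated G.hom] [LocallyOfFiniteType G.hom]
  (hcl : ∀ p : S, p ≠ genericPoint S → IsClosed ({p} : Set S))
  (hloc : ∀ p : S, IsClosed ({p} : Set S) →
      ∀ Y : Over (Spec (S.presheaf.stalk p)), Smooth Y.hom →
        Function.Surjective (fun g : Y ⟶ (Over.pullback (S.fromSpecStalk p)).obj G =>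
          (Over.pullback (Spec.map (S.presheaf.stalkSpecializes
            (genericPoint_specializes p)))).map g))
  {X : Scheme.{u}} (pX : X ⟶ S) [Smooth pX]
  (ψ : pullback pX (S.fromSpecStalk (genericPoint S)) ⟶ G.left)
  (hψ : ψ ≫ G.hom = pullback.fst pX _ ≫ pX)

include hcl hloc hψ in
omit [IsSeparated G.hom] [LocallyOfFiniteType G.hom] in
theorem exists_phi [IsIntegral X] (y : X) :
    ∃ φ : Spec (X.presheaf.stalk y) ⟶ G.left, φ ≫ G.hom = X.fromSpecStalk y ≫ pX ∧
      Spec.map (X.presheaf.stalkSpecializes (genericPoint_specializes y)) ≫ φ =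
        lam pX (genericPoint X) (map_genericPoint_specializes pX) ≫ ψ := by
  by_cases hy : pX y = genericPoint S
  · have h : pX y ⤳ genericPoint S := by rw [hy]
    refine ⟨lam pX y h ≫ ψ, ?_, ?_⟩
    · rw [Category.assoc, hψ, lam_fst_assoc]
    · rw [← Category.assoc]
      congr 1
      apply eq_lam
      rw [Category.assoc, lam_fst, Scheme.SpecMap_stalkSpecializes_fromSpecStalk]
  · exact exists_phi_of_isClosed G pX ψ hψ y (hloc (pX y) (hcl _ hy))

include hcl hloc hψ in
/-- the local extension near a point of an integral smooth `S`-scheme -/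
theorem exists_local_extension [IsIntegral X] (y : X) :
    ∃ (V : X.Opens) (u : (V : Scheme.{u}) ⟶ G.left), y ∈ V ∧ u ≫ G.hom = V.ι ≫ pX ∧
      pullback.fst (V.ι ≫ pX) (S.fromSpecStalk (genericPoint S)) ≫ u =
        pullback.map (V.ι ≫ pX) (S.fromSpecStalk (genericPoint S)) pX
          (S.fromSpecStalk (genericPoint S)) V.ι (𝟙 _) (𝟙 _) (by simp) (by simp) ≫ ψ := by
  obtain ⟨φ, hφ1, hφ2⟩ := exists_phi G hcl hloc pX ψ hψ y
  obtain ⟨U, hyU, u, hu1, hu2⟩ := spread_out_of_isGermInjective' pX G.hom φ hφ1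
  refine ⟨U, u, hyU, hu2, ?_⟩
  let jS := S.fromSpecStalk (genericPoint S)
  let ζ := genericPoint X
  have hζU : ζ ∈ U := (genericPoint_specializes y).mem_open U.isOpen hyU
  let tζ := lam pX ζ (map_genericPoint_specializes pX)
  let τ : Spec (X.presheaf.stalk ζ) ⟶ pullback (U.ι ≫ pX) jS :=
    pullback.lift (U.fromSpecStalkOfMem ζ hζU) (tζ ≫ pullback.snd pX jS) (by
      rw [← Category.assoc, Scheme.Opens.fromSpecStalkOfMem_ι, Category.assoc,
        ← pullback.condition, lam_fst_assoc])
  have hτ1 : τ ≫ pullback.fst (U.ι ≫ pX) jS = U.fromSpecStalkOfMem ζ hζU :=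
    pullback.lift_fst _ _ _
  have hτ2 : τ ≫ pullback.map (U.ι ≫ pX) jS pX jS U.ι (𝟙 _) (𝟙 _) (by simp) (by simp) = tζ := by
    apply eq_lam
    rw [Category.assoc, pullback.lift_fst, reassoc_of% hτ1, Scheme.Opens.fromSpecStalkOfMem_ι]
  haveI : IsReduced (pullback (U.ι ≫ pX) jS) :=
    Groth.Agent.Lib.Helper54.isReduced_of_smooth_scheme (pullback.snd (U.ι ≫ pX) jS)
  haveI : IsDominant τ := by
    constructor
    intro z
    have hind := (pullback.fst (U.ι ≫ pX) jS).isEmbedding.isInducing
    rw [hind.closure_eq_preimage_closure_image]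
    have h1 : (⟨ζ, hζU⟩ : U) ∈ (pullback.fst (U.ι ≫ pX) jS) '' Set.range τ := by
      refine ⟨τ (IsLocalRing.closedPoint (X.presheaf.stalk ζ)), ⟨_, rfl⟩, ?_⟩
      rw [← Scheme.Hom.comp_apply, hτ1]
      apply U.ι.isEmbedding.injective
      rw [← Scheme.Hom.comp_apply, Scheme.Opens.fromSpecStalkOfMem_ι]
      exact Scheme.fromSpecStalk_closedPoint
    refine closure_mono (Set.singleton_subset_iff.mpr h1) ?_
    rw [← specializes_iff_mem_closure]
    exact (U.ι.isEmbedding.isInducing.specializes_iff (x := (⟨ζ, hζU⟩ : U))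
      (y := (pullback.fst (U.ι ≫ pX) jS) z)).mp (genericPoint_specializes _)
  refine ext_of_isDominant_of_isSeparated G.hom ?_ τ ?_
  · rw [Category.assoc, hu2, Category.assoc, hψ, pullback.lift_fst_assoc, Category.assoc]
  · rw [reassoc_of% hτ1, reassoc_of% hτ2, ← hφ2, hu1, ← Category.assoc]
    congr 1
    rw [← cancel_mono U.ι, Category.assoc, Scheme.Opens.fromSpecStalkOfMem_ι,
      Scheme.Opens.fromSpecStalkOfMem_ι, Scheme.SpecMap_stalkSpecializes_fromSpecStalk]

include hcl hloc hψ in
/-- global extension for an integral smooth `S`-scheme -/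
theorem exists_extension_of_isIntegral [IsIntegral X] :
    ∃ u : X ⟶ G.left, u ≫ G.hom = pX ∧
      pullback.fst pX (S.fromSpecStalk (genericPoint S)) ≫ u = ψ :=
  exists_glue_of_local (S.fromSpecStalk (genericPoint S)) pX G.hom ψ
    (fun x => exists_local_extension G hcl hloc pX ψ hψ x)

include hcl hloc hψ in
/-- global extension for a smooth `S`-scheme whose local rings are domains -/
theorem exists_extension [IsLocallyNoetherian X] (hdom : ∀ x : X, IsDomain (X.presheaf.stalk x)) :
    ∃ u : X ⟶ G.left, u ≫ G.hom = pX ∧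
      pullback.fst pX (S.fromSpecStalk (genericPoint S)) ≫ u = ψ := by
  apply exists_glue_of_local (S.fromSpecStalk (genericPoint S)) pX G.hom ψ
  intro x
  haveI := hdom x
  obtain ⟨V, hxV, hV⟩ := ExtendVal.exists_integral_nhd_of_isGermInjectiveAt x
  haveI := hV
  obtain ⟨u, hu1, hu2⟩ := exists_extension_of_isIntegral G hcl hloc (V.ι ≫ pX)
    (pullback.map (V.ι ≫ pX) (S.fromSpecStalk (genericPoint S)) pX
      (S.fromSpecStalk (genericPoint S)) V.ι (𝟙 _) (𝟙 _) (by simp) (by simp) ≫ ψ) (by
        rw [Category.assoc, hψ, pullback.lift_fst_assoc, Category.assoc])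
  exact ⟨V, u, hxV, hu1, hu2⟩

end main

end Groth.Agent.Lib.Helper26.NeronLocal
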