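import Mathlib.RingTheory.LocalRing.ResidueField.Fiber
import Mathlib.RingTheory.Norm.Defs
import Mathlib.LinearAlgebra.Charpoly.BaseChange

/-!
# Norm and primes lying over (helper26)
-/

set_option autoImplicit false
universe u

open scoped TensorProduct

namespace Groth.Agent.Lib.Helper26.NormPrimes

lemma isUnit_lmul_iff {k F : Type*} [CommRing k] [CommRing F] [Algebra k F] (x : F) :
    IsUnit (Algebra.lmul k F x) ↔ IsUnit x := by
  constructor
  · intro h
    obtain ⟨g, hg⟩ := h.exists_right_inv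
    refine IsUnit.of_mul_eq_one (g 1) ?_
    have := LinearMap.congr_fun hg 1
    simpa using this
  · intro h
    obtain ⟨b, hb⟩ := h.exists_right_inv
    have hb' : b * x = 1 := by rw [mul_comm]; exact hb
    exact ⟨⟨Algebra.lmul k F x, Algebra.lmul k F b, by rw [← map_mul, hb, map_one],
      by rw [← map_mul, hb', map_one]⟩, rfl⟩

theorem main {A A' : Type u} [CommRing A] [CommRing A'] [Algebra A A']
    [Module.Free A A'] [Module.Finite A A'] (p : Ideal A) [p.IsPrime] (a : A') :
    (∃ q : Ideal A', q.IsPrime ∧ q.LiesOver p ∧ a ∈ q) ↔ Algebra.norm A a ∈ p := by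
  have hnorm : Algebra.norm p.ResidueField ((1 : p.ResidueField) ⊗ₜ[A] a : p.Fiber A') =
      algebraMap A p.ResidueField (Algebra.norm A a) := by
    rw [Algebra.norm_apply, ← Algebra.baseChange_lmul, LinearMap.det_baseChange, Algebra.norm_apply]
  have h1 : Algebra.norm A a ∈ p ↔
      Algebra.norm p.ResidueField ((1 : p.ResidueField) ⊗ₜ[A] a : p.Fiber A') = 0 := by
    rw [hnorm, Ideal.algebraMap_residueField_eq_zero]
  have h2 : Algebra.norm p.ResidueField ((1 : p.ResidueField) ⊗ₜ[A] a : p.Fiber A') = 0 ↔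
      ¬ IsUnit ((1 : p.ResidueField) ⊗ₜ[A] a : p.Fiber A') := by
    rw [Algebra.norm_apply, ← not_iff_not, not_not, ← ne_eq, ← isUnit_iff_ne_zero,
      ← LinearMap.isUnit_iff_isUnit_det, isUnit_lmul_iff]
  rw [h1, h2]
  constructor
  · rintro ⟨q, hq, hqp, haq⟩ hu
    let Q := PrimeSpectrum.primesOverOrderIsoFiber A A' p ⟨q, hq, hqp⟩
    have hQ : (PrimeSpectrum.primesOverOrderIsoFiber A A' p).symm Q = ⟨q, hq, hqp⟩ :=
      OrderIso.symm_apply_apply _ _
    have hQ' : Q.1.comap Algebra.TensorProduct.includeRight = q := by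
      have := congrArg Subtype.val hQ
      rwa [PrimeSpectrum.coe_primesOverOrderIsoFiber_symm_apply] at this
    have hmem : ((1 : p.ResidueField) ⊗ₜ[A] a : p.Fiber A') ∈ Q.asIdeal := by
      have : a ∈ Q.1.comap (Algebra.TensorProduct.includeRight :
          A' →ₐ[A] p.ResidueField ⊗[A] A') := hQ'.symm ▸ haq
      exact this
    exact Q.isPrime.ne_top (Ideal.eq_top_of_isUnit_mem _ hmem hu)
  · intro hnu
    obtain ⟨M, hM, haM⟩ := exists_max_ideal_of_mem_nonunits (mem_nonunits_iff.mpr hnu)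
    let Q : PrimeSpectrum (p.Fiber A') := ⟨M, hM.isPrime⟩
    let q := (PrimeSpectrum.primesOverOrderIsoFiber A A' p).symm Q
    refine ⟨q.1, q.2.1, q.2.2, ?_⟩
    rw [PrimeSpectrum.coe_primesOverOrderIsoFiber_symm_apply]
    exact haM

end Groth.Agent.Lib.Helper26.NormPrimes
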