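import Groth.Agent.Lib.Helper26.NormalTorsorSection
import Groth.Agent.Lib.Helper26.EquivTorsorSch
import Groth.Agent.Lib.Helper51.FppfLocalSurj
import Groth.Prelude.Def_ActBC

/-!
# Torsors over a normal integral base whose pushforward along a generically invertible
homomorphism of finite group schemes is trivial (helper26)
-/

set_option autoImplicit false
universe u

open CategoryTheory Limits AlgebraicGeometry MonoidalCategory CartesianMonoidalCategory MonObj

namespace Groth.Agent.Lib.Helper26.NormalTorsorPush

open Groth.Agent.Lib.Helper26.EquivTorsorSch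

/-- Restricting a pseudo-torsor along an isomorphism of groups gives a pseudo-torsor. -/
theorem isPseudoTorsorSch_restrict {S : Scheme.{u}} {G G' X : Over S} [GrpObj G] [GrpObj G']
    (φ : G ⟶ G') [IsMonHom φ] [IsIso φ] (a : AlgGrp.Action G' X)
    (h : NonAbH1.IsPseudoTorsorSch a) : NonAbH1.IsPseudoTorsorSch (a.restrict φ) := by
  haveI : IsIso (lift a.act (snd G' X)) := h
  have key : lift (a.restrict φ).act (snd G X) = (φ ▷ X) ≫ lift a.act (snd G' X) := by
    apply CartesianMonoidalCategory.hom_ext
    · simp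
    · simp
  change IsIso (lift (a.restrict φ).act (snd G X))
  rw [key]
  infer_instance

theorem hasSectionOver_id {X : Scheme.{u}} [IsIntegral X]
    (hX : Pi1.IsNormalScheme X) (G G' : Over X) [GrpObj G] [GrpObj G']
    [IsFinite G.hom] (g : G ⟶ G') [IsMonHom g]
    (hg : IsIso ((Over.pullback (X.fromSpecStalk (genericPoint X))).map g))
    (P : Over X) (a : AlgGrp.Action G P) (hP : NonAbH1.IsTorsorFor Scheme.fppfPrecoverage a)
    (P' : Over X) (a' : AlgGrp.Action G' P') (hP' : NonAbH1.IsPseudoTorsorSch a')
    (hpush : NonAbH1.IsPushforwardAlongSch g a a') (htriv : NonAbH1.HasSectionOver P' (𝟙 X)) :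
    NonAbH1.HasSectionOver P (𝟙 X) := by
  obtain ⟨f, hf⟩ := hpush
  obtain ⟨s', hs'⟩ := htriv
  set gp := X.fromSpecStalk (genericPoint X) with hgp
  -- equivariance
  have hf' : AlgGrp.Action.IsEquivariant a (a'.restrict g) f := by
    unfold AlgGrp.Action.IsEquivariant
    rw [hf, AlgGrp.Action.restrict_act, ← Category.assoc]
    congr 1
    apply CartesianMonoidalCategory.hom_ext
    · simp
    · simp
  have hfgp := AlgGrp.Action.isEquivariant_bc gp hf'
  rw [AlgGrp.Action.bc_restrict] at hfgp
  have hPgp := NonAbH1.isTorsorFor_bc gp Scheme.fppfPrecoverage hP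
  have hP'gp : NonAbH1.IsPseudoTorsorSch ((a'.bc gp).restrict ((Over.pullback gp).map g)) :=
    isPseudoTorsorSch_restrict _ _ (NonAbH1.isPseudoTorsorSch_bc gp hP')
  haveI hiso : IsIso ((Over.pullback gp).map f) :=
    isIso_of_isEquivariant Scheme.fppfPrecoverage (a.bc gp) _ hPgp.1 hPgp.2 hP'gp _ hfgp
  -- the point of `P'` over the generic point
  let t' : Spec X.functionField ⟶ pullback P'.hom gp :=
    pullback.lift (gp ≫ s') (𝟙 _) (by rw [Category.assoc, hs', Category.comp_id, Category.id_comp])
  have ht' : t' ≫ pullback.snd P'.hom gp = 𝟙 _ := pullback.lift_snd _ _ _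
  let fi := (inv ((Over.pullback gp).map f)).left
  have hfi : fi ≫ pullback.snd P.hom gp = pullback.snd P'.hom gp :=
    Over.w (inv ((Over.pullback gp).map f))
  refine Groth.Agent.Lib.Helper26.NormalTorsorSection.hasSectionOver_id hX G P a hP
    ⟨t' ≫ fi ≫ pullback.fst P.hom gp, ?_⟩
  rw [Category.assoc, Category.assoc, pullback.condition, ← Category.assoc fi, hfi,
    ← Category.assoc, ht', Category.id_comp]

end Groth.Agent.Lib.Helper26.NormalTorsorPush
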