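import Groth.Agent.Lib.Helper26.NormalSection
import Groth.Agent.Lib.Helper26.TorsorLocal
import Groth.Agent.Lib.Helper51.FppfLocal
import Groth.Agent.Lib.Helper1.AffineAndDescent

/-!
# Torsors under finite flat group schemes over a normal integral base (helper26)
-/

set_option autoImplicit false
universe u

open CategoryTheory Limits AlgebraicGeometry

namespace Groth.Agent.Lib.Helper26.NormalTorsorSection

open Groth.Agent.Lib.Helper26.TorsorLocal Groth.Agent.Lib.Helper51

set_option backward.isDefEq.respectTransparency.types false in
/-- Finiteness is local on the target for the fppf precoverage. -/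
theorem isLocalAtTarget_isFinite_fppf :
    MorphismProperty.IsLocalAtTarget (@IsFinite : MorphismProperty Scheme.{u})
      Scheme.fppfPrecoverage := by
  haveI := Groth.Agent.Lib.Helper1.descendsAlong_isFinite_fpqc.{u}
  exact isLocalAtTarget_fppf_of_descendsAlong _

/-- An fppf torsor under a finite group scheme is finite over the base. -/
theorem isFinite_of_isTorsorFor {X : Scheme.{u}} (G : Over X) [GrpObj G] [IsFinite G.hom]
    (Y : Over X) (a : AlgGrp.Action G Y)
    (hY : NonAbH1.IsTorsorFor Scheme.fppfPrecoverage a) : IsFinite Y.hom := by
  haveI := isLocalAtTarget_isFinite_fppf.{u}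
  exact prop_of_isTorsorFor Scheme.fppfPrecoverage a hY @IsFinite inferInstance

/-- A torsor under a finite group scheme over a normal integral scheme which is trivial over the
function field is trivial. -/
theorem hasSectionOver_id {X : Scheme.{u}} [IsIntegral X]
    (hX : Pi1.IsNormalScheme X) (G : Over X) [GrpObj G] [IsFinite G.hom]
    (Y : Over X) (a : AlgGrp.Action G Y) (hY : NonAbH1.IsTorsorFor Scheme.fppfPrecoverage a)
    (hgen : NonAbH1.HasSectionOver Y (X.fromSpecStalk (genericPoint X))) :
    NonAbH1.HasSectionOver Y (𝟙 X) := by
  haveI := isFinite_of_isTorsorFor G Y a hY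
  exact Groth.Agent.Lib.Helper26.NormalSection.hasSectionOver_id_of_generic hX Y hgen

end Groth.Agent.Lib.Helper26.NormalTorsorSection
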