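import Mathlib.CategoryTheory.FiberedCategory.Fibered
import Mathlib.CategoryTheory.Opposites

/-!
# Fibered vs co-fibered (helper26)

`p` fibered + `p.op` prefibered ⇒ `p.op` fibered, and dually.
-/

set_option autoImplicit false
open CategoryTheory Opposite

universe v v₂ u u₂

namespace Groth.Agent.Lib.Helper26

variable {C : Type u} [Category.{v} C] {𝒳 : Type u₂} [Category.{v₂} 𝒳] (p : 𝒳 ⥤ C)

lemma op_isHomLift {R S : C} {a b : 𝒳} (f : R ⟶ S) (φ : a ⟶ b) [h : p.IsHomLift f φ] :
    p.op.IsHomLift f.op φ.op := by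
  obtain ⟨⟩ := h
  exact Functor.IsHomLift.map (p := p.op) φ.op

lemma unop_isHomLift {R S : Cᵒᵖ} {a b : 𝒳ᵒᵖ} (f : R ⟶ S) (φ : a ⟶ b) [h : p.op.IsHomLift f φ] :
    p.IsHomLift f.unop φ.unop := by
  obtain ⟨⟩ := h
  exact Functor.IsHomLift.map (p := p) φ.unop

/-- `p` fibered and `p.op` prefibered implies `p.op` fibered. -/
theorem op_isFibered_of_isFibered [p.IsFibered] [p.op.IsPreFibered] : p.op.IsFibered where
  comp := by
    intro R S T f g a b c φ ψ hφ hψ
    have hφl : p.op.IsHomLift f φ := inferInstance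
    have hψl : p.op.IsHomLift g ψ := inferInstance
    refine { toIsHomLift := inferInstance, universal_property := ?_ }
    intro a' φ' hφ'
    -- a' over R; cartesian lift `l : d' ⟶ a'.unop` of `f.unop : S.unop ⟶ R.unop`
    have ha' : p.obj a'.unop = R.unop := by
      have := IsHomLift.domain_eq p.op (f ≫ g) φ'
      exact congrArg Opposite.unop this
    obtain ⟨d', l, hl⟩ := IsPreFibered.exists_isCartesian p ha' f.unop
    have hls : p.IsStronglyCartesian f.unop l := inferInstance
    have hφ'u : p.IsHomLift (g.unop ≫ f.unop) φ'.unop := unop_isHomLift p (f ≫ g) φ'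
    -- χ' : c.unop ⟶ d' over g.unop with χ' ≫ l = φ'.unop
    let χ' := Functor.IsStronglyCartesian.map p f.unop l (f' := g.unop ≫ f.unop) rfl φ'.unop
    have hχ' : p.IsHomLift g.unop χ' := inferInstance
    have hχ'fac : χ' ≫ l = φ'.unop := Functor.IsStronglyCartesian.fac p f.unop l rfl φ'.unop
    have hχ'op : p.op.IsHomLift g χ'.op := op_isHomLift p g.unop χ'
    let σ := Functor.IsCartesian.map p.op g ψ χ'.op
    have hσ : p.op.IsHomLift (𝟙 S) σ := inferInstance
    have hσfac : σ ≫ ψ = χ'.op := Functor.IsCartesian.fac p.op g ψ χ'.op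
    have hlop : p.op.IsHomLift f l.op := op_isHomLift p f.unop l
    have hlσ : p.op.IsHomLift f (l.op ≫ σ) := inferInstance
    let τ := Functor.IsCartesian.map p.op f φ (l.op ≫ σ)
    have hτ : p.op.IsHomLift (𝟙 R) τ := inferInstance
    have hτfac : τ ≫ φ = l.op ≫ σ := Functor.IsCartesian.fac p.op f φ (l.op ≫ σ)
    refine ⟨τ, ⟨hτ, ?_⟩, ?_⟩
    · rw [← Category.assoc, hτfac, Category.assoc, hσfac, ← op_comp, hχ'fac]
      rfl
    · rintro τ' ⟨hτ', hτ'fac⟩
      have h1 : p.op.IsHomLift f (τ' ≫ φ) := inferInstance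
      have h1u : p.IsHomLift f.unop (τ' ≫ φ).unop := unop_isHomLift p f (τ' ≫ φ)
      let σ' := Functor.IsCartesian.map p f.unop l (τ' ≫ φ).unop
      have hσ' : p.IsHomLift (𝟙 S.unop) σ' := inferInstance
      have hσ'fac : σ' ≫ l = (τ' ≫ φ).unop := Functor.IsCartesian.fac p f.unop l (τ' ≫ φ).unop
      have hψu : p.IsHomLift g.unop ψ.unop := unop_isHomLift p g ψ
      have h2 : p.IsHomLift g.unop (ψ.unop ≫ σ') := inferInstance
      have h3 : ψ.unop ≫ σ' = χ' := by
        apply Functor.IsStronglyCartesian.map_uniq p f.unop l rfl φ'.unop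
        rw [Category.assoc, hσ'fac, ← unop_comp, Category.assoc, hτ'fac]
      have hσ'op : p.op.IsHomLift (𝟙 S) σ'.op := op_isHomLift p (𝟙 S.unop) σ'
      have h4 : σ'.op = σ := by
        apply Functor.IsCartesian.map_uniq p.op g ψ χ'.op
        rw [← h3]; rfl
      apply Functor.IsCartesian.map_uniq p.op f φ (l.op ≫ σ)
      rw [← h4, ← op_comp, hσ'fac]
      rfl

/-- `p.op` fibered and `p` prefibered implies `p` fibered. -/
theorem isFibered_of_op_isFibered [p.op.IsFibered] [p.IsPreFibered] : p.IsFibered where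
  comp := by
    intro R S T f g a b c φ ψ hφ hψ
    have hφl : p.IsHomLift f φ := inferInstance
    have hψl : p.IsHomLift g ψ := inferInstance
    refine { toIsHomLift := inferInstance, universal_property := ?_ }
    intro a' φ' hφ'
    have ha' : p.op.obj (op a') = op R := by
      have := IsHomLift.domain_eq p (f ≫ g) φ'
      exact congrArg Opposite.op this
    obtain ⟨d', l, hl⟩ := IsPreFibered.exists_isCartesian p.op ha' f.op
    have hls : p.op.IsStronglyCartesian f.op l := inferInstance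
    have hφ'u : p.op.IsHomLift (g.op ≫ f.op) φ'.op := op_isHomLift p (f ≫ g) φ'
    let χ' := Functor.IsStronglyCartesian.map p.op f.op l (f' := g.op ≫ f.op) rfl φ'.op
    have hχ' : p.op.IsHomLift g.op χ' := inferInstance
    have hχ'fac : χ' ≫ l = φ'.op := Functor.IsStronglyCartesian.fac p.op f.op l rfl φ'.op
    have hχ'op : p.IsHomLift g χ'.unop := unop_isHomLift p g.op χ'
    let σ := Functor.IsCartesian.map p g ψ χ'.unop
    have hσ : p.IsHomLift (𝟙 S) σ := inferInstance
    have hσfac : σ ≫ ψ = χ'.unop := Functor.IsCartesian.fac p g ψ χ'.unop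
    have hlop : p.IsHomLift f l.unop := unop_isHomLift p f.op l
    have hlσ : p.IsHomLift f (l.unop ≫ σ) := inferInstance
    let τ := Functor.IsCartesian.map p f φ (l.unop ≫ σ)
    have hτ : p.IsHomLift (𝟙 R) τ := inferInstance
    have hτfac : τ ≫ φ = l.unop ≫ σ := Functor.IsCartesian.fac p f φ (l.unop ≫ σ)
    refine ⟨τ, ⟨hτ, ?_⟩, ?_⟩
    · rw [← Category.assoc, hτfac, Category.assoc, hσfac, ← unop_comp, hχ'fac]
      rfl
    · rintro τ' ⟨hτ', hτ'fac⟩
      have h1 : p.IsHomLift f (τ' ≫ φ) := inferInstance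
      have h1u : p.op.IsHomLift f.op (τ' ≫ φ).op := op_isHomLift p f (τ' ≫ φ)
      let σ' := Functor.IsCartesian.map p.op f.op l (τ' ≫ φ).op
      have hσ' : p.op.IsHomLift (𝟙 (op S)) σ' := inferInstance
      have hσ'fac : σ' ≫ l = (τ' ≫ φ).op := Functor.IsCartesian.fac p.op f.op l (τ' ≫ φ).op
      have hψu : p.op.IsHomLift g.op ψ.op := op_isHomLift p g ψ
      have h2 : p.op.IsHomLift g.op (ψ.op ≫ σ') := inferInstance
      have h3 : ψ.op ≫ σ' = χ' := by
        apply Functor.IsStronglyCartesian.map_uniq p.op f.op l rfl φ'.op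
        rw [Category.assoc, hσ'fac, ← op_comp, Category.assoc, hτ'fac]
      have hσ'op : p.IsHomLift (𝟙 S) σ'.unop := unop_isHomLift p (𝟙 (op S)) σ'
      have h4 : σ'.unop = σ := by
        apply Functor.IsCartesian.map_uniq p g ψ χ'.unop
        rw [← h3]; rfl
      apply Functor.IsCartesian.map_uniq p f φ (l.unop ≫ σ)
      rw [← h4, ← unop_comp, hσ'fac]
      rfl

end Groth.Agent.Lib.Helper26
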