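import Mathlib.AlgebraicGeometry.Morphisms.Flat
import Mathlib.AlgebraicGeometry.PullbackCarrier
import Mathlib.CategoryTheory.Subobject.Basic

/-!
# Descent of open subschemes along an fpqc morphism (helper26)
-/

set_option autoImplicit false
open CategoryTheory CategoryTheory.Limits AlgebraicGeometry
universe u

namespace Groth.Agent.Lib.Helper26.OpenDescent

variable {X : Scheme.{u}}

lemma le_iff_range_subset (Y₁ Y₂ : Subobject X) [IsOpenImmersion Y₂.arrow] :
    Y₁ ≤ Y₂ ↔ Set.range Y₁.arrow ⊆ Set.range Y₂.arrow := by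
  constructor
  · intro h
    rintro _ ⟨z, rfl⟩
    exact ⟨Subobject.ofLE _ _ h z, by rw [← Scheme.Hom.comp_apply, Subobject.ofLE_arrow]⟩
  · intro h
    exact Subobject.le_of_comm (IsOpenImmersion.lift Y₂.arrow Y₁.arrow h)
      (IsOpenImmersion.lift_fac _ _ _)

lemma eq_iff_range_eq (Y₁ Y₂ : Subobject X) [IsOpenImmersion Y₁.arrow]
    [IsOpenImmersion Y₂.arrow] :
    Y₁ = Y₂ ↔ Set.range Y₁.arrow = Set.range Y₂.arrow := by
  constructor
  · rintro rfl; rfl
  · intro h
    exact le_antisymm ((le_iff_range_subset _ _).mpr h.le) ((le_iff_range_subset _ _).mpr h.ge)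

lemma range_pullback_arrow {Z : Scheme.{u}} (f : Z ⟶ X) (Y : Subobject X) :
    Set.range ((Subobject.pullback f).obj Y).arrow = f ⁻¹' Set.range Y.arrow := by
  have sq := Subobject.isPullback f Y
  ext z
  constructor
  · rintro ⟨p, rfl⟩
    refine ⟨Subobject.pullbackπ f Y p, ?_⟩
    rw [← Scheme.Hom.comp_apply, sq.w, Scheme.Hom.comp_apply]
  · rintro ⟨y, hy⟩
    obtain ⟨p, -, hp2⟩ := Scheme.exists_preimage_of_isPullback sq y z hy
    exact ⟨p, hp2⟩

lemma isOpenImmersion_pullback_arrow {Z : Scheme.{u}} (f : Z ⟶ X) (Y : Subobject X)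
    [hY : IsOpenImmersion Y.arrow] : IsOpenImmersion ((Subobject.pullback f).obj Y).arrow :=
  MorphismProperty.of_isPullback (P := @IsOpenImmersion) (Subobject.isPullback f Y) hY

theorem main {X X' : Scheme.{u}} (π : X ⟶ X') [Flat π] [Surjective π] [QuasiCompact π] :
    Set.BijOn (Subobject.pullback π).obj
      {Y' : Subobject X' | IsOpenImmersion Y'.arrow}
      {Y : Subobject X | IsOpenImmersion Y.arrow ∧
        (Subobject.pullback (pullback.fst π π)).obj Y =
          (Subobject.pullback (pullback.snd π π)).obj Y} := by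
  refine ⟨?_, ?_, ?_⟩
  · intro Y' hY'
    have hY'' : IsOpenImmersion Y'.arrow := hY'
    refine ⟨isOpenImmersion_pullback_arrow π Y', ?_⟩
    rw [← Subobject.pullback_comp, ← Subobject.pullback_comp, pullback.condition]
  · intro Y'₁ h₁ Y'₂ h₂ heq
    have h₁' : IsOpenImmersion Y'₁.arrow := h₁
    have h₂' : IsOpenImmersion Y'₂.arrow := h₂
    rw [eq_iff_range_eq]
    have h := congrArg (fun Y : Subobject X => Set.range Y.arrow) heq
    simp only [range_pullback_arrow] at h
    exact π.surjective.preimage_injective h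
  · rintro Y ⟨hY, hstab⟩
    have hY' : IsOpenImmersion Y.arrow := hY
    have hU : IsOpen (Set.range Y.arrow) := Y.arrow.isOpenEmbedding.isOpen_range
    have hsat : π ⁻¹' (π '' Set.range Y.arrow) = Set.range Y.arrow := by
      apply Set.Subset.antisymm _ (Set.subset_preimage_image _ _)
      rintro x ⟨u, hu, hux⟩
      obtain ⟨z, hz1, hz2⟩ :=
        Scheme.Pullback.exists_preimage_pullback (f := π) (g := π) x u hux.symm
      have h1 := congrArg (fun Y : Subobject (pullback π π) => Set.range Y.arrow) hstab
      simp only [range_pullback_arrow] at h1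
      have h2 : z ∈ (pullback.snd π π) ⁻¹' Set.range Y.arrow := by
        show pullback.snd π π z ∈ Set.range Y.arrow
        rw [hz2]; exact hu
      rw [← h1] at h2
      have h3 : pullback.fst π π z ∈ Set.range Y.arrow := h2
      rwa [hz1] at h3
    have hV : IsOpen (π '' Set.range Y.arrow) := by
      rw [← (Flat.isQuotientMap_of_surjective π).isOpen_preimage, hsat]
      exact hU
    let V : X'.Opens := ⟨π '' Set.range Y.arrow, hV⟩
    have hmk : IsOpenImmersion (Subobject.mk V.ι).arrow := by
      rw [← Subobject.underlyingIso_hom_comp_eq_mk]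
      infer_instance
    have hrange : Set.range (Subobject.mk V.ι).arrow = π '' Set.range Y.arrow := by
      rw [← Subobject.underlyingIso_hom_comp_eq_mk, Scheme.Hom.comp_base, TopCat.coe_comp,
        Set.range_comp, Set.range_eq_univ.mpr (Subobject.underlyingIso V.ι).hom.surjective,
        Set.image_univ]
      exact V.range_ι
    refine ⟨Subobject.mk V.ι, hmk, ?_⟩
    have := isOpenImmersion_pullback_arrow π (Subobject.mk V.ι)
    rw [eq_iff_range_eq, range_pullback_arrow, hrange, hsat]

end Groth.Agent.Lib.Helper26.OpenDescent
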