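import Groth.Prelude.Def_DescFam
import Mathlib.AlgebraicGeometry.Sites.ConstantSheaf
import Mathlib.AlgebraicGeometry.Sites.Fpqc

/-!
# Open subsets descend along fpqc covering families; effective descent of open immersions (helper26)

The presheaf of open subsets is `continuousMapPresheaf Prop` (maps to the Sierpiński space),
which Mathlib proves to be an fpqc sheaf.
-/

set_option autoImplicit false
open CategoryTheory CategoryTheory.Limits Opposite AlgebraicGeometry
universe u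

namespace Groth.Agent.Lib.Helper26.OpenDescentFam

/-- A compatible family of open subsets on the members of an fpqc covering family descends. -/
theorem exists_opens {S : Scheme.{u}} {ι : Type*} {X : ι → Scheme.{u}} (f : ∀ i, X i ⟶ S)
    (hf : Presieve.ofArrows X f ∈ Scheme.fpqcPrecoverage S) (V : ∀ i, (X i).Opens)
    (hV : ∀ (i j : ι) (T : Scheme.{u}) (x₀ : T ⟶ X i) (x₁ : T ⟶ X j), x₀ ≫ f i = x₁ ≫ f j →
      x₀ ⁻¹ᵁ V i = x₁ ⁻¹ᵁ V j) :
    ∃ W : S.Opens, ∀ i, f i ⁻¹ᵁ W = V i := by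
  have hsh : Presieve.IsSheaf Scheme.fpqcTopology (continuousMapPresheaf.{0, u} Prop) :=
    (isSheaf_iff_isSheaf_of_type _ _).1 (isSheaf_fpqcTopology_continuousMapPresheaf Prop)
  have h1 := hsh.isSheafFor_of_mem_precoverage hf
  rw [Presieve.isSheafFor_arrows_iff] at h1
  obtain ⟨χ, hχ, -⟩ := h1 (fun i => ⟨fun x => x ∈ V i, continuous_Prop.2 (V i).isOpen⟩) (by
    intro i j Z gi gj h
    apply ContinuousMap.ext
    intro z
    have h2 := hV i j Z gi gj h
    exact propext (by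
      change gi z ∈ V i ↔ gj z ∈ V j
      exact ⟨fun hz => (show z ∈ gj ⁻¹ᵁ V j from h2 ▸ hz),
        fun hz => (show z ∈ gi ⁻¹ᵁ V i from h2.symm ▸ hz)⟩))
  let χ' : C(S, Prop) := χ
  refine ⟨⟨{s | χ' s}, continuous_Prop.1 χ'.continuous⟩, fun i => ?_⟩
  ext x
  have h3 : χ' (f i x) = (x ∈ V i) := congrArg (fun g : C(X i, Prop) => g x) (hχ i)
  change χ' (f i x) ↔ x ∈ V i
  rw [h3]

/-- For a descent datum whose members are open immersions, preimages of the ranges agree. -/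
theorem preimage_le_of_schDDFam {S : Scheme.{u}} {ι : Type*} {X : ι → Scheme.{u}}
    {f : ∀ i, X i ⟶ S} (D : Desc.SchDDFam f) (hD : ∀ i, IsOpenImmersion (D.obj i).hom)
    (i j : ι) (T : Scheme.{u}) (x₀ : T ⟶ X i) (x₁ : T ⟶ X j) (h : x₀ ≫ f i = x₁ ≫ f j) :
    x₀ ⁻¹ᵁ (D.obj i).hom.opensRange ≤ x₁ ⁻¹ᵁ (D.obj j).hom.opensRange := by
  haveI := hD
  have hr : Set.range ((x₀ ⁻¹ᵁ (D.obj i).hom.opensRange).ι ≫ x₀) ⊆
      Set.range (D.obj i).hom := by
    rintro _ ⟨t, rfl⟩
    have := t.2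
    rw [Scheme.Hom.comp_apply]
    exact this
  let v : Desc.Lifts (D.obj i) ((x₀ ⁻¹ᵁ (D.obj i).hom.opensRange).ι ≫ x₀) :=
    ⟨IsOpenImmersion.lift (D.obj i).hom _ hr, IsOpenImmersion.lift_fac _ _ _⟩
  have w := D.φ ((x₀ ⁻¹ᵁ (D.obj i).hom.opensRange).ι ≫ x₀)
    ((x₀ ⁻¹ᵁ (D.obj i).hom.opensRange).ι ≫ x₁) (by rw [Category.assoc, Category.assoc, h]) v
  intro t ht
  change x₁ t ∈ Set.range (D.obj j).hom
  refine ⟨w.1 ⟨t, ht⟩, ?_⟩
  rw [← Scheme.Hom.comp_apply, w.2, Scheme.Hom.comp_apply]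
  rfl

/-- Open immersions descend effectively along fpqc covering families. -/
theorem main {S : Scheme.{u}} {ι : Type u} {X : ι → Scheme.{u}}
    (f : ∀ i, X i ⟶ S) (hf : Presieve.ofArrows X f ∈ Scheme.fpqcPrecoverage S)
    (D : Desc.SchDDFam f) (hD : ∀ i, IsOpenImmersion (D.obj i).hom) :
    D.IsEffective := by
  haveI := hD
  obtain ⟨W, hW⟩ := exists_opens f hf (fun i => (D.obj i).hom.opensRange)
    (fun i j T x₀ x₁ h => le_antisymm (preimage_le_of_schDDFam D hD i j T x₀ x₁ h)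
      (preimage_le_of_schDDFam D hD j i T x₁ x₀ h.symm))
  let U : Over S := Over.mk W.ι
  haveI hoi : ∀ i, IsOpenImmersion (pullback.fst (f i) U.hom) := fun i => by
    change IsOpenImmersion (pullback.fst (f i) W.ι)
    infer_instance
  have hrange : ∀ i, Set.range (pullback.fst (f i) U.hom) = Set.range (D.obj i).hom := by
    intro i
    rw [Scheme.Pullback.range_fst]
    change (f i) ⁻¹' Set.range W.ι = _
    rw [Scheme.Opens.range_ι]
    exact congrArg (fun O : (X i).Opens => (O : Set (X i))) (hW i)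
  let e : ∀ i, pullback (f i) U.hom ≅ (D.obj i).left := fun i =>
    IsOpenImmersion.isoOfRangeEq (pullback.fst (f i) U.hom) (D.obj i).hom (hrange i)
  have he : ∀ i, (e i).hom ≫ (D.obj i).hom = pullback.fst (f i) U.hom := fun i =>
    IsOpenImmersion.isoOfRangeEq_hom_fac _ _ _
  have he' : ∀ i, (e i).inv ≫ pullback.fst (f i) U.hom = (D.obj i).hom := fun i => by
    rw [Iso.inv_comp_eq, he]
  let a : (Desc.toDDFam f).obj U ⟶ D :=
    ⟨fun i => Over.homMk (e i).hom (he i), fun T i j x₀ x₁ h v w hw => by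
      rw [← cancel_mono (D.obj j).hom, (D.φ x₀ x₁ h w).2, Category.assoc]
      change _ = _ ≫ (e j).hom ≫ _
      rw [he j]
      exact (((Desc.toDDFam f).obj U).φ x₀ x₁ h v).2.symm⟩
  let b : D ⟶ (Desc.toDDFam f).obj U :=
    ⟨fun i => Over.homMk (e i).inv (he' i), fun T i j x₀ x₁ h v w hw => by
      have key : ∀ (p q : T ⟶ pullback (f j) U.hom),
          p ≫ pullback.fst (f j) U.hom = q ≫ pullback.fst (f j) U.hom → p = q :=
        fun p q h => (cancel_mono _).1 h
      refine key _ _ (((((Desc.toDDFam f).obj U).φ x₀ x₁ h w).2).trans ?_)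
      change _ = ((D.φ x₀ x₁ h v).1 ≫ (e j).inv) ≫ pullback.fst (f j) U.hom
      rw [Category.assoc, he' j]
      exact (D.φ x₀ x₁ h v).2.symm⟩
  refine ⟨U, ⟨⟨a, b, ?_, ?_⟩⟩⟩
  · apply Desc.SchDDFam.hom_ext
    funext i
    apply Over.OverMorphism.ext
    change (e i).hom ≫ (e i).inv = 𝟙 _
    exact (e i).hom_inv_id
  · apply Desc.SchDDFam.hom_ext
    funext i
    apply Over.OverMorphism.ext
    change (e i).inv ≫ (e i).hom = 𝟙 _
    exact (e i).inv_hom_id

end Groth.Agent.Lib.Helper26.OpenDescentFam
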