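import Groth.Agent.Lib.Helper26.LanMono
import Mathlib.CategoryTheory.Comma.Over.Basic
import Mathlib.CategoryTheory.Limits.IsConnected

/-!
# Left Kan extension along `(Over.map f).op` (helper26)

For `f : T ⟶ S` and `V : Over S`, the comma category of `(Over.map f).op` over `op V` is a disjoint
union, indexed by the liftings `φ : V.left ⟶ T` of the structure map of `V`, of categories with a
terminal object.  Hence the left Kan extension along `(Over.map f).op` (the presheaf-level `f_!`)
preserves monomorphisms as soon as coproducts are exact in the target.
-/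

set_option autoImplicit false
open CategoryTheory CategoryTheory.Limits Opposite
universe w v u v₃ u₃

namespace Groth.Agent.Lib.Helper26.OverMapLan

variable {𝒞 : Type u} [Category.{v} 𝒞] {T S : 𝒞} (f : T ⟶ S) (V : Over S)

/-- Liftings of the structure map of `V` to `T`. -/
abbrev Lift : Type v := {φ : V.left ⟶ T // φ ≫ f = V.hom}

variable {f V}

/-- The canonical object of the comma category attached to a lifting. -/
def objOf (φ : Lift f V) : CostructuredArrow (Over.map f).op (op V) :=
  CostructuredArrow.mk (Y := op (Over.mk φ.1))
    ((Over.homMk (𝟙 V.left) (by simp [φ.2]) : V ⟶ (Over.map f).obj (Over.mk φ.1)).op)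

variable (f V)

/-- The inclusion of the terminal objects of the components. -/
def incl : Discrete (Lift f V) ⥤ CostructuredArrow (Over.map f).op (op V) :=
  Discrete.functor objOf

variable {f V}

/-- The lifting attached to an object of the comma category. -/
def liftOf (j : CostructuredArrow (Over.map f).op (op V)) : Lift f V :=
  ⟨j.hom.unop.left ≫ j.left.unop.hom, by
    have := Over.w j.hom.unop
    simpa using this⟩

/-- The canonical morphism to the terminal object of the component. -/
def toObjOf (j : CostructuredArrow (Over.map f).op (op V)) : j ⟶ objOf (liftOf j) :=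
  CostructuredArrow.homMk
    ((Over.homMk j.hom.unop.left rfl : Over.mk (liftOf j).1 ⟶ j.left.unop).op) (by
      apply Quiver.Hom.unop_inj
      apply Over.OverMorphism.ext
      simp [objOf])

lemma liftOf_eq_of_hom (j : CostructuredArrow (Over.map f).op (op V)) (φ : Lift f V)
    (m : j ⟶ objOf φ) : liftOf j = φ := by
  apply Subtype.ext
  have h1 := congrArg (fun t => t.unop.left) (CostructuredArrow.w m)
  have h2 : m.left.unop.left ≫ j.left.unop.hom = φ.1 := Over.w m.left.unop
  simp only [objOf, liftOf] at h1 ⊢
  simp at h1
  rw [← h1]
  exact h2

lemma hom_objOf_ext (j : CostructuredArrow (Over.map f).op (op V)) (φ : Lift f V)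
    (m m' : j ⟶ objOf φ) : m = m' := by
  apply CostructuredArrow.hom_ext
  apply Quiver.Hom.unop_inj
  apply Over.OverMorphism.ext
  have h1 := congrArg (fun t => t.unop.left) (CostructuredArrow.w m)
  have h1' := congrArg (fun t => t.unop.left) (CostructuredArrow.w m')
  simp [objOf] at h1 h1'
  exact h1.trans h1'.symm

instance final_incl : (incl f V).Final where
  out j := by
    have : Nonempty (StructuredArrow j (incl f V)) :=
      ⟨StructuredArrow.mk (Y := Discrete.mk (liftOf j)) (toObjOf j)⟩
    have : Subsingleton (StructuredArrow j (incl f V)) := by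
      refine ⟨fun a b => ?_⟩
      have ha : liftOf j = a.right.as := liftOf_eq_of_hom j a.right.as a.hom
      have hb : liftOf j = b.right.as := liftOf_eq_of_hom j b.right.as b.hom
      have hr : a.right = b.right := by
        apply Discrete.ext
        rw [← ha, ← hb]
      refine StructuredArrow.obj_ext a b hr ?_
      exact hom_objOf_ext j b.right.as _ _
    infer_instance

variable (f)

/-- The left Kan extension along `(Over.map f).op` preserves monomorphisms when coproducts indexed
by hom-sets are exact in the target. -/
theorem mono_lan_map {A : Type u₃} [Category.{v₃} A]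
    [∀ P : (Over T)ᵒᵖ ⥤ A, (Over.map f).op.HasPointwiseLeftKanExtension P]
    [HasCoproducts.{v} A] [AB4OfSize.{v} A]
    {P P' : (Over T)ᵒᵖ ⥤ A} (α : P ⟶ P') [Mono α] [HasPullbacks A] :
    Mono ((Over.map f).op.lan.map α) := by
  have : ∀ X, Mono (α.app X) := fun X => inferInstance
  have : ∀ Y, Mono (((Over.map f).op.lan.map α).app Y) := fun Y => by
    obtain ⟨V⟩ := Y
    exact LanMono.mono_lan_map_app (Over.map f).op α (op V) (incl f V)
  exact NatTrans.mono_of_mono_app _

end Groth.Agent.Lib.Helper26.OverMapLan
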