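import Groth.Agent.H26.UnivEffEpi
import Mathlib.CategoryTheory.Limits.Constructions.Over.Connected
import Mathlib.AlgebraicGeometry.Sites.Fpqc

/-!
# Universally effective epimorphisms in slice categories; fppf covers of schemes (helper26)
-/

set_option autoImplicit false
open CategoryTheory CategoryTheory.Limits
universe v₁ u₁ u

namespace Groth.Agent.Lib.Helper26.OverUEE

open Groth.Agent.H26

section General

variable {𝒞 : Type u₁} [Category.{v₁} 𝒞] {S : 𝒞}

/-- A morphism of `Over S` whose underlying morphism is an effective epimorphism is an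
effective epimorphism. -/
lemma over_effectiveEpi {X Y : Over S} (q : X ⟶ Y) [hq : EffectiveEpi q.left] :
    EffectiveEpi q := by
  have hepi : Epi q.left := inferInstance
  have key : ∀ {W : Over S} (e : X ⟶ W),
      (∀ {Z : Over S} (g₁ g₂ : Z ⟶ X), g₁ ≫ q = g₂ ≫ q → g₁ ≫ e = g₂ ≫ e) →
      ∀ {Z : 𝒞} (g₁ g₂ : Z ⟶ X.left), g₁ ≫ q.left = g₂ ≫ q.left → g₁ ≫ e.left = g₂ ≫ e.left := by
    intro W e h Z g₁ g₂ hg
    have hX : g₁ ≫ X.hom = g₂ ≫ X.hom := by
      rw [← Over.w q, ← Category.assoc, hg, Category.assoc]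
    let Z' : Over S := Over.mk (g₁ ≫ X.hom)
    let g₁' : Z' ⟶ X := Over.homMk g₁ rfl
    let g₂' : Z' ⟶ X := Over.homMk g₂ hX.symm
    have := h g₁' g₂' (by ext; exact hg)
    exact congrArg (fun t => t.left) this
  refine ⟨⟨{
    desc := fun {W} e h => Over.homMk (EffectiveEpi.desc q.left e.left (key e h)) (by
      rw [← cancel_epi q.left, EffectiveEpi.fac_assoc, Over.w e, Over.w q])
    fac := fun {W} e h => by
      ext
      exact EffectiveEpi.fac q.left e.left (key e h)
    uniq := fun {W} e h m hm => by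
      ext
      apply EffectiveEpi.uniq q.left e.left (key e h)
      exact congrArg (fun t => t.left) hm }⟩⟩

lemma over_uEE [HasPullbacks 𝒞] {X Y : Over S} (q : X ⟶ Y) (hq : UEE 𝒞 q.left) :
    UEE (Over S) q := by
  intro X' Y' i₁ i₂ f' h
  have h' : IsPullback f'.left i₁.left i₂.left q.left := h.map (Over.forget S)
  have : EffectiveEpi f'.left := (hq.of_isPullback h').effectiveEpi
  exact over_effectiveEpi f'

end General

section Scheme

open AlgebraicGeometry

lemma uEE_of_fppf {X Y : Scheme.{u}} (f : X ⟶ Y) [Flat f] [Surjective f]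
    [LocallyOfFinitePresentation f] : UEE Scheme.{u} f := by
  intro X' Y' i₁ i₂ f' h
  have h1 : Flat f' := MorphismProperty.of_isPullback h.flip ‹Flat f›
  have h2 : Surjective f' := MorphismProperty.of_isPullback h.flip ‹Surjective f›
  have h3 : LocallyOfFinitePresentation f' :=
    MorphismProperty.of_isPullback h.flip ‹LocallyOfFinitePresentation f›
  infer_instance

lemma over_uEE_of_fppf {S : Scheme.{u}} {X Y : Over S} (q : X ⟶ Y) [Flat q.left]
    [Surjective q.left] [LocallyOfFinitePresentation q.left] : UEE (Over S) q :=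
  over_uEE q (uEE_of_fppf q.left)

end Scheme

end Groth.Agent.Lib.Helper26.OverUEE
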