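import Mathlib
import Groth.Agent.Lib.Helper71.LocalCritNoeth

/-!
# A local endomorphism acting by `n` on the cotangent space is flat (helper26)

Let `O` be a Noetherian local ring with a coefficient field `k` (`α : k → O` inducing an isomorphism
onto the residue field) and `Ψ : O → O` a local `k`-endomorphism with `Ψ a ≡ n a mod 𝔪²` for
`a ∈ 𝔪`, `n` invertible in `k`.  Then `Ψ` acts by `n ^ i` on `𝔪 ^ i / 𝔪 ^ (i+1)`, hence is bijective
modulo every power of `𝔪`; so `𝔪 = Ψ(𝔪) O` and `Ψ` is flat (local criterion of flatness).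
-/

set_option autoImplicit false

namespace Groth.Agent.Lib.Helper26.PowStalkAlg

open IsLocalRing TensorProduct

universe u

section endo

variable {k : Type*} [Field k] {O : Type u} [CommRing O] [IsLocalRing O]
  (α : k →+* O) (Ψ : O →+* O) (n : ℕ)

theorem map_pow_mem (hloc : ∀ a ∈ maximalIdeal O, Ψ a ∈ maximalIdeal O) (i : ℕ) :
    ∀ a ∈ maximalIdeal O ^ i, Ψ a ∈ maximalIdeal O ^ i := by
  intro a ha
  have h1 : (maximalIdeal O).map Ψ ≤ maximalIdeal O := Ideal.map_le_iff_le_comap.mpr hloc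
  have h2 : Ψ a ∈ (maximalIdeal O ^ i).map Ψ := Ideal.mem_map_of_mem Ψ ha
  rw [Ideal.map_pow] at h2
  exact Ideal.pow_right_mono h1 i h2

variable (hres : ∀ x : O, ∃ c : k, x - α c ∈ maximalIdeal O)
  (hΨα : ∀ c : k, Ψ (α c) = α c)
  (hloc : ∀ a ∈ maximalIdeal O, Ψ a ∈ maximalIdeal O)
  (hΨ : ∀ a ∈ maximalIdeal O, Ψ a - (n : O) * a ∈ maximalIdeal O ^ 2)

include hres hΨα hloc hΨ in
theorem sub_mem_pow (i : ℕ) :
    ∀ a ∈ maximalIdeal O ^ i, Ψ a - (n : O) ^ i * a ∈ maximalIdeal O ^ (i + 1) := by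
  induction i with
  | zero =>
    intro a _
    obtain ⟨c, hc⟩ := hres a
    have h1 : Ψ a - (n : O) ^ 0 * a = Ψ (a - α c) - (a - α c) := by
      rw [map_sub, hΨα]; ring
    rw [h1, zero_add, pow_one]
    exact sub_mem (hloc _ hc) hc
  | succ i ih =>
    intro a ha
    rw [pow_succ] at ha
    refine Submodule.mul_induction_on ha ?_ ?_
    · intro x hx y hy
      have h1 : Ψ (x * y) - (n : O) ^ (i + 1) * (x * y) =
          (Ψ x - (n : O) ^ i * x) * Ψ y + (n : O) ^ i * (x * (Ψ y - (n : O) * y)) := by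
        rw [map_mul]; ring
      rw [h1]
      refine add_mem ?_ (Ideal.mul_mem_left _ _ ?_)
      · have := Ideal.mul_mem_mul (ih x hx) (hloc y hy)
        rwa [← pow_succ] at this
      · have := Ideal.mul_mem_mul hx (hΨ y hy)
        rwa [← pow_add] at this
    · intro x y hx hy
      have h1 : Ψ (x + y) - (n : O) ^ (i + 1) * (x + y) =
          (Ψ x - (n : O) ^ (i + 1) * x) + (Ψ y - (n : O) ^ (i + 1) * y) := by
        rw [map_add]; ring
      rw [h1]
      exact add_mem hx hy

variable (hn : (n : k) ≠ 0)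

include hres hΨα hloc hΨ hn in
theorem exists_sub_mem_pow (i : ℕ) : ∀ x : O, ∃ y, Ψ y - x ∈ maximalIdeal O ^ i := by
  induction i with
  | zero => intro x; exact ⟨0, by simp⟩
  | succ i ih =>
    intro x
    obtain ⟨y, hy⟩ := ih x
    have hd : x - Ψ y ∈ maximalIdeal O ^ i := by
      have := neg_mem hy
      rwa [neg_sub] at this
    have hw : α (((n : k) ^ i)⁻¹) * (n : O) ^ i = 1 := by
      rw [← map_natCast α n, ← map_pow, ← map_mul, inv_mul_cancel₀ (pow_ne_zero i hn), map_one]
    refine ⟨y + α (((n : k) ^ i)⁻¹) * (x - Ψ y), ?_⟩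
    have h1 : Ψ (y + α (((n : k) ^ i)⁻¹) * (x - Ψ y)) - x =
        α (((n : k) ^ i)⁻¹) * (Ψ (x - Ψ y) - (n : O) ^ i * (x - Ψ y)) := by
      rw [map_add, map_mul, hΨα]
      linear_combination (x - Ψ y) * hw
    rw [h1]
    exact Ideal.mul_mem_left _ _ (sub_mem_pow α Ψ n hres hΨα hloc hΨ i _ hd)

include hres hΨα hloc hΨ hn in
theorem mem_pow_of_map_mem (i : ℕ) : ∀ x : O, Ψ x ∈ maximalIdeal O ^ i → x ∈ maximalIdeal O ^ i := by
  induction i with
  | zero => intro x _; simp
  | succ i ih =>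
    intro x hx
    have hxi : x ∈ maximalIdeal O ^ i := ih x (Ideal.pow_le_pow_right (Nat.le_succ i) hx)
    have h1 := sub_mem_pow α Ψ n hres hΨα hloc hΨ i x hxi
    have h2 : (n : O) ^ i * x ∈ maximalIdeal O ^ (i + 1) := by
      have := sub_mem hx h1
      rwa [sub_sub_cancel] at this
    have hw : α (((n : k) ^ i)⁻¹) * (n : O) ^ i = 1 := by
      rw [← map_natCast α n, ← map_pow, ← map_mul, inv_mul_cancel₀ (pow_ne_zero i hn), map_one]
    have h3 : x = α (((n : k) ^ i)⁻¹) * ((n : O) ^ i * x) := by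
      rw [← mul_assoc, hw, one_mul]
    rw [h3]
    exact Ideal.mul_mem_left _ _ h2

include α hloc hΨ hn in
theorem map_maximalIdeal_eq [IsNoetherianRing O] :
    (maximalIdeal O).map Ψ = maximalIdeal O := by
  apply le_antisymm (Ideal.map_le_iff_le_comap.mpr hloc)
  have hfg : (maximalIdeal O).FG := IsNoetherian.noetherian _
  refine Submodule.le_of_le_smul_of_le_jacobson_bot hfg
    (IsLocalRing.jacobson_eq_maximalIdeal ⊥ bot_ne_top).ge ?_
  intro a ha
  have hw : α ((n : k)⁻¹) * (n : O) = 1 := by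
    rw [← map_natCast α n, ← map_mul, inv_mul_cancel₀ hn, map_one]
  have h1 : a = α ((n : k)⁻¹) * Ψ a - α ((n : k)⁻¹) * (Ψ a - (n : O) * a) := by
    linear_combination (-a) * hw
  rw [h1]
  refine sub_mem (Submodule.mem_sup_left (Ideal.mul_mem_left _ _ (Ideal.mem_map_of_mem Ψ ha)))
    (Submodule.mem_sup_right (Ideal.mul_mem_left _ _ ?_))
  have := hΨ a ha
  rwa [pow_two, ← smul_eq_mul (a := maximalIdeal O)] at this

end endo

section two

variable {k : Type*} [Field k] {O' O : Type u} [CommRing O'] [CommRing O] [IsLocalRing O']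
  [IsLocalRing O] [IsNoetherianRing O'] [IsNoetherianRing O]
  (α : k →+* O) (f : O' →+* O) [IsLocalHom f] (θ : O ≃+* O') (n : ℕ)
  (hres : ∀ x : O, ∃ c : k, x - α c ∈ maximalIdeal O)
  (hΨα : ∀ c : k, f (θ (α c)) = α c)
  (hΨ : ∀ a ∈ maximalIdeal O, f (θ a) - (n : O) * a ∈ maximalIdeal O ^ 2)
  (hn : (n : k) ≠ 0)

omit [IsNoetherianRing O'] [IsNoetherianRing O] in
theorem equiv_mem_maximalIdeal (a : O) : θ a ∈ maximalIdeal O' ↔ a ∈ maximalIdeal O := by
  rw [mem_maximalIdeal, mem_maximalIdeal, mem_nonunits_iff, mem_nonunits_iff]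
  exact not_congr ⟨fun h => by simpa using h.map θ.symm, fun h => h.map θ⟩

omit [IsNoetherianRing O'] [IsNoetherianRing O] in
theorem equiv_mem_pow (i : ℕ) (a : O) (ha : a ∈ maximalIdeal O ^ i) :
    θ a ∈ maximalIdeal O' ^ i := by
  have h1 : (maximalIdeal O).map (θ : O →+* O') ≤ maximalIdeal O' :=
    Ideal.map_le_iff_le_comap.mpr fun a ha => (equiv_mem_maximalIdeal θ a).mpr ha
  have h2 : θ a ∈ (maximalIdeal O ^ i).map (θ : O →+* O') := Ideal.mem_map_of_mem _ ha
  rw [Ideal.map_pow] at h2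
  exact Ideal.pow_right_mono h1 i h2

omit [IsNoetherianRing O'] [IsNoetherianRing O] in
theorem comp_loc (a : O) (ha : a ∈ maximalIdeal O) :
    (f.comp (θ : O →+* O')) a ∈ maximalIdeal O := by
  have h1 : θ a ∈ maximalIdeal O' := (equiv_mem_maximalIdeal θ a).mpr ha
  rw [mem_maximalIdeal, mem_nonunits_iff] at h1 ⊢
  exact fun h => h1 (isUnit_of_map_unit f _ h)

include α hΨ hn in
omit [IsNoetherianRing O'] in
theorem map_maximalIdeal_eq' : (maximalIdeal O').map f = maximalIdeal O := by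
  have h1 := map_maximalIdeal_eq α (f.comp (θ : O →+* O')) n (comp_loc f θ) hΨ hn
  apply le_antisymm
  · exact ((local_hom_TFAE f).out 0 2).mp ‹IsLocalHom f›
  · rw [← h1, ← Ideal.map_map]
    apply Ideal.map_mono
    exact Ideal.map_le_iff_le_comap.mpr fun a ha => (equiv_mem_maximalIdeal θ a).mpr ha

include hres hΨα hΨ hn in
theorem flat : f.Flat := by
  letI := f.toAlgebra
  have hmax := map_maximalIdeal_eq' α f θ n hΨ hn
  have hpow : ∀ i : ℕ, (maximalIdeal O' ^ i).map f = maximalIdeal O ^ i := fun i => by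
    rw [Ideal.map_pow, hmax]
  change Module.Flat O' O
  refine Groth.Agent.Lib.Helper71.LocalCritNoeth.flat_of_flat_quotient_pow (B := O)
    (maximalIdeal O') O ?_ ?_
  · rw [RingHom.algebraMap_toAlgebra, hmax, IsLocalRing.jacobson_eq_maximalIdeal ⊥ bot_ne_top]
  · intro j
    set I : Ideal O' := maximalIdeal O' ^ (j + 1) with hI
    -- the module is free of rank one
    let g : (O' ⧸ I) →ₗ[O' ⧸ I] (O' ⧸ I) ⊗[O'] O :=
      LinearMap.toSpanSingleton (O' ⧸ I) _ ((1 : O' ⧸ I) ⊗ₜ[O'] (1 : O))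
    have hg : ∀ x : O', g (Ideal.Quotient.mk I x) = (Ideal.Quotient.mk I x) ⊗ₜ[O'] (1 : O) := by
      intro x
      simp only [g, LinearMap.toSpanSingleton_apply, TensorProduct.smul_tmul', smul_eq_mul, mul_one]
    have hsmul : ∀ (x : O') (b : O), x • b = f x * b := fun x b => by
      rw [Algebra.smul_def, RingHom.algebraMap_toAlgebra]
    have hsub : ∀ d : O, d ∈ (I • ⊤ : Submodule O' O) ↔ d ∈ maximalIdeal O ^ (j + 1) := by
      intro d
      rw [Ideal.smul_top_eq_map, Submodule.restrictScalars_mem, RingHom.algebraMap_toAlgebra, hpow]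
    have hinj : Function.Injective g := by
      rw [injective_iff_map_eq_zero]
      intro x hx
      obtain ⟨x', rfl⟩ := Ideal.Quotient.mk_surjective x
      rw [hg] at hx
      have h1 := congrArg (TensorProduct.quotTensorEquivQuotSMul O I) hx
      rw [TensorProduct.quotTensorEquivQuotSMul_mk_tmul, map_zero,
        Submodule.Quotient.mk_eq_zero, hsub, hsmul, mul_one] at h1
      have h2 : (f.comp (θ : O →+* O')) (θ.symm x') ∈ maximalIdeal O ^ (j + 1) := by
        simpa using h1
      have h3 := mem_pow_of_map_mem α (f.comp (θ : O →+* O')) n hres hΨα (comp_loc f θ) hΨ hn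
        (j + 1) _ h2
      have h4 := equiv_mem_pow θ (j + 1) _ h3
      rw [RingEquiv.apply_symm_apply] at h4
      exact Ideal.Quotient.eq_zero_iff_mem.mpr h4
    have hsurj : Function.Surjective g := by
      intro t
      have hone : ∀ b : O, (1 : O' ⧸ I) ⊗ₜ[O'] b ∈ LinearMap.range g := by
        intro b
        obtain ⟨y, hy⟩ := exists_sub_mem_pow α (f.comp (θ : O →+* O')) n hres hΨα (comp_loc f θ)
          hΨ hn (j + 1) b
        have h0 : ∀ d : O, d ∈ (I • ⊤ : Submodule O' O) → (1 : O' ⧸ I) ⊗ₜ[O'] d = 0 := by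
          intro d hd
          refine Submodule.smul_induction_on hd ?_ ?_
          · intro a ha b' _
            rw [← TensorProduct.smul_tmul, ← Algebra.algebraMap_eq_smul_one,
              Ideal.Quotient.algebraMap_eq, Ideal.Quotient.eq_zero_iff_mem.mpr ha,
              TensorProduct.zero_tmul]
          · intro x y hx hy
            rw [TensorProduct.tmul_add, hx, hy, add_zero]
        have h1 : b = f (θ y) - (f (θ y) - b) := by ring
        have h2 : (1 : O' ⧸ I) ⊗ₜ[O'] (f (θ y)) = g (Ideal.Quotient.mk I (θ y)) := by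
          rw [hg, ← mul_one (f (θ y)), ← hsmul, ← TensorProduct.smul_tmul,
            ← Algebra.algebraMap_eq_smul_one, Ideal.Quotient.algebraMap_eq]
        have hy' : f (θ y) - b ∈ maximalIdeal O ^ (j + 1) := hy
        rw [h1, TensorProduct.tmul_sub, h2, h0 _ ((hsub _).mpr hy'), sub_zero]
        exact ⟨_, rfl⟩
      induction t with
      | zero => exact ⟨0, map_zero _⟩
      | add x y hx hy =>
        obtain ⟨x', rfl⟩ := hx
        obtain ⟨y', rfl⟩ := hy
        exact ⟨x' + y', map_add _ _ _⟩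
      | tmul q b =>
        have : q ⊗ₜ[O'] b = q • ((1 : O' ⧸ I) ⊗ₜ[O'] b) := by
          rw [TensorProduct.smul_tmul', smul_eq_mul, mul_one]
        rw [this]
        exact (LinearMap.range g).smul_mem q (hone b)
    exact Module.Flat.of_linearEquiv (LinearEquiv.ofBijective g ⟨hinj, hsurj⟩).symm

end two

end Groth.Agent.Lib.Helper26.PowStalkAlg
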