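import Mathlib
import Groth.Agent.Lib.Helper26.PowEtale
import Groth.Agent.Lib.Helper26.PowStalkAlg
import Groth.Agent.Lib.Helper24.EtaleAtStalk

/-!
# The `n`-th power map of a group scheme locally of finite type over a field is étale at the unit
(`n` invertible in the field); no smoothness or commutativity assumed.
-/

set_option autoImplicit false

namespace Groth.Agent.Lib.Helper26.PowStalk

open CategoryTheory CategoryTheory.Limits AlgebraicGeometry MonoidalCategory
  CartesianMonoidalCategory MonObj GrpObj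
open Groth.Agent.Lib.Helper26.PowEtale

universe u

variable {k : Type u} [Field k] (G : Over (Spec (CommRingCat.of k))) [GrpObj G]

/-- the unit section as a morphism from `Spec k` -/
noncomputable def unitSec : Spec (CommRingCat.of k) ⟶ G.left := η[G].left

/-- the unit point -/
noncomputable def ept : ↥G.left := unitSec G (IsLocalRing.closedPoint k)

/-- the `n`-th power map -/
noncomputable def pw (n : ℕ) : G.left ⟶ G.left := ((𝟙 G : G ⟶ G) ^ n).left

theorem pw_comp_hom (n : ℕ) : pw G n ≫ G.hom = G.hom := Over.w _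

theorem unitSec_comp_hom : unitSec G ≫ G.hom = 𝟙 _ := Over.w η[G]

theorem unitSec_comp_pw (n : ℕ) : unitSec G ≫ pw G n = unitSec G := by
  rw [unitSec, pw, ← Over.comp_left, MonObj.comp_pow, Category.comp_id, MonObj.one_eq_one, one_pow]

theorem pw_ept (n : ℕ) : pw G n (ept G) = ept G := by
  rw [ept, ← Scheme.Hom.comp_apply, unitSec_comp_pw]

/-- the local ring at the unit point -/
noncomputable abbrev O : CommRingCat.{u} := G.left.presheaf.stalk (ept G)

/-- the structure map `k → 𝒪_{G,e}` -/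
noncomputable def α : CommRingCat.of k ⟶ O G :=
  Spec.preimage (G.left.fromSpecStalk (ept G) ≫ G.hom)

theorem SpecMap_α : Spec.map (α G) = G.left.fromSpecStalk (ept G) ≫ G.hom := Spec.map_preimage _

/-- evaluation at the unit point `𝒪_{G,e} → k` -/
noncomputable def εO : O G ⟶ CommRingCat.of k := Scheme.stalkClosedPointTo (unitSec G)

theorem SpecMap_εO : Spec.map (εO G) ≫ G.left.fromSpecStalk (ept G) = unitSec G :=
  Scheme.Spec_stalkClosedPointTo_fromSpecStalk (unitSec G)

instance : IsLocalHom (εO G).hom := Scheme.isLocalHom_stalkClosedPointTo' (unitSec G)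

theorem α_εO : α G ≫ εO G = 𝟙 _ := by
  apply Spec.map_injective
  rw [Spec.map_comp, SpecMap_α, reassoc_of% SpecMap_εO, unitSec_comp_hom, Spec.map_id]

theorem εO_α_apply (c : k) : (εO G).hom ((α G).hom c) = c := by
  have := congrArg (fun f => f.hom c) (α_εO G)
  simpa using this

theorem sub_mem_maximalIdeal (x : O G) :
    x - (α G).hom ((εO G).hom x) ∈ IsLocalRing.maximalIdeal (O G) := by
  rw [IsLocalRing.mem_maximalIdeal, mem_nonunits_iff]
  intro h
  have h1 := h.map (εO G).hom
  rw [map_sub, εO_α_apply, sub_self] at h1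
  exact not_isUnit_zero h1

theorem εO_eq_zero (x : O G) (hx : x ∈ IsLocalRing.maximalIdeal (O G)) : (εO G).hom x = 0 := by
  by_contra h
  have h1 : IsUnit ((εO G).hom x) := isUnit_iff_ne_zero.mpr h
  have h2 := isUnit_of_map_unit (εO G).hom x h1
  exact (IsLocalRing.mem_maximalIdeal _).mp hx h2

section chart

variable (ch : Chart G)

theorem ept_mem_range : ept G ∈ Set.range ch.jU := by
  refine ⟨Spec.map ch.ε (IsLocalRing.closedPoint k), ?_⟩
  rw [← Scheme.Hom.comp_apply, ch.hε]
  rfl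

theorem exists_lam : ∃ lam : ch.A ⟶ O G, Spec.map lam ≫ ch.jU = G.left.fromSpecStalk (ept G) := by
  haveI := ch.hU
  have hrange : Set.range (G.left.fromSpecStalk (ept G)) ⊆ Set.range ch.jU := by
    rw [Scheme.range_fromSpecStalk]
    intro y hy
    exact hy.mem_open ch.jU.isOpenEmbedding.isOpen_range (ept_mem_range G ch)
  refine ⟨Spec.preimage (IsOpenImmersion.lift ch.jU _ hrange), ?_⟩
  rw [Spec.map_preimage, IsOpenImmersion.lift_fac]

variable (lam : ch.A ⟶ O G) (hlam : Spec.map lam ≫ ch.jU = G.left.fromSpecStalk (ept G))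

include hlam in
theorem lam_εO : lam ≫ εO G = ch.ε := by
  haveI := ch.hU
  apply factor_unique ch.jU
  rw [Spec.map_comp, Category.assoc, hlam, SpecMap_εO, ch.hε]
  rfl

include hlam in
theorem lam_epi {D : CommRingCat.{u}} (F₁ F₂ : O G ⟶ D) (h : lam ≫ F₁ = lam ≫ F₂) : F₁ = F₂ := by
  apply Spec.map_injective
  rw [← cancel_mono (G.left.fromSpecStalk (ept G)), ← hlam, ← Category.assoc, ← Category.assoc,
    ← Spec.map_comp, ← Spec.map_comp, h]

end chart

section key

/-- `𝒪_{G,e} / 𝔪²` -/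
noncomputable abbrev D : Type u := (O G) ⧸ (IsLocalRing.maximalIdeal (O G) ^ 2)

/-- the quotient map -/
noncomputable def ρ : O G ⟶ CommRingCat.of (D G) := CommRingCat.ofHom (Ideal.Quotient.mk _)

/-- the maximal ideal of `𝒪_{G,e} / 𝔪²` -/
noncomputable def I : Ideal (D G) :=
  (IsLocalRing.maximalIdeal (O G)).map (Ideal.Quotient.mk (IsLocalRing.maximalIdeal (O G) ^ 2))

theorem I_sq : I G ^ 2 = ⊥ := by
  rw [I, ← Ideal.map_pow, Ideal.map_quotient_self]

/-- the structure map of `𝒪_{G,e} / 𝔪²` -/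
noncomputable def β : CommRingCat.of k ⟶ CommRingCat.of (D G) := α G ≫ ρ G

theorem ρ_mem_I (x : O G) (hx : x ∈ IsLocalRing.maximalIdeal (O G)) : (ρ G).hom x ∈ I G :=
  Ideal.mem_map_of_mem _ hx

/-- the tautological point of `G` with values in `𝒪_{G,e} / 𝔪²` -/
noncomputable def gpt : TC (β G) ⟶ G :=
  Over.homMk (Spec.map (ρ G) ≫ G.left.fromSpecStalk (ept G)) (by
    change (Spec.map (ρ G) ≫ G.left.fromSpecStalk (ept G)) ≫ G.hom = Spec.map (β G)
    rw [β, Spec.map_comp, SpecMap_α, Category.assoc])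

theorem gpt_left : (gpt G).left = Spec.map (ρ G) ≫ G.left.fromSpecStalk (ept G) := rfl

theorem incl_gpt : incl (I G) (β G) ≫ gpt G = 1 := by
  apply hom_ext_of_left
  rw [one_left]
  change Spec.map (CommRingCat.ofHom (Ideal.Quotient.mk (I G))) ≫ Spec.map (ρ G) ≫
      G.left.fromSpecStalk (ept G) =
    (Spec.map (CommRingCat.ofHom (Ideal.Quotient.mk (I G))) ≫ Spec.map (β G)) ≫ unitSec G
  rw [← SpecMap_εO, β]
  simp only [← Spec.map_comp, ← Category.assoc]
  congr 2
  ext x
  simp only [CommRingCat.hom_comp, CommRingCat.hom_ofHom, RingHom.comp_apply]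
  rw [Ideal.Quotient.eq, ← map_sub]
  exact ρ_mem_I G _ (sub_mem_maximalIdeal G x)

variable (n : ℕ)

theorem pw_ept_specializes : pw G n (ept G) ⤳ ept G := specializes_of_eq (pw_ept G n)

/-- the endomorphism of `𝒪_{G,e}` induced by the `n`-th power map -/
noncomputable def Ψ : O G ⟶ O G :=
  G.left.presheaf.stalkSpecializes (pw_ept_specializes G n) ≫ (pw G n).stalkMap (ept G)

theorem SpecMap_Ψ :
    Spec.map (Ψ G n) ≫ G.left.fromSpecStalk (ept G) = G.left.fromSpecStalk (ept G) ≫ pw G n := by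
  rw [Ψ, Spec.map_comp, Category.assoc, Scheme.SpecMap_stalkSpecializes_fromSpecStalk,
    Scheme.SpecMap_stalkMap_fromSpecStalk]

theorem α_Ψ : α G ≫ Ψ G n = α G := by
  apply Spec.map_injective
  rw [Spec.map_comp, SpecMap_α, reassoc_of% SpecMap_Ψ, pw_comp_hom]

theorem gpt_pow_left : (gpt G ^ n).left = (gpt G).left ≫ pw G n := by
  rw [← comp_powHom, Over.comp_left]
  rfl

variable (ch : Chart G) (lam : ch.A ⟶ O G)
  (hlam : Spec.map lam ≫ ch.jU = G.left.fromSpecStalk (ept G))

include hlam in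
theorem Ψ_ρ_apply (a : ch.A) :
    (ρ G).hom ((Ψ G n).hom (lam.hom a)) = (β G).hom (ch.ε.hom a) +
      n * ((ρ G).hom (lam.hom a) - (β G).hom (ch.ε.hom a)) := by
  have eg : Spec.map (lam ≫ ρ G) ≫ ch.jU = (gpt G).left := by
    rw [Spec.map_comp, Category.assoc, hlam, gpt_left]
  have en : Spec.map (lam ≫ Ψ G n ≫ ρ G) ≫ ch.jU = (gpt G ^ n).left := by
    rw [gpt_pow_left, gpt_left, Spec.map_comp, Spec.map_comp, Category.assoc, Category.assoc, hlam,
      SpecMap_Ψ, Category.assoc]
  have := phi_pow ch (I G) (I_sq G) (β G) (gpt G) (incl_gpt G) (lam ≫ ρ G) eg n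
    (lam ≫ Ψ G n ≫ ρ G) en a
  simpa using this

include hlam in
theorem Ψ_sub_mem (b : O G) (hb : b ∈ IsLocalRing.maximalIdeal (O G)) :
    (Ψ G n).hom b - (n : O G) * b ∈ IsLocalRing.maximalIdeal (O G) ^ 2 := by
  have hI' := mul_eq_zero_of_sq_eq_bot (I G) (I_sq G)
  have h1 : ∀ x : O G, (ρ G).hom x - (εO G ≫ α G ≫ ρ G).hom x ∈ I G := by
    intro x
    simp only [CommRingCat.hom_comp, RingHom.comp_apply]
    rw [← map_sub]
    exact ρ_mem_I G _ (sub_mem_maximalIdeal G x)
  obtain ⟨F₂, hF₂⟩ : ∃ F₂ : O G ⟶ CommRingCat.of (D G), ∀ x, F₂.hom x =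
      (εO G ≫ α G ≫ ρ G).hom x + (n : D G) * ((ρ G).hom x - (εO G ≫ α G ≫ ρ G).hom x) :=
    ⟨CommRingCat.ofHom (scale (I G) hI' (εO G ≫ α G ≫ ρ G).hom (ρ G).hom (n : D G) h1),
      fun x => rfl⟩
  have hε : ∀ a : ch.A, (εO G).hom (lam.hom a) = ch.ε.hom a := by
    intro a
    have := congrArg (fun f => f.hom a) (lam_εO G ch lam hlam)
    simpa using this
  have key : Ψ G n ≫ ρ G = F₂ := by
    apply lam_epi G ch lam hlam
    ext a
    simp only [CommRingCat.hom_comp, RingHom.comp_apply]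
    rw [hF₂, Ψ_ρ_apply G n ch lam hlam a]
    simp only [CommRingCat.hom_comp, RingHom.comp_apply, hε, β]
  have h2 := congrArg (fun f => f.hom b) key
  simp only [CommRingCat.hom_comp, RingHom.comp_apply] at h2
  rw [hF₂] at h2
  simp only [CommRingCat.hom_comp, RingHom.comp_apply, εO_eq_zero G b hb, map_zero, zero_add,
    sub_zero] at h2
  rw [← Ideal.Quotient.eq_zero_iff_mem, map_sub, map_mul, map_natCast]
  rw [sub_eq_zero]
  exact h2

end key

section main

open IsLocalRing

variable [LocallyOfFiniteType G.hom] (n : ℕ) (hn : (n : k) ≠ 0)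

instance : LocallyOfFiniteType (pw G n) := by
  have h1 : LocallyOfFiniteType (pw G n ≫ G.hom) := by rw [pw_comp_hom]; infer_instance
  exact locallyOfFiniteType_of_comp _ G.hom

include hn in
theorem stalkMap_flat_and_map :
    ((pw G n).stalkMap (ept G)).hom.Flat ∧
      (maximalIdeal (G.left.presheaf.stalk (pw G n (ept G)))).map
        ((pw G n).stalkMap (ept G)).hom = maximalIdeal (O G) := by
  obtain ⟨ch⟩ := nonempty_chart G
  obtain ⟨lam, hlam⟩ := exists_lam G ch
  haveI : IsLocallyNoetherian G.left := LocallyOfFiniteType.isLocallyNoetherian G.hom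
  obtain ⟨θ, hθ⟩ : ∃ θ : O G ≃+* G.left.presheaf.stalk (pw G n (ept G)),
      ∀ x, θ x = (G.left.presheaf.stalkSpecializes (pw_ept_specializes G n)).hom x :=
    ⟨(G.left.presheaf.stalkCongr (Inseparable.of_eq (pw_ept G n).symm)).commRingCatIsoToRingEquiv,
      fun x => rfl⟩
  have hΨx : ∀ x : O G, ((pw G n).stalkMap (ept G)).hom (θ x) = (Ψ G n).hom x := by
    intro x
    rw [hθ]
    rfl
  have hres : ∀ x : O G, ∃ c : k, x - (α G).hom c ∈ maximalIdeal (O G) :=
    fun x => ⟨(εO G).hom x, sub_mem_maximalIdeal G x⟩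
  have hΨα : ∀ c : k, ((pw G n).stalkMap (ept G)).hom (θ ((α G).hom c)) = (α G).hom c := by
    intro c
    rw [hΨx]
    have := congrArg (fun f => f.hom c) (α_Ψ G n)
    simpa using this
  have hΨ : ∀ a ∈ maximalIdeal (O G),
      ((pw G n).stalkMap (ept G)).hom (θ a) - (n : O G) * a ∈ maximalIdeal (O G) ^ 2 := by
    intro a ha
    rw [hΨx]
    exact Ψ_sub_mem G n ch lam hlam a ha
  exact ⟨PowStalkAlg.flat (α G).hom _ θ n hres hΨα hΨ hn,
    PowStalkAlg.map_maximalIdeal_eq' (α G).hom _ θ n hΨ hn⟩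

omit [LocallyOfFiniteType G.hom] in
theorem residueFieldMap_surjective :
    Function.Surjective ((pw G n).residueFieldMap (ept G)).hom := by
  intro z
  obtain ⟨x, rfl⟩ := IsLocalRing.residue_surjective z
  have hx := sub_mem_maximalIdeal G x
  have h1 : IsLocalRing.residue (O G) x = IsLocalRing.residue (O G) ((α G).hom ((εO G).hom x)) := by
    rw [← sub_eq_zero, ← map_sub, IsLocalRing.residue_eq_zero_iff]
    exact hx
  have h2 : (α G).hom ((εO G).hom x) = (Ψ G n).hom ((α G).hom ((εO G).hom x)) := by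
    have := congrArg (fun f => f.hom ((εO G).hom x)) (α_Ψ G n)
    simpa using this.symm
  obtain ⟨y, hy⟩ : ∃ y, y = (α G).hom ((εO G).hom x) := ⟨_, rfl⟩
  rw [← hy] at h1 h2
  refine ⟨IsLocalRing.residue _
    ((G.left.presheaf.stalkSpecializes (pw_ept_specializes G n)).hom y), ?_⟩
  rw [h1]
  change IsLocalRing.residue (O G) ((Ψ G n).hom y) = IsLocalRing.residue (O G) y
  rw [← h2]

include hn in
/-- **the `n`-th power map is étale near the unit point** -/
theorem exists_opens_etale : ∃ U : G.left.Opens, ept G ∈ U ∧ Etale (U.ι ≫ pw G n) := by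
  haveI : IsLocallyNoetherian G.left := LocallyOfFiniteType.isLocallyNoetherian G.hom
  obtain ⟨hflat, hmap⟩ := stalkMap_flat_and_map G n hn
  have hsurj := residueFieldMap_surjective G n
  refine Groth.Agent.Lib.Helper24.exists_opens_etale_of_flat_of_formallyUnramified_stalk
    (pw G n) (ept G) hflat ?_
  rw [Groth.Agent.Lib.Helper24.formallyUnramified_stalkMap_iff_residue]
  refine ⟨hmap, ?_⟩
  letI := ((pw G n).residueFieldMap (ept G)).hom.toAlgebra
  have hs : Function.Surjective (algebraMap (G.left.residueField ((pw G n) (ept G)))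
      (G.left.residueField (ept G))) := hsurj
  refine ⟨Module.Finite.of_surjective (Algebra.linearMap _ _) hs, ⟨fun x => ?_⟩⟩
  obtain ⟨y, rfl⟩ := hs x
  exact isSeparable_algebraMap y

end main

end Groth.Agent.Lib.Helper26.PowStalk
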