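import Mathlib
import Groth.Agent.Lib.Helper26.PowStalk
import Groth.Agent.Lib.Helper26.SectionComp

/-!
# The `n`-th power map is étale near every central rational point
-/

set_option autoImplicit false

namespace Groth.Agent.Lib.Helper26.PowCentral

open CategoryTheory CategoryTheory.Limits AlgebraicGeometry MonoidalCategory
  CartesianMonoidalCategory MonObj GrpObj
open Groth.Agent.Lib.Helper26.SectionComp Groth.Agent.Lib.Helper26.PowStalk

universe u

section general

variable {S : Scheme.{u}} (G : Over S) [GrpObj G]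

/-- translation by a central section commutes with the power map up to translation by the power -/
theorem rtr_comp_pow (g : 𝟙_ (Over S) ⟶ G)
    (hg : (toUnit G ≫ g) * (𝟙 G) = (𝟙 G) * (toUnit G ≫ g)) (n : ℕ) :
    rtr G g ≫ ((𝟙 G : G ⟶ G) ^ n) = ((𝟙 G : G ⟶ G) ^ n) ≫ rtr G (g ^ n) := by
  have hc : Commute (𝟙 G : G ⟶ G) (toUnit G ≫ g) := hg.symm
  rw [MonObj.comp_pow, Category.comp_id, comp_rtr, rtr, hc.mul_pow, MonObj.comp_pow]

/-- the power map is conjugate to itself by translations along a central section -/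
theorem pow_eq_rtr_comp (g : 𝟙_ (Over S) ⟶ G)
    (hg : (toUnit G ≫ g) * (𝟙 G) = (𝟙 G) * (toUnit G ≫ g)) (n : ℕ) :
    ((𝟙 G : G ⟶ G) ^ n) = rtr G g⁻¹ ≫ ((𝟙 G : G ⟶ G) ^ n) ≫ rtr G (g ^ n) := by
  rw [← rtr_comp_pow G g hg n, ← Category.assoc, rtr_comp, _root_.inv_mul_cancel, rtr_one,
    Category.id_comp]

end general

variable {k : Type u} [Field k] (G : Over (Spec (CommRingCat.of k))) [GrpObj G]
  [LocallyOfFiniteType G.hom]

/-- **the `n`-th power map is étale near a central rational point** -/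
theorem exists_opens_etale_central (n : ℕ) (hn : (n : k) ≠ 0)
    (g : 𝟙_ (Over (Spec (CommRingCat.of k))) ⟶ G)
    (hg : (toUnit G ≫ g) * (𝟙 G) = (𝟙 G) * (toUnit G ≫ g)) :
    ∃ U : G.left.Opens, Set.range g.left.base ⊆ (U : Set ↥G.left) ∧
      Etale (U.ι ≫ ((𝟙 G : G ⟶ G) ^ n).left) := by
  obtain ⟨U, hU, hE⟩ := exists_opens_etale G n hn
  haveI : IsIso (rtr G g⁻¹) := (rtrIso G g⁻¹).isIso_hom
  haveI : IsIso (rtr G (g ^ n)) := (rtrIso G (g ^ n)).isIso_hom
  haveI : IsIso (rtr G g⁻¹).left :=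
    inferInstanceAs (IsIso ((Over.forget _).map (rtr G g⁻¹)))
  haveI : IsIso (rtr G (g ^ n)).left :=
    inferInstanceAs (IsIso ((Over.forget _).map (rtr G (g ^ n))))
  refine ⟨(rtr G g⁻¹).left ⁻¹ᵁ U, ?_, ?_⟩
  · rintro _ ⟨p, rfl⟩
    haveI : Subsingleton ↥(Spec (CommRingCat.of k)) :=
      inferInstanceAs (Subsingleton (PrimeSpectrum k))
    have hp : p = (IsLocalRing.closedPoint k : ↥(Spec (CommRingCat.of k))) :=
      Subsingleton.elim (α := ↥(Spec (CommRingCat.of k))) _ _
    change (rtr G g⁻¹).left.base (g.left.base p) ∈ U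
    have h1 : g ≫ rtr G g⁻¹ = η[G] := by
      rw [section_comp_rtr, _root_.mul_inv_cancel, Hom.one_def,
        toUnit_unique (toUnit (𝟙_ (Over (Spec (CommRingCat.of k))))) (𝟙 _), Category.id_comp]
    have h2 : (rtr G g⁻¹).left.base (g.left.base p) = η[G].left.base p := by
      rw [← h1, Over.comp_left]
      rfl
    rw [h2, hp]
    exact hU
  · have h3 : ((rtr G g⁻¹).left ⁻¹ᵁ U).ι ≫ ((𝟙 G : G ⟶ G) ^ n).left =
        ((rtr G g⁻¹).left ∣_ U) ≫ (U.ι ≫ pw G n) ≫ (rtr G (g ^ n)).left := by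
      conv_lhs => rw [pow_eq_rtr_comp G g hg n]
      rw [Over.comp_left, Over.comp_left, ← Category.assoc, ← morphismRestrict_ι]
      simp only [Category.assoc]
      rfl
    rw [h3]
    infer_instance

end Groth.Agent.Lib.Helper26.PowCentral
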