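import Mathlib
import Groth.Prelude.Def_AutSch
import Groth.Agent.Lib.Helper12.ConstrTop
import Groth.Agent.Lib.Helper70.GrpConnD

/-!
# Torsion points modulo the identity component (over an algebraically closed field)

For a connected commutative group scheme `H` of finite type over an algebraically closed field and
`n ≥ 1`, every rational point `x` satisfies `x ^ N = y ^ (n * N)` for some `N ≥ 1` and some rational
point `y`.  (Descending chain condition on the closures of the images of the `n ^ j`-th power maps,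
Chevalley's theorem, and the usual `U · U = G` trick.)
-/

set_option autoImplicit false

namespace Groth.Agent.Lib.Helper26.TorsionModIdComp

open CategoryTheory CategoryTheory.Limits AlgebraicGeometry MonObj MonoidalCategory
  CartesianMonoidalCategory Topology

universe u

section refl

variable {S : Scheme.{u}} (H : Over S) [GrpObj H] [IsCommMonObj H]

/-- the morphism `p ↦ x p⁻¹` -/
noncomputable def refl (x : 𝟙_ (Over S) ⟶ H) : H ⟶ H := (𝟙 H)⁻¹ * (toUnit H ≫ x)

theorem comp_refl {T : Over S} (s : T ⟶ H) (x : 𝟙_ (Over S) ⟶ H) :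
    s ≫ refl H x = s⁻¹ * (toUnit T ≫ x) := by
  rw [refl, MonObj.comp_mul, GrpObj.comp_inv, Category.comp_id, ← Category.assoc,
    toUnit_unique (s ≫ toUnit H) (toUnit T)]

theorem section_comp_refl (s x : 𝟙_ (Over S) ⟶ H) : s ≫ refl H x = s⁻¹ * x := by
  rw [comp_refl, toUnit_unique (toUnit (𝟙_ (Over S))) (𝟙 _), Category.id_comp]

theorem refl_refl (x : 𝟙_ (Over S) ⟶ H) : refl H x ≫ refl H x = 𝟙 H := by
  rw [comp_refl, refl, _root_.mul_inv_rev, inv_inv, _root_.mul_comm _ (𝟙 H), _root_.mul_assoc,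
    _root_.inv_mul_cancel, _root_.mul_one]

theorem refl_comp_pow (x : 𝟙_ (Over S) ⟶ H) (N : ℕ) :
    refl H x ≫ ((𝟙 H) ^ N) = ((𝟙 H) ^ N) ≫ refl H (x ^ N) := by
  rw [MonObj.comp_pow, Category.comp_id, comp_refl, refl, _root_.mul_pow, inv_pow,
    MonObj.comp_pow]

/-- `refl` as an automorphism -/
noncomputable def reflIso (x : 𝟙_ (Over S) ⟶ H) : H ≅ H where
  hom := refl H x
  inv := refl H x
  hom_inv_id := refl_refl H x
  inv_hom_id := refl_refl H x

omit [IsCommMonObj H] in
theorem pow_comp_pow (a b : ℕ) : ((𝟙 H) ^ a) ≫ ((𝟙 H) ^ b) = (𝟙 H) ^ (a * b) := by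
  rw [MonObj.comp_pow, Category.comp_id, ← pow_mul]

end refl

section points

variable {k : Type u} [Field k] [IsAlgClosed k] (H : Over (Spec (CommRingCat.of k)))
  [LocallyOfFiniteType H.hom]

/-- the point of `H` underlying a rational point -/
noncomputable def pt (s : 𝟙_ (Over (Spec (CommRingCat.of k))) ⟶ H) : ↥H.left :=
  s.left (IsLocalRing.closedPoint k)

theorem pt_injective : Function.Injective (pt H) := by
  intro s s' h
  apply Over.OverMorphism.ext
  exact ext_of_apply_closedPoint_eq H.hom (Over.w s) (Over.w s') h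

theorem exists_pt_eq (p : ↥H.left) (hp : IsClosed {p}) :
    ∃ s : 𝟙_ (Over (Spec (CommRingCat.of k))) ⟶ H, pt H s = p := by
  obtain ⟨z, hz⟩ : ∃ z : 𝟙_ (Over (Spec (CommRingCat.of k))) ⟶ H,
      z.left = pointOfClosedPoint H.hom p hp :=
    ⟨Over.homMk (pointOfClosedPoint H.hom p hp) (pointOfClosedPoint_comp _ _ _), rfl⟩
  exact ⟨z, by rw [pt, hz, pointOfClosedPoint_apply]⟩

omit [IsAlgClosed k] [LocallyOfFiniteType H.hom] in
theorem pt_comp {H' : Over (Spec (CommRingCat.of k))}
    (s : 𝟙_ (Over (Spec (CommRingCat.of k))) ⟶ H) (f : H ⟶ H') :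
    pt H' (s ≫ f) = f.left (pt H s) := rfl

end points

section core

open Groth.Agent.Lib.Helper12

variable {k : Type u} [Field k] [IsAlgClosed k] (H : Over (Spec (CommRingCat.of k))) [GrpObj H]
  [IsCommMonObj H] [LocallyOfFiniteType H.hom] [IrreducibleSpace ↥H.left] [CompactSpace ↥H.left]

theorem exists_pow_eq (n : ℕ) (hn : 0 < n) (x : 𝟙_ (Over (Spec (CommRingCat.of k))) ⟶ H) :
    ∃ (N : ℕ) (y : 𝟙_ (Over (Spec (CommRingCat.of k))) ⟶ H), 0 < N ∧ x ^ N = y ^ (n * N) := by
  classical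
  have hLN : IsLocallyNoetherian H.left := LocallyOfFiniteType.isLocallyNoetherian H.hom
  have hNoe : IsNoetherian H.left := {}
  have hJ : JacobsonSpace ↥H.left := LocallyOfFiniteType.jacobsonSpace H.hom
  -- the power maps
  obtain ⟨φ, hφ⟩ : ∃ φ : ℕ → (H ⟶ H), ∀ j, φ j = (𝟙 H) ^ (n ^ j) := ⟨_, fun _ => rfl⟩
  have hφsucc : ∀ j, φ (j + 1) = φ 1 ≫ φ j := by
    intro j
    rw [hφ, hφ, hφ, pow_comp_pow, pow_one, pow_succ']
  have hφpt : ∀ j (s : 𝟙_ (Over (Spec (CommRingCat.of k))) ⟶ H), s ≫ φ j = s ^ (n ^ j) := by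
    intro j s
    rw [hφ, MonObj.comp_pow, Category.comp_id]
  -- the closures of the images form a descending chain
  have hanti : Antitone fun j : ℕ =>
      (⟨closure (Set.range (φ j).left), isClosed_closure⟩ : TopologicalSpace.Closeds ↥H.left) := by
    apply antitone_nat_of_succ_le
    intro j
    change closure (Set.range (φ (j + 1)).left) ⊆ closure (Set.range (φ j).left)
    apply closure_mono
    rintro _ ⟨p, rfl⟩
    exact ⟨(φ 1).left p, by rw [hφsucc j]; rfl⟩
  obtain ⟨m, hm⟩ := WellFoundedLT.antitone_chain_condition hanti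
  have hZ : closure (Set.range (φ m).left) = closure (Set.range (φ (m + 1)).left) :=
    congrArg (fun Z : TopologicalSpace.Closeds ↥H.left => (Z : Set ↥H.left))
      (hm (m + 1) (Nat.le_succ m))
  have hirr : IsIrreducible (closure (Set.range (φ m).left)) := by
    rw [← Set.image_univ]
    exact ((IrreducibleSpace.isIrreducible_univ _).image _
      (φ m).left.continuous.continuousOn).closure
  have hcons : IsConstructible (Set.range (φ (m + 1)).left) := by
    rw [← Set.image_univ]
    have h1 : LocallyOfFiniteType ((φ (m + 1)).left ≫ H.hom) := by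
      rw [Over.w (φ (m + 1))]; infer_instance
    have : LocallyOfFiniteType (φ (m + 1)).left := locallyOfFiniteType_of_comp _ H.hom
    exact Scheme.Hom.isConstructible_image _ IsConstructible.univ
  have hsub : Set.range (φ (m + 1)).left ⊆ closure (Set.range (φ m).left) := by
    rw [hZ]; exact subset_closure
  obtain ⟨U, hU, hUne, hUsub⟩ := ConstrTop.exists_open_of_dense_trace hcons hirr (by
    rw [Set.inter_eq_left.mpr hsub, ← hZ])
  -- the reflection `p ↦ w p⁻¹`
  obtain ⟨w, hw⟩ : ∃ w : 𝟙_ (Over (Spec (CommRingCat.of k))) ⟶ H, w = x ^ (n ^ m) := ⟨_, rfl⟩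
  obtain ⟨σ, hσ⟩ : ∃ σ : H.left ⟶ H.left, σ = (refl H w).left := ⟨_, rfl⟩
  have hσσ : ∀ p, σ (σ p) = p := by
    intro p
    rw [hσ, ← Scheme.Hom.comp_apply, ← Over.comp_left, refl_refl]
    rfl
  have hσrange : ∀ p ∈ Set.range (φ m).left, σ p ∈ Set.range (φ m).left := by
    rintro _ ⟨q, rfl⟩
    refine ⟨(refl H x).left q, ?_⟩
    rw [hσ, ← Scheme.Hom.comp_apply, ← Scheme.Hom.comp_apply, ← Over.comp_left, ← Over.comp_left,
      hφ, hw, refl_comp_pow]
  have hσZ : ∀ p ∈ closure (Set.range (φ m).left), σ p ∈ closure (Set.range (φ m).left) := by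
    intro p hp
    have h1 := image_closure_subset_closure_image σ.continuous (Set.mem_image_of_mem σ hp)
    refine closure_mono ?_ h1
    rintro _ ⟨q, hq, rfl⟩
    exact hσrange q hq
  -- a closed point in `Z ∩ U ∩ σ⁻¹ U`
  obtain ⟨q, hqU, hqZ⟩ := hUne
  have hne : (closure (Set.range (φ m).left) ∩ (U ∩ σ ⁻¹' U)).Nonempty :=
    hirr.isPreirreducible U (σ ⁻¹' U) hU (hU.preimage σ.continuous) ⟨q, hqZ, hqU⟩
      ⟨σ q, hσZ q hqZ, by rw [Set.mem_preimage, hσσ]; exact hqU⟩
  obtain ⟨u, ⟨huZ, huU, huσ⟩, huc⟩ := nonempty_inter_closedPoints hne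
    (isClosed_closure.isLocallyClosed.inter
      (hU.inter (hU.preimage σ.continuous)).isLocallyClosed)
  have huE : u ∈ Set.range (φ (m + 1)).left := hUsub ⟨huU, huZ⟩
  have huE' : σ u ∈ Set.range (φ (m + 1)).left := hUsub ⟨huσ, hσZ u huZ⟩
  have huc' : IsClosed {σ u} := by
    have hinj : Function.Injective σ := fun a b hab => by rw [← hσσ a, ← hσσ b, hab]
    have h1 : {σ u} = σ ⁻¹' {u} := by
      ext p
      simp only [Set.mem_singleton_iff, Set.mem_preimage]
      constructor
      · rintro rfl; exact hσσ u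
      · intro h; rw [← h, hσσ]
    rw [h1]
    exact (mem_closedPoints_iff.mp huc).preimage σ.continuous
  -- closed points in the fibres
  have hfib : ∀ v ∈ Set.range (φ (m + 1)).left, IsClosed {v} →
      ∃ s : 𝟙_ (Over (Spec (CommRingCat.of k))) ⟶ H, pt H (s ^ (n ^ (m + 1))) = v := by
    intro v hv hvc
    have hne' : ((φ (m + 1)).left ⁻¹' {v}).Nonempty := by
      obtain ⟨a, ha⟩ := hv
      exact ⟨a, ha⟩
    obtain ⟨a, ha, hac⟩ := nonempty_inter_closedPoints hne'
      (hvc.preimage (φ (m + 1)).left.continuous).isLocallyClosed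
    obtain ⟨s, hs⟩ := exists_pt_eq H a hac
    refine ⟨s, ?_⟩
    rw [← hφpt, pt_comp, hs]
    exact ha
  obtain ⟨s, hs⟩ := hfib u huE (mem_closedPoints_iff.mp huc)
  obtain ⟨s', hs'⟩ := hfib (σ u) huE' huc'
  have hkey : (s ^ (n ^ (m + 1)))⁻¹ * w = s' ^ (n ^ (m + 1)) := by
    apply pt_injective H
    rw [← section_comp_refl, pt_comp, hs, hs', hσ]
  refine ⟨n ^ m, s * s', pow_pos hn m, ?_⟩
  rw [← hw, ← pow_succ', _root_.mul_pow, ← hkey, ← _root_.mul_assoc, _root_.mul_inv_cancel,
    _root_.one_mul]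

end core

section main

open Groth.Agent.Lib.Helper70

variable {k : Type u} [Field k]
  {G G0 : Over (Spec (CommRingCat.of k))} [GrpObj G] [GrpObj G0]

/-- a subgroup object of a commutative group object is commutative -/
theorem isCommMonObj_of_mono {S : Scheme.{u}} {G G0 : Over S} [GrpObj G] [IsCommMonObj G]
    [GrpObj G0] (i : G0 ⟶ G) [IsMonHom i] [Mono i] : IsCommMonObj G0 := by
  rw [isCommMonObj_iff_isMulCommutative]
  intro X
  refine ⟨⟨fun f g => ?_⟩⟩
  rw [← cancel_mono i, MonObj.mul_comp, MonObj.mul_comp, _root_.mul_comm]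

variable (i : G0 ⟶ G) (hi : AutSch.IsIdComp i)

include hi in
theorem compactSpace_of_isIdComp : CompactSpace ↥G0.left := by
  obtain ⟨-, hoi, hr⟩ := (AutSch.isIdComp_iff_of_field i).mp hi
  have hemb : IsOpenEmbedding i.left := i.left.isOpenEmbedding
  rw [← isCompact_univ_iff, hemb.isInducing.isCompact_iff, Set.image_univ]
  have : Set.range i.left = GrpConnA.C0 G := by
    rw [← GrpConnC.connectedComponent_ept]
    exact hr
  rw [this]
  exact GrpConnD.isCompact_C0 G

include hi in
theorem connectedSpace_of_isIdComp : ConnectedSpace ↥G0.left := by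
  obtain ⟨-, hoi, hr⟩ := (AutSch.isIdComp_iff_of_field i).mp hi
  have hemb : IsOpenEmbedding i.left := i.left.isOpenEmbedding
  have h1 : _root_.IsPreconnected (Set.univ : Set ↥G0.left) := by
    rw [← hemb.isInducing.isPreconnected_image, Set.image_univ]
    have : Set.range i.left = connectedComponent (AutSch.unitPt G) := hr
    rw [this]
    exact isPreconnected_connectedComponent
  have : Nonempty ↥G0.left := ⟨η[G0].left (IsLocalRing.closedPoint k)⟩
  exact { toPreconnectedSpace := ⟨h1⟩, toNonempty := this }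

variable [IsAlgClosed k] [IsCommMonObj G] [LocallyOfFiniteType G.hom] [IsMonHom i]

include hi in
theorem main (g : 𝟙_ (Over (Spec (CommRingCat.of k))) ⟶ G) (n : ℕ) (hn : 0 < n)
    (hg : g ^ n ∈ AutSch.ptsRange i) :
    ∃ t : 𝟙_ (Over (Spec (CommRingCat.of k))) ⟶ G,
      IsOfFinOrder t ∧ t⁻¹ * g ∈ AutSch.ptsRange i := by
  obtain ⟨-, hoi, hr⟩ := (AutSch.isIdComp_iff_of_field i).mp hi
  have hmono : Mono i := by
    have : Mono i.left := inferInstance
    exact (Over.forget _).mono_of_mono_map this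
  have hcomm : IsCommMonObj G0 := isCommMonObj_of_mono i
  have hlft : LocallyOfFiniteType G0.hom := by
    rw [← Over.w i]; infer_instance
  have hcpt : CompactSpace ↥G0.left := compactSpace_of_isIdComp i hi
  have hconn : ConnectedSpace ↥G0.left := connectedSpace_of_isIdComp i hi
  have hirr : IrreducibleSpace ↥G0.left := GrpConnC.irreducibleSpace_of_connectedSpace G0
  obtain ⟨x₀, hx₀⟩ := (AutSch.mem_ptsRange_iff i _).mp hg
  obtain ⟨N, y, hN, hy⟩ := exists_pow_eq G0 n hn x₀
  have hpow : g ^ (n * N) = (y ≫ i) ^ (n * N) := by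
    rw [pow_mul, ← hx₀, ← MonObj.pow_comp, hy, MonObj.pow_comp]
  refine ⟨g * (y ≫ i)⁻¹, ?_, ?_⟩
  · rw [isOfFinOrder_iff_pow_eq_one]
    refine ⟨n * N, Nat.mul_pos hn hN, ?_⟩
    rw [_root_.mul_pow, inv_pow, hpow, _root_.mul_inv_cancel]
  · rw [_root_.mul_inv_rev, inv_inv, _root_.mul_assoc, _root_.inv_mul_cancel, _root_.mul_one]
    exact (AutSch.mem_ptsRange_iff i _).mpr ⟨y, rfl⟩

end main

end Groth.Agent.Lib.Helper26.TorsionModIdComp
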