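import Mathlib
import Groth.Agent.Lib.Helper26.PowCentral
import Groth.Agent.Lib.Helper26.PowEtale2
import Groth.Agent.Lib.Helper26.TorsionModIdComp

/-!
# The `n`-th power map of a commutative group scheme locally of finite type over a field is étale
(`n` invertible in the field)
-/

set_option autoImplicit false

namespace Groth.Agent.Lib.Helper26.PowCommEtale

open CategoryTheory CategoryTheory.Limits AlgebraicGeometry MonoidalCategory
  CartesianMonoidalCategory MonObj GrpObj
open Groth.Agent.Lib.Helper26.SectionComp Groth.Agent.Lib.Helper26.PowStalk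
  Groth.Agent.Lib.Helper26.PowCentral Groth.Agent.Lib.Helper26.TorsionModIdComp

universe u

section algClosed

variable {K : Type u} [Field K] [IsAlgClosed K] (G : Over (Spec (CommRingCat.of K))) [GrpObj G]
  [IsCommMonObj G] [LocallyOfFiniteType G.hom]

/-- over an algebraically closed field -/
theorem etale_pow_of_isAlgClosed (n : ℕ) (hn : (n : K) ≠ 0) :
    Etale ((𝟙 G : G ⟶ G) ^ n).left := by
  have hJ : JacobsonSpace ↥G.left := LocallyOfFiniteType.jacobsonSpace G.hom
  -- for each closed point an open neighbourhood on which the power map is étale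
  have key : ∀ p : closedPoints ↥G.left, ∃ U : G.left.Opens, p.1 ∈ U ∧
      Etale (U.ι ≫ ((𝟙 G : G ⟶ G) ^ n).left) := by
    intro p
    obtain ⟨g, hg⟩ := exists_pt_eq G p.1 (mem_closedPoints_iff.mp p.2)
    obtain ⟨U, hU, hE⟩ := exists_opens_etale_central G n hn g (_root_.mul_comm _ _)
    refine ⟨U, ?_, hE⟩
    rw [← hg]
    exact hU ⟨_, rfl⟩
  choose U hU hE using key
  refine IsZariskiLocalAtSource.of_iSup_eq_top (P := @Etale) U ?_ hE
  -- the union contains all closed points, hence is everything
  by_contra hne
  have hne' : ((((⨆ i, U i : G.left.Opens) : Set ↥G.left))ᶜ).Nonempty := by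
    rw [Set.nonempty_compl]
    intro h
    apply hne
    exact TopologicalSpace.Opens.ext h
  obtain ⟨q, hq, hqc⟩ := nonempty_inter_closedPoints hne'
    (⨆ i, U i : G.left.Opens).isOpen.isClosed_compl.isLocallyClosed
  apply hq
  exact TopologicalSpace.Opens.mem_iSup.mpr ⟨⟨q, hqc⟩, hU ⟨q, hqc⟩⟩

end algClosed

section descent

variable {k : Type u} [Field k] (G : Over (Spec (CommRingCat.of k))) [GrpObj G]
  [IsCommMonObj G] [LocallyOfFiniteType G.hom]

open scoped Obj in
/-- **the `n`-th power map of a commutative group scheme locally of finite type over a field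
is étale** when `n` is invertible in the field -/
theorem etale_pow (n : ℕ) (hn : (n : k) ≠ 0) : Etale ((𝟙 G : G ⟶ G) ^ n).left := by
  let K := AlgebraicClosure k
  let f : Spec (CommRingCat.of K) ⟶ Spec (CommRingCat.of k) :=
    Spec.map (CommRingCat.ofHom (algebraMap k K))
  let GK : Over (Spec (CommRingCat.of K)) := (Over.pullback f).obj G
  haveI : LocallyOfFiniteType GK.hom :=
    inferInstanceAs (LocallyOfFiniteType (pullback.snd G.hom f))
  haveI : IsCommMonObj GK := inferInstance
  have hnK : (n : K) ≠ 0 := by
    intro h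
    apply hn
    have : algebraMap k K (n : k) = 0 := by rw [map_natCast]; exact h
    exact (map_eq_zero_iff _ (algebraMap k K).injective).mp this
  have hE : Etale ((Over.pullback f).map ((𝟙 G : G ⟶ G) ^ n)).left := by
    rw [Groth.Agent.Lib.Helper26.PowEtale.map_pow_id]
    exact etale_pow_of_isAlgClosed GK n hnK
  -- the cartesian square
  have hsq : IsPullback ((Over.pullback f).map ((𝟙 G : G ⟶ G) ^ n)).left
      (pullback.fst G.hom f) (pullback.fst G.hom f) ((𝟙 G : G ⟶ G) ^ n).left := by
    have hbig : IsPullback (pullback.fst G.hom f) (pullback.snd G.hom f) G.hom f :=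
      IsPullback.of_hasPullback G.hom f
    have h1 : ((Over.pullback f).map ((𝟙 G : G ⟶ G) ^ n)).left ≫ pullback.snd G.hom f =
        pullback.snd G.hom f := Over.w ((Over.pullback f).map ((𝟙 G : G ⟶ G) ^ n))
    have h2 : ((𝟙 G : G ⟶ G) ^ n).left ≫ G.hom = G.hom := Over.w _
    have h3 : ((Over.pullback f).map ((𝟙 G : G ⟶ G) ^ n)).left ≫ pullback.fst G.hom f =
        pullback.fst G.hom f ≫ ((𝟙 G : G ⟶ G) ^ n).left := by
      simp only [Over.pullback, Over.homMk_left]
      exact pullback.lift_fst _ _ _
    refine IsPullback.of_right (h₁₂ := pullback.snd G.hom f) (h₂₂ := G.hom) (v₁₃ := f) ?_ h3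
      hbig.flip
    rw [h1, h2]
    exact hbig.flip
  haveI : Surjective f := by
    constructor
    intro y
    haveI : Subsingleton ↥(Spec (CommRingCat.of k)) :=
      inferInstanceAs (Subsingleton (PrimeSpectrum k))
    exact ⟨(IsLocalRing.closedPoint K : ↥(Spec (CommRingCat.of K))),
      Subsingleton.elim (α := ↥(Spec (CommRingCat.of k))) _ _⟩
  haveI : Flat f := by
    rw [show f = Spec.map (CommRingCat.ofHom (algebraMap k K)) from rfl, Flat.SpecMap_iff,
      CommRingCat.hom_ofHom, RingHom.flat_algebraMap_iff]
    infer_instance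
  exact MorphismProperty.of_isPullback_of_descendsAlong (P := @Etale)
    (Q := @Surjective ⊓ @Flat ⊓ @QuasiCompact) hsq
    ⟨⟨inferInstance, inferInstance⟩, inferInstance⟩ hE

end descent

end Groth.Agent.Lib.Helper26.PowCommEtale
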