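import Groth.Agent.Lib.Helper26.GrpQuotGen

set_option autoImplicit false
open CategoryTheory CategoryTheory.Limits MonoidalCategory
open MonObj CartesianMonoidalCategory SemiCartesianMonoidalCategory
open scoped MonObj
universe v₁ u₁

namespace Groth.Agent.Lib.Helper26.PreimageSubgroup

noncomputable section

variable {𝒮 : Type u₁} [Category.{v₁} 𝒮] [CartesianMonoidalCategory 𝒮] [HasPullbacks 𝒮]
variable {G G' C' H' : 𝒮} [GrpObj G] [GrpObj G'] [GrpObj C'] [GrpObj H']
  (u : G ⟶ G') (c' : C' ⟶ G') (h' : H' ⟶ G') (f : C' ⟶ H')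

/-- `(g, c') ↦ u(g) · c'`. -/
def A : G ⊗ C' ⟶ G' := (fst G C' ≫ u) * (snd G C' ≫ c')

/-- `(g, c) ↦ g · c`. -/
def mG : G ⊗ pullback c' u ⟶ G := fst G _ * (snd G _ ≫ pullback.snd c' u)

lemma comp_A {T : 𝒮} (t : T ⟶ G ⊗ C') : t ≫ A u c' = (t ≫ fst G C' ≫ u) * (t ≫ snd G C' ≫ c') := by
  rw [A, comp_mul]

lemma comp_mG {T : 𝒮} (t : T ⟶ G ⊗ pullback c' u) :
    t ≫ mG u c' = (t ≫ fst G _) * (t ≫ snd G _ ≫ pullback.snd c' u) := by
  rw [mG, comp_mul]

/-- The shear automorphism `(g, c) ↦ (g · c, c)`. -/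
def σ : G ⊗ pullback c' u ≅ G ⊗ pullback c' u where
  hom := lift (mG u c') (snd G _)
  inv := lift (fst G _ * (snd G _ ≫ pullback.snd c' u)⁻¹) (snd G _)
  hom_inv_id := by
    apply CartesianMonoidalCategory.hom_ext
    · simp only [Category.assoc, lift_fst, comp_mul, GrpObj.comp_inv, lift_snd_assoc,
        lift_fst_assoc, mG, mul_inv_cancel_right, Category.id_comp]
    · simp only [Category.assoc, lift_snd, Category.id_comp]
  inv_hom_id := by
    apply CartesianMonoidalCategory.hom_ext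
    · simp only [Category.assoc, lift_fst, mG, comp_mul, lift_snd_assoc,
        lift_fst_assoc, inv_mul_cancel_right, Category.id_comp]
    · simp only [Category.assoc, lift_snd, Category.id_comp]

omit [GrpObj G'] [GrpObj C'] in
lemma σ_hom_fst : (σ u c').hom ≫ fst G _ = mG u c' := lift_fst _ _

variable [IsMonHom u]

theorem isPullback_I : IsPullback (mG u c') (G ◁ pullback.fst c' u) u (A u c') := by
  have hw : mG u c' ≫ u = (G ◁ pullback.fst c' u) ≫ A u c' := by
    simp only [mG, A, MonObj.mul_comp, comp_mul, Category.assoc, pullback.condition,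
      whiskerLeft_fst_assoc, whiskerLeft_snd_assoc]
  have key : ∀ (s : PullbackCone u (A u c')),
      (s.snd ≫ snd G C') ≫ c' = ((s.snd ≫ fst G C')⁻¹ * s.fst) ≫ u := by
    intro s
    have h := s.condition
    rw [comp_A] at h
    rw [MonObj.mul_comp, GrpObj.inv_comp, h, Category.assoc, Category.assoc,
      inv_mul_cancel_left]
  refine ⟨⟨hw⟩, ⟨PullbackCone.IsLimit.mk _
    (fun s => lift (s.snd ≫ fst G C')
      (pullback.lift (s.snd ≫ snd G C') ((s.snd ≫ fst G C')⁻¹ * s.fst) (key s))) ?_ ?_ ?_⟩⟩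
  · intro s
    rw [comp_mG, lift_fst, lift_snd_assoc, pullback.lift_snd, mul_inv_cancel_left]
  · intro s
    apply CartesianMonoidalCategory.hom_ext
    · rw [Category.assoc, whiskerLeft_fst, lift_fst]
    · rw [Category.assoc, whiskerLeft_snd, lift_snd_assoc, pullback.lift_fst]
  · intro s m h1 h2
    apply CartesianMonoidalCategory.hom_ext
    · rw [lift_fst, ← h2, Category.assoc, whiskerLeft_fst]
    · rw [lift_snd]
      apply pullback.hom_ext
      · rw [pullback.lift_fst, ← h2]
        simp only [Category.assoc, whiskerLeft_snd]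
      · rw [pullback.lift_snd, ← h1, ← h2, comp_mG]
        simp only [Category.assoc, whiskerLeft_fst, inv_mul_cancel_left]

/-- `(h, c') ↦ π₁(h) · f(c')`. -/
def a : pullback h' u ⊗ C' ⟶ H' := (fst _ C' ≫ pullback.fst h' u) * (snd _ C' ≫ f)

lemma comp_a {T : 𝒮} (t : T ⟶ pullback h' u ⊗ C') :
    t ≫ a u h' f = (t ≫ fst _ C' ≫ pullback.fst h' u) * (t ≫ snd _ C' ≫ f) := by
  rw [a, comp_mul]

/-- `h ↦ (h, 1)`. -/
def j : pullback h' u ⟶ pullback h' u ⊗ C' := lift (𝟙 _) 1

omit [GrpObj G] [GrpObj G'] [GrpObj H'] [IsMonHom u] in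
lemma j_fst : j (C' := C') u h' ≫ fst _ C' = 𝟙 _ := lift_fst _ _

variable [IsMonHom h']

lemma j_a [IsMonHom c'] [Mono h'] (hf : f ≫ h' = c') :
    j (C' := C') u h' ≫ a u h' f = pullback.fst h' u := by
  have h1 : (1 : pullback h' u ⟶ C') ≫ f = 1 := by
    rw [← cancel_mono h', Category.assoc, hf, one_comp, one_comp]
  rw [comp_a, j, lift_fst_assoc, Category.id_comp, lift_snd_assoc, h1, _root_.mul_one]

theorem isPullback_II (hf : f ≫ h' = c') :
    IsPullback (a u h' f) (pullback.snd h' u ▷ C') h' (A u c') := by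
  have hw : a u h' f ≫ h' = (pullback.snd h' u ▷ C') ≫ A u c' := by
    simp only [a, A, MonObj.mul_comp, comp_mul, Category.assoc, pullback.condition,
      whiskerRight_fst_assoc, whiskerRight_snd_assoc, hf]
  have key : ∀ (s : PullbackCone h' (A u c')),
      (s.fst * (s.snd ≫ snd G C' ≫ f)⁻¹) ≫ h' = (s.snd ≫ fst G C') ≫ u := by
    intro s
    have h := s.condition
    rw [comp_A] at h
    rw [MonObj.mul_comp, GrpObj.inv_comp, h]
    simp only [Category.assoc, hf, mul_inv_cancel_right]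
  refine ⟨⟨hw⟩, ⟨PullbackCone.IsLimit.mk _
    (fun s => lift (pullback.lift (s.fst * (s.snd ≫ snd G C' ≫ f)⁻¹) (s.snd ≫ fst G C') (key s))
      (s.snd ≫ snd G C')) ?_ ?_ ?_⟩⟩
  · intro s
    rw [comp_a, lift_fst_assoc, pullback.lift_fst, lift_snd_assoc]
    simp only [Category.assoc, inv_mul_cancel_right]
  · intro s
    apply CartesianMonoidalCategory.hom_ext
    · rw [Category.assoc, whiskerRight_fst, lift_fst_assoc, pullback.lift_snd]
    · rw [Category.assoc, whiskerRight_snd, lift_snd]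
  · intro s m h1 h2
    apply CartesianMonoidalCategory.hom_ext
    · rw [lift_fst]
      apply pullback.hom_ext
      · rw [pullback.lift_fst, ← h1, ← h2, comp_a]
        simp only [Category.assoc, whiskerRight_snd_assoc, mul_inv_cancel_right]
      · rw [pullback.lift_snd, ← h2]
        simp only [Category.assoc, whiskerRight_fst]
    · rw [lift_snd, ← h2]
      simp only [Category.assoc, whiskerRight_snd]

end

end Groth.Agent.Lib.Helper26.PreimageSubgroup
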