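import Groth.Agent.Lib.Helper26.PreimageSubgroup
import Groth.Agent.Lib.Helper26.FpqcQuot
import Groth.Agent.Lib.Helper71.SmoothDescent
import Groth.Agent.Lib.Helper70.FixEtB
import Groth.Agent.Lib.Helper51.GeomFibre
import Groth.Agent.Lib.Helper21.OfComp

/-!
# Preimages of subgroup schemes under a faithfully flat homomorphism (helper26)

`u : G ⟶ G'` flat surjective quasi-compact, `C' ⊆ H' ⊆ G'` subgroups, `C = u⁻¹(C')`, `H = u⁻¹(H')`.
* If `C` and `H'` are smooth over `S`, so is `H`.
* If `C` and `H'` have connected fibres over `S`, so has `H`.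
-/

set_option autoImplicit false
open CategoryTheory CategoryTheory.Limits MonoidalCategory AlgebraicGeometry
open MonObj CartesianMonoidalCategory SemiCartesianMonoidalCategory
open scoped MonObj
universe u

namespace Groth.Agent.Lib.Helper26.PreimageSubgroupSch

open Groth.Agent.Lib.Helper26.PreimageSubgroup

section Top

/-- A continuous map `a` with connected fibres such that `a ∘ j` is open and surjective for some
continuous `j` pulls connected sets back to connected sets. -/
theorem isConnected_preimage_of_comp_open {W Y X : Type*} [TopologicalSpace W] [TopologicalSpace Y]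
    [TopologicalSpace X] (a : W → Y) (j : X → W) (ha : Continuous a) (hj : Continuous j)
    (hπ : IsOpenMap (a ∘ j)) (hsurj : Function.Surjective (a ∘ j)) (T : Set Y)
    (hT : IsConnected T) (hfib : ∀ y, IsConnected (a ⁻¹' {y})) : IsConnected (a ⁻¹' T) := by
  let aT : a ⁻¹' T → T := T.restrictPreimage a
  let πT : (a ∘ j) ⁻¹' T → T := T.restrictPreimage (a ∘ j)
  let jT : (a ∘ j) ⁻¹' T → a ⁻¹' T := fun x => ⟨j x.1, x.2⟩
  have haT : Continuous aT := ha.restrictPreimage
  have hjT : Continuous jT := Continuous.subtype_mk (hj.comp continuous_subtype_val) _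
  have hπT : Topology.IsQuotientMap πT :=
    (hπ.restrictPreimage T).isQuotientMap (ha.comp hj).restrictPreimage
      (T.restrictPreimage_surjective hsurj)
  have hcomp : aT ∘ jT = πT := rfl
  have hq : Topology.IsQuotientMap aT := Topology.IsQuotientMap.of_comp hjT haT (hcomp ▸ hπT)
  haveI : ConnectedSpace T := isConnected_iff_connectedSpace.mp hT
  have hfibT : ∀ y : T, IsConnected (aT ⁻¹' {y}) := by
    intro y
    have h1 : (Subtype.val : a ⁻¹' T → W) '' (aT ⁻¹' {y}) = a ⁻¹' {y.1} := by
      ext w
      constructor
      · rintro ⟨⟨w', hw'⟩, hw'y, rfl⟩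
        exact congrArg Subtype.val hw'y
      · intro hw
        have hwT : w ∈ a ⁻¹' T := by
          change a w ∈ T
          rw [show a w = y.1 from hw]
          exact y.2
        exact ⟨⟨w, hwT⟩, Subtype.ext hw, rfl⟩
    have h2 := hfib y.1
    rw [← h1] at h2
    exact ⟨(h2.nonempty.of_image),
      (Topology.IsInducing.subtypeVal.isPreconnected_image).mp h2.isPreconnected⟩
  have := hq.isCoinducing.isConnected_preimage_of_isClosed hfibT isClosed_univ isConnected_univ
  rw [Set.preimage_univ] at this
  exact isConnected_iff_connectedSpace.mpr (connectedSpace_iff_univ.mpr this)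

end Top

/-- Geometric connectedness descends along surjective base change. -/
theorem geometricallyConnected_of_isPullback_surjective {X Y X' Y' : Scheme.{u}} {f : X ⟶ Y}
    {g : Y' ⟶ Y} {f' : X' ⟶ Y'} {g' : X' ⟶ X} (hc : IsPullback g' f' f g) [Surjective g]
    [GeometricallyConnected f'] : GeometricallyConnected f := by
  rw [GeometricallyConnected.iff_geometricallyConnected_fiber]
  intro y
  obtain ⟨y', rfl⟩ := g.surjective y
  rw [← Groth.Agent.Lib.Helper51.geometricallyConnected_fibre_baseChange_iff hc y']
  infer_instance

variable {S : Scheme.{u}} {G G' C' H' : Over S} [GrpObj G] [GrpObj G'] [GrpObj C'] [GrpObj H']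
  (u : G ⟶ G') [IsMonHom u] (c' : C' ⟶ G') [IsMonHom c'] (h' : H' ⟶ G') [IsMonHom h']
  (f : C' ⟶ H')

section Smooth

omit [IsMonHom u] [IsMonHom c'] [GrpObj G'] [GrpObj C'] in
theorem prop_mG {P : MorphismProperty Scheme.{u}} [P.IsStableUnderBaseChange] [P.RespectsIso]
    (hC : P (pullback c' u).hom) : P (mG u c').left := by
  have sq : IsPullback (fst G (pullback c' u)).left (snd G (pullback c' u)).left G.hom
      (pullback c' u).hom := IsPullback.of_hasPullback _ _
  have h1 : P (fst G (pullback c' u)).left := MorphismProperty.of_isPullback (P := P) sq.flip hC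
  rw [← σ_hom_fst, Over.comp_left]
  haveI : IsIso (σ u c').hom.left :=
    inferInstanceAs (IsIso ((Over.forget S).map (σ u c').hom))
  exact (MorphismProperty.cancel_left_of_respectsIso P _ _).mpr h1

omit [IsMonHom c'] in
theorem smooth_A [Flat u.left] [Surjective u.left] [QuasiCompact u.left]
    (hC : Smooth (pullback c' u).hom) : Smooth (A u c').left := by
  have sq := (isPullback_I u c').map (Over.forget S)
  have hcov : (@Surjective ⊓ @Flat ⊓ @QuasiCompact : MorphismProperty Scheme.{u}) u.left :=
    ⟨⟨inferInstance, inferInstance⟩, inferInstance⟩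
  exact MorphismProperty.of_isPullback_of_descendsAlong (P := @Smooth)
    (Q := (@Surjective ⊓ @Flat ⊓ @QuasiCompact : MorphismProperty Scheme.{u})) sq hcov
    (prop_mG u c' hC)

theorem smooth_preimage [Flat u.left] [Surjective u.left] [QuasiCompact u.left]
    [LocallyOfFinitePresentation C'.hom] (hf : f ≫ h' = c')
    (hC : Smooth (pullback c' u).hom) (hH' : Smooth H'.hom) : Smooth (pullback h' u).hom := by
  have hA := smooth_A u c' hC
  have sqII := (isPullback_II u c' h' f hf).map (Over.forget S)
  have ha : Smooth (a u h' f).left := MorphismProperty.of_isPullback (P := @Smooth) sqII.flip hA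
  have hW : Smooth (pullback h' u ⊗ C').hom := by
    rw [← Over.w (a u h' f)]
    infer_instance
  -- `C'` is flat and surjective over `S`
  have sqC := (IsPullback.of_hasPullback c' u).map (Over.forget S)
  haveI hγflat : Flat (pullback.fst c' u).left :=
    MorphismProperty.of_isPullback (P := @Flat) sqC.flip (inferInstance : Flat u.left)
  haveI hγsurj : Surjective (pullback.fst c' u).left :=
    MorphismProperty.of_isPullback (P := @Surjective) sqC.flip (inferInstance : Surjective u.left)
  haveI : Flat ((pullback.fst c' u).left ≫ C'.hom) := by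
    rw [Over.w]
    infer_instance
  have hC'flat : Flat C'.hom :=
    Groth.Agent.Lib.Helper26.FpqcQuot.flat_of_flat_comp (pullback.fst c' u).left C'.hom
  have hsec : η[C'].left ≫ C'.hom = 𝟙 S := Over.w η[C']
  have hC'surj : Surjective C'.hom :=
    ⟨fun x => ⟨η[C'].left x, by rw [← Scheme.Hom.comp_apply, hsec]; rfl⟩⟩
  have sqW : IsPullback (fst (pullback h' u) C').left (snd (pullback h' u) C').left
      (pullback h' u).hom C'.hom := IsPullback.of_hasPullback _ _
  haveI : Flat (fst (pullback h' u) C').left :=
    MorphismProperty.of_isPullback (P := @Flat) sqW.flip hC'flat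
  haveI : Surjective (fst (pullback h' u) C').left :=
    MorphismProperty.of_isPullback (P := @Surjective) sqW.flip hC'surj
  haveI : LocallyOfFinitePresentation (fst (pullback h' u) C').left :=
    MorphismProperty.of_isPullback (P := @LocallyOfFinitePresentation) sqW.flip inferInstance
  haveI : Smooth ((fst (pullback h' u) C').left ≫ (pullback h' u).hom) := by
    rw [Over.w]
    exact hW
  exact Groth.Agent.Lib.Helper71.SmoothDescent.smooth_of_fppf_comp
    (fst (pullback h' u) C').left (pullback h' u).hom

end Smooth

section Conn

omit [IsMonHom u] [IsMonHom c'] in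
theorem geomConn_C [IsMonHom u] [IsMonHom c']
    (hconn : ∀ s : S, _root_.IsConnected ((pullback c' u).hom.base ⁻¹' {s})) :
    GeometricallyConnected (pullback c' u).hom := by
  rw [GeometricallyConnected.iff_geometricallyConnected_fiber]
  intro s
  haveI : ConnectedSpace ((pullback c' u).hom.fiber s) :=
    (((pullback c' u).hom.fiberHomeo s).connectedSpace_iff).mpr
      (isConnected_iff_connectedSpace.mp (hconn s))
  let e0 : 𝟙_ (Over S) ⟶ pullback c' u :=
    pullback.lift η[C'] η[G] (by rw [IsMonHom.one_hom, IsMonHom.one_hom])
  have hσ : e0.left ≫ (pullback c' u).hom = 𝟙 S := Over.w e0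
  obtain ⟨e, he⟩ : ∃ e : Spec (S.residueField s) ⟶ (pullback c' u).hom.fiber s,
      e ≫ (pullback c' u).hom.fiberToSpecResidueField s = 𝟙 _ :=
    ⟨pullback.lift (S.fromSpecResidueField s ≫ e0.left) (𝟙 _)
      (by rw [Category.assoc, hσ, Category.comp_id, Category.id_comp]), pullback.lift_snd _ _ _⟩
  exact Groth.Agent.Lib.Helper70.FixEtB.geometricallyConnected_of_section
    (k := S.residueField s) ((pullback c' u).hom.fiberToSpecResidueField s) e he

omit [IsMonHom c'] in
theorem geomConn_a [Surjective u.left] (hf : f ≫ h' = c')
    (hC : GeometricallyConnected (pullback c' u).hom) :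
    GeometricallyConnected (a u h' f).left := by
  haveI h1 : GeometricallyConnected (mG u c').left :=
    prop_mG u c' (P := @GeometricallyConnected) hC
  have sqI : IsPullback (G ◁ pullback.fst c' u).left (mG u c').left (A u c').left u.left :=
    ((isPullback_I u c').map (Over.forget S)).flip
  have hA : GeometricallyConnected (A u c').left :=
    geometricallyConnected_of_isPullback_surjective sqI
  have sqII := (isPullback_II u c' h' f hf).map (Over.forget S)
  exact MorphismProperty.of_isPullback (P := @GeometricallyConnected) sqII.flip hA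

theorem connected_preimage [Flat u.left] [Surjective u.left] [LocallyOfFinitePresentation u.left]
    [Mono h'] (hf : f ≫ h' = c')
    (hC : ∀ s : S, _root_.IsConnected ((pullback c' u).hom.base ⁻¹' {s}))
    (hH' : ∀ s : S, _root_.IsConnected (H'.hom.base ⁻¹' {s})) (s : S) :
    _root_.IsConnected ((pullback h' u).hom.base ⁻¹' {s}) := by
  have hgc := geomConn_a u c' h' f hf (geomConn_C u c' hC)
  have sqH := (IsPullback.of_hasPullback h' u).map (Over.forget S)
  haveI : Flat (pullback.fst h' u).left :=
    MorphismProperty.of_isPullback (P := @Flat) sqH.flip (inferInstance : Flat u.left)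
  haveI : Surjective (pullback.fst h' u).left :=
    MorphismProperty.of_isPullback (P := @Surjective) sqH.flip (inferInstance : Surjective u.left)
  haveI : LocallyOfFinitePresentation (pullback.fst h' u).left :=
    MorphismProperty.of_isPullback (P := @LocallyOfFinitePresentation) sqH.flip
      (inferInstance : LocallyOfFinitePresentation u.left)
  have hopen : IsOpenMap (pullback.fst h' u).left := (pullback.fst h' u).left.isOpenMap
  have hja : (j (C' := C') u h').left ≫ (a u h' f).left = (pullback.fst h' u).left := by
    rw [← Over.comp_left, j_a u c' h' f hf]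
  have hjp : (j (C' := C') u h').left ≫ (fst (pullback h' u) C').left = 𝟙 _ := by
    rw [← Over.comp_left, j_fst]; rfl
  have hcomp : (⇑(a u h' f).left ∘ ⇑(j (C' := C') u h').left) = ⇑(pullback.fst h' u).left := by
    funext x
    rw [Function.comp_apply, ← Scheme.Hom.comp_apply, hja]
  have key := isConnected_preimage_of_comp_open (a u h' f).left (j (C' := C') u h').left
    (a u h' f).left.continuous (j (C' := C') u h').left.continuous (hcomp ▸ hopen)
    (hcomp ▸ (pullback.fst h' u).left.surjective) (H'.hom.base ⁻¹' {s}) (hH' s)
    (fun y => (a u h' f).left.isConnected_preimage_singleton y)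
  -- `W_s = a⁻¹(H'_s)` and `H_s = fst(W_s)`
  have hWs : ⇑(a u h' f).left ⁻¹' (H'.hom.base ⁻¹' {s}) =
      (pullback h' u ⊗ C').hom.base ⁻¹' {s} := by
    ext w
    simp only [Set.mem_preimage, Set.mem_singleton_iff]
    have : (a u h' f).left ≫ H'.hom = (pullback h' u ⊗ C').hom := Over.w (a u h' f)
    rw [← this]
    rfl
  have hHs : (pullback h' u).hom.base ⁻¹' {s} =
      ⇑(fst (pullback h' u) C').left '' ((pullback h' u ⊗ C').hom.base ⁻¹' {s}) := by
    have hw : (fst (pullback h' u) C').left ≫ (pullback h' u).hom = (pullback h' u ⊗ C').hom :=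
      Over.w (fst (pullback h' u) C')
    ext x
    simp only [Set.mem_preimage, Set.mem_singleton_iff, Set.mem_image]
    constructor
    · intro hx
      have e1 : (fst (pullback h' u) C').left ((j (C' := C') u h').left x) = x := by
        rw [← Scheme.Hom.comp_apply, hjp]
        rfl
      refine ⟨(j (C' := C') u h').left x, ?_, e1⟩
      rw [← hw]
      change (pullback h' u).hom ((fst (pullback h' u) C').left ((j (C' := C') u h').left x)) = s
      rw [e1]
      exact hx
    · rintro ⟨w, hw', rfl⟩
      rw [← hw] at hw'
      exact hw'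
  rw [hHs, ← hWs]
  exact key.image _ (fst (pullback h' u) C').left.continuous.continuousOn

end Conn

end Groth.Agent.Lib.Helper26.PreimageSubgroupSch
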