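import Groth.Agent.Lib.Helper26.QuotAction
import Groth.Agent.Lib.Helper26.GrpQuotGen
import Groth.Agent.Lib.Helper7.ProperDescent
import Groth.Prelude.Def_AlgGrp

/-!
# Properness of a homomorphism from properness on the kernel and a proper quotient (helper26)

`p : G ⟶ G''` flat surjective quasi-compact with kernel `i : G' ⟶ G`, `u : G ⟶ H` a homomorphism.
The map `(u, p) : G ⟶ H ⊗ G''` becomes, after the fpqc base change `H ◁ p`, the map
`G ⊗ G' ⟶ H ⊗ G`, `(g, g') ↦ (u(g) u(i g'), g)`, which up to the shearing automorphism of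
`H ⊗ G` is a base change of `i ≫ u`.
-/

set_option autoImplicit false
open CategoryTheory CategoryTheory.Limits MonoidalCategory
open MonObj CartesianMonoidalCategory SemiCartesianMonoidalCategory
open scoped MonObj
universe v₁ u₁ u

namespace Groth.Agent.Lib.Helper26.ProperHom

section Abstract

variable {𝒮 : Type u₁} [Category.{v₁} 𝒮] [CartesianMonoidalCategory 𝒮]
variable {G G' G'' H : 𝒮} [GrpObj G] [GrpObj G''] [GrpObj H]
  (p : G ⟶ G'') (i : G' ⟶ G) (u : G ⟶ H)

/-- `(g, g') ↦ g · i(g')`. -/
def m : G ⊗ G' ⟶ G := (G ◁ i) ≫ μ[G]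

lemma m_eq : m i = fst G G' * (snd G G' ≫ i) := by
  rw [m, Hom.mul_def]
  congr 1
  ext <;> simp

/-- `(g, g') ↦ (u(g · i g'), g)`. -/
def L : G ⊗ G' ⟶ H ⊗ G := lift (m i ≫ u) (fst G G')

/-- `(g, g') ↦ (u(i g'), g)`. -/
def L₀ : G ⊗ G' ⟶ H ⊗ G := lift (snd G G' ≫ i ≫ u) (fst G G')

/-- The shearing automorphism `(h, g) ↦ (u(g) h, g)` of `H ⊗ G`. -/
def τ : H ⊗ G ≅ H ⊗ G where
  hom := lift ((snd H G ≫ u) * fst H G) (snd H G)
  inv := lift ((snd H G ≫ u)⁻¹ * fst H G) (snd H G)
  hom_inv_id := by
    apply CartesianMonoidalCategory.hom_ext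
    · rw [Category.assoc, lift_fst, comp_mul, GrpObj.comp_inv, ← Category.assoc, lift_snd,
        lift_fst, inv_mul_cancel_left, Category.id_comp]
    · rw [Category.assoc, lift_snd, lift_snd, Category.id_comp]
  inv_hom_id := by
    apply CartesianMonoidalCategory.hom_ext
    · rw [Category.assoc, lift_fst, comp_mul, ← Category.assoc, lift_snd,
        lift_fst, mul_inv_cancel_left, Category.id_comp]
    · rw [Category.assoc, lift_snd, lift_snd, Category.id_comp]

lemma L_eq [IsMonHom u] : L i u = L₀ i u ≫ (τ u).hom := by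
  apply CartesianMonoidalCategory.hom_ext
  · rw [L, lift_fst, τ, Category.assoc, lift_fst, comp_mul, L₀, ← Category.assoc, lift_snd,
      lift_fst, m_eq, MonObj.mul_comp, Category.assoc]
  · rw [L, lift_snd, τ, Category.assoc, lift_snd, L₀, lift_snd]

lemma L₀_eq [BraidedCategory 𝒮] : L₀ i u = (β_ G G').hom ≫ ((i ≫ u) ▷ G) := by
  apply CartesianMonoidalCategory.hom_ext <;> simp [L₀]

variable [IsMonHom p]

omit [GrpObj H] in
theorem isPullback_L (hk : IsPullback i (toUnit G') p η[G'']) :
    IsPullback (L i u) (m i) (H ◁ p) (lift u p) := by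
  have hs := (QuotAction.isPullback_shear_of_isKernel i p hk).flip
  have e1 : L i u ≫ snd H G = fst G G' := lift_snd _ _
  have e2 : lift u p ≫ snd H G'' = p := lift_snd _ _
  have t := GrpQuotGen.isPullback_whiskerLeft H p
  have hs' : IsPullback (m i) (L i u ≫ snd H G) (lift u p ≫ snd H G'') p := by
    rw [e1, e2]; exact hs
  refine (IsPullback.of_bot hs' ?_ t).flip
  apply CartesianMonoidalCategory.hom_ext
  · rw [Category.assoc, lift_fst, Category.assoc, whiskerLeft_fst, L, lift_fst]
  · rw [Category.assoc, lift_snd, Category.assoc, whiskerLeft_snd, ← Category.assoc, e1]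
    exact hs.w

end Abstract

section Sch

open AlgebraicGeometry

variable {S : Scheme.{u}} {G G' G'' H : Over S} [GrpObj G] [GrpObj G'] [GrpObj G''] [GrpObj H]

theorem isProper_lift (p : G ⟶ G'') [IsMonHom p] [Surjective p.left] [Flat p.left]
    [QuasiCompact p.left] (i : G' ⟶ G) (hker : AlgGrp.IsKernel i p)
    (u : G ⟶ H) [IsMonHom u] (hu : IsProper (i ≫ u).left) : IsProper (lift u p).left := by
  have sq := (isPullback_L p i u hker).map (Over.forget S)
  have sqp := (GrpQuotGen.isPullback_whiskerLeft H p).map (Over.forget S)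
  have hcov : (@Surjective ⊓ @Flat ⊓ @QuasiCompact : MorphismProperty Scheme.{u}) (H ◁ p).left :=
    ⟨⟨MorphismProperty.of_isPullback (P := @Surjective) sqp.flip
        (inferInstance : Surjective p.left),
      MorphismProperty.of_isPullback (P := @Flat) sqp.flip (inferInstance : Flat p.left)⟩,
      MorphismProperty.of_isPullback (P := @QuasiCompact) sqp.flip
        (inferInstance : QuasiCompact p.left)⟩
  have sq0 := (GrpQuotGen.isPullback_whiskerRight G (i ≫ u)).map (Over.forget S)
  have h0 : IsProper ((i ≫ u) ▷ G).left :=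
    MorphismProperty.of_isPullback (P := @IsProper) sq0.flip hu
  have h1 : IsProper (L₀ i u).left := by
    rw [L₀_eq, Over.comp_left]
    haveI : IsIso (β_ G G').hom.left :=
      inferInstanceAs (IsIso ((Over.forget S).map (β_ G G').hom))
    exact (MorphismProperty.cancel_left_of_respectsIso @IsProper _ _).mpr h0
  have h2 : IsProper (L i u).left := by
    rw [L_eq, Over.comp_left]
    haveI : IsIso (τ u).hom.left :=
      inferInstanceAs (IsIso ((Over.forget S).map (τ u).hom))
    exact (MorphismProperty.cancel_right_of_respectsIso @IsProper _ _).mpr h1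
  exact MorphismProperty.of_isPullback_of_descendsAlong (P := @IsProper)
    (Q := (@Surjective ⊓ @Flat ⊓ @QuasiCompact : MorphismProperty Scheme.{u})) sq hcov h2

theorem isProper_hom [IsProper G''.hom] (p : G ⟶ G'') [IsMonHom p] [Surjective p.left]
    [Flat p.left] [QuasiCompact p.left] (i : G' ⟶ G) (hker : AlgGrp.IsKernel i p)
    (u : G ⟶ H) [IsMonHom u] (hu : IsProper (i ≫ u).left) : IsProper u.left := by
  have h1 := isProper_lift p i hker u hu
  have sq : IsPullback (fst H G'').left (snd H G'').left H.hom G''.hom :=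
    IsPullback.of_hasPullback _ _
  have h2 : IsProper (fst H G'').left :=
    MorphismProperty.of_isPullback (P := @IsProper) sq.flip inferInstance
  have e : u = lift u p ≫ fst H G'' := (lift_fst _ _).symm
  rw [e, Over.comp_left]
  infer_instance

end Sch

end Groth.Agent.Lib.Helper26.ProperHom
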