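import Mathlib.CategoryTheory.EquivalenceRelation
import Mathlib.CategoryTheory.Limits.FunctorCategory.Basic
import Mathlib.CategoryTheory.Types.Basic
import Mathlib.CategoryTheory.Functor.RegularEpi
import Mathlib.CategoryTheory.Limits.Types.Pullbacks

set_option autoImplicit false

open CategoryTheory CategoryTheory.Limits

universe w v₁ u₁

namespace Groth.Agent.Lib.Helper26.PshQuot

variable {C : Type u₁} [Category.{v₁} C] {R X : Cᵒᵖ ⥤ Type w} (p₁ p₂ : R ⟶ X)

/-- The sectionwise relation defined by a pair of maps of presheaves. -/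
def rel (U : Cᵒᵖ) (x y : X.obj U) : Prop := ∃ r : R.obj U, p₁.app U r = x ∧ p₂.app U r = y

lemma rel_map {U V : Cᵒᵖ} (f : U ⟶ V) {x y : X.obj U} (h : rel p₁ p₂ U x y) :
    rel p₁ p₂ V (X.map f x) (X.map f y) := by
  obtain ⟨r, rfl, rfl⟩ := h
  exact ⟨R.map f r, NatTrans.naturality_apply p₁ f r, NatTrans.naturality_apply p₂ f r⟩

/-- The quotient presheaf. -/
def B : Cᵒᵖ ⥤ Type w where
  obj U := Quot (rel p₁ p₂ U)
  map {U V} f := ↾(Quot.map (X.map f) (fun _ _ h => rel_map p₁ p₂ f h))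
  map_id U := by
    ext x
    induction x using Quot.ind
    simp [Quot.map]
  map_comp f g := by
    ext x
    induction x using Quot.ind
    simp [Quot.map]

/-- The quotient map. -/
def π : X ⟶ B p₁ p₂ where
  app U := ↾(Quot.mk _)
  naturality U V f := by
    ext x
    rfl

lemma π_app_apply (U : Cᵒᵖ) (x : X.obj U) : (π p₁ p₂).app U x = Quot.mk _ x := rfl

lemma π_surjective (U : Cᵒᵖ) : Function.Surjective ((π p₁ p₂).app U) := by
  intro y
  induction y using Quot.ind with
  | mk x => exact ⟨x, rfl⟩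

lemma w : p₁ ≫ π p₁ p₂ = p₂ ≫ π p₁ p₂ := by
  ext U r
  exact Quot.sound ⟨r, rfl, rfl⟩

variable {p₁ p₂}

section Equiv

variable (e : EquivalenceRelation p₁ p₂)
include e

lemma rel_refl (U : Cᵒᵖ) (x : X.obj U) : rel p₁ p₂ U x x := by
  refine ⟨e.r.app U x, ?_, ?_⟩
  · calc p₁.app U (e.r.app U x) = (e.r ≫ p₁).app U x := rfl
      _ = (𝟙 X : X ⟶ X).app U x := by rw [e.reflexivity₁]
      _ = x := rfl
  · calc p₂.app U (e.r.app U x) = (e.r ≫ p₂).app U x := rfl
      _ = (𝟙 X : X ⟶ X).app U x := by rw [e.reflexivity₂]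
      _ = x := rfl

lemma rel_symm (U : Cᵒᵖ) {x y : X.obj U} (h : rel p₁ p₂ U x y) : rel p₁ p₂ U y x := by
  obtain ⟨r, rfl, rfl⟩ := h
  refine ⟨e.s.app U r, ?_, ?_⟩
  · calc p₁.app U (e.s.app U r) = (e.s ≫ p₁).app U r := rfl
      _ = p₂.app U r := by rw [e.symmetry₁]
  · calc p₂.app U (e.s.app U r) = (e.s ≫ p₂).app U r := rfl
      _ = p₁.app U r := by rw [e.symmetry₂]

lemma rel_trans (U : Cᵒᵖ) {x y z : X.obj U} (h : rel p₁ p₂ U x y) (h' : rel p₁ p₂ U y z) :
    rel p₁ p₂ U x z := by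
  obtain ⟨r, rfl, rfl⟩ := h
  obtain ⟨r', hr', rfl⟩ := h'
  have hpb : IsPullback e.c.fst e.c.snd p₂ p₁ := IsPullback.of_isLimit e.isLimit
  have hU := hpb.map ((evaluation Cᵒᵖ (Type w)).obj U)
  obtain ⟨t, ht1, ht2⟩ := Limits.Types.exists_of_isPullback hU r r' hr'.symm
  dsimp at t ht1 ht2
  refine ⟨e.t.app U t, ?_, ?_⟩
  · calc p₁.app U (e.t.app U t) = (e.t ≫ p₁).app U t := rfl
      _ = (e.c.fst ≫ p₁).app U t := by rw [e.transitivity₁]
      _ = p₁.app U (e.c.fst.app U t) := rfl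
      _ = p₁.app U r := by rw [ht1]
  · calc p₂.app U (e.t.app U t) = (e.t ≫ p₂).app U t := rfl
      _ = (e.c.snd ≫ p₂).app U t := by rw [e.transitivity₂]
      _ = p₂.app U (e.c.snd.app U t) := rfl
      _ = p₂.app U r' := by rw [ht2]

lemma rel_equivalence (U : Cᵒᵖ) : _root_.Equivalence (rel p₁ p₂ U) :=
  ⟨rel_refl e U, fun h => rel_symm e U h, fun h h' => rel_trans e U h h'⟩

lemma rel_of_π_eq (U : Cᵒᵖ) {x y : X.obj U} (h : (π p₁ p₂).app U x = (π p₁ p₂).app U y) :
    rel p₁ p₂ U x y := by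
  have := Quot.eqvGen_exact h
  exact (rel_equivalence e U).eqvGen_iff.mp this

end Equiv

section JointlyMono

/-- The presheaf of pairs of sections of `R` with the same images under `p₁` and `p₂`. -/
def E (p₁ p₂ : R ⟶ X) : Cᵒᵖ ⥤ Type w where
  obj U := { x : R.obj U × R.obj U //
    p₁.app U x.1 = p₁.app U x.2 ∧ p₂.app U x.1 = p₂.app U x.2 }
  map {U V} f := ↾(fun x => ⟨(R.map f x.1.1, R.map f x.1.2), by
    refine ⟨?_, ?_⟩
    · have h1 := NatTrans.naturality_apply p₁ f x.1.1
      have h2 := NatTrans.naturality_apply p₁ f x.1.2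
      rw [h1, h2, x.2.1]
    · have h1 := NatTrans.naturality_apply p₂ f x.1.1
      have h2 := NatTrans.naturality_apply p₂ f x.1.2
      rw [h1, h2, x.2.2]⟩)
  map_id U := by
    ext x
    all_goals simp
  map_comp f g := by
    ext x
    all_goals simp

/-- first projection -/
def e₁ (p₁ p₂ : R ⟶ X) : E p₁ p₂ ⟶ R where
  app U := ↾(fun x => x.1.1)
  naturality U V f := by ext x; rfl

/-- second projection -/
def e₂ (p₁ p₂ : R ⟶ X) : E p₁ p₂ ⟶ R where
  app U := ↾(fun x => x.1.2)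
  naturality U V f := by ext x; rfl

lemma jointly_injective [JointlyMono₂ p₁ p₂] (U : Cᵒᵖ) {r r' : R.obj U}
    (h1 : p₁.app U r = p₁.app U r') (h2 : p₂.app U r = p₂.app U r') : r = r' := by
  have h : e₁ p₁ p₂ = e₂ p₁ p₂ := by
    apply JointlyMono₂.right_cancellation (p₁ := p₁) (p₂ := p₂)
    · ext V x
      exact x.2.1
    · ext V x
      exact x.2.2
  have := congrArg (fun (f : E p₁ p₂ ⟶ R) => f.app U ⟨(r, r'), h1, h2⟩) h
  exact this

end JointlyMono

section Main

variable (e : EquivalenceRelation p₁ p₂)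
include e

lemma isKernelPair : IsKernelPair (π p₁ p₂) p₁ p₂ := by
  have hjm : JointlyMono₂ p₁ p₂ := e.toJointlyMono₂
  apply IsPullback.of_forall_isPullback_app
  intro U
  rw [Limits.Types.isPullback_iff]
  refine ⟨?_, ?_, ?_⟩
  · exact congrArg (fun f => NatTrans.app f U) (w p₁ p₂)
  · rintro r r' ⟨h1, h2⟩
    exact jointly_injective U h1 h2
  · intro x y hxy
    exact rel_of_π_eq e U hxy

lemma isPushout : IsPushout p₁ p₂ (π p₁ p₂) (π p₁ p₂) := by
  refine ⟨⟨w p₁ p₂⟩, ⟨PushoutCocone.isColimitAux' _ ?_⟩⟩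
  intro s
  have hab : s.inl = s.inr := by
    have h1 : e.r ≫ p₁ ≫ s.inl = e.r ≫ p₂ ≫ s.inr := by rw [s.condition]
    rw [← Category.assoc, ← Category.assoc, e.reflexivity₁, e.reflexivity₂] at h1
    simpa using h1
  have hcompat : ∀ (U : Cᵒᵖ) (x y : X.obj U), rel p₁ p₂ U x y →
      s.inl.app U x = s.inl.app U y := by
    rintro U x y ⟨r, rfl, rfl⟩
    have := congrArg (fun (f : R ⟶ s.pt) => f.app U r) s.condition
    dsimp at this
    rw [hab]
    rw [hab] at this
    exact this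
  let d : B p₁ p₂ ⟶ s.pt :=
    { app := fun U => ↾(Quot.lift (fun x => s.inl.app U x) (hcompat U))
      naturality := by
        intro U V f
        ext x
        induction x using Quot.ind with
        | mk x => exact NatTrans.naturality_apply s.inl f x }
  refine ⟨d, ?_, ?_, ?_⟩
  · ext U x
    rfl
  · rw [← hab]
    ext U x
    rfl
  · intro m hm _
    ext U x
    induction x using Quot.ind with
    | mk x =>
      have := congrArg (fun (f : X ⟶ s.pt) => f.app U x) hm
      exact this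

lemma universally_effectiveEpi_π :
    MorphismProperty.universally (fun (A B : Cᵒᵖ ⥤ Type w) (f : A ⟶ B) => EffectiveEpi f)
      (π p₁ p₂) := by
  intro X' Y' i₁ i₂ f' H
  have hsurj : ∀ U, Function.Surjective (f'.app U) := by
    intro U y
    obtain ⟨x, hx⟩ := π_surjective p₁ p₂ U (i₂.app U y)
    have HU := H.map ((evaluation Cᵒᵖ (Type w)).obj U)
    obtain ⟨z, hz1, hz2⟩ := Limits.Types.exists_of_isPullback HU y x hx.symm
    exact ⟨z, hz1⟩
  have hepi : ∀ U, Epi (f'.app U) := fun U => (epi_iff_surjective _).mpr (hsurj U)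
  have : Epi f' := NatTrans.epi_of_epi_app f'
  have := IsRegularEpiCategory.regularEpiOfEpi f'
  infer_instance

/-- The universally effective equivalence relation structure. -/
noncomputable def uEER : UniversallyEffectiveEquivalenceRelation p₁ p₂ where
  toEquivalenceRelation := e
  B := B p₁ p₂
  π := π p₁ p₂
  isKernelPair := isKernelPair e
  isPushout := isPushout e
  universally_effectiveEpi_π := universally_effectiveEpi_π e

end Main

end Groth.Agent.Lib.Helper26.PshQuot
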