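import Groth.Agent.Lib.Helper26.AffineDescentDD
import Groth.Agent.Lib.Helper11.QuasiAffine
import Groth.Agent.S2339
import Groth.Agent.S9858

/-!
# Effective descent of quasi-affine schemes along flat morphisms of affine schemes (helper26)

For `p : X ⟶ S` a flat surjective morphism of affine schemes, every descent datum relative to `p` (functor-of-points
form) whose scheme is quasi-affine is effective.
-/

set_option autoImplicit false
universe u
open CategoryTheory CategoryTheory.Limits AlgebraicGeometry TensorProduct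

namespace Groth.Agent.Lib.Helper26.QAffDescentDD

open Desc Groth.Agent.Lib.Helper26.AffineDescentDD

section RingAbstract

/-- The ring-theoretic part in terms of abstract pushouts: a "coaction" `ρ₀ : C ⟶ P₀ = B ⊗_A C` which is unital,
counital and coassociative (the last tested in `P₁ = B ⊗_A P₀`) comes from an `A`-algebra `E`. -/
theorem ring_part_abstract {A B C P₀ P₁ : CommRingCat.{u}} (φ : A ⟶ B) (ψ : B ⟶ C)
    (hflat : φ.hom.Flat)
    (i₁ : B ⟶ P₀) (i₂ : C ⟶ P₀) (sq₀ : IsPushout φ (φ ≫ ψ) i₁ i₂)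
    (j₁ : B ⟶ P₁) (j₂ : P₀ ⟶ P₁) (sq₁ : IsPushout φ (φ ≫ i₁) j₁ j₂)
    (ρ₀ : C ⟶ P₀) (hunit : ψ ≫ ρ₀ = i₁)
    (hcounit : ∀ k : P₀ ⟶ C, i₁ ≫ k = ψ → i₂ ≫ k = 𝟙 C → ρ₀ ≫ k = 𝟙 C)
    (hcoassoc : ∀ kB kC : P₀ ⟶ P₁, i₁ ≫ kB = j₁ → i₂ ≫ kB = ρ₀ ≫ j₂ → i₁ ≫ kC = j₁ →
      i₂ ≫ kC = i₂ ≫ j₂ → ρ₀ ≫ kB = ρ₀ ≫ kC) :
    ∃ (E : CommRingCat.{u}) (α : A ⟶ E) (ε : E ⟶ C), IsPushout φ α ψ ε ∧ ε ≫ ρ₀ = ε ≫ i₂ := by
  letI algAB : Algebra A B := φ.hom.toAlgebra
  letI algBC : Algebra B C := ψ.hom.toAlgebra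
  letI algAC : Algebra A C := (φ ≫ ψ).hom.toAlgebra
  haveI : IsScalarTower A B C := .of_algebraMap_eq' rfl
  haveI : Module.Flat A B := hflat
  let i₁' : B ⟶ CommRingCat.of (B ⊗[A] C) :=
    CommRingCat.ofHom Algebra.TensorProduct.includeLeftRingHom
  let i₂' : C ⟶ CommRingCat.of (B ⊗[A] C) :=
    CommRingCat.ofHom (Algebra.TensorProduct.includeRight : C →ₐ[A] B ⊗[A] C).toRingHom
  have sq₀' : IsPushout φ (φ ≫ ψ) i₁' i₂' := CommRingCat.isPushout_tensorProduct A B C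
  let e₀ : CommRingCat.of (B ⊗[A] C) ≅ P₀ := sq₀'.isoIsPushout _ _ sq₀
  have he₁ : i₁' ≫ e₀.hom = i₁ := sq₀'.inl_isoIsPushout_hom _ _ sq₀
  have he₂ : i₂' ≫ e₀.hom = i₂ := sq₀'.inr_isoIsPushout_hom _ _ sq₀
  have he₁' : i₁ ≫ e₀.inv = i₁' := sq₀'.inl_isoIsPushout_inv _ _ sq₀
  have he₂' : i₂ ≫ e₀.inv = i₂' := sq₀'.inr_isoIsPushout_inv _ _ sq₀
  obtain ⟨E, hbij, hE⟩ := ring_part (A := A) (B := B) (C := C) (ρ₀ ≫ e₀.inv)
    (by rw [← Category.assoc]; erw [hunit]; exact he₁')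
    (fun k hk₁ hk₂ => by
      rw [Category.assoc]
      refine hcounit (e₀.inv ≫ k) ?_ ?_
      · rw [← Category.assoc, he₁']; exact hk₁
      · rw [← Category.assoc, he₂']; exact hk₂)
    (fun {R₁} kA kB kC hAC' hBA' hBC' => by
      have hAC : i₂' ≫ kA = i₂' ≫ kC := hAC'
      have hBA : i₂' ≫ kB = (ρ₀ ≫ e₀.inv) ≫ kA := hBA'
      have hBC : i₁' ≫ kB = i₁' ≫ kC := hBC'
      have hw : φ ≫ i₁' ≫ kC = (φ ≫ i₁) ≫ e₀.inv ≫ kA := by
        have h1 : φ ≫ i₁' = (φ ≫ ψ) ≫ i₂' := sq₀'.w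
        rw [Category.assoc, ← Category.assoc i₁, he₁', ← Category.assoc, h1, Category.assoc,
          ← hAC, ← Category.assoc, ← h1, Category.assoc]
      let j : P₁ ⟶ R₁ := sq₁.desc (i₁' ≫ kC) (e₀.inv ≫ kA) hw
      have hj₁ : j₁ ≫ j = i₁' ≫ kC := sq₁.inl_desc _ _ _
      have hj₂ : j₂ ≫ j = e₀.inv ≫ kA := sq₁.inr_desc _ _ _
      have hwB : φ ≫ j₁ = (φ ≫ ψ) ≫ ρ₀ ≫ j₂ := by
        rw [Category.assoc, ← Category.assoc ψ, hunit, ← Category.assoc]; exact sq₁.w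
      have hwC : φ ≫ j₁ = (φ ≫ ψ) ≫ i₂ ≫ j₂ := by
        rw [← Category.assoc, ← sq₀.w]; exact sq₁.w
      have hB : sq₀.desc j₁ (ρ₀ ≫ j₂) hwB ≫ j = e₀.inv ≫ kB := by
        apply sq₀.hom_ext
        · rw [← Category.assoc, sq₀.inl_desc, hj₁, ← Category.assoc, he₁', hBC]
        · rw [← Category.assoc, sq₀.inr_desc, Category.assoc, hj₂, ← Category.assoc i₂, he₂', hBA,
            Category.assoc]
      have hC : sq₀.desc j₁ (i₂ ≫ j₂) hwC ≫ j = e₀.inv ≫ kC := by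
        apply sq₀.hom_ext
        · rw [← Category.assoc, sq₀.inl_desc, hj₁, ← Category.assoc, he₁']
        · rw [← Category.assoc, sq₀.inr_desc, Category.assoc, hj₂, ← Category.assoc i₂, he₂',
            ← Category.assoc, he₂', hAC]
      have key := hcoassoc (sq₀.desc j₁ (ρ₀ ≫ j₂) hwB) (sq₀.desc j₁ (i₂ ≫ j₂) hwC)
        (sq₀.inl_desc _ _ _) (sq₀.inr_desc _ _ _) (sq₀.inl_desc _ _ _) (sq₀.inr_desc _ _ _)
      rw [Category.assoc, Category.assoc, ← hB, ← hC, ← Category.assoc, key, Category.assoc])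
  refine ⟨CommRingCat.of E, CommRingCat.ofHom (algebraMap A E), CommRingCat.ofHom E.val.toRingHom,
    isPushout_of_bijective E hbij, ?_⟩
  have h1 : CommRingCat.ofHom E.val.toRingHom ≫ ρ₀ ≫ e₀.inv =
      CommRingCat.ofHom E.val.toRingHom ≫ i₂' := by
    ext e
    exact hE e
  have h2 := congrArg (fun t => t ≫ e₀.hom) h1
  simpa only [Category.assoc, Iso.inv_hom_id, Category.comp_id, he₂] using h2

end RingAbstract


section Universal

variable {X S : Scheme.{u}} {p : X ⟶ S} (D : SchDD p) {T₀ : Scheme.{u}} {a : T₀ ⟶ D.obj.left}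
  {b : T₀ ⟶ X} (sq : IsPullback a b (D.obj.hom ≫ p) p)

/-- The universal point of the descent datum, on `V ×_S X`. -/
noncomputable def univ : T₀ ⟶ D.obj.left :=
  (D.φ (a ≫ D.obj.hom) b (by rw [Category.assoc]; exact sq.w) ⟨a, rfl⟩).1

lemma univ_hom : univ D sq ≫ D.obj.hom = b :=
  (D.φ (a ≫ D.obj.hom) b (by rw [Category.assoc]; exact sq.w) ⟨a, rfl⟩).2

/-- The gluing bijections are given by the universal point. -/
lemma phi_eq_lift {T : Scheme.{u}} (x₀ x₁ : T ⟶ X) (h : x₀ ≫ p = x₁ ≫ p) (v : Lifts D.obj x₀)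
    (l : T ⟶ T₀) (hl₁ : l ≫ a = v.1) (hl₂ : l ≫ b = x₁) :
    (D.φ x₀ x₁ h v).1 = l ≫ univ D sq := by
  have e₀ : x₀ = l ≫ a ≫ D.obj.hom := by rw [← Category.assoc, hl₁]; exact v.2.symm
  have hw : (l ≫ a) ≫ D.obj.hom = l ≫ a ≫ D.obj.hom := Category.assoc _ _ _
  have h'' : (l ≫ a ≫ D.obj.hom) ≫ p = (l ≫ b) ≫ p := by
    rw [Category.assoc, Category.assoc, Category.assoc, sq.w]
  rw [phi_congr D e₀ hl₂.symm h h'' v ⟨l ≫ a, hw⟩ hl₁.symm]
  exact D.φ_natural l _ _ _ h'' ⟨a, rfl⟩ _ rfl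

lemma univ_counit (l : D.obj.left ⟶ T₀) (hl₁ : l ≫ a = 𝟙 _) (hl₂ : l ≫ b = D.obj.hom) :
    l ≫ univ D sq = 𝟙 _ := by
  rw [← phi_eq_lift D sq D.obj.hom D.obj.hom rfl ⟨𝟙 _, Category.id_comp _⟩ l hl₁ hl₂, D.φ_self]

lemma univ_coassoc {T : Scheme.{u}} (l lB lC : T ⟶ T₀) (hB₁ : lB ≫ a = l ≫ univ D sq)
    (hC₁ : lC ≫ a = l ≫ a) (hBC : lB ≫ b = lC ≫ b) :
    lB ≫ univ D sq = lC ≫ univ D sq := by
  have h₀₁ : (l ≫ a ≫ D.obj.hom) ≫ p = (l ≫ b) ≫ p := by
    rw [Category.assoc, Category.assoc, Category.assoc, sq.w]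
  have h₁₂ : (l ≫ b) ≫ p = (lC ≫ b) ≫ p := by
    rw [← h₀₁, Category.assoc, Category.assoc, Category.assoc, ← sq.w, ← Category.assoc,
      ← Category.assoc, ← Category.assoc, hC₁]
    simp only [Category.assoc]
  let v : Lifts D.obj (l ≫ a ≫ D.obj.hom) := ⟨l ≫ a, Category.assoc _ _ _⟩
  have e1 : (D.φ _ _ h₀₁ v).1 = l ≫ univ D sq := phi_eq_lift D sq _ _ h₀₁ v l rfl rfl
  have e2 : (D.φ _ _ (h₀₁.trans h₁₂) v).1 = lC ≫ univ D sq :=
    phi_eq_lift D sq _ _ _ v lC hC₁ rfl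
  have e3 : (D.φ _ _ h₁₂ (D.φ _ _ h₀₁ v)).1 = lB ≫ univ D sq :=
    phi_eq_lift D sq _ _ h₁₂ _ lB (hB₁.trans e1.symm) hBC
  rw [← e3, ← e2, D.φ_comp]

end Universal


section OpenInEffective

variable {X S : Scheme.{u}} (p : X ⟶ S) [Flat p] [Surjective p] [QuasiCompact p] (D : SchDD p)

/-- A descent datum whose scheme is an open subscheme of `X ×_S U₀`, compatibly with the gluing bijections,
is effective: it comes from an open subscheme of `U₀`. -/
theorem nonempty_iso_of_open {Vb U₀ : Scheme.{u}} (fb : Vb ⟶ X) (qb : Vb ⟶ U₀) (u₀ : U₀ ⟶ S)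
    (hpb : IsPullback fb qb p u₀) (j : D.obj.left ⟶ Vb) [IsOpenImmersion j]
    (hj : j ≫ fb = D.obj.hom)
    (key : ∀ ⦃T : Scheme.{u}⦄ (x₀ x₁ : T ⟶ X) (h : x₀ ≫ p = x₁ ≫ p) (v : Lifts D.obj x₀),
      (D.φ x₀ x₁ h v).1 ≫ j ≫ qb = v.1 ≫ j ≫ qb) :
    ∃ U : Over S, Nonempty ((toDD p).obj U ≅ D) := by
  have hqf : Flat qb := MorphismProperty.of_isPullback (P := @Flat) hpb inferInstance
  have hqs : Surjective qb := MorphismProperty.of_isPullback (P := @Surjective) hpb inferInstance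
  have hqc : QuasiCompact qb := MorphismProperty.of_isPullback (P := @QuasiCompact) hpb inferInstance
  -- the range of `j` is saturated
  have hsat : qb.base ⁻¹' (qb.base '' Set.range j.base) = Set.range j.base := by
    apply subset_antisymm _ (Set.subset_preimage_image _ _)
    rintro w ⟨_, ⟨v, rfl⟩, hv⟩
    -- the fibre product `V ×_{U₀} Vb`
    obtain ⟨z, hz₁, hz₂⟩ := Scheme.Pullback.exists_preimage_pullback (f := j ≫ qb) (g := qb) v w
      (by rw [Scheme.Hom.comp_apply]; exact hv)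
    let v' : pullback (j ≫ qb) qb ⟶ D.obj.left := pullback.fst _ _
    let y₂ : pullback (j ≫ qb) qb ⟶ Vb := pullback.snd _ _
    have hc : v' ≫ j ≫ qb = y₂ ≫ qb := pullback.condition
    have h : (v' ≫ D.obj.hom) ≫ p = (y₂ ≫ fb) ≫ p := by
      rw [← hj, Category.assoc, Category.assoc, Category.assoc, hpb.w, ← Category.assoc j,
        ← Category.assoc, ← Category.assoc, Category.assoc v', hc, Category.assoc]
    let w' := D.φ (v' ≫ D.obj.hom) (y₂ ≫ fb) h ⟨v', rfl⟩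
    have hw' : w'.1 ≫ j = y₂ := by
      apply hpb.hom_ext
      · rw [Category.assoc, hj]; exact w'.2
      · rw [Category.assoc, key _ _ h ⟨v', rfl⟩, hc]
    refine ⟨w'.1.base z, ?_⟩
    rw [← Scheme.Hom.comp_apply, hw']
    exact hz₂
  have hopen : IsOpen (qb.base '' Set.range j.base) := by
    rw [← (Flat.isQuotientMap_of_surjective qb).isOpen_preimage, hsat]
    exact j.isOpenEmbedding.isOpen_range
  let W : U₀.Opens := ⟨_, hopen⟩
  let q : D.obj.left ⟶ U₀ := j ≫ qb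
  have hqW : Set.range q.base ⊆ Set.range W.ι.base := by
    rintro _ ⟨v, rfl⟩
    rw [Scheme.Opens.range_ι]
    exact ⟨j.base v, ⟨v, rfl⟩, (Scheme.Hom.comp_apply j qb v).symm⟩
  let qW : D.obj.left ⟶ W.toScheme := IsOpenImmersion.lift W.ι q hqW
  have hqW' : qW ≫ W.ι = q := IsOpenImmersion.lift_fac _ _ _
  let u : W.toScheme ⟶ S := W.ι ≫ u₀
  have hbcond : D.obj.hom ≫ p = qW ≫ u := by
    rw [← Category.assoc, hqW', ← hj, Category.assoc, Category.assoc, hpb.w]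
  let bb : D.obj.left ⟶ pullback p u := pullback.lift D.obj.hom qW hbcond
  let c : pullback p u ⟶ Vb := hpb.lift (pullback.fst p u) (pullback.snd p u ≫ W.ι) (by
    rw [Category.assoc]; exact pullback.condition)
  have hc₁ : c ≫ fb = pullback.fst p u := hpb.lift_fst _ _ _
  have hc₂ : c ≫ qb = pullback.snd p u ≫ W.ι := hpb.lift_snd _ _ _
  have hcj : Set.range c.base ⊆ Set.range j.base := by
    rintro _ ⟨z, rfl⟩
    rw [← hsat]
    change qb.base (c.base z) ∈ (W : Set U₀)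
    rw [← Scheme.Hom.comp_apply, hc₂, Scheme.Hom.comp_apply]
    have hm := Set.mem_range_self (f := W.ι.base) ((pullback.snd p u).base z)
    rwa [Scheme.Opens.range_ι] at hm
  let aa : pullback p u ⟶ D.obj.left := IsOpenImmersion.lift j c hcj
  have haa : aa ≫ j = c := IsOpenImmersion.lift_fac _ _ _
  have hbb₁ : bb ≫ pullback.fst p u = D.obj.hom := pullback.lift_fst _ _ _
  have hbb₂ : bb ≫ pullback.snd p u = qW := pullback.lift_snd _ _ _
  have h1 : aa ≫ D.obj.hom = pullback.fst p u := by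
    rw [← hj, ← Category.assoc, haa, hc₁]
  have h3 : aa ≫ bb = 𝟙 _ := by
    apply pullback.hom_ext
    · rw [Category.assoc, hbb₁, h1, Category.id_comp]
    · rw [Category.assoc, hbb₂, Category.id_comp, ← cancel_mono W.ι, Category.assoc, hqW',
        ← Category.assoc, haa, hc₂]
  have hbc : bb ≫ c = j := by
    apply hpb.hom_ext
    · rw [Category.assoc, hc₁, hbb₁, hj]
    · rw [Category.assoc, hc₂, ← Category.assoc, hbb₂, hqW']
  have h4 : bb ≫ aa = 𝟙 _ := by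
    rw [← cancel_mono j, Category.assoc, haa, hbc, Category.id_comp]
  refine ⟨Over.mk u, nonempty_iso_of_iso p D (Over.mk u) aa bb h1 hbb₁ h3 h4 ?_⟩
  intro T x₀ x₁ h v
  change (D.φ x₀ x₁ h v).1 ≫ bb ≫ pullback.snd p u = v.1 ≫ bb ≫ pullback.snd p u
  rw [hbb₂, ← cancel_mono W.ι, Category.assoc, Category.assoc, hqW']
  exact key x₀ x₁ h v

end OpenInEffective


section FlatBaseChange

/-- Flat base change for global sections, as a pushout square of rings. -/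
lemma isPushout_appTop_of_flat {X' Y' S' T' : Scheme.{u}} {f : T' ⟶ S'} {g : Y' ⟶ X'}
    {iX : X' ⟶ S'} {iY : Y' ⟶ T'} (H : IsPullback g iY iX f) [Flat f] [IsAffine S'] [IsAffine T']
    [CompactSpace X'] [QuasiSeparatedSpace X'] :
    IsPushout iX.appTop f.appTop g.appTop iY.appTop := by
  have h := (isIso_pushoutSection_iff H (US := ⊤) (UT := ⊤) (UX := ⊤) (UY := ⊤) le_top le_top
    (by simp)).1
    (isIso_pushoutSection_of_isQuasiSeparated_of_flat_right H le_top le_top (by simp)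
      (isAffineOpen_top S') (isAffineOpen_top T') isCompact_univ isQuasiSeparated_univ)
  simpa [Scheme.Hom.appLE] using h

end FlatBaseChange

section MainQA

variable {X S : Scheme.{u}} [IsAffine X] [IsAffine S] (p : X ⟶ S) [Flat p] [Surjective p]
  (D : SchDD p) [D.obj.left.IsQuasiAffine]

/-- Descent data relative to a flat surjective morphism of affine schemes whose scheme is quasi-affine are
effective. -/
theorem exists_of_isQuasiAffine : ∃ U : Over S, Nonempty ((toDD p).obj U ≅ D) := by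
  -- `T₀ = V ×_S X` and `T₁ = T₀ ×_S X`
  let a : pullback (D.obj.hom ≫ p) p ⟶ D.obj.left := pullback.fst _ _
  let b : pullback (D.obj.hom ≫ p) p ⟶ X := pullback.snd _ _
  have sq : IsPullback a b (D.obj.hom ≫ p) p := IsPullback.of_hasPullback _ _
  let a₁ : pullback (b ≫ p) p ⟶ pullback (D.obj.hom ≫ p) p := pullback.fst _ _
  let b₁ : pullback (b ≫ p) p ⟶ X := pullback.snd _ _
  have sq' : IsPullback a₁ b₁ (b ≫ p) p := IsPullback.of_hasPullback _ _
  have hpaff : IsAffineHom p := isAffineHom_of_isAffine p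
  have haaff : IsAffineHom a :=
    MorphismProperty.of_isPullback (P := @IsAffineHom) sq.flip hpaff
  have hT₀ : (pullback (D.obj.hom ≫ p) p).IsQuasiAffine := Scheme.IsQuasiAffine.of_isAffineHom a
  -- flat base change
  have sq₀ : IsPushout p.appTop (p.appTop ≫ D.obj.hom.appTop) b.appTop a.appTop := by
    have := (isPushout_appTop_of_flat sq).flip
    rwa [Scheme.Hom.comp_appTop] at this
  have sq₁ : IsPushout p.appTop (p.appTop ≫ b.appTop) b₁.appTop a₁.appTop := by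
    have := (isPushout_appTop_of_flat sq').flip
    rwa [Scheme.Hom.comp_appTop] at this
  have hflat : p.appTop.hom.Flat :=
    (HasRingHomProperty.iff_of_isAffine (P := @Flat)).1 (inferInstance : Flat p)
  -- the three identities
  have hunit : D.obj.hom.appTop ≫ (univ D sq).appTop = b.appTop := by
    rw [← Scheme.Hom.comp_appTop, univ_hom]
  have hcounit : ∀ k : Γ(pullback (D.obj.hom ≫ p) p, ⊤) ⟶ Γ(D.obj.left, ⊤),
      b.appTop ≫ k = D.obj.hom.appTop → a.appTop ≫ k = 𝟙 _ → (univ D sq).appTop ≫ k = 𝟙 _ := by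
    intro k hk₁ hk₂
    let l : D.obj.left ⟶ pullback (D.obj.hom ≫ p) p :=
      sq.lift (𝟙 _) D.obj.hom (Category.id_comp _)
    have hl₁ : l ≫ a = 𝟙 _ := sq.lift_fst _ _ _
    have hl₂ : l ≫ b = D.obj.hom := sq.lift_snd _ _ _
    have hk : k = l.appTop := by
      apply sq₀.hom_ext
      · rw [hk₁, ← Scheme.Hom.comp_appTop, hl₂]
      · rw [hk₂, ← Scheme.Hom.comp_appTop, hl₁]; rfl
    rw [hk, ← Scheme.Hom.comp_appTop, univ_counit D sq l hl₁ hl₂]
    rfl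
  have hcoassoc : ∀ kB kC : Γ(pullback (D.obj.hom ≫ p) p, ⊤) ⟶ Γ(pullback (b ≫ p) p, ⊤),
      b.appTop ≫ kB = b₁.appTop → a.appTop ≫ kB = (univ D sq).appTop ≫ a₁.appTop →
      b.appTop ≫ kC = b₁.appTop → a.appTop ≫ kC = a.appTop ≫ a₁.appTop →
      (univ D sq).appTop ≫ kB = (univ D sq).appTop ≫ kC := by
    intro kB kC hB₁ hB₂ hC₁ hC₂
    have hwB : (a₁ ≫ univ D sq) ≫ D.obj.hom ≫ p = b₁ ≫ p := by
      rw [Category.assoc, ← Category.assoc (univ D sq), univ_hom]; exact sq'.w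
    have hwC : (a₁ ≫ a) ≫ D.obj.hom ≫ p = b₁ ≫ p := by
      rw [Category.assoc, sq.w]; exact sq'.w
    let lB : pullback (b ≫ p) p ⟶ pullback (D.obj.hom ≫ p) p := sq.lift (a₁ ≫ univ D sq) b₁ hwB
    let lC : pullback (b ≫ p) p ⟶ pullback (D.obj.hom ≫ p) p := sq.lift (a₁ ≫ a) b₁ hwC
    have hlB₁ : lB ≫ a = a₁ ≫ univ D sq := sq.lift_fst _ _ _
    have hlB₂ : lB ≫ b = b₁ := sq.lift_snd _ _ _
    have hlC₁ : lC ≫ a = a₁ ≫ a := sq.lift_fst _ _ _
    have hlC₂ : lC ≫ b = b₁ := sq.lift_snd _ _ _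
    have hkB : kB = lB.appTop := by
      apply sq₀.hom_ext
      · rw [hB₁, ← Scheme.Hom.comp_appTop, hlB₂]
      · rw [hB₂, ← Scheme.Hom.comp_appTop, ← Scheme.Hom.comp_appTop, hlB₁]
    have hkC : kC = lC.appTop := by
      apply sq₀.hom_ext
      · rw [hC₁, ← Scheme.Hom.comp_appTop, hlC₂]
      · rw [hC₂, ← Scheme.Hom.comp_appTop, ← Scheme.Hom.comp_appTop, hlC₁]
    rw [hkB, hkC, ← Scheme.Hom.comp_appTop, ← Scheme.Hom.comp_appTop,
      univ_coassoc D sq a₁ lB lC hlB₁ hlC₁ (hlB₂.trans hlC₂.symm)]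
  obtain ⟨E, α, ε, hpo, hε⟩ := ring_part_abstract p.appTop D.obj.hom.appTop hflat b.appTop a.appTop
    sq₀ b₁.appTop a₁.appTop sq₁ (univ D sq).appTop hunit hcounit hcoassoc
  -- the affine hull `Vb = Spec C = X ×_S Spec E`
  have hpb : IsPullback (ofΓ X D.obj.hom.appTop) (Spec.map ε) p (ofΓ S α) :=
    (isPullback_SpecMap_of_isPushout _ _ _ _ hpo).of_iso (Iso.refl _) X.isoSpec.symm
      (Iso.refl _) S.isoSpec.symm (by simp [ofΓ]) (by simp) (Scheme.isoSpec_inv_naturality _)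
      (by simp [ofΓ])
  have hj : D.obj.left.toSpecΓ ≫ ofΓ X D.obj.hom.appTop = D.obj.hom := by
    rw [ofΓ, ← Category.assoc, ← Scheme.toSpecΓ_naturality, Category.assoc]
    have : X.toSpecΓ ≫ X.isoSpec.inv = 𝟙 X := X.isoSpec.hom_inv_id
    rw [this, Category.comp_id]
  haveI : QuasiCompact p := by
    have : IsAffineHom p := hpaff
    infer_instance
  refine nonempty_iso_of_open p D (ofΓ X D.obj.hom.appTop) (Spec.map ε) (ofΓ S α) hpb
    D.obj.left.toSpecΓ hj ?_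
  intro T x₀ x₁ h v
  apply ext_of_isAffine
  have hv : x₀ ≫ p = x₁ ≫ p := h
  have hcond : v.1 ≫ D.obj.hom ≫ p = x₁ ≫ p := by rw [← Category.assoc, v.2, hv]
  have hq : (D.obj.left.toSpecΓ ≫ Spec.map ε).appTop = (Scheme.ΓSpecIso E).hom ≫ ε := by
    rw [Scheme.Hom.comp_appTop, Scheme.toSpecΓ_appTop, Scheme.ΓSpecIso_naturality]
  have hv1 : v.1 = sq.lift v.1 x₁ hcond ≫ a := (sq.lift_fst _ _ _).symm
  have e1 : ((D.φ x₀ x₁ h v).1 ≫ D.obj.left.toSpecΓ ≫ Spec.map ε).appTop =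
      (Scheme.ΓSpecIso E).hom ≫ ε ≫ (univ D sq).appTop ≫ (sq.lift v.1 x₁ hcond).appTop := by
    rw [phi_eq_lift D sq x₀ x₁ h v (sq.lift v.1 x₁ hcond) (sq.lift_fst _ _ _) (sq.lift_snd _ _ _),
      Scheme.Hom.comp_appTop _ (D.obj.left.toSpecΓ ≫ Spec.map ε), hq, Scheme.Hom.comp_appTop,
      Category.assoc]
  have e2 : (v.1 ≫ D.obj.left.toSpecΓ ≫ Spec.map ε).appTop =
      (Scheme.ΓSpecIso E).hom ≫ ε ≫ a.appTop ≫ (sq.lift v.1 x₁ hcond).appTop := by
    rw [Scheme.Hom.comp_appTop _ (D.obj.left.toSpecΓ ≫ Spec.map ε), hq, Category.assoc,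
      ← Scheme.Hom.comp_appTop _ a, ← hv1]
  rw [e1, e2, ← Category.assoc ε, hε, Category.assoc]

end MainQA


section Property

/-- Quasi-affine morphisms, as a morphism property. -/
def QA : MorphismProperty Scheme.{u} := fun _ _ f => Mor2.IsQuasiAffine f

lemma QA_iff {X Y : Scheme.{u}} (f : X ⟶ Y) : QA f ↔ Mor2.IsQuasiAffine f := Iff.rfl

lemma QA_iso_comp {X' X Y : Scheme.{u}} (e : X' ⟶ X) [IsIso e] (f : X ⟶ Y) (hf : QA f) :
    QA (e ≫ f) := by
  have := hf.1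
  refine ⟨inferInstance, fun V hV => ?_⟩
  have := hf.2 V hV
  have hiso : IsIso (e ∣_ (f ⁻¹ᵁ V)) := by
    delta morphismRestrict; infer_instance
  let i : (e ⁻¹ᵁ (f ⁻¹ᵁ V) : Scheme.{u}) ≅ (f ⁻¹ᵁ V : Scheme.{u}) :=
    @asIso _ _ _ _ (e ∣_ (f ⁻¹ᵁ V)) hiso
  change (e ⁻¹ᵁ (f ⁻¹ᵁ V) : Scheme.{u}).IsQuasiAffine
  exact Groth.Agent.Lib.Helper11.isQuasiAffine_of_iso i

lemma QA_comp_iso {X Y Y' : Scheme.{u}} (f : X ⟶ Y) (e : Y ⟶ Y') [IsIso e] (hf : QA f) :
    QA (f ≫ e) := by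
  have := hf.1
  refine ⟨inferInstance, fun V hV => ?_⟩
  exact hf.2 (e ⁻¹ᵁ V) (hV.preimage_of_isIso e)

instance : QA.{u}.RespectsIso :=
  MorphismProperty.RespectsIso.mk _ (fun e f hf => QA_iso_comp e.hom f hf)
    (fun e f hf => QA_comp_iso f e.hom hf)

instance : QA.{u}.IsStableUnderBaseChange where
  of_isPullback {X Y Y' S f g f' g'} sq hg := by
    have h1 : QA (pullback.snd g f) := Groth.Agent.S2339.result g hg f
    have h2 : g' = sq.isoPullback.hom ≫ pullback.snd g f := sq.isoPullback_hom_snd.symm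
    rw [h2]
    exact QA_iso_comp _ _ h1

instance : IsZariskiLocalAtTarget QA.{u} := by
  apply IsZariskiLocalAtTarget.mk'
  · intro X Y f U hf
    exact Groth.Agent.Lib.Helper11.isQuasiAffineHom_morphismRestrict f hf U
  · intro X Y f ι U hU h
    have hqc : QuasiCompact f :=
      IsZariskiLocalAtTarget.of_iSup_eq_top (P := @QuasiCompact) U hU (fun i => (h i).1)
    refine Groth.Agent.Lib.Helper11.isQuasiAffineHom_of_forall_exists f fun y => ?_
    obtain ⟨i, hi⟩ : ∃ i, y ∈ U i := by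
      have : y ∈ (⨆ i, U i : Y.Opens) := by rw [hU]; trivial
      simpa using this
    obtain ⟨_, ⟨V', hV', rfl⟩, hyV', -⟩ :=
      (U i).toScheme.isBasis_affineOpens.exists_subset_of_mem_open
        (Set.mem_univ (⟨y, hi⟩ : (U i).toScheme)) isOpen_univ
    refine ⟨(U i).ι ''ᵁ V', hV'.image_of_isOpenImmersion (U i).ι, ⟨⟨y, hi⟩, hyV', rfl⟩, ?_⟩
    have hq : (((f ∣_ U i) ⁻¹ᵁ V' : (f ⁻¹ᵁ U i).toScheme.Opens) : Scheme.{u}).IsQuasiAffine :=
      (h i).2 V' hV'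
    have hrange : Set.range (f ⁻¹ᵁ ((U i).ι ''ᵁ V')).ι.base =
        Set.range (((f ∣_ U i) ⁻¹ᵁ V').ι ≫ (f ⁻¹ᵁ U i).ι).base := by
      rw [Scheme.Opens.range_ι, Scheme.Hom.comp_base, TopCat.coe_comp, Set.range_comp,
        Scheme.Opens.range_ι, ← image_morphismRestrict_preimage]
      rfl
    exact Groth.Agent.Lib.Helper11.isQuasiAffine_of_iso
      (IsOpenImmersion.isoOfRangeEq (f ⁻¹ᵁ ((U i).ι ''ᵁ V')).ι
        (((f ∣_ U i) ⁻¹ᵁ V').ι ≫ (f ⁻¹ᵁ U i).ι) hrange)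

end Property

section Fpqc

/-- Descent data relative to an fpqc covering morphism whose scheme is quasi-affine over the source are
effective. -/
theorem exists_of_qa_of_fpqc {X S : Scheme.{u}} (p : X ⟶ S)
    (hp : Presieve.singleton p ∈ Scheme.fpqcPrecoverage S) (D : SchDD p)
    (hD : Mor2.IsQuasiAffine D.obj.hom) : ∃ U : Over S, Nonempty ((toDD p).obj U ≅ D) := by
  classical
  let fU : PUnit.{u + 1} → (X ⟶ S) := fun _ => p
  have hU : Presieve.ofArrows (fun _ : PUnit.{u + 1} => X) fU ∈ Scheme.fpqcPrecoverage S := by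
    rw [Presieve.ofArrows_pUnit]
    exact hp
  let E : SchDDFam fU := (SchDDFam.ofSchDD p).obj D
  have hE : E.IsEffective := by
    refine Groth.Agent.S9858.result QA
      (fun m Y V q hq =>
        Groth.Agent.Lib.Helper51.DescMono.sigmaMap_of_isZariskiLocalAtTarget QA Y V q hq)
      ?_ fU hU E (fun _ => hD)
    intro X' S' p' hX' hS' hp' hs' D' hD'
    have : (D'.obj.left).IsQuasiAffine := by
      have h : ((⊤ : D'.obj.left.Opens) : Scheme.{u}).IsQuasiAffine :=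
        hD'.2 ⊤ (isAffineOpen_top X')
      exact Groth.Agent.Lib.Helper11.isQuasiAffine_of_iso (Scheme.topIso D'.obj.left).symm
    exact exists_of_isQuasiAffine p' D'
  obtain ⟨U, ⟨iso⟩⟩ := hE
  exact ⟨U, ⟨(SchDDFam.toSchDD p).mapIso iso⟩⟩

end Fpqc

end Groth.Agent.Lib.Helper26.QAffDescentDD
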