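import Groth.Agent.Lib.Helper26.CentralExt
import Groth.Agent.Lib.Helper26.FibreTorsor

/-!
# Descending an action of `G` along a quotient `G ⟶ G/N` when `N` acts trivially (helper26)

Generic cartesian-monoidal version.
-/

set_option autoImplicit false
open CategoryTheory CategoryTheory.Limits MonoidalCategory
open MonObj CartesianMonoidalCategory SemiCartesianMonoidalCategory
universe v₁ u₁

namespace Groth.Agent.Lib.Helper26.QuotAction

open Groth.Agent.Lib.Helper26.PseudoTorsor Groth.Agent.Lib.Helper26.ExactSeqTorsor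
open Groth.Agent.Lib.Helper26.CentralExt

variable {𝒮 : Type u₁} [Category.{v₁} 𝒮] [CartesianMonoidalCategory 𝒮]
variable {N G Q X : 𝒮} [GrpObj N] [GrpObj G] [GrpObj Q]
  (u : N ⟶ G) (v : G ⟶ Q) [IsMonHom v]

omit [GrpObj N] [IsMonHom v] in
/-- From the kernel square `u ≫ v = 1`. -/
lemma comp_eq_one_of_isKernel (hk : IsPullback u (toUnit N) v η[Q]) : u ≫ v = 1 := by
  rw [hk.w, Hom.one_def]

omit [GrpObj N] in
/-- A kernel square gives the translation form of exactness: `G ⊗ N ≅ G ×_Q G`. -/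
theorem isPullback_shear_of_isKernel (hk : IsPullback u (toUnit N) v η[Q]) :
    IsPullback (fst G N) ((G ◁ u) ≫ μ[G]) v v := by
  have huv : u ≫ v = 1 := comp_eq_one_of_isKernel u v hk
  have hsh : (G ◁ u) ≫ μ[G] = fst G N * (snd G N ≫ u) := by
    rw [Hom.mul_def]
    congr 1
    ext <;> simp
  have hw : fst G N ≫ v = ((G ◁ u) ≫ μ[G]) ≫ v := by
    rw [hsh, MonObj.mul_comp, Category.assoc, huv, MonObj.comp_one, _root_.mul_one]
  -- the difference of two points with the same image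
  have hd : ∀ (s : PullbackCone v v), (s.fst⁻¹ * s.snd) ≫ v = toUnit s.pt ≫ η[Q] := by
    intro s
    rw [MonObj.mul_comp, GrpObj.inv_comp, s.condition, inv_mul_cancel, Hom.one_def]
  refine ⟨⟨hw⟩, ⟨PullbackCone.IsLimit.mk _
    (fun s => lift s.fst (hk.lift (s.fst⁻¹ * s.snd) (toUnit s.pt) (hd s))) ?_ ?_ ?_⟩⟩
  · intro s
    rw [lift_fst]
  · intro s
    rw [lift_whisker_mul, hk.lift_fst, mul_inv_cancel_left]
  · intro s m h1 h2
    apply CartesianMonoidalCategory.hom_ext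
    · rw [lift_fst, h1]
    · rw [lift_snd]
      apply hk.hom_ext
      · rw [hk.lift_fst]
        have e : m = lift (m ≫ fst G N) (m ≫ snd G N) := by
          apply CartesianMonoidalCategory.hom_ext
          · rw [lift_fst]
          · rw [lift_snd]
        have h3 : lift (m ≫ fst G N) (m ≫ snd G N) ≫ (G ◁ u) ≫ μ[G] = s.snd := by
          rw [← e]; exact h2
        rw [lift_whisker_mul, h1] at h3
        rw [← h3, inv_mul_cancel_left, Category.assoc]
      · exact toUnit_unique _ _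

variable (act : G ⊗ X ⟶ X)
  (mul_act : (μ[G] ▷ X) ≫ act = (α_ G G X).hom ≫ (G ◁ act) ≫ act)
  (one_act : (η[G] ▷ X) ≫ act = (λ_ X).hom)
  (htriv : ∀ (W : 𝒮) (m : W ⟶ N) (x : W ⟶ X), smul act (m ≫ u) x = x)

include mul_act htriv in
omit [GrpObj N] [GrpObj Q] [IsMonHom v] in
/-- If `N` acts trivially, the action descends uniquely to the universal quotient. -/
theorem existsUnique_desc (hq : IsUnivQuotHom u v) : ∃! b : Q ⊗ X ⟶ X, (v ▷ X) ≫ b = act := by
  refine hq X X act ?_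
  intro W x g t
  change smul act (x * (g ≫ u)) t = smul act x t
  rw [mul_smul act mul_act, htriv]

variable (b : Q ⊗ X ⟶ X) (hb : (v ▷ X) ≫ b = act)

include hb in
omit [GrpObj G] [GrpObj Q] [IsMonHom v] in
lemma smul_desc {W : 𝒮} (g : W ⟶ G) (x : W ⟶ X) : smul b (g ≫ v) x = smul act g x := by
  unfold smul
  rw [← hb, ← Category.assoc, CartesianMonoidalCategory.lift_whiskerRight]

include hb one_act in
/-- The descended map satisfies the unit law. -/
theorem desc_one_act : (η[Q] ▷ X) ≫ b = (λ_ X).hom := by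
  apply FibreTorsor.one_act_of_pt
  intro W x
  have : (1 : W ⟶ Q) = (1 : W ⟶ G) ≫ v := (MonObj.one_comp v).symm
  rw [this, smul_desc v act b hb, one_smul act one_act]

variable (hcov : ∀ (T : 𝒮) (q : T ⟶ Q), ∃ (T' : 𝒮) (p : T' ⟶ T) (y : T' ⟶ G),
    Epi p ∧ y ≫ v = p ≫ q)

include hb mul_act hcov in
/-- The descended map satisfies the associativity law. -/
theorem desc_mul_act : (μ[Q] ▷ X) ≫ b = (α_ Q Q X).hom ≫ (Q ◁ b) ≫ b := by
  apply FibreTorsor.mul_act_of_pt
  intro W q₁ q₂ x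
  obtain ⟨W₁, p₁, y₁, hp₁, hy₁⟩ := hcov W q₁
  obtain ⟨W₂, p₂, y₂, hp₂, hy₂⟩ := hcov W₁ (p₁ ≫ q₂)
  have : Epi (p₂ ≫ p₁) := epi_comp _ _
  rw [← cancel_epi (p₂ ≫ p₁), comp_smul, comp_smul, comp_smul, MonObj.comp_mul]
  have e1 : (p₂ ≫ p₁) ≫ q₁ = (p₂ ≫ y₁) ≫ v := by
    rw [Category.assoc, Category.assoc, hy₁]
  have e2 : (p₂ ≫ p₁) ≫ q₂ = y₂ ≫ v := by
    rw [Category.assoc, hy₂]
  rw [e1, e2, ← MonObj.mul_comp, smul_desc v act b hb, smul_desc v act b hb,
    smul_desc v act b hb, mul_smul act mul_act]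

variable (hN : ∀ (T : 𝒮) (g : T ⟶ G),
      (∃ m : T ⟶ N, m ≫ u = g) ↔
        ∀ (T' : 𝒮) (s : T' ⟶ T) (x : T' ⟶ X), lift (s ≫ g) x ≫ act = x)
  (huv : u ≫ v = 1)

include hb hcov hN huv in
omit [GrpObj N] [GrpObj G] [IsMonHom v] in
/-- The descended action is faithful when `N` is the whole kernel of the action. -/
theorem desc_faithful (T : 𝒮) (q : T ⟶ Q)
    (hq : ∀ (T' : 𝒮) (s : T' ⟶ T) (x : T' ⟶ X), lift (s ≫ q) x ≫ b = x) : q = 1 := by
  obtain ⟨T₁, p, y, hp, hy⟩ := hcov T q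
  obtain ⟨m, hm⟩ := (hN T₁ y).2 (by
    intro T' s x
    change smul act (s ≫ y) x = x
    rw [← smul_desc v act b hb, Category.assoc, hy, ← Category.assoc]
    exact hq T' (s ≫ p) x)
  rw [← cancel_epi p, ← hy, ← hm, Category.assoc, huv, MonObj.comp_one, MonObj.comp_one]

end Groth.Agent.Lib.Helper26.QuotAction
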