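import Groth.Agent.Lib.Helper26.QuotAction
import Groth.Agent.Lib.Helper26.ExactSeqQuot
import Groth.Agent.Lib.Helper26.GrpQuotGen
import Mathlib.AlgebraicGeometry.Noetherian
import Mathlib.CategoryTheory.Limits.Constructions.Over.Connected

/-!
# Scheme-level input for descending actions along `G ⟶ G/N` (helper26)
-/

set_option autoImplicit false
open CategoryTheory CategoryTheory.Limits MonoidalCategory AlgebraicGeometry
open MonObj CartesianMonoidalCategory SemiCartesianMonoidalCategory
universe u

namespace Groth.Agent.Lib.Helper26.QuotActionSch

/-- A morphism out of a quasi-compact scheme locally of finite type over a field is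
quasi-compact. -/
theorem quasiCompact_of_lft_field (k : Type u) [Field k] {G Q : Over (Spec (CommRingCat.of k))}
    [LocallyOfFiniteType G.hom] [QuasiCompact G.hom] (π : G ⟶ Q) : QuasiCompact π.left := by
  have h1 : IsLocallyNoetherian G.left := LocallyOfFiniteType.isLocallyNoetherian G.hom
  have h2 : CompactSpace G.left := QuasiCompact.compactSpace_of_compactSpace G.hom
  have h3 : IsNoetherian G.left := {}
  infer_instance

variable {S : Scheme.{u}}

/-- Lifting points along a flat surjective morphism after an epimorphic base change. -/
theorem exists_lift_of_flat_surjective {G Q : Over S} (π : G ⟶ Q) [Flat π.left] [Surjective π.left]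
    (T : Over S) (q : T ⟶ Q) :
    ∃ (T' : Over S) (p : T' ⟶ T) (y : T' ⟶ G), Epi p ∧ y ≫ π = p ≫ q := by
  refine ⟨pullback q π, pullback.fst _ _, pullback.snd _ _, ?_, pullback.condition.symm⟩
  have sq := (IsPullback.of_hasPullback q π).map (Over.forget _)
  have h1 : Flat (pullback.fst q π).left :=
    MorphismProperty.of_isPullback (P := @Flat) sq.flip (inferInstance : Flat π.left)
  have h2 : Surjective (pullback.fst q π).left :=
    MorphismProperty.of_isPullback (P := @Surjective) sq.flip (inferInstance : Surjective π.left)
  have : Epi (pullback.fst q π).left := Flat.epi_of_flat_of_surjective _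
  exact Over.epi_of_epi_left _

/-- `π ▷ X` is surjective when `π` is. -/
theorem surjective_whiskerRight_left {G Q : Over S} (π : G ⟶ Q) [Surjective π.left] (X : Over S) :
    Surjective (π ▷ X).left := by
  have sq := (GrpQuotGen.isPullback_whiskerRight X π).map (Over.forget _)
  exact MorphismProperty.of_isPullback (P := @Surjective) sq.flip (inferInstance : Surjective π.left)

variable {N G Q : Over S} [GrpObj N] [GrpObj G] [GrpObj Q]

/-- A flat, surjective, quasi-compact homomorphism with its kernel is an fpqc-exact sequence. -/
theorem isExactSeq_fpqc_of_isKernel (n : N ⟶ G) (π : G ⟶ Q) [IsMonHom n] [IsMonHom π]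
    [Flat π.left] [Surjective π.left] [QuasiCompact π.left] (hker : AlgGrp.IsKernel n π) :
    NonAbH1.IsExactSeq Scheme.fpqcPrecoverage n π := by
  refine ⟨inferInstance, inferInstance, QuotAction.comp_eq_one_of_isKernel n π hker,
    QuotAction.isPullback_shear_of_isKernel n π hker,
    Presieve.singleton π.left, Scheme.Hom.singleton_mem_fpqcPrecoverage π.left, ?_⟩
  rintro S' f ⟨⟩
  exact ⟨𝟙 _, Category.id_comp _⟩

end Groth.Agent.Lib.Helper26.QuotActionSch
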