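import Groth.Agent.Lib.Helper26.PshQuot
import Mathlib.CategoryTheory.Sites.Sheafification
import Mathlib.CategoryTheory.Sites.Limits
import Mathlib.CategoryTheory.Sites.RegularEpi
import Mathlib.CategoryTheory.Sites.LocallySurjective

set_option autoImplicit false

open CategoryTheory CategoryTheory.Limits

universe w v₁ u₁

namespace Groth.Agent.Lib.Helper26.ShfQuot

variable {C : Type u₁} [Category.{v₁} C] (J : GrothendieckTopology C) [HasSheafify J (Type w)]

/-- every epimorphism of sheaves of sets is a universal effective epimorphism -/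
theorem uEE_of_epi {X Y : Sheaf J (Type w)} (f : X ⟶ Y) [Epi f] :
    (MorphismProperty.universally
      (fun (A B : Sheaf J (Type w)) (p : A ⟶ B) => EffectiveEpi p)) f := by
  intro X' Y' i₁ i₂ f' H
  have hf : Sheaf.IsLocallySurjective f := (Sheaf.isLocallySurjective_iff_epi f).mpr inferInstance
  have hf' : Sheaf.IsLocallySurjective f' := by
    constructor
    intro U s
    refine J.superset_covering ?_ (Presheaf.imageSieve_mem J f.hom (i₂.hom.app _ s))
    intro V g hg
    obtain ⟨t, ht⟩ := hg
    have HV := H.map (sheafToPresheaf J (Type w) ⋙ (evaluation _ _).obj (Opposite.op V))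
    obtain ⟨x, hx1, hx2⟩ := Limits.Types.exists_of_isPullback HV (Y'.obj.map g.op s) t (by
      dsimp
      rw [ht]
      exact (NatTrans.naturality_apply i₂.hom g.op s))
    exact ⟨x, hx1⟩
  have : Epi f' := inferInstance
  have := IsRegularEpiCategory.regularEpiOfEpi f'
  infer_instance

variable {J}
variable {R X : Sheaf J (Type w)} {p₁ p₂ : R ⟶ X}

lemma jointlyMono₂_hom [JointlyMono₂ p₁ p₂] : JointlyMono₂ p₁.hom p₂.hom := by
  constructor
  intro Y f g h1 h2
  let adj := sheafificationAdjunction J (Type w)
  have hf : f = adj.homEquiv Y R ((adj.homEquiv Y R).symm f) := by simp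
  have hg : g = adj.homEquiv Y R ((adj.homEquiv Y R).symm g) := by simp
  have key : (adj.homEquiv Y R).symm f = (adj.homEquiv Y R).symm g := by
    apply JointlyMono₂.right_cancellation (p₁ := p₁) (p₂ := p₂)
    · apply (adj.homEquiv Y X).injective
      rw [adj.homEquiv_naturality_right, adj.homEquiv_naturality_right]
      simp only [Equiv.apply_symm_apply]
      exact h1
    · apply (adj.homEquiv Y X).injective
      rw [adj.homEquiv_naturality_right, adj.homEquiv_naturality_right]
      simp only [Equiv.apply_symm_apply]
      exact h2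
  rw [hf, hg, key]

/-- the underlying equivalence relation on presheaves -/
noncomputable def pshEquivalenceRelation (e : EquivalenceRelation p₁ p₂) :
    EquivalenceRelation p₁.hom p₂.hom := by
  have : JointlyMono₂ p₁ p₂ := e.toJointlyMono₂
  have : JointlyMono₂ ((sheafToPresheaf J (Type w)).map p₁) ((sheafToPresheaf J (Type w)).map p₂) :=
    jointlyMono₂_hom (p₁ := p₁) (p₂ := p₂)
  let A := e.toReflexiveRelation.map (sheafToPresheaf J (Type w))
  let Bs := e.toSymmetricRelation.map (sheafToPresheaf J (Type w))
  let Ct := e.toTransitiveRelation.map (sheafToPresheaf J (Type w))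
  exact
    { toReflexiveRelation := A
      s := Bs.s
      symmetry₁ := Bs.symmetry₁
      symmetry₂ := Bs.symmetry₂
      c := Ct.c
      isLimit := Ct.isLimit
      t := Ct.t
      transitivity₁ := Ct.transitivity₁
      transitivity₂ := Ct.transitivity₂ }

section Main

variable (e : EquivalenceRelation p₁ p₂)

/-- The quotient sheaf. -/
noncomputable def B : Sheaf J (Type w) :=
  (presheafToSheaf J (Type w)).obj (PshQuot.B p₁.hom p₂.hom)

/-- The counit isomorphism at a sheaf. -/
noncomputable def ε (F : Sheaf J (Type w)) :
    (presheafToSheaf J (Type w)).obj F.obj ≅ F :=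
  asIso ((sheafificationAdjunction J (Type w)).counit.app F)

lemma ε_naturality {F G : Sheaf J (Type w)} (f : F ⟶ G) :
    (presheafToSheaf J (Type w)).map f.hom ≫ (ε G).hom = (ε F).hom ≫ f :=
  (sheafificationAdjunction J (Type w)).counit.naturality f

/-- The quotient map. -/
noncomputable def π (p₁ p₂ : R ⟶ X) : X ⟶ B (p₁ := p₁) (p₂ := p₂) :=
  (ε X).inv ≫ (presheafToSheaf J (Type w)).map (PshQuot.π p₁.hom p₂.hom)

include e

lemma isKernelPair : IsKernelPair (π p₁ p₂) p₁ p₂ := by
  have h := PshQuot.isKernelPair (pshEquivalenceRelation e)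
  have h' := h.map (presheafToSheaf J (Type w))
  refine IsPullback.of_iso h' (ε R) (ε X) (ε X) (Iso.refl _) ?_ ?_ ?_ ?_
  · exact ε_naturality p₁
  · exact ε_naturality p₂
  · rw [Iso.refl_hom, π, Iso.hom_inv_id_assoc]; exact Category.comp_id _
  · rw [Iso.refl_hom, π, Iso.hom_inv_id_assoc]; exact Category.comp_id _

lemma isPushout : IsPushout p₁ p₂ (π p₁ p₂) (π p₁ p₂) := by
  have h := PshQuot.isPushout (pshEquivalenceRelation e)
  have h' := h.map (presheafToSheaf J (Type w))
  refine IsPushout.of_iso h' (ε R) (ε X) (ε X) (Iso.refl _) ?_ ?_ ?_ ?_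
  · exact ε_naturality p₁
  · exact ε_naturality p₂
  · rw [Iso.refl_hom, π, Iso.hom_inv_id_assoc]; exact Category.comp_id _
  · rw [Iso.refl_hom, π, Iso.hom_inv_id_assoc]; exact Category.comp_id _

/-- The effective equivalence relation structure. -/
noncomputable def eER : EffectiveEquivalenceRelation p₁ p₂ :=
  { toEquivalenceRelation := e
    B := B
    π := π p₁ p₂
    isKernelPair := isKernelPair e
    isPushout := isPushout e }

/-- The universally effective equivalence relation structure. -/
noncomputable def uEER : UniversallyEffectiveEquivalenceRelation p₁ p₂ :=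
  { toEffectiveEquivalenceRelation := eER e
    universally_effectiveEpi_π := by
      have h1 : IsRegularEpi (eER e).π := inferInstance
      have h2 : Epi (eER e).π := inferInstance
      exact uEE_of_epi J (eER e).π }

end Main

end Groth.Agent.Lib.Helper26.ShfQuot
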