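import Groth.Agent.H26.UnivEffEpi
import Groth.Agent.Lib.Helper26.ShfQuot
import Mathlib.CategoryTheory.Sites.CartesianMonoidal
import Mathlib.CategoryTheory.EquivalenceRelation

/-!
# Points of a quotient `X/R` as stable subobjects of `X × Y` (helper26)
-/

set_option autoImplicit false
open CategoryTheory CategoryTheory.Limits MonoidalCategory CartesianMonoidalCategory
  SemiCartesianMonoidalCategory
universe w v₁ u₁ v u

namespace Groth.Agent.Lib.Helper26.QuotPoints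

open Groth.Agent.H26

variable {𝒮 : Type u} [Category.{v} 𝒮]

lemma exists_lift_of_mono {W' W Z P : 𝒮} (w : W' ⟶ W) [EffectiveEpi w] (ι : Z ⟶ P) [Mono ι]
    (a : W ⟶ P) (z' : W' ⟶ Z) (h : z' ≫ ι = w ≫ a) : ∃ z : W ⟶ Z, z ≫ ι = a := by
  have hz : ∀ {T : 𝒮} (g₁ g₂ : T ⟶ W'), g₁ ≫ w = g₂ ≫ w → g₁ ≫ z' = g₂ ≫ z' := by
    intro T g₁ g₂ hg
    rw [← cancel_mono ι, Category.assoc, Category.assoc, h, reassoc_of% hg]
  refine ⟨EffectiveEpi.desc w z' hz, ?_⟩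
  rw [← cancel_epi w, ← Category.assoc, EffectiveEpi.fac, h]

variable [HasPullbacks 𝒮] [CartesianMonoidalCategory 𝒮]

theorem partA {R X : 𝒮} {p₁ p₂ : R ⟶ X} (e : UniversallyEffectiveEquivalenceRelation p₁ p₂)
    (Y Z : 𝒮) (ι : Z ⟶ X ⊗ Y) [Mono ι]
    (hst : ∀ (W : 𝒮) (r : W ⟶ R) (y : W ⟶ Y),
      (∃ z : W ⟶ Z, z ≫ ι = lift (r ≫ p₁) y) ↔ (∃ z : W ⟶ Z, z ≫ ι = lift (r ≫ p₂) y))
    (hq : UEE 𝒮 (ι ≫ snd X Y))
    (hrel : ∀ (W : 𝒮) (z₁ z₂ : W ⟶ Z), z₁ ≫ ι ≫ snd X Y = z₂ ≫ ι ≫ snd X Y →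
      ∃ r : W ⟶ R, r ≫ p₁ = z₁ ≫ ι ≫ fst X Y ∧ r ≫ p₂ = z₂ ≫ ι ≫ fst X Y) :
    ∃! f : Y ⟶ e.B, IsPullback (ι ≫ fst X Y) (ι ≫ snd X Y) e.π f := by
  have hqe := hq.effectiveEpi
  have hcoeq : ∀ {W : 𝒮} (z₁ z₂ : W ⟶ Z), z₁ ≫ (ι ≫ snd X Y) = z₂ ≫ (ι ≫ snd X Y) →
      z₁ ≫ ((ι ≫ fst X Y) ≫ e.π) = z₂ ≫ ((ι ≫ fst X Y) ≫ e.π) := by
    intro W z₁ z₂ h
    obtain ⟨r, hr1, hr2⟩ := hrel W z₁ z₂ h
    calc z₁ ≫ ((ι ≫ fst X Y) ≫ e.π) = (z₁ ≫ ι ≫ fst X Y) ≫ e.π := by simp only [Category.assoc]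
      _ = (r ≫ p₁) ≫ e.π := by rw [hr1]
      _ = (r ≫ p₂) ≫ e.π := by rw [Category.assoc, e.isKernelPair.w, Category.assoc]
      _ = z₂ ≫ ((ι ≫ fst X Y) ≫ e.π) := by rw [hr2]; simp only [Category.assoc]
  let f : Y ⟶ e.B := EffectiveEpi.desc (ι ≫ snd X Y) _ hcoeq
  have hf : (ι ≫ snd X Y) ≫ f = (ι ≫ fst X Y) ≫ e.π := EffectiveEpi.fac (ι ≫ snd X Y) _ hcoeq
  have key : ∀ {W : 𝒮} (x : W ⟶ X) (y : W ⟶ Y), x ≫ e.π = y ≫ f →
      ∃ z : W ⟶ Z, z ≫ ι = lift x y := by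
    intro W x y hxy
    let w : pullback y (ι ≫ snd X Y) ⟶ W := pullback.fst y (ι ≫ snd X Y)
    let z' : pullback y (ι ≫ snd X Y) ⟶ Z := pullback.snd y (ι ≫ snd X Y)
    have hw : UEE 𝒮 w := hq.fst y
    have hwe := hw.effectiveEpi
    have hc : w ≫ y = z' ≫ (ι ≫ snd X Y) := pullback.condition
    have h1 : (z' ≫ ι ≫ fst X Y) ≫ e.π = (w ≫ x) ≫ e.π := by
      calc (z' ≫ ι ≫ fst X Y) ≫ e.π = z' ≫ ((ι ≫ fst X Y) ≫ e.π) := by
            simp only [Category.assoc]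
        _ = z' ≫ ((ι ≫ snd X Y) ≫ f) := by rw [hf]
        _ = (w ≫ y) ≫ f := by rw [hc]; simp only [Category.assoc]
        _ = (w ≫ x) ≫ e.π := by rw [Category.assoc, ← hxy, Category.assoc]
    let r := e.isKernelPair.lift _ _ h1
    have hr1 : r ≫ p₁ = z' ≫ ι ≫ fst X Y := e.isKernelPair.lift_fst _ _ _
    have hr2 : r ≫ p₂ = w ≫ x := e.isKernelPair.lift_snd _ _ _
    have h2 : ∃ z : pullback y (ι ≫ snd X Y) ⟶ Z, z ≫ ι = lift (r ≫ p₁) (w ≫ y) := by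
      refine ⟨z', ?_⟩
      rw [hr1, hc]
      apply CartesianMonoidalCategory.hom_ext <;> simp
    obtain ⟨z'', hz''⟩ := (hst _ r (w ≫ y)).mp h2
    refine exists_lift_of_mono w ι (lift x y) z'' ?_
    rw [hz'', hr2]
    apply CartesianMonoidalCategory.hom_ext <;> simp
  have hpb : IsPullback (ι ≫ fst X Y) (ι ≫ snd X Y) e.π f := by
    refine ⟨⟨hf.symm⟩, ⟨PullbackCone.IsLimit.mk _
      (fun s => (key s.fst s.snd s.condition).choose) ?_ ?_ ?_⟩⟩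
    · intro s
      have := (key s.fst s.snd s.condition).choose_spec
      rw [← Category.assoc, this, lift_fst]
    · intro s
      have := (key s.fst s.snd s.condition).choose_spec
      rw [← Category.assoc, this, lift_snd]
    · intro s m h1 h2
      have := (key s.fst s.snd s.condition).choose_spec
      rw [← cancel_mono ι, this]
      apply CartesianMonoidalCategory.hom_ext
      · rw [Category.assoc, h1, lift_fst]
      · rw [Category.assoc, h2, lift_snd]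
  refine ⟨f, hpb, ?_⟩
  intro f' hf'
  have := hqe
  rw [← cancel_epi (ι ≫ snd X Y), hf, ← hf'.w]

theorem partB {R X : 𝒮} {p₁ p₂ : R ⟶ X} (e : UniversallyEffectiveEquivalenceRelation p₁ p₂)
    (Y : 𝒮) (f : Y ⟶ e.B) :
    ∃ (Z : 𝒮) (ι : Z ⟶ X ⊗ Y), Mono ι ∧
      (∀ (W : 𝒮) (r : W ⟶ R) (y : W ⟶ Y),
        (∃ z : W ⟶ Z, z ≫ ι = lift (r ≫ p₁) y) ↔ (∃ z : W ⟶ Z, z ≫ ι = lift (r ≫ p₂) y)) ∧
      UEE 𝒮 (ι ≫ snd X Y) ∧
      (∀ (W : 𝒮) (z₁ z₂ : W ⟶ Z), z₁ ≫ ι ≫ snd X Y = z₂ ≫ ι ≫ snd X Y →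
        ∃ r : W ⟶ R, r ≫ p₁ = z₁ ≫ ι ≫ fst X Y ∧ r ≫ p₂ = z₂ ≫ ι ≫ fst X Y) ∧
      IsPullback (ι ≫ fst X Y) (ι ≫ snd X Y) e.π f := by
  let ι : pullback e.π f ⟶ X ⊗ Y := lift (pullback.fst e.π f) (pullback.snd e.π f)
  have h1 : ι ≫ fst X Y = pullback.fst e.π f := lift_fst _ _
  have h2 : ι ≫ snd X Y = pullback.snd e.π f := lift_snd _ _
  have hmem : ∀ {W : 𝒮} (x : W ⟶ X) (y : W ⟶ Y),
      (∃ z : W ⟶ pullback e.π f, z ≫ ι = lift x y) ↔ x ≫ e.π = y ≫ f := by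
    intro W x y
    constructor
    · rintro ⟨z, hz⟩
      have e1 : z ≫ pullback.fst e.π f = x := by rw [← h1, ← Category.assoc, hz, lift_fst]
      have e2 : z ≫ pullback.snd e.π f = y := by rw [← h2, ← Category.assoc, hz, lift_snd]
      rw [← e1, ← e2, Category.assoc, Category.assoc, pullback.condition]
    · intro h
      refine ⟨pullback.lift x y h, ?_⟩
      apply CartesianMonoidalCategory.hom_ext
      · rw [Category.assoc, h1, pullback.lift_fst, lift_fst]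
      · rw [Category.assoc, h2, pullback.lift_snd, lift_snd]
  refine ⟨pullback e.π f, ι, ⟨fun a b hab => ?_⟩, ?_, ?_, ?_, ?_⟩
  · apply pullback.hom_ext
    · rw [← h1, ← Category.assoc, hab, Category.assoc]
    · rw [← h2, ← Category.assoc, hab, Category.assoc]
  · intro W r y
    rw [hmem, hmem, Category.assoc, Category.assoc, e.isKernelPair.w]
  · rw [h2]
    exact UEE.snd e.universally_effectiveEpi_π f
  · intro W z₁ z₂ h
    rw [h2] at h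
    have hx : (z₁ ≫ pullback.fst e.π f) ≫ e.π = (z₂ ≫ pullback.fst e.π f) ≫ e.π := by
      rw [Category.assoc, Category.assoc, pullback.condition, ← Category.assoc, h,
        Category.assoc]
    refine ⟨e.isKernelPair.lift _ _ hx, ?_, ?_⟩
    · rw [e.isKernelPair.lift_fst, h1]
    · rw [e.isKernelPair.lift_snd, h1]
  · rw [h1, h2]
    exact IsPullback.of_hasPullback e.π f

end Groth.Agent.Lib.Helper26.QuotPoints
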