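import Groth.Agent.Lib.Helper26.ShfGrpQuot
import Groth.Agent.Lib.Helper26.QuotPoints
import Mathlib.CategoryTheory.Subobject.FactorThru

/-!
# Subgroup objects of a quotient group object `G/H` (helper26)

`K' ↦ π⁻¹ K'` is a bijection from subgroup objects of `G/H` to subgroup objects of `G` containing
`H`, respecting normality.  Everything is phrased with generalized elements: `Mem i x` says that
`x : Y ⟶ G` factors through `i : K ⟶ G`.
-/

set_option autoImplicit false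
open CategoryTheory CategoryTheory.Limits MonoidalCategory
open MonObj CartesianMonoidalCategory SemiCartesianMonoidalCategory
open scoped MonObj
universe w v₁ u₁

namespace Groth.Agent.Lib.Helper26.SubgrpCorr

open Groth.Agent.H26 Groth.Agent.Lib.Helper26.GrpQuotGen

section Mem

variable {𝒮 : Type u₁} [Category.{v₁} 𝒮]

/-- `x` factors through `i`. -/
def Mem {K G Y : 𝒮} (i : K ⟶ G) (x : Y ⟶ G) : Prop := ∃ z : Y ⟶ K, z ≫ i = x

lemma Mem.precomp {K G Y Y' : 𝒮} {i : K ⟶ G} {x : Y ⟶ G} (h : Mem i x) (w : Y' ⟶ Y) :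
    Mem i (w ≫ x) := by
  obtain ⟨z, rfl⟩ := h
  exact ⟨w ≫ z, Category.assoc _ _ _⟩

lemma Mem.comp {K G Y : 𝒮} (z : Y ⟶ K) (i : K ⟶ G) : Mem i (z ≫ i) := ⟨z, rfl⟩

lemma Mem.self {K G : 𝒮} (i : K ⟶ G) : Mem i i := ⟨𝟙 _, Category.id_comp _⟩

lemma Mem.descent {K G Y Y' : 𝒮} (w : Y' ⟶ Y) [EffectiveEpi w] {i : K ⟶ G} [Mono i] {x : Y ⟶ G}
    (h : Mem i (w ≫ x)) : Mem i x := by
  obtain ⟨z, hz⟩ := h
  exact QuotPoints.exists_lift_of_mono w i x z hz

lemma mem_iff_of_isPullback {P K' G Q : 𝒮} {p : P ⟶ K'} {j : P ⟶ G} {i' : K' ⟶ Q} {π : G ⟶ Q}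
    (sq : IsPullback p j i' π) {Y : 𝒮} (a : Y ⟶ G) : Mem j a ↔ Mem i' (a ≫ π) := by
  constructor
  · rintro ⟨z, rfl⟩
    exact ⟨z ≫ p, by rw [Category.assoc, Category.assoc, sq.w]⟩
  · rintro ⟨c, hc⟩
    exact ⟨sq.lift c a hc, sq.lift_snd _ _ _⟩

lemma subobject_le_iff {G : 𝒮} (P P' : Subobject G) :
    P ≤ P' ↔ ∀ {Y : 𝒮} (a : Y ⟶ G), Mem P.arrow a → Mem P'.arrow a := by
  constructor
  · rintro h Y a ⟨z, rfl⟩
    exact ⟨z ≫ Subobject.ofLE P P' h, by rw [Category.assoc, Subobject.ofLE_arrow]⟩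
  · intro h
    obtain ⟨z, hz⟩ := h P.arrow (Mem.self _)
    exact Subobject.le_of_comm z hz

lemma mem_mk_arrow_iff {K G : 𝒮} (i : K ⟶ G) [Mono i] {Y : 𝒮} (a : Y ⟶ G) :
    Mem (Subobject.mk i).arrow a ↔ Mem i a := by
  constructor
  · rintro ⟨z, rfl⟩
    exact ⟨z ≫ (Subobject.underlyingIso i).hom, by
      rw [Category.assoc, Subobject.underlyingIso_hom_comp_eq_mk]⟩
  · rintro ⟨z, rfl⟩
    exact ⟨z ≫ (Subobject.underlyingIso i).inv, by
      rw [Category.assoc, Subobject.underlyingIso_arrow]⟩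

end Mem

variable {𝒮 : Type u₁} [Category.{v₁} 𝒮] [CartesianMonoidalCategory 𝒮]

section Closed
variable {G : 𝒮} [GrpObj G]

set_option backward.isDefEq.respectTransparency false in
/-- the induced group structure on a closed subobject -/
@[reducible] noncomputable def grpObjOfData {K : 𝒮} (i : K ⟶ G) [Mono i]
    (e : 𝟙_ 𝒮 ⟶ K) (m : K ⊗ K ⟶ K) (v : K ⟶ K)
    (he : e ≫ i = η[G]) (hm : m ≫ i = (fst K K ≫ i) * (snd K K ≫ i)) (hv : v ≫ i = i⁻¹) :
    GrpObj K where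
  one := e
  mul := m
  inv := v
  one_mul := by
    rw [← cancel_mono i]
    simp only [Category.assoc, hm, comp_mul]
    simp [he, one_eq_one, comp_one, leftUnitor_hom]
  mul_one := by
    rw [← cancel_mono i]
    simp only [Category.assoc, hm, comp_mul]
    simp [he, one_eq_one, comp_one, rightUnitor_hom]
  mul_assoc := by
    rw [← cancel_mono i]
    simp only [Category.assoc, hm, comp_mul]
    simp [hm, comp_mul, _root_.mul_assoc]
  left_inv := by
    rw [← cancel_mono i]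
    simp only [Category.assoc, hm, comp_mul]
    simp [he, hv, one_eq_one, comp_one]
  right_inv := by
    rw [← cancel_mono i]
    simp only [Category.assoc, hm, comp_mul]
    simp [he, hv, one_eq_one, comp_one]

/-- `i : K ⟶ G` carries a subgroup structure. -/
def IsSubgrp {K : 𝒮} (i : K ⟶ G) : Prop :=
  ∃ str : GrpObj K, @IsMonHom 𝒮 _ _ K G str.toMonObj _ i

/-- closure conditions on a morphism into a group object, in terms of generalized elements -/
structure Closed {K : 𝒮} (i : K ⟶ G) : Prop where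
  one : Mem i η[G]
  mul : ∀ {Y : 𝒮} (x y : Y ⟶ G), Mem i x → Mem i y → Mem i (x * y)
  inv : ∀ {Y : 𝒮} (x : Y ⟶ G), Mem i x → Mem i x⁻¹

lemma Closed.one' {K : 𝒮} {i : K ⟶ G} (h : Closed i) (Y : 𝒮) : Mem i (1 : Y ⟶ G) := by
  rw [Hom.one_def]
  exact h.one.precomp _

lemma Closed.congr {K K' : 𝒮} {i : K ⟶ G} {i' : K' ⟶ G} (h : Closed i)
    (hi : ∀ {Y : 𝒮} (x : Y ⟶ G), Mem i x ↔ Mem i' x) : Closed i' :=
  ⟨(hi _).mp h.one, fun x y hx hy => (hi _).mp (h.mul x y ((hi _).mpr hx) ((hi _).mpr hy)),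
    fun x hx => (hi _).mp (h.inv x ((hi _).mpr hx))⟩

lemma IsSubgrp.closed {K : 𝒮} {i : K ⟶ G} (h : IsSubgrp i) : Closed i := by
  obtain ⟨str, hmon⟩ := h
  letI := str
  haveI := hmon
  refine ⟨⟨η[K], IsMonHom.one_hom i⟩, ?_, ?_⟩
  · rintro Y x y ⟨a, rfl⟩ ⟨b, rfl⟩
    exact ⟨a * b, mul_comp a b i⟩
  · rintro Y x ⟨a, rfl⟩
    exact ⟨a⁻¹, GrpObj.inv_comp a i⟩

lemma Closed.isSubgrp {K : 𝒮} {i : K ⟶ G} [Mono i] (h : Closed i) : IsSubgrp i := by
  obtain ⟨e, he⟩ := h.one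
  obtain ⟨m, hm⟩ := h.mul (fst K K ≫ i) (snd K K ≫ i) (Mem.comp _ _) (Mem.comp _ _)
  obtain ⟨v, hv⟩ := h.inv i (Mem.self i)
  refine ⟨grpObjOfData i e m v he hm hv, ?_⟩
  refine @IsMonHom.mk _ _ _ _ _ (grpObjOfData i e m v he hm hv).toMonObj _ i he ?_
  change m ≫ i = (i ⊗ₘ i) ≫ μ[G]
  rw [hm, Hom.mul_def, lift_fst_comp_snd_comp]

lemma isSubgrp_iff_closed {K : 𝒮} {i : K ⟶ G} [Mono i] : IsSubgrp i ↔ Closed i :=
  ⟨IsSubgrp.closed, Closed.isSubgrp⟩

/-- normality in terms of generalized elements -/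
def NormalMem {K : 𝒮} (i : K ⟶ G) : Prop :=
  ∀ {Y : 𝒮} (g x : Y ⟶ G), Mem i x → Mem i (g * x * g⁻¹)

lemma normalMem_iff {K : 𝒮} (i : K ⟶ G) :
    NormalMem i ↔ ∀ (Y : 𝒮) (g : Y ⟶ G) (k : Y ⟶ K), ∃ k' : Y ⟶ K, g * (k ≫ i) * g⁻¹ = k' ≫ i := by
  constructor
  · intro h Y g k
    obtain ⟨k', hk'⟩ := h g (k ≫ i) (Mem.comp _ _)
    exact ⟨k', hk'.symm⟩
  · rintro h Y g x ⟨k, rfl⟩
    obtain ⟨k', hk'⟩ := h Y g k
    exact ⟨k', hk'.symm⟩

end Closed

section Hom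

variable {H K G : 𝒮} [GrpObj H] [GrpObj K] [GrpObj G]

lemma isMonHom_of_comp_mono (h : H ⟶ K) (k : K ⟶ G) [Mono k] [IsMonHom k]
    (hu : IsMonHom (h ≫ k)) : IsMonHom h := by
  refine ⟨?_, ?_⟩
  · rw [← cancel_mono k, Category.assoc, IsMonHom.one_hom (h ≫ k), IsMonHom.one_hom k]
  · rw [← cancel_mono k, Category.assoc, IsMonHom.mul_hom (h ≫ k), Category.assoc,
      IsMonHom.mul_hom k, tensorHom_comp_tensorHom_assoc]

end Hom

section Quot

variable [HasPullbacks 𝒮] {H G Q : 𝒮} [GrpObj H] [GrpObj G] [GrpObj Q] {u : H ⟶ G} [IsMonHom u]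
  {π : G ⟶ Q} [IsMonHom π] (hq : IsQuot u π)

include hq in
lemma u_π : u ≫ π = 1 := by
  have := hq.π_mul_right (1 : H ⟶ G) (𝟙 H)
  rw [Category.id_comp, _root_.one_mul, one_comp] at this
  exact this

include hq in
/-- the pullback of a closed subobject is closed and contains `H` -/
lemma closed_pullback {K' P : 𝒮} {i' : K' ⟶ Q} {p : P ⟶ K'} {j : P ⟶ G}
    (sq : IsPullback p j i' π) (h : Closed i') : Closed j ∧ Mem j u := by
  refine ⟨⟨?_, ?_, ?_⟩, ?_⟩
  · rw [mem_iff_of_isPullback sq, IsMonHom.one_hom]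
    exact h.one
  · intro Y x y hx hy
    rw [mem_iff_of_isPullback sq] at hx hy ⊢
    rw [mul_comp]
    exact h.mul _ _ hx hy
  · intro Y x hx
    rw [mem_iff_of_isPullback sq] at hx ⊢
    rw [GrpObj.inv_comp]
    exact h.inv _ hx
  · rw [mem_iff_of_isPullback sq, u_π hq]
    exact h.one' _

include hq in
/-- `K' ↦ π⁻¹ K'` reflects the order. -/
lemma mem_of_pullback_le {K'₁ K'₂ P₁ P₂ : 𝒮} {i₁ : K'₁ ⟶ Q} {i₂ : K'₂ ⟶ Q} [Mono i₂]
    {p₁ : P₁ ⟶ K'₁} {j₁ : P₁ ⟶ G} {p₂ : P₂ ⟶ K'₂} {j₂ : P₂ ⟶ G}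
    (sq₁ : IsPullback p₁ j₁ i₁ π) (sq₂ : IsPullback p₂ j₂ i₂ π)
    (hle : ∀ {Y : 𝒮} (a : Y ⟶ G), Mem j₁ a → Mem j₂ a) {Y : 𝒮} (a : Y ⟶ Q) (ha : Mem i₁ a) :
    Mem i₂ a := by
  have hw : UEE 𝒮 (pullback.fst a π) := hq.uEE.fst a
  have := hw.effectiveEpi
  apply Mem.descent (pullback.fst a π)
  rw [pullback.condition, ← mem_iff_of_isPullback sq₂]
  apply hle
  rw [mem_iff_of_isPullback sq₁, ← pullback.condition]
  exact ha.precomp _

include hq in
set_option backward.isDefEq.respectTransparency false in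
lemma normal_pullback_iff {K' P : 𝒮} {i' : K' ⟶ Q} [Mono i'] {p : P ⟶ K'} {j : P ⟶ G}
    (sq : IsPullback p j i' π) : NormalMem i' ↔ NormalMem j := by
  constructor
  · intro h Y g x hx
    rw [mem_iff_of_isPullback sq] at hx ⊢
    rw [mul_comp, mul_comp, GrpObj.inv_comp]
    exact h _ _ hx
  · intro h Y q x hx
    have hw : UEE 𝒮 (pullback.fst (lift q x) (π ⊗ₘ π)) :=
      (uEE_tensorHom hq.uEE hq.uEE).fst (lift q x)
    have := hw.effectiveEpi
    have hc : pullback.fst (lift q x) (π ⊗ₘ π) ≫ lift q x =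
        pullback.snd (lift q x) (π ⊗ₘ π) ≫ (π ⊗ₘ π) := pullback.condition
    have h1 : (pullback.snd (lift q x) (π ⊗ₘ π) ≫ fst G G) ≫ π =
        pullback.fst (lift q x) (π ⊗ₘ π) ≫ q := by
      have := congrArg (fun t => t ≫ fst Q Q) hc
      simpa using this.symm
    have h2 : (pullback.snd (lift q x) (π ⊗ₘ π) ≫ snd G G) ≫ π =
        pullback.fst (lift q x) (π ⊗ₘ π) ≫ x := by
      have := congrArg (fun t => t ≫ snd Q Q) hc
      simpa using this.symm
    apply Mem.descent (pullback.fst (lift q x) (π ⊗ₘ π))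
    have h3 : Mem j (pullback.snd (lift q x) (π ⊗ₘ π) ≫ snd G G) := by
      rw [mem_iff_of_isPullback sq, h2]
      exact hx.precomp _
    have h4 := h (pullback.snd (lift q x) (π ⊗ₘ π) ≫ fst G G) _ h3
    rw [mem_iff_of_isPullback sq, mul_comp, mul_comp, GrpObj.inv_comp, h1, h2] at h4
    rw [comp_mul, comp_mul, GrpObj.comp_inv]
    exact h4

include hq in
set_option backward.isDefEq.respectTransparency false in
/-- The image `K/H ⟶ G/H` of a subgroup `K ⊇ H`. -/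
theorem exists_of_quot {K QK : 𝒮} [GrpObj K] (k : K ⟶ G) [Mono k] [IsMonHom k] (h : H ⟶ K)
    [IsMonHom h] (hk : h ≫ k = u) {πK : K ⟶ QK} (hqK : IsQuot h πK) :
    ∃ (g : QK ⟶ Q), Mono g ∧ Closed g ∧ IsPullback πK k g π := by
  have heK := hqK.uEE.effectiveEpi
  have hepiK : Epi πK := hqK.uEE.epi
  have hu : ∀ {W : 𝒮} (y : W ⟶ H), y ≫ u = (y ≫ h) ≫ k := by
    intro W y; rw [Category.assoc, hk]
  have hker : ∀ {W : 𝒮} (a b : W ⟶ K), a ≫ πK = b ≫ πK → a ≫ k ≫ π = b ≫ k ≫ π := by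
    intro W a b hab
    obtain ⟨y, hy⟩ := hqK.exists_of_π_eq _ _ hab
    have e : (a * y ≫ h) ≫ k = (a ≫ k) * (y ≫ u) := by rw [mul_comp, hu]
    rw [hy, ← Category.assoc (a * y ≫ h), e, hq.π_mul_right, Category.assoc]
  let g : QK ⟶ Q := EffectiveEpi.desc πK (k ≫ π) hker
  have hg : πK ≫ g = k ≫ π := EffectiveEpi.fac πK (k ≫ π) hker
  -- key: if `x ≫ π = z ≫ k ≫ π` then `x` factors through `k`
  have key : ∀ {W : 𝒮} (x : W ⟶ G) (z : W ⟶ K), x ≫ π = z ≫ k ≫ π →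
      ∃ y : W ⟶ H, x = (z * (y ≫ h)) ≫ k := by
    intro W x z hxz
    obtain ⟨y, hy⟩ := hq.exists_of_π_eq (z ≫ k) x (by rw [Category.assoc, hxz])
    exact ⟨y, by rw [hy, mul_comp, hu]⟩
  have hmono : Mono g := by
    apply mono_of_UEE_of_kernel_le πK hqK.uEE
    intro Z a b hab
    rw [hg] at hab
    obtain ⟨y, hy⟩ := key (b ≫ k) a (by rw [Category.assoc]; exact hab.symm)
    have : b = a * (y ≫ h) := (cancel_mono k).mp hy
    rw [this, hqK.π_mul_right]
  refine ⟨g, hmono, ⟨?_, ?_, ?_⟩, ?_⟩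
  · refine ⟨η[K] ≫ πK, ?_⟩
    rw [Category.assoc, hg, ← Category.assoc, IsMonHom.one_hom k, IsMonHom.one_hom π]
  · rintro Y x y ⟨c₁, rfl⟩ ⟨c₂, rfl⟩
    have hw : UEE 𝒮 (pullback.fst (lift c₁ c₂) (πK ⊗ₘ πK)) :=
      (uEE_tensorHom hqK.uEE hqK.uEE).fst (lift c₁ c₂)
    have := hw.effectiveEpi
    have hc : pullback.fst (lift c₁ c₂) (πK ⊗ₘ πK) ≫ lift c₁ c₂ =
        pullback.snd (lift c₁ c₂) (πK ⊗ₘ πK) ≫ (πK ⊗ₘ πK) := pullback.condition
    have h1 : pullback.fst (lift c₁ c₂) (πK ⊗ₘ πK) ≫ c₁ =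
        (pullback.snd (lift c₁ c₂) (πK ⊗ₘ πK) ≫ fst K K) ≫ πK := by
      have := congrArg (fun t => t ≫ fst QK QK) hc
      simpa using this
    have h2 : pullback.fst (lift c₁ c₂) (πK ⊗ₘ πK) ≫ c₂ =
        (pullback.snd (lift c₁ c₂) (πK ⊗ₘ πK) ≫ snd K K) ≫ πK := by
      have := congrArg (fun t => t ≫ snd QK QK) hc
      simpa using this
    apply Mem.descent (pullback.fst (lift c₁ c₂) (πK ⊗ₘ πK))
    refine ⟨((pullback.snd (lift c₁ c₂) (πK ⊗ₘ πK) ≫ fst K K) *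
      (pullback.snd (lift c₁ c₂) (πK ⊗ₘ πK) ≫ snd K K)) ≫ πK, ?_⟩
    rw [Category.assoc, hg, ← Category.assoc, mul_comp, mul_comp, comp_mul,
      ← Category.assoc _ c₁, h1, ← Category.assoc _ c₂, h2]
    simp only [Category.assoc, hg]
  · rintro Y x ⟨c, rfl⟩
    have hw : UEE 𝒮 (pullback.fst c πK) := hqK.uEE.fst c
    have := hw.effectiveEpi
    have hc : pullback.fst c πK ≫ c = pullback.snd c πK ≫ πK := pullback.condition
    apply Mem.descent (pullback.fst c πK)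
    refine ⟨(pullback.snd c πK)⁻¹ ≫ πK, ?_⟩
    rw [Category.assoc, hg, ← Category.assoc, GrpObj.inv_comp, GrpObj.inv_comp, GrpObj.comp_inv,
      ← Category.assoc _ c, hc]
    simp only [Category.assoc, hg]
  · have hex : ∀ (s : PullbackCone g π), ∃ z : s.pt ⟶ K, z ≫ πK = s.fst ∧ z ≫ k = s.snd := by
      intro s
      have hw : UEE 𝒮 (pullback.fst s.fst πK) := hqK.uEE.fst s.fst
      have := hw.effectiveEpi
      have : Epi (pullback.fst s.fst πK) := hw.epi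
      have hc : pullback.fst s.fst πK ≫ s.fst = pullback.snd s.fst πK ≫ πK := pullback.condition
      have h1 : (pullback.fst s.fst πK ≫ s.snd) ≫ π = pullback.snd s.fst πK ≫ k ≫ π := by
        rw [Category.assoc, ← s.condition, ← Category.assoc, hc, Category.assoc, hg]
      obtain ⟨y, hy⟩ := key _ _ h1
      obtain ⟨z, hz⟩ : Mem k s.snd := Mem.descent (pullback.fst s.fst πK) ⟨_, hy.symm⟩
      refine ⟨z, ?_, hz⟩
      rw [← cancel_epi (pullback.fst s.fst πK), hc]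
      have : pullback.fst s.fst πK ≫ z = pullback.snd s.fst πK * (y ≫ h) := by
        rw [← cancel_mono k, Category.assoc, hz, hy]
      rw [← Category.assoc, this, hqK.π_mul_right]
    refine ⟨⟨hg⟩, ⟨PullbackCone.IsLimit.mk _ (fun s => (hex s).choose)
      (fun s => (hex s).choose_spec.1) (fun s => (hex s).choose_spec.2) ?_⟩⟩
    intro s m _ h2
    rw [← cancel_mono k, h2, (hex s).choose_spec.2]

end Quot

section Sheaf

variable {C : Type u₁} [Category.{v₁} C] (J : GrothendieckTopology C) [HasSheafify J (Type w)]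

set_option backward.isDefEq.respectTransparency false in
theorem main {H G : Sheaf J (Type w)} [hH : GrpObj H] [hG : GrpObj G] (u : H ⟶ G) [Mono u]
    (hu : @IsMonHom (Sheaf J (Type w)) _ _ H G hH.toMonObj hG.toMonObj u)
    (hn : ∀ (Y : Sheaf J (Type w)) (g : Y ⟶ G) (h : Y ⟶ H),
      ∃ h' : Y ⟶ H, g * (h ≫ u) * g⁻¹ = h' ≫ u)
    [hQ : GrpObj (coequalizer (fst G H) ((G ◁ u) ≫ hG.mul))]
    (hπ : @IsMonHom (Sheaf J (Type w)) _ _ G (coequalizer (fst G H) ((G ◁ u) ≫ hG.mul))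
      hG.toMonObj hQ.toMonObj (coequalizer.π (fst G H) ((G ◁ u) ≫ hG.mul))) :
    Set.BijOn (Subobject.pullback (coequalizer.π (fst G H) ((G ◁ u) ≫ hG.mul))).obj
      {K' : Subobject (coequalizer (fst G H) ((G ◁ u) ≫ hG.mul)) |
        ∃ str : GrpObj (K' : Sheaf J (Type w)),
          @IsMonHom (Sheaf J (Type w)) _ _ _ _ str.toMonObj hQ.toMonObj K'.arrow}
      {K : Subobject G | Subobject.mk u ≤ K ∧
        ∃ str : GrpObj (K : Sheaf J (Type w)),
          @IsMonHom (Sheaf J (Type w)) _ _ _ _ str.toMonObj hG.toMonObj K.arrow} ∧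
    ∀ (K' : Subobject (coequalizer (fst G H) ((G ◁ u) ≫ hG.mul)))
      (str' : GrpObj (K' : Sheaf J (Type w)))
      (str : GrpObj ((Subobject.pullback
        (coequalizer.π (fst G H) ((G ◁ u) ≫ hG.mul))).obj K' : Sheaf J (Type w))),
      @IsMonHom (Sheaf J (Type w)) _ _ _ _ str'.toMonObj hQ.toMonObj K'.arrow →
      @IsMonHom (Sheaf J (Type w)) _ _ _ _ str.toMonObj hG.toMonObj
        ((Subobject.pullback (coequalizer.π (fst G H) ((G ◁ u) ≫ hG.mul))).obj K').arrow →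
      ((∀ (Y : Sheaf J (Type w)) (g : Y ⟶ coequalizer (fst G H) ((G ◁ u) ≫ hG.mul))
          (k : Y ⟶ (K' : Sheaf J (Type w))),
          ∃ k' : Y ⟶ (K' : Sheaf J (Type w)), g * (k ≫ K'.arrow) * g⁻¹ = k' ≫ K'.arrow) ↔
        (∀ (Y : Sheaf J (Type w)) (g : Y ⟶ G)
          (k : Y ⟶ ((Subobject.pullback
            (coequalizer.π (fst G H) ((G ◁ u) ≫ hG.mul))).obj K' : Sheaf J (Type w))),
          ∃ k' : Y ⟶ ((Subobject.pullback
            (coequalizer.π (fst G H) ((G ◁ u) ≫ hG.mul))).obj K' : Sheaf J (Type w)),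
            g * (k ≫ ((Subobject.pullback
              (coequalizer.π (fst G H) ((G ◁ u) ≫ hG.mul))).obj K').arrow) * g⁻¹ =
              k' ≫ ((Subobject.pullback
                (coequalizer.π (fst G H) ((G ◁ u) ≫ hG.mul))).obj K').arrow)) := by
  haveI := hu
  haveI := hπ
  have hq : IsQuot u (ShfGrpQuot.π u) := ShfGrpQuot.isQuot u
  refine ⟨⟨?_, ?_, ?_⟩, ?_⟩
  · -- MapsTo
    intro K' hK'
    obtain ⟨hcl, z, hz⟩ := closed_pullback hq (Subobject.isPullback (ShfGrpQuot.π u) K')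
      (IsSubgrp.closed hK')
    exact ⟨Subobject.mk_le_of_comm z hz, hcl.isSubgrp⟩
  · -- InjOn
    intro K'₁ _ K'₂ _ heq
    have heq' : (Subobject.pullback (ShfGrpQuot.π u)).obj K'₁ =
        (Subobject.pullback (ShfGrpQuot.π u)).obj K'₂ := heq
    apply le_antisymm
    · rw [subobject_le_iff]
      intro Y a ha
      refine mem_of_pullback_le hq (Subobject.isPullback (ShfGrpQuot.π u) K'₁)
        (Subobject.isPullback (ShfGrpQuot.π u) K'₂) ?_ a ha
      intro Y' b hb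
      exact (subobject_le_iff _ _).mp heq'.le b hb
    · rw [subobject_le_iff]
      intro Y a ha
      refine mem_of_pullback_le hq (Subobject.isPullback (ShfGrpQuot.π u) K'₂)
        (Subobject.isPullback (ShfGrpQuot.π u) K'₁) ?_ a ha
      intro Y' b hb
      exact (subobject_le_iff _ _).mp heq'.ge b hb
  · -- SurjOn
    rintro K ⟨hle, str, hmon⟩
    letI := str
    haveI := hmon
    have hk : Subobject.ofMkLE u K hle ≫ K.arrow = u := Subobject.ofMkLE_arrow hle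
    haveI : Mono (Subobject.ofMkLE u K hle) := mono_of_mono_fac hk
    haveI : IsMonHom (Subobject.ofMkLE u K hle) :=
      isMonHom_of_comp_mono _ K.arrow (by rw [hk]; exact hu)
    obtain ⟨g, hgmono, hgcl, sq⟩ := exists_of_quot hq K.arrow (Subobject.ofMkLE u K hle) hk
      (ShfGrpQuot.isQuot (Subobject.ofMkLE u K hle))
    refine ⟨Subobject.mk g, ?_, ?_⟩
    · exact (hgcl.congr (fun x => (mem_mk_arrow_iff g x).symm)).isSubgrp
    · have := Subobject.pullback_obj_mk sq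
      rw [Subobject.mk_arrow] at this
      exact this
  · intro K' str' str _ _
    have := normal_pullback_iff hq (Subobject.isPullback (ShfGrpQuot.π u) K')
    rw [normalMem_iff, normalMem_iff] at this
    exact this

end Sheaf

end Groth.Agent.Lib.Helper26.SubgrpCorr
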