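import Groth.Agent.Lib.Helper26.GrpQuotGen
import Groth.Agent.Lib.Helper26.SubgrpCorr

/-!
# Quotients in stages: `G/K = (G/H)/(K/H)` (helper26)

Generic cartesian-monoidal version with universally effective epimorphisms.  `H ⊆ K ⊆ G`, `H` normal
in `K`, `πH : G ⟶ G/H`, `πb : K ⟶ K/H` quotients, `act : G/H ⊗ K/H ⟶ G/H` the induced action.
(i) if `πK : G ⟶ G/K` is a quotient and `qbar : G/H ⟶ G/K` is the induced map then the kernel pair
of `qbar` is `(fst, act)`; (ii) if `p : G/H ⟶ Y` has kernel pair `(fst, act)` then the kernel pair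
of `πH ≫ p` is the translation relation of `K`.
-/

set_option autoImplicit false
open CategoryTheory CategoryTheory.Limits MonoidalCategory
open MonObj CartesianMonoidalCategory SemiCartesianMonoidalCategory
open scoped MonObj
universe v₁ u₁

namespace Groth.Agent.Lib.Helper26.QuotStages

open Groth.Agent.H26 Groth.Agent.Lib.Helper26.GrpQuotGen Groth.Agent.Lib.Helper26.SubgrpCorr

section General

variable {𝒮 : Type u₁} [Category.{v₁} 𝒮]

/-- A commutative square which has the universal property of a pullback on generalized points is a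
pullback. -/
lemma isPullback_of_existsUnique {P X Y Z : 𝒮} {fst : P ⟶ X} {snd : P ⟶ Y} {f : X ⟶ Z} {g : Y ⟶ Z}
    (w : fst ≫ f = snd ≫ g)
    (h : ∀ {W : 𝒮} (a : W ⟶ X) (b : W ⟶ Y), a ≫ f = b ≫ g →
      ∃! l : W ⟶ P, l ≫ fst = a ∧ l ≫ snd = b) : IsPullback fst snd f g := by
  refine ⟨⟨w⟩, ⟨PullbackCone.IsLimit.mk _
    (fun s => (h s.fst s.snd s.condition).choose) ?_ ?_ ?_⟩⟩
  · intro s
    exact (h s.fst s.snd s.condition).choose_spec.1.1
  · intro s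
    exact (h s.fst s.snd s.condition).choose_spec.1.2
  · intro s m h1 h2
    exact (h s.fst s.snd s.condition).choose_spec.2 m ⟨h1, h2⟩

end General

variable {𝒮 : Type u₁} [Category.{v₁} 𝒮] [CartesianMonoidalCategory 𝒮] [HasPullbacks 𝒮]
variable {H K G QH Kb : 𝒮} [GrpObj H] [GrpObj K] [GrpObj G]
  (h : H ⟶ K) (k : K ⟶ G) [IsMonHom h] [IsMonHom k] [Mono k]
  {πH : G ⟶ QH} {πb : K ⟶ Kb}

omit [HasPullbacks 𝒮] [GrpObj H] [GrpObj K] [GrpObj G] in
/-- `act (x, κ̄)` on generalized points of the form `(a πH, κ πb)`. -/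
lemma act_lift (act : QH ⊗ Kb ⟶ QH) [GrpObj K] [GrpObj G]
    (hact : (πH ⊗ₘ πb) ≫ act = (G ◁ k) ≫ μ[G] ≫ πH)
    {W : 𝒮} (a : W ⟶ G) (κ : W ⟶ K) :
    lift (a ≫ πH) (κ ≫ πb) ≫ act = (a * (κ ≫ k)) ≫ πH := by
  have e : lift (a ≫ πH) (κ ≫ πb) = lift a κ ≫ (πH ⊗ₘ πb) := by
    ext <;> simp
  rw [e, Category.assoc, hact, ← Category.assoc, ← Category.assoc, Category.assoc (lift a κ),
    comp_whisker_mul, lift_fst, lift_snd_assoc]

/-- **(i)** the kernel pair of `G/H ⟶ G/K`. -/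
theorem isPullback_qbar (hH : IsQuot (h ≫ k) πH) (hb : IsQuot h πb)
    (hn : ∀ (Y : 𝒮) (x : Y ⟶ K) (y : Y ⟶ H), ∃ y' : Y ⟶ H, x * (y ≫ h) * x⁻¹ = y' ≫ h)
    (act : QH ⊗ Kb ⟶ QH) (hact : (πH ⊗ₘ πb) ≫ act = (G ◁ k) ≫ μ[G] ≫ πH)
    {QK : 𝒮} {πK : G ⟶ QK} (hK : IsQuot k πK) (qbar : QH ⟶ QK) (hq : πH ≫ qbar = πK) :
    IsPullback (fst QH Kb) act qbar qbar := by
  have hmono : Mono (lift act (fst QH Kb)) := mono_lift_act h k hH hb hn act hact
  have hepi : Epi (πH ⊗ₘ πb) := (uEE_tensorHom hH.uEE hb.uEE).epi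
  have wK : fst G K ≫ πK = ((G ◁ k) ≫ μ[G]) ≫ πK := hK.kp.w
  have wq : fst QH Kb ≫ qbar = act ≫ qbar := by
    rw [← cancel_epi (πH ⊗ₘ πb), reassoc_of% hact, hq, tensorHom_fst_assoc, hq, wK,
      Category.assoc]
  -- uniqueness
  have huniq : ∀ {Z : 𝒮} (l l' : Z ⟶ QH ⊗ Kb), l ≫ fst QH Kb = l' ≫ fst QH Kb →
      l ≫ act = l' ≫ act → l = l' := by
    intro Z l l' h1 h2
    rw [← cancel_mono (lift act (fst QH Kb))]
    ext
    · simp only [Category.assoc, lift_fst, h2]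
    · simp only [Category.assoc, lift_snd, h1]
  refine isPullback_of_existsUnique wq ?_
  intro W x y hxy
  -- local existence
  let W' := pullback (lift x y) (πH ⊗ₘ πH)
  let w : W' ⟶ W := pullback.fst _ _
  have hw : UEE 𝒮 w := UEE.fst (uEE_tensorHom hH.uEE hH.uEE) _
  haveI : EffectiveEpi w := hw.effectiveEpi
  let a : W' ⟶ G := pullback.snd (lift x y) (πH ⊗ₘ πH) ≫ fst G G
  let b : W' ⟶ G := pullback.snd (lift x y) (πH ⊗ₘ πH) ≫ snd G G
  have ha : a ≫ πH = w ≫ x := by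
    have := congrArg (fun t => t ≫ fst QH QH) (pullback.condition (f := lift x y) (g := πH ⊗ₘ πH))
    simp only [Category.assoc, lift_fst, tensorHom_fst] at this
    change (_ ≫ _) ≫ _ = _
    rw [Category.assoc]
    exact this.symm
  have hb' : b ≫ πH = w ≫ y := by
    have := congrArg (fun t => t ≫ snd QH QH) (pullback.condition (f := lift x y) (g := πH ⊗ₘ πH))
    simp only [Category.assoc, lift_snd, tensorHom_snd] at this
    change (_ ≫ _) ≫ _ = _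
    rw [Category.assoc]
    exact this.symm
  have hab : a ≫ πK = b ≫ πK := by
    rw [← hq, ← Category.assoc, ← Category.assoc, ha, hb', Category.assoc, Category.assoc, hxy]
  obtain ⟨κ, hκ⟩ := hK.exists_of_π_eq a b hab
  have hloc : lift (w ≫ x) (κ ≫ πb) ≫ act = w ≫ y := by
    rw [← ha, act_lift k act hact, ← hκ, hb']
  -- descend `κ ≫ πb`
  have hdesc : ∀ {Z : 𝒮} (g₁ g₂ : Z ⟶ W'), g₁ ≫ w = g₂ ≫ w → g₁ ≫ κ ≫ πb = g₂ ≫ κ ≫ πb := by
    intro Z g₁ g₂ hg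
    have e1 : lift (g₁ ≫ w ≫ x) (g₁ ≫ κ ≫ πb) ≫ act = g₁ ≫ w ≫ y := by
      rw [← hloc, ← comp_lift, Category.assoc]
    have e2 : lift (g₁ ≫ w ≫ x) (g₂ ≫ κ ≫ πb) ≫ act = g₁ ≫ w ≫ y := by
      rw [reassoc_of% hg, reassoc_of% hg, ← hloc, ← comp_lift, Category.assoc]
    have e3 := huniq _ _ (by rw [lift_fst, lift_fst]) (e1.trans e2.symm)
    have := congrArg (fun t => t ≫ snd QH Kb) e3
    simpa using this
  let κb : W ⟶ Kb := EffectiveEpi.desc w (κ ≫ πb) hdesc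
  have hκb : w ≫ κb = κ ≫ πb := EffectiveEpi.fac _ _ _
  have hex : lift x κb ≫ act = y := by
    rw [← cancel_epi w, ← Category.assoc, comp_lift, hκb]
    exact hloc
  refine ⟨lift x κb, ⟨lift_fst _ _, hex⟩, ?_⟩
  rintro l ⟨hl1, hl2⟩
  exact huniq _ _ (by rw [hl1, lift_fst]) (by rw [hl2, hex])

/-- **(ii)** the kernel pair of `G ⟶ G/H ⟶ Y` when `Y` is the quotient of `G/H` by `K/H`. -/
theorem isPullback_comp (hH : IsQuot (h ≫ k) πH) (hb : IsQuot h πb)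
    (act : QH ⊗ Kb ⟶ QH) (hact : (πH ⊗ₘ πb) ≫ act = (G ◁ k) ≫ μ[G] ≫ πH)
    {Y : 𝒮} (p : QH ⟶ Y) (hp : IsPullback (fst QH Kb) act p p) :
    IsPullback (fst G K) ((G ◁ k) ≫ μ[G]) (πH ≫ p) (πH ≫ p) := by
  have hepi : Epi (πH ⊗ₘ πb) := (uEE_tensorHom hH.uEE hb.uEE).epi
  have w0 : fst G K ≫ πH ≫ p = ((G ◁ k) ≫ μ[G]) ≫ πH ≫ p := by
    have := congrArg (fun t => (πH ⊗ₘ πb) ≫ t) hp.w
    simp only [tensorHom_fst_assoc, reassoc_of% hact] at this
    simpa only [Category.assoc] using this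
  refine isPullback_of_existsUnique w0 ?_
  intro W a b hab
  -- the element of `K/H`
  obtain ⟨l, hl1, hl2⟩ : ∃ l : W ⟶ QH ⊗ Kb, l ≫ fst QH Kb = a ≫ πH ∧ l ≫ act = b ≫ πH :=
    ⟨hp.lift (a ≫ πH) (b ≫ πH) (by simpa only [Category.assoc] using hab), hp.lift_fst _ _ _,
      hp.lift_snd _ _ _⟩
  let κb : W ⟶ Kb := l ≫ snd QH Kb
  have hl : l = lift (a ≫ πH) κb := by
    ext
    · rw [lift_fst, hl1]
    · rw [lift_snd]
  let W' := pullback κb πb
  let w : W' ⟶ W := pullback.fst _ _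
  have hw : UEE 𝒮 w := UEE.fst hb.uEE _
  haveI : EffectiveEpi w := hw.effectiveEpi
  let κ' : W' ⟶ K := pullback.snd κb πb
  have hκ' : κ' ≫ πb = w ≫ κb := (pullback.condition (f := κb) (g := πb)).symm
  have h1 : (w ≫ b) ≫ πH = ((w ≫ a) * (κ' ≫ k)) ≫ πH := by
    rw [← act_lift k act hact, hκ']
    simp only [Category.assoc]
    rw [← comp_lift, ← hl, Category.assoc, hl2]
  obtain ⟨y, hy⟩ := hH.exists_of_π_eq _ _ h1.symm
  have hmem : Mem k (w ≫ (a⁻¹ * b)) := by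
    refine ⟨κ' * (y ≫ h), ?_⟩
    rw [MonObj.mul_comp, Category.assoc, MonObj.comp_mul, GrpObj.comp_inv, hy]
    group
  obtain ⟨κ, hκ⟩ := Mem.descent w hmem
  have hb2 : b = a * (κ ≫ k) := by rw [hκ]; group
  refine ⟨lift a κ, ⟨lift_fst _ _, ?_⟩, ?_⟩
  · rw [comp_whisker_mul, lift_fst, lift_snd_assoc, hb2]
  · rintro r ⟨hr1, hr2⟩
    ext
    · rw [hr1, lift_fst]
    · rw [lift_snd, ← cancel_mono k]
      have : b = a * ((r ≫ snd G K) ≫ k) := by
        rw [← hr2, comp_whisker_mul, hr1, Category.assoc]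
      rw [hb2] at this
      exact (mul_left_cancel this).symm

end Groth.Agent.Lib.Helper26.QuotStages
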