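import Groth.Agent.Lib.Helper26.QuotStages
import Groth.Agent.Lib.Helper26.OverUEE
import Groth.Agent.Lib.Helper26.FpqcQuot
import Groth.Agent.Lib.Helper71.FppfChart
import Groth.Prelude.Def_RedSub

/-!
# Quotients in stages for fppf quotients of group schemes (helper26)
-/

set_option autoImplicit false
universe u
open CategoryTheory CategoryTheory.Limits AlgebraicGeometry MonoidalCategory
open MonObj CartesianMonoidalCategory SemiCartesianMonoidalCategory

namespace Groth.Agent.Lib.Helper26.QuotStagesSch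

open Groth.Agent.Lib.Helper26.GrpQuotGen Groth.Agent.Lib.Helper26.QuotStages
open Groth.Agent.Lib.Helper26.OverUEE

variable {S : Scheme.{u}}

lemma isQuot_of_isQuotient {H G Q : Over S} [GrpObj H] [GrpObj G] (i : H ⟶ G) (q : G ⟶ Q)
    (hq : RedSub.IsQuotient i q) : IsQuot i q := by
  obtain ⟨h1, h2, h3, h4⟩ := hq
  exact ⟨over_uEE_of_fppf q, h4⟩

theorem third_iso {H K G QH Kb : Over S}
    [hH : GrpObj H] [hK : GrpObj K] [hG : GrpObj G] [hKb : GrpObj Kb]
    (h : H ⟶ K) (k : K ⟶ G) [Mono h] [Mono k] [IsMonHom h] [IsMonHom k]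
    (hn : AlgGrp.IsNormalHom h)
    (qH : G ⟶ QH) (hqH : RedSub.IsQuotient (h ≫ k) qH)
    (qKb : K ⟶ Kb) [IsMonHom qKb] (hqKb : RedSub.IsQuotient h qKb)
    (act : QH ⊗ Kb ⟶ QH) (hact : (qH ⊗ₘ qKb) ≫ act = (G ◁ k) ≫ μ[G] ≫ qH) :
    (∀ (QK : Over S) (qK : G ⟶ QK), RedSub.IsQuotient k qK →
      ∀ qbar : QH ⟶ QK, qH ≫ qbar = qK →
        Surjective qbar.left ∧ Flat qbar.left ∧ LocallyOfFinitePresentation qbar.left ∧
          IsPullback (fst QH Kb) act qbar qbar) ∧
    (∀ (Y : Over S) (p : QH ⟶ Y),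
      Surjective p.left → Flat p.left → LocallyOfFinitePresentation p.left →
      IsPullback (fst QH Kb) act p p → RedSub.IsQuotient k (qH ≫ p)) := by
  have hQH : IsQuot (h ≫ k) qH := isQuot_of_isQuotient _ _ hqH
  have hQb : IsQuot h qKb := isQuot_of_isQuotient _ _ hqKb
  haveI : Surjective qH.left := hqH.1
  haveI : Flat qH.left := hqH.2.1
  haveI : LocallyOfFinitePresentation qH.left := hqH.2.2.1
  refine ⟨?_, ?_⟩
  · intro QK qK hqK qbar hq
    have hQK : IsQuot k qK := isQuot_of_isQuotient _ _ hqK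
    have hcomp : qH.left ≫ qbar.left = qK.left := by rw [← Over.comp_left, hq]
    haveI : Surjective (qH.left ≫ qbar.left) := hcomp ▸ hqK.1
    haveI : Flat (qH.left ≫ qbar.left) := hcomp ▸ hqK.2.1
    haveI : LocallyOfFinitePresentation (qH.left ≫ qbar.left) := hcomp ▸ hqK.2.2.1
    refine ⟨Surjective.of_comp qH.left qbar.left,
      Groth.Agent.Lib.Helper26.FpqcQuot.flat_of_flat_comp qH.left qbar.left,
      Groth.Agent.Lib.Helper71.FppfChart.locallyOfFinitePresentation_of_fppf_comp qH.left qbar.left,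
      ?_⟩
    exact isPullback_qbar h k hQH hQb (fun Y x y => hn Y x y) act hact hQK qbar hq
  · intro Y p hs hf hl hp
    refine ⟨?_, ?_, ?_, isPullback_comp h k hQH hQb act hact p hp⟩
    · rw [Over.comp_left]; infer_instance
    · rw [Over.comp_left]; infer_instance
    · rw [Over.comp_left]; infer_instance

end Groth.Agent.Lib.Helper26.QuotStagesSch
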