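import Groth.Agent.Lib.Helper26.FpqcQuot
import Groth.Agent.Lib.Helper71.FppfChart
import Groth.Agent.Lib.Helper71.SmoothDescent
import Groth.Agent.Lib.Helper21.OfComp
import Groth.Agent.S0080
import Groth.Agent.S5939
import Mathlib.AlgebraicGeometry.Morphisms.Etale
import Mathlib.AlgebraicGeometry.Morphisms.FlatMono
import Mathlib.AlgebraicGeometry.Morphisms.QuasiFinite

/-!
# Transfer of finiteness properties from `G` to a quotient `G/G'` (helper26)

`u : G' ⟶ G` a monomorphism of group schemes over `S`, `p : G ⟶ G''` an fpqc covering with kernel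
pair the translation relation `G ⊗ G' ⇉ G`.
-/

set_option autoImplicit false
open CategoryTheory CategoryTheory.Limits MonoidalCategory AlgebraicGeometry
open MonObj CartesianMonoidalCategory SemiCartesianMonoidalCategory
open scoped MonObj
universe u

namespace Groth.Agent.Lib.Helper26.QuotTransfer

open Groth.Agent.Lib.Helper26.FpqcQuot

section Top

/-- The image of a discrete saturated set under an open map is discrete. -/
theorem isDiscrete_of_isOpenMap_preimage {X Y : Type*} [TopologicalSpace X] [TopologicalSpace Y]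
    (f : X → Y) (hf : IsOpenMap f) (hsurj : Function.Surjective f) (T : Set Y)
    (h : IsDiscrete (f ⁻¹' T)) : IsDiscrete T := by
  rw [isDiscrete_iff_forall_mem_exists_isOpen] at h ⊢
  intro y hy
  obtain ⟨x, rfl⟩ := hsurj y
  obtain ⟨U, hU, hUx⟩ := h x hy
  refine ⟨f '' U, hf U hU, ?_⟩
  ext z
  simp only [Set.mem_inter_iff, Set.mem_image, Set.mem_singleton_iff]
  constructor
  · rintro ⟨⟨w, hwU, rfl⟩, hzT⟩
    have : w ∈ U ∩ f ⁻¹' T := ⟨hwU, hzT⟩
    rw [hUx] at this
    rw [this]
  · rintro rfl
    have : x ∈ U ∩ f ⁻¹' T := by rw [hUx]; rfl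
    exact ⟨⟨x, this.1, rfl⟩, hy⟩

end Top

instance quasiSeparated_isLocalAtTarget_fpqc :
    MorphismProperty.IsLocalAtTarget (@QuasiSeparated : MorphismProperty Scheme.{u})
      Scheme.fpqcPrecoverage := by
  haveI := Groth.Agent.S0080.result.{u}
  exact Groth.Agent.Lib.Helper26.FpqcLocal.isLocalAtTarget_fpqc_of_descendsAlong _

variable {S : Scheme.{u}} {G G' G'' : Over S} [GrpObj G] [GrpObj G'] {u : G' ⟶ G} {p : G ⟶ G''}

/-- Properties of `G' ⟶ S` and of `p` correspond. -/
theorem prop_iff (hcov : IsCov p.left)
    (hsq : IsPullback ((G ◁ u) ≫ μ[G]) (fst G G') p p) (P : MorphismProperty Scheme.{u})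
    [P.IsStableUnderBaseChange] [P.IsLocalAtTarget Scheme.fpqcPrecoverage] :
    P G'.hom ↔ P p.left := by
  constructor
  · intro h
    have sq : IsPullback (fst G G').left (snd G G').left G.hom G'.hom :=
      IsPullback.of_hasPullback G.hom G'.hom
    have hfst : P (fst G G').left := MorphismProperty.of_isPullback sq.flip h
    have hsq' : IsPullback ((G ◁ u) ≫ μ[G]).left (fst G G').left p.left p.left :=
      hsq.map (Over.forget S)
    exact prop_of_kernelPair hcov hsq' P hfst
  · intro h
    exact MorphismProperty.of_isPullback (isPullback_kernel_left hsq) h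

/-- A property of `u` passes to the diagonal of `G''`. -/
theorem prop_diagonal (hcov : IsCov p.left)
    (hsq : IsPullback ((G ◁ u) ≫ μ[G]) (fst G G') p p) (P : MorphismProperty Scheme.{u})
    [P.IsStableUnderBaseChange] [P.IsLocalAtTarget Scheme.fpqcPrecoverage] (h : P u.left) :
    P (pullback.diagonal G''.hom) := by
  have hc := hcov.isCov'
  have hc1 : IsCov' (G ◁ p).left :=
    hc.of_isPullback ((Groth.Agent.Lib.Helper26.GrpQuotGen.isPullback_whiskerLeft G p).map
      (Over.forget S))
  have hc2 : IsCov' (p ▷ G'').left :=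
    hc.of_isPullback ((Groth.Agent.Lib.Helper26.GrpQuotGen.isPullback_whiskerRight G'' p).map
      (Over.forget S))
  have hv : P (vMap u).left := by
    have sq : IsPullback (vMap u).left (snd G G').left ((fst G G)⁻¹ * snd G G).left u.left :=
      (isPullback_vMap_u (u := u)).map (Over.forget S)
    exact MorphismProperty.of_isPullback sq.flip h
  have hΓ : P (lift (𝟙 G) p).left := by
    have sq : IsPullback (fst G G').left (vMap u).left (lift (𝟙 G) p).left (G ◁ p).left :=
      (isPullback_vMap hsq).map (Over.forget S)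
    exact prop_of_isCov' hc1 sq P hv
  have hΔ : P (lift (𝟙 G'') (𝟙 G'')).left := by
    have sq : IsPullback p.left (lift (𝟙 G) p).left (lift (𝟙 G'') (𝟙 G'')).left (p ▷ G'').left :=
      (isPullback_graph p).map (Over.forget S)
    exact prop_of_isCov' hc2 sq P hΓ
  rwa [diagonal_left] at hΔ

section Fppf

omit [GrpObj G] in
theorem lfp_quot (p : G ⟶ G'') [Surjective p.left] [Flat p.left] [LocallyOfFinitePresentation p.left] (h : LocallyOfFinitePresentation G.hom) : LocallyOfFinitePresentation G''.hom := by
  haveI : LocallyOfFinitePresentation (p.left ≫ G''.hom) := by rwa [Over.w p]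
  exact Groth.Agent.Lib.Helper71.FppfChart.locallyOfFinitePresentation_of_fppf_comp p.left G''.hom

omit [GrpObj G] in
theorem lft_quot (p : G ⟶ G'') [Surjective p.left] [Flat p.left] [LocallyOfFinitePresentation p.left] (h : LocallyOfFiniteType G.hom) : LocallyOfFiniteType G''.hom := by
  haveI : LocallyOfFiniteType (p.left ≫ G''.hom) := by rwa [Over.w p]
  exact Groth.Agent.Lib.Helper71.FppfChart.locallyOfFiniteType_of_fppf_comp p.left G''.hom

omit [GrpObj G] in
theorem qc_quot (p : G ⟶ G'') [Surjective p.left] (h : QuasiCompact G.hom) : QuasiCompact G''.hom := by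
  haveI : QuasiCompact (p.left ≫ G''.hom) := by rwa [Over.w p]
  exact Groth.Agent.S5939.quasiCompact_of_comp_surjective p.left G''.hom

omit [GrpObj G] in
theorem smooth_quot (p : G ⟶ G'') [Surjective p.left] [Flat p.left] [LocallyOfFinitePresentation p.left] (h : Smooth G.hom) : Smooth G''.hom := by
  haveI : Smooth (p.left ≫ G''.hom) := by rwa [Over.w p]
  exact Groth.Agent.Lib.Helper71.SmoothDescent.smooth_of_fppf_comp p.left G''.hom

omit [GrpObj G] in
theorem lqf_quot (p : G ⟶ G'') [Surjective p.left] [Flat p.left] [LocallyOfFinitePresentation p.left] (h : LocallyQuasiFinite G.hom) (h' : LocallyOfFiniteType G.hom) :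
    LocallyQuasiFinite G''.hom := by
  haveI := lft_quot p h'
  rw [locallyQuasiFinite_iff_isDiscrete_preimage_singleton] at h ⊢
  intro s
  refine isDiscrete_of_isOpenMap_preimage p.left p.left.isOpenMap p.left.surjective _ ?_
  have e : ⇑p.left ⁻¹' (⇑G''.hom ⁻¹' {s}) = ⇑G.hom ⁻¹' {s} := by
    ext x
    simp only [Set.mem_preimage, Set.mem_singleton_iff]
    rw [← Scheme.Hom.comp_apply, Over.w p]
  rw [e]
  exact h s

theorem unramified_quot (p : G ⟶ G'') [Surjective p.left] [Flat p.left] [LocallyOfFinitePresentation p.left] [Mono u] (hcov : IsCov p.left)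
    (hsq : IsPullback ((G ◁ u) ≫ μ[G]) (fst G G') p p)
    (h : FormallyUnramified G.hom) (h' : LocallyOfFinitePresentation G.hom) :
    FormallyUnramified G''.hom := by
  haveI : Flat G'.hom := (prop_iff hcov hsq @Flat).mpr inferInstance
  haveI : LocallyOfFinitePresentation G'.hom :=
    (prop_iff hcov hsq @LocallyOfFinitePresentation).mpr inferInstance
  haveI : LocallyOfFinitePresentation (u.left ≫ G.hom) := by rw [Over.w u]; infer_instance
  haveI : LocallyOfFinitePresentation u.left :=
    Groth.Agent.Lib.Helper21.locallyOfFinitePresentation_of_comp_of_locallyOfFiniteType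
      u.left G.hom
  haveI : Mono u.left := inferInstance
  haveI : FormallyUnramified u.left := inferInstance
  haveI : FormallyUnramified (u.left ≫ G.hom) :=
    MorphismProperty.comp_mem @FormallyUnramified u.left G.hom inferInstance h
  haveI : FormallyUnramified G'.hom := by rw [← Over.w u]; infer_instance
  haveI : Etale G'.hom := Etale.of_formallyUnramified_of_flat G'.hom
  haveI : Etale (u.left ≫ G.hom) := by rw [Over.w u]; infer_instance
  haveI : Etale u.left := Etale.of_comp u.left G.hom
  haveI : IsOpenImmersion u.left := IsOpenImmersion.of_flat_of_mono u.left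
  haveI : IsOpenImmersion (pullback.diagonal G''.hom) :=
    prop_diagonal hcov hsq @IsOpenImmersion inferInstance
  infer_instance

theorem etale_quot (p : G ⟶ G'') [Surjective p.left] [Flat p.left] [LocallyOfFinitePresentation p.left] [Mono u] (hcov : IsCov p.left)
    (hsq : IsPullback ((G ◁ u) ≫ μ[G]) (fst G G') p p) (h : Etale G.hom) : Etale G''.hom := by
  haveI := smooth_quot p inferInstance
  haveI := unramified_quot p hcov hsq inferInstance inferInstance
  exact Etale.of_formallyUnramified_of_flat G''.hom

end Fppf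

end Groth.Agent.Lib.Helper26.QuotTransfer
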