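import Groth.Agent.Lib.Helper26.StableOpenDD
import Groth.Agent.Lib.Helper51.DescSecFpqc
import Groth.Agent.S9866

/-!
# Descent data relative to a flat, surjective, quasi-compact and universally injective morphism are effective (helper26)

Such a morphism `g` is a homeomorphism (hence affine, Mathlib's `isAffineHom_of_isInducing`), and so is its base change
`V ×_S S' ⟶ V`; therefore the equivalence relation on the points of the scheme `V` of a descent datum is trivial, every
open of `V` is stable, and the affine opens descend (affine descent).  The descent datum is glued from these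
(helper51's `S9866`); the reduction to an affine base is helper51's `SecRep` machinery.
-/

set_option autoImplicit false
universe u
open CategoryTheory CategoryTheory.Limits AlgebraicGeometry

namespace Groth.Agent.Lib.Helper26.RadicialDescent

open Desc Groth.Agent.Lib.Helper26.AffineDescentDD Groth.Agent.Lib.Helper26.QAffDescentDD
  Groth.Agent.Lib.Helper26.StableOpenDD

section AffineBase

variable {X S : Scheme.{u}} [IsAffine X] [IsAffine S] (p : X ⟶ S) [Flat p] [Surjective p]
  [UniversallyInjective p] (D : SchDD p)

/-- Over an affine base. -/
theorem exists_of_radicial_affine : ∃ U : Over S, Nonempty ((toDD p).obj U ≅ D) := by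
  have hpaff : IsAffineHom p := isAffineHom_of_isAffine p
  haveI : QuasiCompact p := inferInstance
  let a : pullback (D.obj.hom ≫ p) p ⟶ D.obj.left := pullback.fst _ _
  let b : pullback (D.obj.hom ≫ p) p ⟶ X := pullback.snd _ _
  have sq : IsPullback a b (D.obj.hom ≫ p) p := IsPullback.of_hasPullback _ _
  have hainj : UniversallyInjective a :=
    MorphismProperty.of_isPullback (P := @UniversallyInjective) sq.flip inferInstance
  let l : D.obj.left ⟶ pullback (D.obj.hom ≫ p) p :=
    sq.lift (𝟙 _) D.obj.hom (Category.id_comp _)
  have hl₁ : l ≫ a = 𝟙 _ := sq.lift_fst _ _ _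
  have hl₂ : l ≫ b = D.obj.hom := sq.lift_snd _ _ _
  have hlu : l ≫ univ D sq = 𝟙 _ := univ_counit D sq l hl₁ hl₂
  -- the equivalence relation is trivial on points
  have hzl : ∀ z, l.base (a.base z) = z := by
    intro z
    apply a.injective
    rw [← Scheme.Hom.comp_apply, hl₁]
    rfl
  have hua : ∀ z, (univ D sq).base z = a.base z := by
    intro z
    conv_lhs => rw [← hzl z]
    rw [← Scheme.Hom.comp_apply, hlu]
    rfl
  have hstable : ∀ W : D.obj.left.Opens, IsStableOpen D W := fun W =>
    isStableOpen_of_univ D sq W (fun z hz => by rw [hua z]; exact hz)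
  refine Groth.Agent.S9866.result p D (fun v => ?_)
  obtain ⟨W, hW, hvW, -⟩ := exists_isAffineOpen_mem_and_subset (x := v) (U := ⊤) trivial
  have : IsAffine (restrictDD (hstable W)).obj.left := hW
  obtain ⟨U', hU'⟩ := exists_of_isAffine p (restrictDD (hstable W))
  refine ⟨restrictDD (hstable W), restrictHom (hstable W), ?_, ?_, U', hU'⟩
  · exact (inferInstance : IsOpenImmersion (Scheme.Opens.ι W))
  · exact ⟨⟨v, hvW⟩, rfl⟩

end AffineBase

end Groth.Agent.Lib.Helper26.RadicialDescent
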