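import Groth.Prelude.Def_NonAbH2
import Mathlib.AlgebraicGeometry.Sites.Fpqc
import Mathlib.AlgebraicGeometry.AffineSpace

/-!
# Invariant morphisms out of a torsor descend to the base (helper26)

Let `X` be a `G`-torsor over `S` for a precoverage `K` whose generated sieves are covering for a
Grothendieck topology `J`, and let `T` be a scheme whose representable presheaf is a `J`-sheaf.
Then `S ⟶ T` are exactly the `G`-invariant morphisms `X ⟶ T`.  For `T = 𝔸¹_ℤ` and the fpqc
topology this gives `𝒪(S) = 𝒪(X)^G`.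
-/

set_option autoImplicit false
universe u

namespace Groth.Agent.Lib.Helper26.TorsorInvariants

open CategoryTheory Limits AlgebraicGeometry MonoidalCategory
open CartesianMonoidalCategory MonObj Opposite

variable {S : Scheme.{u}} {G X : Over S} [GrpObj G]

/-- Two points of a pseudo-torsor over the same base have the same image under any invariant
morphism. -/
theorem comp_eq_of_invariant (a : AlgGrp.Action G X) (hX : NonAbH1.IsPseudoTorsorSch a)
    {T : Scheme.{u}} (s : X.left ⟶ T) (hs : a.act.left ≫ s = (snd G X).left ≫ s)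
    {W : Scheme.{u}} (p q : W ⟶ X.left) (hpq : p ≫ X.hom = q ≫ X.hom) :
    p ≫ s = q ≫ s := by
  haveI : IsIso (lift a.act (snd G X)) := hX
  let W' : Over S := Over.mk (p ≫ X.hom)
  let p' : W' ⟶ X := Over.homMk p rfl
  let q' : W' ⟶ X := Over.homMk q hpq.symm
  let φ : W' ⟶ G ⊗ X := lift p' q' ≫ inv (lift a.act (snd G X))
  have hφ : φ ≫ lift a.act (snd G X) = lift p' q' := by
    simp only [φ, Category.assoc, IsIso.inv_hom_id, Category.comp_id]
  have h1 : φ ≫ a.act = p' := by
    have := congrArg (· ≫ fst X X) hφ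
    simpa only [Category.assoc, lift_fst] using this
  have h2 : φ ≫ snd G X = q' := by
    have := congrArg (· ≫ snd X X) hφ
    simpa only [Category.assoc, lift_snd] using this
  have h1' : φ.left ≫ a.act.left = p := by
    rw [← Over.comp_left, h1]; rfl
  have h2' : φ.left ≫ (snd G X).left = q := by
    rw [← Over.comp_left, h2]; rfl
  rw [← h1', Category.assoc, hs, ← Category.assoc, h2']

/-- Invariant morphisms out of a torsor are the morphisms out of the base. -/
theorem invariant_descent (J : GrothendieckTopology Scheme.{u}) (K : Precoverage Scheme.{u})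
    (hK : ∀ {Y : Scheme.{u}} (R : Presieve Y), R ∈ K Y → Sieve.generate R ∈ J Y)
    (a : AlgGrp.Action G X) (ha : NonAbH1.IsTorsorFor K a)
    (T : Scheme.{u}) (hT : Presieve.IsSheaf J (yoneda.obj T)) :
    Function.Injective (fun t : S ⟶ T => X.hom ≫ t) ∧
      ∀ s : X.left ⟶ T, (∃ t : S ⟶ T, X.hom ≫ t = s) ↔
        a.act.left ≫ s = (snd G X).left ≫ s := by
  obtain ⟨hX, R, hR, hsec⟩ := ha
  have hRJ : Sieve.generate R ∈ J S := hK R hR
  have hsep : Presieve.IsSeparatedFor (yoneda.obj T) (Sieve.generate R).arrows :=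
    (hT _ hRJ).isSeparatedFor
  have hsepX : Presieve.IsSeparatedFor (yoneda.obj T)
      ((Sieve.generate R).pullback X.hom).arrows :=
    (hT _ (J.pullback_stable X.hom hRJ)).isSeparatedFor
  refine ⟨?_, ?_⟩
  · intro t t' htt
    dsimp only at htt
    refine hsep.ext ?_
    rintro Y f ⟨Z, v, g, hg, rfl⟩
    obtain ⟨x, hx⟩ := hsec g hg
    change (v ≫ g) ≫ t = (v ≫ g) ≫ t'
    rw [← hx]
    simp only [Category.assoc]
    rw [htt]
  · intro s
    constructor
    · rintro ⟨t, rfl⟩
      have : a.act.left ≫ X.hom = (snd G X).left ≫ X.hom := by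
        rw [Over.w, Over.w]
      rw [← Category.assoc, this, Category.assoc]
    · intro hs
      -- the compatible family `t_i = x_i ≫ s`
      have hfam : ∀ ⦃Y : Scheme.{u}⦄ (f : Y ⟶ S), (Sieve.generate R).arrows f →
          ∃ x : Y ⟶ X.left, x ≫ X.hom = f := by
        rintro Y f ⟨Z, v, g, hg, rfl⟩
        obtain ⟨x, hx⟩ := hsec g hg
        exact ⟨v ≫ x, by rw [Category.assoc, hx]⟩
      let fam : Presieve.FamilyOfElements (yoneda.obj T) (Sieve.generate R).arrows :=
        fun Y f hf => (hfam f hf).choose ≫ s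
      have hfam_eq : ∀ ⦃Y : Scheme.{u}⦄ (f : Y ⟶ S) (hf : (Sieve.generate R).arrows f)
          (x : Y ⟶ X.left), x ≫ X.hom = f → fam f hf = x ≫ s := by
        intro Y f hf x hx
        exact comp_eq_of_invariant a hX s hs _ _ ((hfam f hf).choose_spec.trans hx.symm)
      have hcomp : fam.Compatible := by
        intro Y₁ Y₂ Z g₁ g₂ f₁ f₂ h₁ h₂ hcomm
        change g₁ ≫ fam f₁ h₁ = g₂ ≫ fam f₂ h₂
        obtain ⟨x₁, hx₁⟩ := hfam f₁ h₁
        obtain ⟨x₂, hx₂⟩ := hfam f₂ h₂
        rw [hfam_eq f₁ h₁ x₁ hx₁, hfam_eq f₂ h₂ x₂ hx₂, ← Category.assoc, ← Category.assoc]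
        refine comp_eq_of_invariant a hX s hs _ _ ?_
        rw [Category.assoc, Category.assoc, hx₁, hx₂, hcomm]
      obtain ⟨t, ht, -⟩ := hT _ hRJ fam hcomp
      refine ⟨t, ?_⟩
      refine hsepX.ext ?_
      intro W w hw
      change w ≫ X.hom ≫ t = w ≫ s
      have hw' : (Sieve.generate R).arrows (w ≫ X.hom) := hw
      have h1 : (w ≫ X.hom) ≫ t = fam (w ≫ X.hom) hw' := ht (w ≫ X.hom) hw'
      rw [← Category.assoc, h1]
      exact hfam_eq _ hw' w rfl

/-- The fpqc case. -/
theorem invariant_descent_fpqc (a : AlgGrp.Action G X)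
    (ha : NonAbH1.IsTorsorFor Scheme.fpqcPrecoverage a) (T : Scheme.{u}) :
    Function.Injective (fun t : S ⟶ T => X.hom ≫ t) ∧
      ∀ s : X.left ⟶ T, (∃ t : S ⟶ T, X.hom ≫ t = s) ↔
        a.act.left ≫ s = (snd G X).left ≫ s := by
  refine invariant_descent Scheme.fpqcTopology Scheme.fpqcPrecoverage
    (fun R hR => Precoverage.generate_mem_toGrothendieck hR) a ha T ?_
  exact GrothendieckTopology.Subcanonical.isSheaf_of_isRepresentable (yoneda.obj T)

/-- Global functions on a scheme as morphisms to the affine line over `ℤ`. -/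
noncomputable def fnEquiv (Y : Scheme.{u}) :
    (Y ⟶ Spec (CommRingCat.of (MvPolynomial PUnit.{u+1} (ULift.{u} ℤ)))) ≃ Γ(Y, ⊤) :=
  (AffineSpace.toSpecMvPolyIntEquiv PUnit.{u+1}).trans (Equiv.funUnique PUnit.{u+1} _)

theorem fnEquiv_comp {Y Z : Scheme.{u}} (f : Y ⟶ Z)
    (g : Z ⟶ Spec (CommRingCat.of (MvPolynomial PUnit.{u+1} (ULift.{u} ℤ)))) :
    fnEquiv Y (f ≫ g) = f.appTop.hom (fnEquiv Z g) := rfl

/-- **Functions on the base of an fpqc torsor are the invariant functions on the torsor.** -/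
theorem functions_fpqc (a : AlgGrp.Action G X)
    (ha : NonAbH1.IsTorsorFor Scheme.fpqcPrecoverage a) :
    Function.Injective X.hom.appTop.hom ∧
      ∀ s : Γ(X.left, ⊤), s ∈ Set.range X.hom.appTop.hom ↔
        a.act.left.appTop.hom s = (snd G X).left.appTop.hom s := by
  obtain ⟨hinj, hiff⟩ := invariant_descent_fpqc a ha
    (Spec (CommRingCat.of (MvPolynomial PUnit.{u+1} (ULift.{u} ℤ))))
  refine ⟨?_, ?_⟩
  · intro t t' htt
    obtain ⟨t, rfl⟩ := (fnEquiv S).surjective t
    obtain ⟨t', rfl⟩ := (fnEquiv S).surjective t'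
    rw [← fnEquiv_comp, ← fnEquiv_comp] at htt
    rw [hinj ((fnEquiv X.left).injective htt)]
  · intro s
    obtain ⟨s, rfl⟩ := (fnEquiv X.left).surjective s
    rw [← fnEquiv_comp, ← fnEquiv_comp, (fnEquiv _).apply_eq_iff_eq, ← hiff s]
    constructor
    · rintro ⟨t, ht⟩
      obtain ⟨t, rfl⟩ := (fnEquiv S).surjective t
      rw [← fnEquiv_comp] at ht
      exact ⟨t, (fnEquiv X.left).injective ht⟩
    · rintro ⟨t, rfl⟩
      exact ⟨fnEquiv S t, (fnEquiv_comp X.hom t).symm⟩

end Groth.Agent.Lib.Helper26.TorsorInvariants
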