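import Groth.Prelude.Def_NonAbH2
import Groth.Prelude.Def_ChGrp
import Groth.Agent.Lib.Helper26.EquivTorsorSch
import Groth.Agent.Lib.Helper26.TorsorInvariants
import Mathlib.AlgebraicGeometry.Sites.Proetale

/-!
# Reductions of structure group and sections of the quotient (helper26)

Let `b` be an action of `G` on `F` over `S` and `π : F ⟶ Q` a morphism such that
`(b.act, snd) : G ⊗ F ⟶ F ×_Q F` is an isomorphism (i.e. the square `b.act, snd, π, π` is
cartesian).  For a section `σ` of `Q`, the fibre `E = F ×_Q S` carries an action of `G`, for which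
it is a pseudo-torsor, locally trivial as soon as `π` has local sections.
-/

set_option autoImplicit false
universe u

namespace Groth.Agent.Lib.Helper26.Reduction

open CategoryTheory Limits AlgebraicGeometry MonoidalCategory
open CartesianMonoidalCategory MonObj Opposite

variable {S : Scheme.{u}} {G F Q E : Over S} [GrpObj G]
variable (b : AlgGrp.Action G F) {π : F ⟶ Q} (hsq : IsPullback b.act (snd G F) π π)
variable {σ : 𝟙_ (Over S) ⟶ Q} {φ : E ⟶ F} (hE : IsPullback φ (toUnit E) π σ)

include hE in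
lemma mono_φ : Mono φ := by
  refine ⟨fun {T} u v huv => ?_⟩
  exact hE.hom_ext huv (toUnit_unique _ _)

include hsq hE in
lemma act_w : ((G ◁ φ) ≫ b.act) ≫ π = toUnit (G ⊗ E) ≫ σ := by
  rw [Category.assoc, hsq.w, whiskerLeft_snd_assoc, hE.w, ← Category.assoc]
  congr 1
  exact toUnit_unique _ _

/-- The action morphism on the fibre. -/
noncomputable def actE : G ⊗ E ⟶ E := hE.lift ((G ◁ φ) ≫ b.act) (toUnit _) (act_w b hsq hE)

lemma actE_φ : actE b hsq hE ≫ φ = (G ◁ φ) ≫ b.act := hE.lift_fst _ _ _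

lemma lift_actE_φ {T : Over S} (g : T ⟶ G) (x : T ⟶ E) :
    lift g x ≫ actE b hsq hE ≫ φ = lift g (x ≫ φ) ≫ b.act := by
  rw [actE_φ, lift_whiskerLeft_assoc]

/-- The action of `G` on the fibre `E`. -/
noncomputable def action : AlgGrp.Action G E where
  act := actE b hsq hE
  one_act := by
    haveI := mono_φ hE
    rw [← cancel_mono φ, Category.assoc, actE_φ, ← whisker_exchange_assoc, b.one_act,
      leftUnitor_naturality]
  mul_act := by
    haveI := mono_φ hE
    rw [← cancel_mono φ]
    apply AlgGrp.Action.hom_ext_lift₃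
    intro T g h x
    simp only [Category.assoc]
    rw [lift_whiskerRight_assoc, lift_actE_φ, ← Hom.mul_def, AlgGrp.Action.lift_mul_act,
      lift_lift_associator_hom_assoc, lift_whiskerLeft_assoc, lift_actE_φ, Category.assoc,
      lift_actE_φ]

@[simp] lemma action_act : (action b hsq hE).act = actE b hsq hE := rfl

/-- `φ` is equivariant. -/
lemma isEquivariant_φ : AlgGrp.Action.IsEquivariant (action b hsq hE) b φ :=
  actE_φ b hsq hE

include hE in
lemma θ_w : (fst E E ≫ φ) ≫ π = (snd E E ≫ φ) ≫ π := by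
  rw [Category.assoc, Category.assoc, hE.w, ← Category.assoc, ← Category.assoc]
  congr 1
  exact toUnit_unique _ _

/-- The fibre is a pseudo-torsor. -/
theorem isPseudoTorsor : NonAbH1.IsPseudoTorsorSch (action b hsq hE) := by
  haveI := mono_φ hE
  let θ : E ⊗ E ⟶ G ⊗ F := hsq.lift (fst E E ≫ φ) (snd E E ≫ φ) (θ_w hE)
  have hθ1 : θ ≫ b.act = fst E E ≫ φ := hsq.lift_fst _ _ _
  have hθ2 : θ ≫ snd G F = snd E E ≫ φ := hsq.lift_snd _ _ _
  let ψ : E ⊗ E ⟶ G ⊗ E := lift (θ ≫ fst G F) (snd E E)
  have hψ : ψ ≫ (G ◁ φ) = θ := by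
    apply CartesianMonoidalCategory.hom_ext
    · rw [Category.assoc, whiskerLeft_fst, lift_fst]
    · rw [Category.assoc, whiskerLeft_snd, lift_snd_assoc, hθ2]
  have key : lift (actE b hsq hE) (snd G E) ≫ θ = G ◁ φ := by
    apply hsq.hom_ext
    · rw [Category.assoc, hθ1, lift_fst_assoc, actE_φ]
    · rw [Category.assoc, hθ2, lift_snd_assoc, whiskerLeft_snd]
  change IsIso (lift (actE b hsq hE) (snd G E))
  refine ⟨ψ, ?_, ?_⟩
  · apply CartesianMonoidalCategory.hom_ext
    · rw [Category.assoc, lift_fst, ← Category.assoc, key, whiskerLeft_fst, Category.id_comp]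
    · rw [Category.assoc, lift_snd, lift_snd, Category.id_comp]
  · apply CartesianMonoidalCategory.hom_ext
    · rw [Category.assoc, lift_fst, Category.id_comp, ← cancel_mono φ, Category.assoc, actE_φ,
        ← Category.assoc, hψ, hθ1]
    · rw [Category.assoc, lift_snd, lift_snd, Category.id_comp]

include hE in
/-- If `π` has sections locally on `Q` for a precoverage stable under base change, the fibre `E`
is locally trivial. -/
theorem isLocallyTrivialFor (K : Precoverage Scheme.{u}) [K.IsStableUnderBaseChange]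
    (hloc : NonAbH1.IsLocallyTrivialFor K (Over.mk π.left : Over Q.left)) :
    NonAbH1.IsLocallyTrivialFor K E := by
  obtain ⟨R, hR, hsec⟩ := hloc
  have hE' : IsPullback φ.left (toUnit E).left π.left σ.left := hE.map (Over.forget S)
  have hEhom : (toUnit E).left = E.hom := by
    have := Over.w (toUnit E)
    simpa using this
  refine ⟨R.pullbackArrows σ.left, Precoverage.pullbackArrows_mem σ.left hR, ?_⟩
  rintro S' f ⟨Q', h, hh⟩
  obtain ⟨s, hs⟩ := hsec h hh
  have hs' : s ≫ π.left = h := hs
  refine ⟨hE'.lift (pullback.fst h σ.left ≫ s) (pullback.snd h σ.left) ?_, ?_⟩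
  · rw [Category.assoc, hs', pullback.condition]
  · rw [← hEhom]
    exact hE'.lift_snd _ _ _

/-- The fibre `E` is a torsor. -/
theorem isTorsorFor (K : Precoverage Scheme.{u}) [K.IsStableUnderBaseChange]
    (hloc : NonAbH1.IsLocallyTrivialFor K (Over.mk π.left : Over Q.left)) :
    NonAbH1.IsTorsorFor K (action b hsq hE) :=
  ⟨isPseudoTorsor b hsq hE, isLocallyTrivialFor hE K hloc⟩

end Groth.Agent.Lib.Helper26.Reduction

namespace Groth.Agent.Lib.Helper26.Reduction

open CategoryTheory Limits AlgebraicGeometry MonoidalCategory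
open CartesianMonoidalCategory MonObj Opposite

variable {S : Scheme.{u}} {G F Q E : Over S} [GrpObj G]

/-- A torsor for a finer precoverage is a torsor for a coarser one. -/
lemma isTorsorFor_of_le {K K' : Precoverage Scheme.{u}} (h : K ≤ K') {X : Over S}
    (a : AlgGrp.Action G X) (ha : NonAbH1.IsTorsorFor K a) : NonAbH1.IsTorsorFor K' a := by
  obtain ⟨h1, R, hR, hsec⟩ := ha
  exact ⟨h1, R, h S hR, hsec⟩

lemma etalePrecoverage_le_fpqcPrecoverage :
    Scheme.etalePrecoverage.{u} ≤ Scheme.fpqcPrecoverage.{u} :=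
  le_trans Scheme.etalePrecoverage_le_proetalePrecoverage Scheme.proetalePrecoverage_le_fpqcPrecoverage

lemma toUnit_left (X : Over S) : (toUnit X).left = X.hom := by
  have := Over.w (toUnit X)
  simpa using this

variable (b : AlgGrp.Action G F) {π : F ⟶ Q} (hsq : IsPullback b.act (snd G F) π π)
variable (aE : AlgGrp.Action G E) (hEt : NonAbH1.IsTorsorFor Scheme.fpqcPrecoverage aE)
variable {φ : E ⟶ F} (hφ : AlgGrp.Action.IsEquivariant aE b φ)

include hsq hφ in
lemma invariant_φ_π : aE.act ≫ φ ≫ π = snd G E ≫ φ ≫ π := by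
  have h : aE.act ≫ φ = (G ◁ φ) ≫ b.act := hφ
  rw [← Category.assoc, h, Category.assoc, hsq.w, whiskerLeft_snd_assoc]

include hsq hEt hφ in
/-- A reduction of structure group determines a unique section of the quotient. -/
theorem existsUnique_section : ∃! σ : 𝟙_ (Over S) ⟶ Q, toUnit E ≫ σ = φ ≫ π := by
  obtain ⟨hinj, hiff⟩ := TorsorInvariants.invariant_descent_fpqc aE hEt Q.left
  obtain ⟨hinjS, -⟩ := TorsorInvariants.invariant_descent_fpqc aE hEt S
  have hinv : aE.act.left ≫ (φ ≫ π).left = (snd G E).left ≫ (φ ≫ π).left := by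
    rw [← Over.comp_left, ← Over.comp_left, invariant_φ_π b hsq aE hφ]
  obtain ⟨t, ht⟩ := (hiff (φ ≫ π).left).2 hinv
  have htQ : t ≫ Q.hom = 𝟙 S := by
    apply hinjS
    change E.hom ≫ t ≫ Q.hom = E.hom ≫ 𝟙 S
    rw [← Category.assoc, ht, Over.w, Category.comp_id]
  let σ : 𝟙_ (Over S) ⟶ Q := Over.homMk t (by simpa using htQ)
  have hσ : toUnit E ≫ σ = φ ≫ π := by
    apply Over.OverMorphism.ext
    rw [Over.comp_left, toUnit_left]
    exact ht
  refine ⟨σ, hσ, ?_⟩
  intro σ' hσ'
  apply Over.OverMorphism.ext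
  apply hinj
  change E.hom ≫ σ'.left = E.hom ≫ t
  rw [ht, ← toUnit_left, ← Over.comp_left, hσ']

include hsq hEt hφ in
/-- A reduction of structure group is the fibre of `π` over the corresponding section. -/
theorem isPullback_of_section (σ : 𝟙_ (Over S) ⟶ Q) (hσ : toUnit E ≫ σ = φ ≫ π) :
    IsPullback φ (toUnit E) π σ := by
  have hE' : IsPullback (pullback.fst π σ) (toUnit (pullback π σ)) π σ := by
    have h := IsPullback.of_hasPullback π σ
    have e : pullback.snd π σ = toUnit (pullback π σ) := toUnit_unique _ _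
    rwa [e] at h
  haveI := mono_φ hE'
  let v : E ⟶ pullback π σ := hE'.lift φ (toUnit E) hσ.symm
  have hv : v ≫ pullback.fst π σ = φ := hE'.lift_fst _ _ _
  have hveq : AlgGrp.Action.IsEquivariant aE (action b hsq hE') v := by
    change aE.act ≫ v = (G ◁ v) ≫ actE b hsq hE'
    have h : aE.act ≫ φ = (G ◁ φ) ≫ b.act := hφ
    rw [← cancel_mono (pullback.fst π σ), Category.assoc, hv, Category.assoc, actE_φ,
      ← MonoidalCategory.whiskerLeft_comp_assoc, hv, h]
  haveI : IsIso v := EquivTorsorSch.isIso_of_isEquivariant Scheme.fpqcPrecoverage aE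
    (action b hsq hE') hEt.1 hEt.2 (isPseudoTorsor b hsq hE') v hveq
  refine hE'.of_iso (asIso v).symm (Iso.refl _) (Iso.refl _) (Iso.refl _) ?_ ?_ ?_ ?_
  · simp only [Iso.refl_hom, Category.comp_id, Iso.symm_hom, asIso_inv, IsIso.eq_inv_comp, hv]
  · exact toUnit_unique _ _
  · simp
  · simp

end Groth.Agent.Lib.Helper26.Reduction
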