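import Mathlib
import Groth.Agent.Lib.Helper26.PowEtale

/-!
# Relative charts of a group scheme around the unit section, and commutativity of the kernel of
reduction modulo a square-zero ideal (helper26)

`RelChart G β` (for `β : R₀ → C`) is an affine chart of `G` containing the image of the unit section
pulled back to `Spec C` — no locality assumption on the base `R₀`.  The first order calculus of
`PowEtale` goes through: on the kernel of `G(C) → G(C/I)`, `I² = 0`, the group law is addition of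
tangent vectors; in particular that kernel is commutative.
-/

set_option autoImplicit false
universe u
open CategoryTheory CategoryTheory.Limits AlgebraicGeometry MonoidalCategory
  CartesianMonoidalCategory MonObj GrpObj

namespace Groth.Agent.Lib.Helper26.RelChart

open Groth.Agent.Lib.Helper26.PowEtale

/-- an affine chart of a group scheme around the unit section pulled back along `β`, together with
an affine chart of `G × G` around `(e, e)` on which the projections and the multiplication land in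
the first chart -/
structure RChart {R₀ : CommRingCat.{u}} (G : Over (Spec R₀)) [GrpObj G] {C : Type u} [CommRing C]
    (β : R₀ ⟶ CommRingCat.of C) where
  A : CommRingCat.{u}
  B : CommRingCat.{u}
  jU : Spec A ⟶ G.left
  jW : Spec B ⟶ (G ⊗ G).left
  hU : IsOpenImmersion jU
  hW : IsOpenImmersion jW
  ε : A ⟶ CommRingCat.of C
  hε : Spec.map ε ≫ jU = Spec.map β ≫ η[G].left
  p₁ : A ⟶ B
  p₂ : A ⟶ B
  m : A ⟶ B
  hp₁ : Spec.map p₁ ≫ jU = jW ≫ (fst G G).left
  hp₂ : Spec.map p₂ ≫ jU = jW ≫ (snd G G).left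
  hm : Spec.map m ≫ jU = jW ≫ μ[G].left
  ε₂ : B ⟶ CommRingCat.of C
  hε₂ : Spec.map ε₂ ≫ jW = Spec.map β ≫ (lift η[G] η[G]).left

section kernel

variable {R₀ : CommRingCat.{u}} {G : Over (Spec R₀)} [GrpObj G]
  {C : Type u} [CommRing C] (I : Ideal C) (hI : I ^ 2 = ⊥) (β : R₀ ⟶ CommRingCat.of C)
  (ch : RChart G β)

include hI in
theorem exists_phi (g : TC β ⟶ G) (hg : incl I β ≫ g = 1) :
    ∃ φ : ch.A ⟶ CommRingCat.of C, Spec.map φ ≫ ch.jU = g.left ∧
      φ ≫ CommRingCat.ofHom (Ideal.Quotient.mk I) =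
        ch.ε ≫ CommRingCat.ofHom (Ideal.Quotient.mk I) := by
  haveI := ch.hU
  obtain ⟨φ, h1, h2⟩ := exists_factor ch.jU ch.ε I hI (𝟙 (CommRingCat.of C)) g.left (by
    have := congrArg (fun k => k.left) hg
    simp only [Over.comp_left, Over.homMk_left] at this
    rw [this, one_left, Spec.map_id, Category.id_comp, ch.hε]
    exact Category.assoc _ _ _)
  exact ⟨φ, h1, by simpa using h2⟩

include hI in
theorem exists_Phi (g h : TC β ⟶ G) (hg : incl I β ≫ g = 1) (hh : incl I β ≫ h = 1) :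
    ∃ Φ : ch.B ⟶ CommRingCat.of C, Spec.map Φ ≫ ch.jW = (lift g h).left ∧
      Φ ≫ CommRingCat.ofHom (Ideal.Quotient.mk I) =
        ch.ε₂ ≫ CommRingCat.ofHom (Ideal.Quotient.mk I) := by
  haveI := ch.hW
  obtain ⟨Φ, h1, h2⟩ := exists_factor ch.jW ch.ε₂ I hI (𝟙 (CommRingCat.of C)) (lift g h).left (by
    have h1 : incl I β ≫ lift g h = toUnit _ ≫ lift η[G] η[G] := by
      rw [comp_lift, comp_lift, hg, hh, Hom.one_def]
    have := congrArg (fun k => k.left) h1
    simp only [Over.comp_left, Over.homMk_left, Over.toUnit_left] at this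
    rw [this, Spec.map_id, Category.id_comp, ch.hε₂]
    exact Category.assoc _ _ _)
  exact ⟨Φ, h1, by simpa using h2⟩

theorem p₁_comp {T : Over (Spec R₀)} {D : CommRingCat.{u}} (hT : T.left = Spec D)
    (g h : T ⟶ G) (Φ : ch.B ⟶ D) (φ : ch.A ⟶ D)
    (hΦ : Spec.map Φ ≫ ch.jW = eqToHom hT.symm ≫ (lift g h).left)
    (hφ : Spec.map φ ≫ ch.jU = eqToHom hT.symm ≫ g.left) : ch.p₁ ≫ Φ = φ := by
  haveI := ch.hU
  apply factor_unique ch.jU
  rw [Spec.map_comp, Category.assoc, ch.hp₁, reassoc_of% hΦ, hφ, ← Over.comp_left, lift_fst]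

theorem p₂_comp {T : Over (Spec R₀)} {D : CommRingCat.{u}} (hT : T.left = Spec D)
    (g h : T ⟶ G) (Φ : ch.B ⟶ D) (φ : ch.A ⟶ D)
    (hΦ : Spec.map Φ ≫ ch.jW = eqToHom hT.symm ≫ (lift g h).left)
    (hφ : Spec.map φ ≫ ch.jU = eqToHom hT.symm ≫ h.left) : ch.p₂ ≫ Φ = φ := by
  haveI := ch.hU
  apply factor_unique ch.jU
  rw [Spec.map_comp, Category.assoc, ch.hp₂, reassoc_of% hΦ, hφ, ← Over.comp_left, lift_snd]

theorem m_comp {T : Over (Spec R₀)} {D : CommRingCat.{u}} (hT : T.left = Spec D)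
    (g h : T ⟶ G) (Φ : ch.B ⟶ D) (φ : ch.A ⟶ D)
    (hΦ : Spec.map Φ ≫ ch.jW = eqToHom hT.symm ≫ (lift g h).left)
    (hφ : Spec.map φ ≫ ch.jU = eqToHom hT.symm ≫ (g * h).left) : ch.m ≫ Φ = φ := by
  haveI := ch.hU
  apply factor_unique ch.jU
  rw [Spec.map_comp, Category.assoc, ch.hm, reassoc_of% hΦ, hφ, ← Over.comp_left, Hom.mul_def]

theorem Phi_ext {D : CommRingCat.{u}} (Φ Φ' : ch.B ⟶ D) (h1 : ch.p₁ ≫ Φ = ch.p₁ ≫ Φ')
    (h2 : ch.p₂ ≫ Φ = ch.p₂ ≫ Φ') : Φ = Φ' := by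
  haveI := ch.hW
  apply factor_unique ch.jW
  apply pullback.hom_ext
  · have := congrArg (fun k => Spec.map k ≫ ch.jU) h1
    simp only [Spec.map_comp, Category.assoc, ch.hp₁] at this
    simpa using this
  · have := congrArg (fun k => Spec.map k ≫ ch.jU) h2
    simp only [Spec.map_comp, Category.assoc, ch.hp₂] at this
    simpa using this

theorem phi_one : Spec.map ch.ε ≫ ch.jU = (1 : TC β ⟶ G).left := by
  rw [one_left, ch.hε]
  rfl

include hI in
/-- the group law on the first order kernel is addition of tangent vectors -/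
theorem phi_mul (g h : TC β ⟶ G) (hg : incl I β ≫ g = 1) (hh : incl I β ≫ h = 1)
    (φg φh φgh : ch.A ⟶ CommRingCat.of C) (eg : Spec.map φg ≫ ch.jU = g.left)
    (eh : Spec.map φh ≫ ch.jU = h.left) (egh : Spec.map φgh ≫ ch.jU = (g * h).left) (a : ch.A) :
    φgh.hom a = φg.hom a + φh.hom a - ch.ε.hom a := by
  have h1 : incl I β ≫ (1 : TC β ⟶ G) = 1 := MonObj.comp_one _
  obtain ⟨Φgh, e1, -⟩ := exists_Phi I hI β ch g h hg hh
  obtain ⟨Φg1, e2, c2⟩ := exists_Phi I hI β ch g 1 hg h1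
  obtain ⟨Φ1h, e3, c3⟩ := exists_Phi I hI β ch 1 h h1 hh
  obtain ⟨Φ11, e4, c4⟩ := exists_Phi I hI β ch 1 1 h1 h1
  have hI' := mul_eq_zero_of_sq_eq_bot I hI
  have hT : (TC β).left = Spec (CommRingCat.of C) := rfl
  have e0 := phi_one β ch
  -- the combination
  let Φ' : ch.B ⟶ CommRingCat.of C := CommRingCat.ofHom (comb3 I hI' Φ11.hom Φg1.hom Φ1h.hom
    (sub_mem_of_comp_eq I Φg1 Φ11 (c2.trans c4.symm)) (sub_mem_of_comp_eq I Φ1h Φ11 (c3.trans c4.symm)))
  have hΦ' : ∀ b, Φ'.hom b = Φg1.hom b + Φ1h.hom b - Φ11.hom b := fun b => rfl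
  have q1 : ch.p₁ ≫ Φgh = φg := p₁_comp β ch hT g h Φgh φg (by simpa using e1) (by simpa using eg)
  have q2 : ch.p₂ ≫ Φgh = φh := p₂_comp β ch hT g h Φgh φh (by simpa using e1) (by simpa using eh)
  have q3 : ch.p₁ ≫ Φg1 = φg := p₁_comp β ch hT g 1 Φg1 φg (by simpa using e2) (by simpa using eg)
  have q4 : ch.p₂ ≫ Φg1 = ch.ε :=
    p₂_comp β ch hT g 1 Φg1 _ (by simpa using e2) (by simpa using e0)
  have q5 : ch.p₁ ≫ Φ1h = ch.ε :=
    p₁_comp β ch hT 1 h Φ1h _ (by simpa using e3) (by simpa using e0)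
  have q6 : ch.p₂ ≫ Φ1h = φh := p₂_comp β ch hT 1 h Φ1h φh (by simpa using e3) (by simpa using eh)
  have q7 : ch.p₁ ≫ Φ11 = ch.ε :=
    p₁_comp β ch hT 1 1 Φ11 _ (by simpa using e4) (by simpa using e0)
  have q8 : ch.p₂ ≫ Φ11 = ch.ε :=
    p₂_comp β ch hT 1 1 Φ11 _ (by simpa using e4) (by simpa using e0)
  have key : Φgh = Φ' := by
    apply Phi_ext β ch
    · rw [q1]
      ext x
      have a3 := congrArg (fun k => k.hom x) q3
      have a5 := congrArg (fun k => k.hom x) q5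
      have a7 := congrArg (fun k => k.hom x) q7
      simp only [CommRingCat.hom_comp, RingHom.comp_apply] at a3 a5 a7 ⊢
      rw [hΦ', a3, a5, a7]
      ring
    · rw [q2]
      ext x
      have a4 := congrArg (fun k => k.hom x) q4
      have a6 := congrArg (fun k => k.hom x) q6
      have a8 := congrArg (fun k => k.hom x) q8
      simp only [CommRingCat.hom_comp, RingHom.comp_apply] at a4 a6 a8 ⊢
      rw [hΦ', a4, a6, a8]
      ring
  have r1 : ch.m ≫ Φgh = φgh := m_comp β ch hT g h Φgh φgh (by simpa using e1) (by simpa using egh)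
  have r2 : ch.m ≫ Φg1 = φg :=
    m_comp β ch hT g 1 Φg1 φg (by simpa using e2) (by rw [_root_.mul_one]; simpa using eg)
  have r3 : ch.m ≫ Φ1h = φh :=
    m_comp β ch hT 1 h Φ1h φh (by simpa using e3) (by rw [_root_.one_mul]; simpa using eh)
  have r4 : ch.m ≫ Φ11 = ch.ε :=
    m_comp β ch hT 1 1 Φ11 _ (by simpa using e4) (by rw [_root_.one_mul]; simpa using e0)
  have b1 := congrArg (fun k => k.hom a) r1
  have b2 := congrArg (fun k => k.hom a) r2
  have b3 := congrArg (fun k => k.hom a) r3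
  have b4 := congrArg (fun k => k.hom a) r4
  simp only [CommRingCat.hom_comp, RingHom.comp_apply] at b1 b2 b3 b4
  rw [← b1, key, hΦ', b2, b3, b4]

include hI ch in
/-- **the kernel of reduction modulo a square-zero ideal is commutative** (affine test scheme with a
relative chart) -/
theorem mul_comm_of_relChart (g h : TC β ⟶ G) (hg : incl I β ≫ g = 1) (hh : incl I β ≫ h = 1) :
    g * h = h * g := by
  haveI := ch.hU
  have hgh : incl I β ≫ (g * h) = 1 := by rw [MonObj.comp_mul, hg, hh, _root_.one_mul]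
  have hhg : incl I β ≫ (h * g) = 1 := by rw [MonObj.comp_mul, hg, hh, _root_.one_mul]
  obtain ⟨φg, eg, -⟩ := exists_phi I hI β ch g hg
  obtain ⟨φh, eh, -⟩ := exists_phi I hI β ch h hh
  obtain ⟨φgh, egh, -⟩ := exists_phi I hI β ch (g * h) hgh
  obtain ⟨φhg, ehg, -⟩ := exists_phi I hI β ch (h * g) hhg
  have key : φgh = φhg := by
    ext a
    rw [phi_mul I hI β ch g h hg hh φg φh φgh eg eh egh a,
      phi_mul I hI β ch h g hh hg φh φg φhg eh eg ehg a]
    ring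
  apply hom_ext_of_left
  rw [← egh, ← ehg, key]

end kernel

section exist

variable {R₀ : CommRingCat.{u}} (G : Over (Spec R₀)) [GrpObj G] (Y : Over (Spec R₀))

/-- every point of an `S`-scheme `Y` has an affine open neighbourhood carrying a relative chart -/
theorem exists_rchart (y : Y.left) :
    ∃ (V : Y.left.Opens) (hV : IsAffineOpen V) (β : R₀ ⟶ CommRingCat.of ↑Γ(Y.left, V)),
      y ∈ V ∧ Spec.map β = hV.fromSpec ≫ Y.hom ∧ Nonempty (RChart G β) := by
  obtain ⟨e, he⟩ : ∃ e : Y.left ⟶ G.left, e = Y.hom ≫ (η[G]).left := ⟨_, rfl⟩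
  obtain ⟨e₂, he₂⟩ : ∃ e₂ : Y.left ⟶ (G ⊗ G).left, e₂ = Y.hom ≫ (lift η[G] η[G]).left := ⟨_, rfl⟩
  obtain ⟨U, hU, hxU⟩ : ∃ U : G.left.Opens, IsAffineOpen U ∧ e y ∈ U := by
    obtain ⟨_, ⟨V, hV, rfl⟩, hxV, -⟩ := G.left.isBasis_affineOpens.exists_subset_of_mem_open
      (Set.mem_univ (e y)) isOpen_univ
    exact ⟨V, hV, hxV⟩
  have e21 : e₂ ≫ (fst G G).left = e := by
    rw [he₂, he, Category.assoc, ← Over.comp_left, lift_fst]
  have e22 : e₂ ≫ (snd G G).left = e := by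
    rw [he₂, he, Category.assoc, ← Over.comp_left, lift_snd]
  have e23 : e₂ ≫ (μ[G]).left = e := by
    rw [he₂, he, Category.assoc, ← Over.comp_left, ← Hom.mul_def, MonObj.one_eq_one,
      _root_.one_mul]
  obtain ⟨W, hW, hyW, hWle⟩ : ∃ W : (G ⊗ G).left.Opens, IsAffineOpen W ∧ e₂ y ∈ W ∧
      W ≤ ((fst G G).left ⁻¹ᵁ U) ⊓ ((snd G G).left ⁻¹ᵁ U) ⊓ ((μ[G]).left ⁻¹ᵁ U) := by
    have hmem : e₂ y ∈
        ((fst G G).left ⁻¹ᵁ U) ⊓ ((snd G G).left ⁻¹ᵁ U) ⊓ ((μ[G]).left ⁻¹ᵁ U) := by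
      refine ⟨⟨?_, ?_⟩, ?_⟩
      · show (fst G G).left (e₂ _) ∈ U
        rw [← Scheme.Hom.comp_apply, e21]; exact hxU
      · show (snd G G).left (e₂ _) ∈ U
        rw [← Scheme.Hom.comp_apply, e22]; exact hxU
      · show (μ[G]).left (e₂ _) ∈ U
        rw [← Scheme.Hom.comp_apply, e23]; exact hxU
    obtain ⟨_, ⟨V, hV, rfl⟩, hxV, hVle⟩ :=
      (G ⊗ G).left.isBasis_affineOpens.exists_subset_of_mem_open hmem
        (((fst G G).left ⁻¹ᵁ U) ⊓ ((snd G G).left ⁻¹ᵁ U) ⊓ ((μ[G]).left ⁻¹ᵁ U)).isOpen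
    exact ⟨V, hV, hxV, hVle⟩
  obtain ⟨V, hV, hyV, hVle⟩ : ∃ V : Y.left.Opens, IsAffineOpen V ∧ y ∈ V ∧
      V ≤ (e ⁻¹ᵁ U) ⊓ (e₂ ⁻¹ᵁ W) := by
    have hmem : y ∈ (e ⁻¹ᵁ U) ⊓ (e₂ ⁻¹ᵁ W) := ⟨hxU, hyW⟩
    obtain ⟨_, ⟨V, hV, rfl⟩, hxV, hVle⟩ :=
      Y.left.isBasis_affineOpens.exists_subset_of_mem_open hmem ((e ⁻¹ᵁ U) ⊓ (e₂ ⁻¹ᵁ W)).isOpen
    exact ⟨V, hV, hxV, hVle⟩
  have hVr : ∀ z, hV.fromSpec z ∈ V := fun z => by
    have : hV.fromSpec z ∈ Set.range hV.fromSpec := ⟨z, rfl⟩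
    rwa [hV.range_fromSpec] at this
  have hWr : ∀ z, hW.fromSpec z ∈ W := fun z => by
    have : hW.fromSpec z ∈ Set.range hW.fromSpec := ⟨z, rfl⟩
    rwa [hW.range_fromSpec] at this
  obtain ⟨ε, hε⟩ := Groth.Agent.Lib.Helper7.exists_SpecMap_comp_fromSpec hU (hV.fromSpec ≫ e) (by
    rintro _ ⟨z, rfl⟩
    exact (hVle (hVr z)).1)
  obtain ⟨ε₂, hε₂⟩ := Groth.Agent.Lib.Helper7.exists_SpecMap_comp_fromSpec hW (hV.fromSpec ≫ e₂) (by
    rintro _ ⟨z, rfl⟩
    exact (hVle (hVr z)).2)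
  obtain ⟨p₁, hp₁⟩ := Groth.Agent.Lib.Helper7.exists_SpecMap_comp_fromSpec hU
    (hW.fromSpec ≫ (fst G G).left) (by
      rintro _ ⟨z, rfl⟩
      exact (hWle (hWr z)).1.1)
  obtain ⟨p₂, hp₂⟩ := Groth.Agent.Lib.Helper7.exists_SpecMap_comp_fromSpec hU
    (hW.fromSpec ≫ (snd G G).left) (by
      rintro _ ⟨z, rfl⟩
      exact (hWle (hWr z)).1.2)
  obtain ⟨m, hm⟩ := Groth.Agent.Lib.Helper7.exists_SpecMap_comp_fromSpec hU
    (hW.fromSpec ≫ (μ[G]).left) (by
      rintro _ ⟨z, rfl⟩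
      exact (hWle (hWr z)).2)
  have hβ : Spec.map (Spec.preimage (hV.fromSpec ≫ Y.hom)) = hV.fromSpec ≫ Y.hom :=
    Spec.map_preimage _
  refine ⟨V, hV, Spec.preimage (hV.fromSpec ≫ Y.hom), hyV, hβ,
    ⟨⟨_, _, hU.fromSpec, hW.fromSpec, inferInstance, inferInstance, ε, ?_, p₁, p₂, m,
      hp₁.symm, hp₂.symm, hm.symm, ε₂, ?_⟩⟩⟩
  · rw [← hε, he, hβ, Category.assoc]
  · rw [← hε₂, he₂, hβ, Category.assoc]

end exist

section main

variable {R : Type u} [CommRing R] (J : Ideal R) (hJ : J * J = ⊥)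
  (X Y : Over (Spec (CommRingCat.of R))) [GrpObj X]

include hJ in
/-- **the kernel of reduction modulo a square-zero ideal is commutative**: two `Y`-valued points of a
group scheme `X` over `Spec R` which restrict to the unit over `Y ×_R R/J` commute. -/
theorem mul_comm_of_sq_zero (g g' : Y ⟶ X)
    (hg : pullback.fst Y.hom (Spec.map (CommRingCat.ofHom (Ideal.Quotient.mk J))) ≫ g.left =
      pullback.fst Y.hom (Spec.map (CommRingCat.ofHom (Ideal.Quotient.mk J))) ≫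
        (1 : Y ⟶ X).left)
    (hg' : pullback.fst Y.hom (Spec.map (CommRingCat.ofHom (Ideal.Quotient.mk J))) ≫ g'.left =
      pullback.fst Y.hom (Spec.map (CommRingCat.ofHom (Ideal.Quotient.mk J))) ≫
        (1 : Y ⟶ X).left) :
    g * g' = g' * g := by
  apply Over.OverMorphism.ext
  apply Scheme.hom_ext_of_forall
  intro y
  obtain ⟨V, hV, β, hyV, hβ, ⟨ch⟩⟩ := exists_rchart X Y y
  refine ⟨V, hyV, ?_⟩
  -- the square-zero ideal of `Γ(Y, V)`
  let I : Ideal ↑Γ(Y.left, V) := Ideal.map β.hom J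
  have hI : I ^ 2 = ⊥ := by
    rw [pow_two, ← Ideal.map_mul, hJ, Ideal.map_bot]
  -- the test point
  let t : TC β ⟶ Y := Over.homMk hV.fromSpec hβ.symm
  -- the induced map on quotients
  let ψ : CommRingCat.of (R ⧸ J) ⟶ CommRingCat.of (↑Γ(Y.left, V) ⧸ I) :=
    CommRingCat.ofHom (Ideal.quotientMap I β.hom Ideal.le_comap_map)
  have hψ : CommRingCat.ofHom (Ideal.Quotient.mk J) ≫ ψ =
      β ≫ CommRingCat.ofHom (Ideal.Quotient.mk I) := by
    ext r
    simp [ψ]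
  have hcond : (Spec.map (CommRingCat.ofHom (Ideal.Quotient.mk I)) ≫ hV.fromSpec) ≫ Y.hom =
      Spec.map ψ ≫ Spec.map (CommRingCat.ofHom (Ideal.Quotient.mk J)) := by
    rw [Category.assoc, ← hβ, ← Spec.map_comp, ← Spec.map_comp, hψ]
  have hfac : Spec.map (CommRingCat.ofHom (Ideal.Quotient.mk I)) ≫ hV.fromSpec =
      pullback.lift _ _ hcond ≫
        pullback.fst Y.hom (Spec.map (CommRingCat.ofHom (Ideal.Quotient.mk J))) :=
    (pullback.lift_fst _ _ hcond).symm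
  have hker : ∀ z : Y ⟶ X,
      pullback.fst Y.hom (Spec.map (CommRingCat.ofHom (Ideal.Quotient.mk J))) ≫ z.left =
        pullback.fst Y.hom (Spec.map (CommRingCat.ofHom (Ideal.Quotient.mk J))) ≫
          (1 : Y ⟶ X).left → incl I β ≫ t ≫ z = 1 := by
    intro z hγ
    apply hom_ext_of_left
    have e1 : (incl I β).left = Spec.map (CommRingCat.ofHom (Ideal.Quotient.mk I)) := rfl
    have e2 : t.left = hV.fromSpec := rfl
    rw [Over.comp_left, Over.comp_left, e1, e2, ← Category.assoc, hfac,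
      Category.assoc, hγ, ← Category.assoc, ← hfac, one_left, one_left, Category.assoc,
      ← Category.assoc hV.fromSpec, ← hβ]
    rfl
  have key := mul_comm_of_relChart I hI β ch (t ≫ g) (t ≫ g') (hker g hg) (hker g' hg')
  rw [← MonObj.comp_mul, ← MonObj.comp_mul] at key
  have key' := congrArg (fun k => k.left) key
  have e2 : t.left = hV.fromSpec := rfl
  simp only [Over.comp_left] at key'
  rw [e2, ← hV.isoSpec_inv_ι, Category.assoc, Category.assoc] at key'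
  exact (cancel_epi hV.isoSpec.inv).1 key'

end main

end Groth.Agent.Lib.Helper26.RelChart
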