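import Groth.Statements.S6057

set_option autoImplicit false
open CategoryTheory Opposite
universe v₁ u₁
open ShfCat

namespace Groth.Agent.Lib.Helper26.RelPsh

variable {C : Type u₁} [Category.{v₁} C] (J : GrothendieckTopology C)
    {S : C} (hS : Presieve.IsSheaf J (yoneda.obj S)) {F : Cᵒᵖ ⥤ Type v₁} (φ : F ⟶ yoneda.obj S)

include hS in
lemma sep_of_rel (h : Presieve.IsSeparated (J.over S) (ShfCat.relPsh φ)) :
    Presieve.IsSeparated J F := by
  intro X R hR
  intro y t₁ t₂ ht₁ ht₂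
  have hsepS : Presieve.IsSeparatedFor (yoneda.obj S) (R : Presieve X) :=
    (hS R hR).isSeparatedFor
  have ha : φ.app (op X) t₁ = φ.app (op X) t₂ := by
    apply hsepS.ext
    intro Y f hf
    have n1 := NatTrans.naturality_apply φ f.op t₁
    have n2 := NatTrans.naturality_apply φ f.op t₂
    rw [← n1, ← n2, ht₁ f hf, ht₂ f hf]
  let T : Over S := Over.mk (φ.app (op X) t₁)
  let s₁ : (relPsh φ).obj (op T) := ⟨t₁, rfl⟩
  let s₂ : (relPsh φ).obj (op T) := ⟨t₂, ha.symm⟩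
  have hR' : (Sieve.overEquiv T).symm R ∈ (J.over S) T := J.overEquiv_symm_mem_over T R hR
  have := (h _ hR').ext (t₁ := s₁) (t₂ := s₂) (by
    intro T' g hg
    rw [Sieve.overEquiv_symm_iff] at hg
    apply Subtype.ext
    change F.map g.left.op t₁ = F.map g.left.op t₂
    rw [ht₁ _ hg, ht₂ _ hg])
  exact congrArg Subtype.val this

omit hS in
lemma rel_sep_of_sep (h : Presieve.IsSeparated J F) :
    Presieve.IsSeparated (J.over S) (ShfCat.relPsh φ) := by
  intro T R hR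
  intro x t₁ t₂ ht₁ ht₂
  rw [GrothendieckTopology.mem_over_iff] at hR
  apply Subtype.ext
  apply (h _ hR).ext
  intro Y f hf
  rw [Sieve.overEquiv_iff] at hf
  have e1 := congrArg Subtype.val (ht₁ _ hf)
  have e2 := congrArg Subtype.val (ht₂ _ hf)
  exact e1.trans e2.symm

include hS in
lemma rel_sheaf_of_sheaf (h : Presieve.IsSheaf J F) :
    Presieve.IsSheaf (J.over S) (ShfCat.relPsh φ) := by
  intro T R hR
  rw [← Presieve.isSeparatedFor_and_exists_isAmalgamation_iff_isSheafFor]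
  refine ⟨rel_sep_of_sep J φ h.isSeparated _ hR, ?_⟩
  intro x hx
  rw [GrothendieckTopology.mem_over_iff] at hR
  let y : Presieve.FamilyOfElements F (Sieve.overEquiv T R : Presieve T.left) :=
    fun Y f hf => (x (Over.homMk f : Over.mk (f ≫ T.hom) ⟶ T) ((Sieve.overEquiv_iff _ _).mp hf)).1
  have hy : y.Compatible := by
    intro Y₁ Y₂ Z g₁ g₂ f₁ f₂ h₁ h₂ comm
    let Z' : Over S := Over.mk (g₁ ≫ f₁ ≫ T.hom)
    let g₁' : Z' ⟶ Over.mk (f₁ ≫ T.hom) := Over.homMk g₁ rfl
    let g₂' : Z' ⟶ Over.mk (f₂ ≫ T.hom) := Over.homMk g₂ (by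
      change g₂ ≫ f₂ ≫ T.hom = g₁ ≫ f₁ ≫ T.hom
      rw [← Category.assoc, ← comm, Category.assoc])
    have := hx g₁' g₂' ((Sieve.overEquiv_iff _ _).mp h₁) ((Sieve.overEquiv_iff _ _).mp h₂)
      (by ext; exact comm)
    exact congrArg Subtype.val this
  obtain ⟨t, ht, -⟩ := h _ hR y hy
  have hφt : φ.app (op T.left) t = T.hom := by
    apply ((hS _ hR).isSeparatedFor).ext
    intro Y f hf
    have n1 := NatTrans.naturality_apply φ f.op t
    rw [← n1, ht f hf]
    exact (x (Over.homMk f : Over.mk (f ≫ T.hom) ⟶ T) ((Sieve.overEquiv_iff _ _).mp hf)).2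
  refine ⟨⟨t, hφt⟩, ?_⟩
  intro T' g hg
  apply Subtype.ext
  change F.map g.left.op t = (x g hg).1
  let e' : Over.mk (g.left ≫ T.hom) ⟶ T' := Over.homMk (𝟙 _) (by simp)
  have he' : e' ≫ g = (Over.homMk g.left : Over.mk (g.left ≫ T.hom) ⟶ T) := by
    ext; simp [e']
  have hg2 : R (Over.homMk g.left : Over.mk (g.left ≫ T.hom) ⟶ T) := by
    rw [← he']; exact R.downward_closed hg e'
  have hg' : Sieve.overEquiv T R g.left := (Sieve.overEquiv_iff _ _).mpr hg2
  rw [ht g.left hg']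
  have := hx (𝟙 _) e' hg2 hg (by rw [Category.id_comp, he'])
  have := congrArg Subtype.val this
  simpa [relPsh_map_val, e'] using this

include hS in
lemma sheaf_of_rel_sheaf (h : Presieve.IsSheaf (J.over S) (ShfCat.relPsh φ)) :
    Presieve.IsSheaf J F := by
  intro X R hR
  rw [← Presieve.isSeparatedFor_and_exists_isAmalgamation_iff_isSheafFor]
  refine ⟨sep_of_rel J hS φ h.isSeparated _ hR, ?_⟩
  intro y hy
  -- the family of structure maps
  let a' : Presieve.FamilyOfElements (yoneda.obj S) (R : Presieve X) :=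
    fun Y f hf => φ.app (op Y) (y f hf)
  have ha' : a'.Compatible := by
    intro Y₁ Y₂ Z g₁ g₂ f₁ f₂ h₁ h₂ comm
    have n1 := NatTrans.naturality_apply φ g₁.op (y f₁ h₁)
    have n2 := NatTrans.naturality_apply φ g₂.op (y f₂ h₂)
    change (yoneda.obj S).map g₁.op (φ.app _ (y f₁ h₁)) = (yoneda.obj S).map g₂.op (φ.app _ (y f₂ h₂))
    rw [← n1, ← n2, hy g₁ g₂ h₁ h₂ comm]
  obtain ⟨a, haa, -⟩ := hS _ hR a' ha'
  let T : Over S := Over.mk a
  have hR' : (Sieve.overEquiv T).symm R ∈ (J.over S) T := J.overEquiv_symm_mem_over T R hR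
  let x : Presieve.FamilyOfElements (relPsh φ) ((Sieve.overEquiv T).symm R : Presieve T) :=
    fun T' g hg => ⟨y g.left ((Sieve.overEquiv_symm_iff _ _).mp hg), by
      have := haa g.left ((Sieve.overEquiv_symm_iff _ _).mp hg)
      change φ.app _ (y g.left _) = T'.hom
      rw [← Over.w g]
      exact this.symm⟩
  have hx : x.Compatible := by
    intro Y₁ Y₂ Z g₁ g₂ f₁ f₂ h₁ h₂ comm
    apply Subtype.ext
    exact hy g₁.left g₂.left ((Sieve.overEquiv_symm_iff _ _).mp h₁)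
      ((Sieve.overEquiv_symm_iff _ _).mp h₂) (congrArg (fun t => t.left) comm)
  obtain ⟨t, ht, -⟩ := h _ hR' x hx
  refine ⟨t.1, ?_⟩
  intro Y f hf
  let g : Over.mk (f ≫ a) ⟶ T := Over.homMk f
  have hg : (Sieve.overEquiv T).symm R g := (Sieve.overEquiv_symm_iff _ _).mpr hf
  exact congrArg Subtype.val (ht g hg)

include hS in
theorem main :
    (Presieve.IsSeparated (J.over S) (ShfCat.relPsh φ) ↔ Presieve.IsSeparated J F) ∧
    (Presieve.IsSheaf (J.over S) (ShfCat.relPsh φ) ↔ Presieve.IsSheaf J F) :=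
  ⟨⟨sep_of_rel J hS φ, rel_sep_of_sep J φ⟩, ⟨sheaf_of_rel_sheaf J hS φ, rel_sheaf_of_sheaf J hS φ⟩⟩

end Groth.Agent.Lib.Helper26.RelPsh
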