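import Groth.Agent.Lib.Helper26.QuotRep
import Groth.Agent.Lib.Helper26.QAffDescentDD
import Groth.Agent.S0082
import Mathlib.AlgebraicGeometry.Morphisms.FlatDescent

/-!
# A sheaf which is fppf locally representable by affine schemes is representable (helper26)

`Z` an fppf sheaf on `Sch/S`, `X ⟶ S` an fppf cover, `Z × h_X ≅ h_{T'}` with `T' ⟶ X` affine.
The isomorphism gives a descent datum on `T'` relative to `X ⟶ S`, which is effective; the
descended scheme represents `Z`.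
-/

set_option autoImplicit false
open CategoryTheory CategoryTheory.Limits Opposite AlgebraicGeometry
universe u

namespace Groth.Agent.Lib.Helper26.RepLocAffine

open Groth.Agent.Lib.Helper26.RepSection Groth.Agent.Lib.Helper26.QuotRep

section W

variable (K : Precoverage Scheme.{u}) {S : Scheme.{u}} [(QuotSh.J K S).Subcanonical]
  {X Tp : Over S} (a : Tp ⟶ X) {Z : QuotSh.Sh K S}
  (φ : QuotSh.rep K Tp ≅ Z ⨯ QuotSh.rep K X)

/-- The point of `Tp` with the same `Z`-component as `v` and `X`-component `x₁`. -/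
noncomputable def W {T₀ : Over S} (v : T₀ ⟶ Tp) (x₁ : T₀ ⟶ X) : T₀ ⟶ Tp :=
  (exists_repMap_eq K (prod.lift (QuotSh.repMap K v ≫ φ.hom ≫ prod.fst) (QuotSh.repMap K x₁) ≫
    φ.inv)).choose

lemma repMap_W {T₀ : Over S} (v : T₀ ⟶ Tp) (x₁ : T₀ ⟶ X) :
    QuotSh.repMap K (W K φ v x₁) =
      prod.lift (QuotSh.repMap K v ≫ φ.hom ≫ prod.fst) (QuotSh.repMap K x₁) ≫ φ.inv :=
  (exists_repMap_eq K (prod.lift (QuotSh.repMap K v ≫ φ.hom ≫ prod.fst) (QuotSh.repMap K x₁) ≫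
    φ.inv)).choose_spec

lemma repMap_W_fst {T₀ : Over S} (v : T₀ ⟶ Tp) (x₁ : T₀ ⟶ X) :
    QuotSh.repMap K (W K φ v x₁) ≫ φ.hom ≫ prod.fst = QuotSh.repMap K v ≫ φ.hom ≫ prod.fst := by
  rw [repMap_W, Category.assoc, Iso.inv_hom_id_assoc, prod.lift_fst]

include a in
lemma W_a (hφ : φ.hom ≫ prod.snd = QuotSh.repMap K a) {T₀ : Over S} (v : T₀ ⟶ Tp)
    (x₁ : T₀ ⟶ X) : W K φ v x₁ ≫ a = x₁ := by
  apply repMap_injective K
  rw [repMap_comp, repMap_W, ← hφ, Category.assoc, Iso.inv_hom_id_assoc, prod.lift_snd]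

lemma W_eq_of {T₀ : Over S} (v w : T₀ ⟶ Tp) (x₁ : T₀ ⟶ X)
    (h1 : QuotSh.repMap K w ≫ φ.hom ≫ prod.fst = QuotSh.repMap K v ≫ φ.hom ≫ prod.fst)
    (h2 : QuotSh.repMap K w ≫ φ.hom ≫ prod.snd = QuotSh.repMap K x₁) : W K φ v x₁ = w := by
  apply repMap_injective K
  rw [repMap_W, ← h1, ← h2, ← cancel_mono φ.hom, Category.assoc, Iso.inv_hom_id, Category.comp_id]
  apply prod.hom_ext
  · rw [prod.lift_fst, Category.assoc]
  · rw [prod.lift_snd, Category.assoc]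

include a in
lemma W_self (hφ : φ.hom ≫ prod.snd = QuotSh.repMap K a) {T₀ : Over S} (v : T₀ ⟶ Tp) :
    W K φ v (v ≫ a) = v :=
  W_eq_of K φ v v _ rfl (by rw [hφ, repMap_comp])

include a in
lemma W_W (hφ : φ.hom ≫ prod.snd = QuotSh.repMap K a) {T₀ : Over S} (v : T₀ ⟶ Tp)
    (x₁ x₂ : T₀ ⟶ X) : W K φ (W K φ v x₁) x₂ = W K φ v x₂ :=
  W_eq_of K φ _ _ _ (by rw [repMap_W_fst, repMap_W_fst])
    (by rw [hφ, ← repMap_comp, W_a K a φ hφ])

include a in
lemma W_nat (hφ : φ.hom ≫ prod.snd = QuotSh.repMap K a) {T₀ T₁ : Over S} (g : T₁ ⟶ T₀)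
    (v : T₀ ⟶ Tp) (x₁ : T₀ ⟶ X) : W K φ (g ≫ v) (g ≫ x₁) = g ≫ W K φ v x₁ :=
  W_eq_of K φ _ _ _ (by
      rw [repMap_comp, repMap_comp, Category.assoc, Category.assoc, repMap_W_fst])
    (by rw [hφ, ← repMap_comp, Category.assoc, W_a K a φ hφ])

end W

section DD

variable (K : Precoverage Scheme.{u}) {S S' : Scheme.{u}} [(QuotSh.J K S).Subcanonical]
  (f : S' ⟶ S) {Tp : Over S} (a : Tp ⟶ Over.mk f) {Z : QuotSh.Sh K S}
  (φ : QuotSh.rep K Tp ≅ Z ⨯ QuotSh.rep K (Over.mk f))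

/-- Scheme-level form of `W`. -/
noncomputable def Ws {T : Scheme.{u}} (t : T ⟶ S) (v : T ⟶ Tp.left) (hv : v ≫ Tp.hom = t)
    (x₁ : T ⟶ S') (hx₁ : x₁ ≫ f = t) : T ⟶ Tp.left :=
  (W K φ (T₀ := Over.mk t) (Over.homMk v hv) (Over.homMk x₁ hx₁)).left

lemma Ws_congr {T : Scheme.{u}} {t t' : T ⟶ S} (e : t = t') (v : T ⟶ Tp.left)
    (hv : v ≫ Tp.hom = t) (x₁ : T ⟶ S') (hx₁ : x₁ ≫ f = t) :
    Ws K f φ t v hv x₁ hx₁ = Ws K f φ t' v (hv.trans e) x₁ (hx₁.trans e) := by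
  subst e
  rfl

lemma Ws_hom {T : Scheme.{u}} (t : T ⟶ S) (v : T ⟶ Tp.left) (hv : v ≫ Tp.hom = t)
    (x₁ : T ⟶ S') (hx₁ : x₁ ≫ f = t) : Ws K f φ t v hv x₁ hx₁ ≫ Tp.hom = t :=
  Over.w (W K φ (T₀ := Over.mk t) (Over.homMk v hv) (Over.homMk x₁ hx₁))

variable (hφ : φ.hom ≫ prod.snd = QuotSh.repMap K a)

include hφ in
lemma Ws_a {T : Scheme.{u}} (t : T ⟶ S) (v : T ⟶ Tp.left) (hv : v ≫ Tp.hom = t)
    (x₁ : T ⟶ S') (hx₁ : x₁ ≫ f = t) : Ws K f φ t v hv x₁ hx₁ ≫ a.left = x₁ :=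
  congrArg (fun m => m.left)
    (W_a K a φ hφ (T₀ := Over.mk t) (Over.homMk v hv) (Over.homMk x₁ hx₁))

include hφ in
lemma Ws_self {T : Scheme.{u}} (t : T ⟶ S) (v : T ⟶ Tp.left) (hv : v ≫ Tp.hom = t)
    (x₁ : T ⟶ S') (hx₁ : x₁ ≫ f = t) (h : v ≫ a.left = x₁) : Ws K f φ t v hv x₁ hx₁ = v := by
  subst h
  exact congrArg (fun m => m.left) (W_self K a φ hφ (T₀ := Over.mk t) (Over.homMk v hv))

include hφ in
lemma Ws_Ws {T : Scheme.{u}} (t : T ⟶ S) (v : T ⟶ Tp.left) (hv : v ≫ Tp.hom = t)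
    (x₁ : T ⟶ S') (hx₁ : x₁ ≫ f = t) (x₂ : T ⟶ S') (hx₂ : x₂ ≫ f = t) :
    Ws K f φ t (Ws K f φ t v hv x₁ hx₁) (Ws_hom K f φ t v hv x₁ hx₁) x₂ hx₂ =
      Ws K f φ t v hv x₂ hx₂ :=
  congrArg (fun m => m.left) (W_W K a φ hφ (T₀ := Over.mk t) (Over.homMk v hv)
    (Over.homMk x₁ hx₁) (Over.homMk x₂ hx₂))

include hφ in
lemma Ws_nat {T T₁ : Scheme.{u}} (g : T₁ ⟶ T) (t : T ⟶ S) (v : T ⟶ Tp.left)
    (hv : v ≫ Tp.hom = t) (x₁ : T ⟶ S') (hx₁ : x₁ ≫ f = t) :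
    Ws K f φ (g ≫ t) (g ≫ v) (by rw [Category.assoc, hv]) (g ≫ x₁)
      (by rw [Category.assoc, hx₁]) = g ≫ Ws K f φ t v hv x₁ hx₁ :=
  congrArg (fun m => m.left) (W_nat K a φ hφ (T₀ := Over.mk t) (T₁ := Over.mk (g ≫ t))
    (Over.homMk g rfl) (Over.homMk v hv) (Over.homMk x₁ hx₁))

lemma lifts_hom {T : Scheme.{u}} {x : T ⟶ S'} (v : Desc.Lifts (Over.mk a.left) x) :
    v.1 ≫ Tp.hom = x ≫ f := by
  have h1 : v.1 ≫ a.left = x := v.2
  have h2 : a.left ≫ f = Tp.hom := Over.w a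
  calc v.1 ≫ Tp.hom = (v.1 ≫ a.left) ≫ f := by rw [Category.assoc, h2]
    _ = x ≫ f := by rw [h1]

/-- The descent datum on `Tp ⟶ S'` relative to `f` given by `φ`. -/
noncomputable def dd : Desc.SchDD f where
  obj := Over.mk a.left
  φ T x₀ x₁ h :=
    { toFun := fun v => ⟨Ws K f φ (x₀ ≫ f) v.1 (lifts_hom f a v) x₁ h.symm,
        Ws_a K f a φ hφ _ _ _ _ _⟩
      invFun := fun w => ⟨Ws K f φ (x₀ ≫ f) w.1 ((lifts_hom f a w).trans h.symm) x₀ rfl,
        Ws_a K f a φ hφ _ _ _ _ _⟩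
      left_inv := fun v => Subtype.ext (by
        change Ws K f φ (x₀ ≫ f) (Ws K f φ (x₀ ≫ f) v.1 _ x₁ _) _ x₀ _ = v.1
        rw [Ws_Ws K f a φ hφ]
        exact Ws_self K f a φ hφ _ _ _ _ _ v.2)
      right_inv := fun w => Subtype.ext (by
        change Ws K f φ (x₀ ≫ f) (Ws K f φ (x₀ ≫ f) w.1 _ x₀ _) _ x₁ _ = w.1
        rw [Ws_Ws K f a φ hφ]
        exact Ws_self K f a φ hφ _ _ _ _ _ w.2) }
  φ_natural T T₁ g x₀ x₁ h h' v v' hv' := by
    obtain ⟨v', hv'2⟩ := v'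
    change v' = g ≫ v.1 at hv'
    subst hv'
    change Ws K f φ ((g ≫ x₀) ≫ f) (g ≫ v.1) _ (g ≫ x₁) _ =
      g ≫ Ws K f φ (x₀ ≫ f) v.1 _ x₁ _
    rw [← Ws_nat K f a φ hφ]
    exact Ws_congr K f φ (Category.assoc _ _ _) _ _ _ _
  φ_self T x v := Subtype.ext (Ws_self K f a φ hφ _ _ _ _ _ v.2)
  φ_comp T x₀ x₁ x₂ h₀₁ h₁₂ v := Subtype.ext (by
    change Ws K f φ (x₁ ≫ f) (Ws K f φ (x₀ ≫ f) v.1 _ x₁ _) _ x₂ _ =
      Ws K f φ (x₀ ≫ f) v.1 _ x₂ _
    rw [Ws_congr K f φ h₀₁.symm, Ws_Ws K f a φ hφ])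

end DD

section Generators

variable (K : Precoverage Scheme.{u}) {S : Scheme.{u}} [(QuotSh.J K S).Subcanonical]

/-- Maps of sheaves out of `Z` are determined on the maps from representables. -/
lemma hom_ext_rep {Z Q : QuotSh.Sh K S} (β γ : Z ⟶ Q)
    (h : ∀ (V : Over S) (τ : QuotSh.rep K V ⟶ Z), τ ≫ β = τ ≫ γ) : β = γ := by
  apply Sheaf.hom_ext
  ext ⟨V⟩ s
  have h1 := secEquiv_comp K ((secEquiv K V Z).symm s) β
  have h2 := secEquiv_comp K ((secEquiv K V Z).symm s) γ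
  rw [Equiv.apply_symm_apply] at h1 h2
  refine h1.symm.trans (Eq.trans ?_ h2)
  rw [h V]

/-- A map from a representable sheaf which is injective on points is a monomorphism. -/
lemma mono_of_rep {U : Over S} {Z : QuotSh.Sh K S} (σ : QuotSh.rep K U ⟶ Z)
    (h : ∀ (V : Over S) (u₁ u₂ : V ⟶ U),
      QuotSh.repMap K u₁ ≫ σ = QuotSh.repMap K u₂ ≫ σ → u₁ = u₂) : Mono σ := by
  refine ⟨fun {Q} β γ hβγ => ?_⟩
  apply hom_ext_rep K
  intro V τ
  obtain ⟨u₁, hu₁⟩ := exists_repMap_eq K (τ ≫ β)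
  obtain ⟨u₂, hu₂⟩ := exists_repMap_eq K (τ ≫ γ)
  rw [← hu₁, ← hu₂, h V u₁ u₂ (by rw [hu₁, hu₂, Category.assoc, Category.assoc, hβγ])]

end Generators

section Cover

variable {S S' : Scheme.{u}} (f : S' ⟶ S) (V : Over S)

/-- `V ×_S S'` as an object over `S`. -/
noncomputable def cov : Over S := Over.mk (pullback.fst V.hom f ≫ V.hom)

/-- The projection `V ×_S S' ⟶ V`. -/
noncomputable def covπ : cov f V ⟶ V := Over.homMk (pullback.fst V.hom f) rfl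

/-- The projection `V ×_S S' ⟶ S'`. -/
noncomputable def covx : cov f V ⟶ Over.mk f :=
  Over.homMk (pullback.snd V.hom f) (by simp [cov, pullback.condition])

variable [Flat f] [Surjective f] [LocallyOfFinitePresentation f]

lemma covπ_mem : Presieve.singleton (covπ f V).left ∈ Scheme.fppfPrecoverage V.left :=
  (pullback.fst V.hom f).singleton_mem_fppfPrecoverage

lemma epi_prod_fst (Z : QuotSh.Sh Scheme.fppfPrecoverage S) :
    Epi (prod.fst : Z ⨯ QuotSh.rep Scheme.fppfPrecoverage (Over.mk f) ⟶ Z) := by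
  refine ⟨fun {Q} β γ h => ?_⟩
  apply hom_ext_rep Scheme.fppfPrecoverage
  intro V τ
  haveI := epi_repMap_of_cover Scheme.fppfPrecoverage (covπ f V) (covπ_mem f V)
  rw [← cancel_epi (QuotSh.repMap Scheme.fppfPrecoverage (covπ f V))]
  have key : prod.lift (QuotSh.repMap Scheme.fppfPrecoverage (covπ f V) ≫ τ)
      (QuotSh.repMap Scheme.fppfPrecoverage (covx f V)) ≫ prod.fst =
      QuotSh.repMap Scheme.fppfPrecoverage (covπ f V) ≫ τ := prod.lift_fst _ _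
  calc QuotSh.repMap Scheme.fppfPrecoverage (covπ f V) ≫ τ ≫ β
      = (prod.lift (QuotSh.repMap Scheme.fppfPrecoverage (covπ f V) ≫ τ)
          (QuotSh.repMap Scheme.fppfPrecoverage (covx f V)) ≫ prod.fst) ≫ β := by
        rw [key, Category.assoc]
    _ = (prod.lift (QuotSh.repMap Scheme.fppfPrecoverage (covπ f V) ≫ τ)
          (QuotSh.repMap Scheme.fppfPrecoverage (covx f V)) ≫ prod.fst) ≫ γ := by
        rw [Category.assoc, h, Category.assoc]
    _ = QuotSh.repMap Scheme.fppfPrecoverage (covπ f V) ≫ τ ≫ γ := by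
        rw [key, Category.assoc]

end Cover

set_option backward.isDefEq.respectTransparency.types false in
lemma descendsAlong_isAffineHom_fppf : MorphismProperty.DescendsAlong @IsAffineHom
    (@Surjective ⊓ @Flat ⊓ @LocallyOfFinitePresentation : MorphismProperty Scheme.{u}) := by
  have := Groth.Agent.S0082.result.{u}
  infer_instance

section Main

variable {S S' : Scheme.{u}} (f : S' ⟶ S) [Flat f] [Surjective f] [LocallyOfFinitePresentation f]
  (Z : QuotSh.Sh Scheme.fppfPrecoverage S) (Tp : Over S) (a : Tp ⟶ Over.mk f)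
  [IsAffineHom a.left]
  (φ : QuotSh.rep Scheme.fppfPrecoverage Tp ≅
    Z ⨯ QuotSh.rep Scheme.fppfPrecoverage (Over.mk f))
  (hφ : φ.hom ≫ prod.snd = QuotSh.repMap Scheme.fppfPrecoverage a)

omit [Flat f] [Surjective f] [LocallyOfFinitePresentation f] [IsAffineHom a.left] in
lemma inv_of_comm (U : Over S) (ψ : Tp.left ⟶ pullback f U.hom)
    (hψfst : ψ ≫ pullback.fst f U.hom = a.left)
    (hcomm : ∀ ⦃T : Scheme.{u}⦄ (x₀ x₁ : T ⟶ S') (h : x₀ ≫ f = x₁ ≫ f)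
      (v : Desc.Lifts (Over.mk a.left) x₀) (w : Desc.Lifts (Over.mk (pullback.fst f U.hom)) x₀),
      w.1 = v.1 ≫ ψ → (Desc.canMap f U x₀ x₁ h w).1 =
        Ws Scheme.fppfPrecoverage f φ (x₀ ≫ f) v.1 (lifts_hom f a v) x₁ h.symm ≫ ψ)
    {T : Scheme.{u}} (t : T ⟶ S) (v : T ⟶ Tp.left) (hv : v ≫ Tp.hom = t)
    (x₁ : T ⟶ S') (hx₁ : x₁ ≫ f = t) :
    Ws Scheme.fppfPrecoverage f φ t v hv x₁ hx₁ ≫ ψ ≫ pullback.snd f U.hom =
      v ≫ ψ ≫ pullback.snd f U.hom := by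
  have haf : a.left ≫ f = Tp.hom := Over.w a
  have h : (v ≫ a.left) ≫ f = x₁ ≫ f := by rw [Category.assoc, haf, hv, hx₁]
  have hw : (v ≫ ψ) ≫ pullback.fst f U.hom = v ≫ a.left := by
    rw [Category.assoc, hψfst]
  have hc := hcomm (v ≫ a.left) x₁ h ⟨v, rfl⟩ ⟨v ≫ ψ, hw⟩ rfl
  have hc' := hc =≫ pullback.snd f U.hom
  have hcv : (Desc.canMap f U (v ≫ a.left) x₁ h ⟨v ≫ ψ, hw⟩).1 ≫
      pullback.snd f U.hom = (v ≫ ψ) ≫ pullback.snd f U.hom :=
    pullback.lift_snd _ _ _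
  have e1 := Ws_congr Scheme.fppfPrecoverage f φ (h.trans hx₁).symm v hv x₁ hx₁
  calc Ws Scheme.fppfPrecoverage f φ t v hv x₁ hx₁ ≫ ψ ≫ pullback.snd f U.hom
      = Ws Scheme.fppfPrecoverage f φ ((v ≫ a.left) ≫ f) v (hv.trans (h.trans hx₁).symm) x₁
          (hx₁.trans (h.trans hx₁).symm) ≫ ψ ≫ pullback.snd f U.hom :=
        congrArg (fun m => m ≫ ψ ≫ pullback.snd f U.hom) e1
    _ = (v ≫ ψ) ≫ pullback.snd f U.hom :=
        (Category.assoc _ _ _).symm.trans (hc'.symm.trans hcv)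
    _ = v ≫ ψ ≫ pullback.snd f U.hom := Category.assoc _ _ _

omit [Flat f] [Surjective f] [LocallyOfFinitePresentation f] [IsAffineHom a.left] in
include hφ in
lemma exists_data (U : Over S)
    (e : (Desc.toDD f).obj U ≅ dd Scheme.fppfPrecoverage f a φ hφ) :
    ∃ (ψ : Tp.left ⟶ pullback f U.hom) (ψi : pullback f U.hom ⟶ Tp.left),
      ψ ≫ ψi = 𝟙 _ ∧ ψi ≫ ψ = 𝟙 _ ∧ ψ ≫ pullback.fst f U.hom = a.left ∧
      ψi ≫ a.left = pullback.fst f U.hom ∧
      ∀ {T : Scheme.{u}} (t : T ⟶ S) (v : T ⟶ Tp.left) (hv : v ≫ Tp.hom = t)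
        (x₁ : T ⟶ S') (hx₁ : x₁ ≫ f = t),
        Ws Scheme.fppfPrecoverage f φ t v hv x₁ hx₁ ≫ ψ ≫ pullback.snd f U.hom =
          v ≫ ψ ≫ pullback.snd f U.hom := by
  have h1 : e.inv.hom ≫ e.hom.hom = 𝟙 _ := by
    rw [← Desc.SchDD.comp_hom, e.inv_hom_id, Desc.SchDD.id_hom]
  have h2 : e.hom.hom ≫ e.inv.hom = 𝟙 _ := by
    rw [← Desc.SchDD.comp_hom, e.hom_inv_id, Desc.SchDD.id_hom]
  have h1' : e.inv.hom.left ≫ e.hom.hom.left = 𝟙 _ := by
    rw [← Over.comp_left, h1, Over.id_left]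
  have h2' : e.hom.hom.left ≫ e.inv.hom.left = 𝟙 _ := by
    rw [← Over.comp_left, h2, Over.id_left]
  have hψfst : e.inv.hom.left ≫ pullback.fst f U.hom = a.left := Over.w e.inv.hom
  exact ⟨e.inv.hom.left, e.hom.hom.left, h1', h2', hψfst, Over.w e.hom.hom,
    fun t v hv x₁ hx₁ => inv_of_comm f Z Tp a φ U e.inv.hom.left hψfst
      (fun T x₀ x₁ h v w hw => e.inv.comm x₀ x₁ h v w hw) t v hv x₁ hx₁⟩

include hφ in
theorem exists_rep :
    ∃ T : Over S, IsAffineHom T.hom ∧ Nonempty (QuotSh.rep Scheme.fppfPrecoverage T ≅ Z) := by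
  have hp : Presieve.singleton f ∈ Scheme.fpqcPrecoverage S :=
    Scheme.fppfPrecoverage_le_fpqcPrecoverage _ f.singleton_mem_fppfPrecoverage
  have hD : Mor2.IsQuasiAffine (dd Scheme.fppfPrecoverage f a φ hφ).obj.hom := by
    change Mor2.IsQuasiAffine a.left
    refine ⟨inferInstance, fun V hV => ?_⟩
    have : IsAffine ((a.left ⁻¹ᵁ V : Tp.left.Opens) : Scheme.{u}) := hV.preimage a.left
    infer_instance
  obtain ⟨U, ⟨e⟩⟩ := Groth.Agent.Lib.Helper26.QAffDescentDD.exists_of_qa_of_fpqc f hp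
    (dd Scheme.fppfPrecoverage f a φ hφ) hD
  obtain ⟨ψ, ψi, hψ1, hψ2, hψfst, hψifst, hinv⟩ := exists_data f Z Tp a φ hφ U e
  haveI : IsIso ψ := ⟨ψi, hψ1, hψ2⟩
  haveI : IsIso ψi := ⟨ψ, hψ2, hψ1⟩
  have haf : a.left ≫ f = Tp.hom := Over.w a
  -- the covering `Tp ⟶ U`
  have hq : (ψ ≫ pullback.snd f U.hom) ≫ U.hom = Tp.hom := by
    rw [Category.assoc, ← pullback.condition, ← Category.assoc, hψfst, haf]
  let q' : Tp ⟶ U := Over.homMk (ψ ≫ pullback.snd f U.hom) hq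
  have hq'mem : Presieve.singleton q'.left ∈ Scheme.fppfPrecoverage U.left := by
    change Presieve.singleton (ψ ≫ pullback.snd f U.hom) ∈ _
    exact (ψ ≫ pullback.snd f U.hom).singleton_mem_fppfPrecoverage
  -- affineness of `U`
  have hUaff : IsAffineHom U.hom := by
    have haff : IsAffineHom (pullback.fst f U.hom) := by
      rw [← hψifst]
      infer_instance
    have := descendsAlong_isAffineHom_fppf.{u}
    exact MorphismProperty.of_pullback_fst_of_descendsAlong (P := @IsAffineHom)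
      (Q := (@Surjective ⊓ @Flat ⊓ @LocallyOfFinitePresentation : MorphismProperty Scheme.{u}))
      (f := f) (g := U.hom) ⟨⟨inferInstance, inferInstance⟩, inferInstance⟩ haff
  -- the map `h_U ⟶ Z`
  obtain ⟨σ, hσ, -⟩ := existsUnique_section Scheme.fppfPrecoverage q' hq'mem Z
    (φ.hom ≫ prod.fst) (by
      intro T₀ z₁ z₂ hz
      have hz' : z₁.left ≫ ψ ≫ pullback.snd f U.hom = z₂.left ≫ ψ ≫ pullback.snd f U.hom :=
        congrArg (fun m => m.left) hz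
      have key : z₂ = W Scheme.fppfPrecoverage φ z₁ (z₂ ≫ a) := by
        ext
        change z₂.left = Ws Scheme.fppfPrecoverage f φ T₀.hom z₁.left (Over.w z₁)
          (z₂ ≫ a).left (Over.w (z₂ ≫ a))
        rw [← cancel_mono ψ]
        apply pullback.hom_ext
        · rw [Category.assoc, Category.assoc, hψfst, Ws_a Scheme.fppfPrecoverage f a φ hφ]
          rfl
        · rw [Category.assoc, Category.assoc,
            hinv T₀.hom z₁.left (Over.w z₁) (z₂ ≫ a).left (Over.w (z₂ ≫ a)), ← hz']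
      rw [key, repMap_W_fst])
  refine ⟨U, hUaff, ?_⟩
  -- `σ` is an epimorphism
  haveI hepi : Epi σ := by
    haveI := epi_prod_fst f Z
    haveI : Epi (QuotSh.repMap Scheme.fppfPrecoverage q' ≫ σ) := by
      rw [← hσ]
      infer_instance
    exact epi_of_epi (QuotSh.repMap Scheme.fppfPrecoverage q') σ
  -- `σ` is a monomorphism
  haveI hmono : Mono σ := by
    apply mono_of_rep Scheme.fppfPrecoverage
    intro V u₁ u₂ hu
    haveI := epi_repMap_of_cover Scheme.fppfPrecoverage (covπ f V) (covπ_mem f V)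
    -- the lifts of `u₁, u₂` to `Tp`
    have hl : ∀ u : V ⟶ U, ∃ v : cov f V ⟶ Tp, v ≫ a = covx f V ∧ v ≫ q' = covπ f V ≫ u := by
      intro u
      have hcond : pullback.snd V.hom f ≫ f = (pullback.fst V.hom f ≫ u.left) ≫ U.hom := by
        rw [Category.assoc, Over.w u, pullback.condition]
      obtain ⟨l, hl1, hl2⟩ : ∃ l : pullback V.hom f ⟶ pullback f U.hom,
          l ≫ pullback.fst f U.hom = pullback.snd V.hom f ∧
          l ≫ pullback.snd f U.hom = pullback.fst V.hom f ≫ u.left :=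
        ⟨pullback.lift (pullback.snd V.hom f) (pullback.fst V.hom f ≫ u.left) hcond,
          pullback.lift_fst _ _ _, pullback.lift_snd _ _ _⟩
      have h1 : (l ≫ ψi) ≫ Tp.hom = pullback.fst V.hom f ≫ V.hom := by
        rw [← haf, Category.assoc, ← Category.assoc ψi, hψifst, ← Category.assoc, hl1,
          pullback.condition]
      refine ⟨Over.homMk (U := cov f V) (l ≫ ψi) h1, ?_, ?_⟩
      · ext
        change (l ≫ ψi) ≫ a.left = pullback.snd V.hom f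
        rw [Category.assoc, hψifst, hl1]
      · ext
        change (l ≫ ψi) ≫ ψ ≫ pullback.snd f U.hom = pullback.fst V.hom f ≫ u.left
        rw [Category.assoc, ← Category.assoc ψi, hψ2, Category.id_comp, hl2]
    obtain ⟨v₁, hv₁a, hv₁q⟩ := hl u₁
    obtain ⟨v₂, hv₂a, hv₂q⟩ := hl u₂
    have hcomp : ∀ (u : V ⟶ U) (v : cov f V ⟶ Tp), v ≫ a = covx f V → v ≫ q' = covπ f V ≫ u →
        QuotSh.repMap Scheme.fppfPrecoverage v ≫ φ.hom =
          prod.lift (QuotSh.repMap Scheme.fppfPrecoverage (covπ f V) ≫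
            QuotSh.repMap Scheme.fppfPrecoverage u ≫ σ)
            (QuotSh.repMap Scheme.fppfPrecoverage (covx f V)) := by
      intro u v hva hvq
      apply prod.hom_ext
      · rw [prod.lift_fst, Category.assoc, hσ, ← Category.assoc, ← repMap_comp, hvq,
          repMap_comp, Category.assoc]
      · rw [prod.lift_snd, Category.assoc, hφ, ← repMap_comp, hva]
    have hv : v₁ = v₂ := by
      apply repMap_injective Scheme.fppfPrecoverage
      rw [← cancel_mono φ.hom, hcomp u₁ v₁ hv₁a hv₁q, hcomp u₂ v₂ hv₂a hv₂q, hu]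
    apply repMap_injective Scheme.fppfPrecoverage
    rw [← cancel_epi (QuotSh.repMap Scheme.fppfPrecoverage (covπ f V)), ← repMap_comp,
      ← repMap_comp, ← hv₁q, ← hv₂q, hv]
  haveI : IsIso σ := isIso_of_mono_of_epi σ
  exact ⟨asIso σ⟩

end Main

end Groth.Agent.Lib.Helper26.RepLocAffine
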