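import Groth.Agent.Lib.Helper26.ShfQuot
import Groth.Agent.Lib.Helper26.GrpQuot
import Groth.Agent.Lib.Helper26.GrpQuotGen
import Groth.Agent.H26.UnivEffEpi
import Mathlib.CategoryTheory.Sites.CartesianMonoidal

/-!
# Quotient of a sheaf of groups by a subgroup sheaf (helper26)
-/

set_option autoImplicit false
set_option backward.isDefEq.respectTransparency false
open CategoryTheory CategoryTheory.Limits MonoidalCategory
open MonObj CartesianMonoidalCategory SemiCartesianMonoidalCategory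
open scoped MonObj
universe w v₁ u₁

namespace Groth.Agent.Lib.Helper26.ShfGrpQuot

open Groth.Agent.H26

section General

variable {𝒮 : Type u₁} [Category.{v₁} 𝒮] [CartesianMonoidalCategory 𝒮]

set_option backward.isDefEq.respectTransparency false in
lemma isPullback_whiskerLeft (A : 𝒮) {X Y : 𝒮} (f : X ⟶ Y) :
    IsPullback (A ◁ f) (snd A X) (snd A Y) f := by
  refine ⟨⟨by simp⟩, ⟨PullbackCone.IsLimit.mk _ (fun s => lift (s.fst ≫ fst A Y) s.snd) ?_ ?_ ?_⟩⟩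
  · intro s
    ext
    · simp
    · simp [s.condition]
  · intro s
    simp
  · intro s m h1 h2
    ext
    · have := congrArg (fun t => t ≫ fst A Y) h1
      simpa using this
    · simpa using h2

lemma uEE_whiskerLeft (A : 𝒮) {X Y : 𝒮} {f : X ⟶ Y} (hf : UEE 𝒮 f) : UEE 𝒮 (A ◁ f) :=
  hf.of_isPullback (isPullback_whiskerLeft A f)

end General

variable {C : Type u₁} [Category.{v₁} C] {J : GrothendieckTopology C} [HasSheafify J (Type w)]
variable {H G : Sheaf J (Type w)} [GrpObj H] [GrpObj G] (u : H ⟶ G)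

/-- the quotient sheaf `G/H` -/
noncomputable abbrev Q : Sheaf J (Type w) := coequalizer (fst G H) ((G ◁ u) ≫ μ[G])

/-- the projection `G ⟶ G/H` -/
noncomputable abbrev π : G ⟶ Q u := coequalizer.π (fst G H) ((G ◁ u) ≫ μ[G])

lemma uEE_π : UEE (Sheaf J (Type w)) (π u) := ShfQuot.uEE_of_epi J (π u)

lemma π_mul_right {W : Sheaf J (Type w)} (y : W ⟶ G) (h : W ⟶ H) :
    (y * (h ≫ u)) ≫ π u = y ≫ π u := by
  have h1 : lift y h ≫ (G ◁ u) ≫ μ[G] = y * (h ≫ u) := by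
    rw [GrpQuot.comp_act, lift_fst, lift_snd_assoc]
  have h2 : lift y h ≫ fst G H = y := lift_fst _ _
  have hc : fst G H ≫ π u = ((G ◁ u) ≫ μ[G]) ≫ π u := coequalizer.condition _ _
  calc (y * (h ≫ u)) ≫ π u = (lift y h ≫ (G ◁ u) ≫ μ[G]) ≫ π u := by rw [h1]
    _ = lift y h ≫ ((G ◁ u) ≫ μ[G]) ≫ π u := by simp only [Category.assoc]
    _ = lift y h ≫ fst G H ≫ π u := by rw [← hc]
    _ = y ≫ π u := by rw [← Category.assoc, h2]

variable [Mono u] [IsMonHom u]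

lemma isKernelPair_π : IsKernelPair (π u) (fst G H) ((G ◁ u) ≫ μ[G]) :=
  GrpQuot.isKernelPair_coequalizer_π (ShfQuot.eER (GrpQuot.translationER u))

lemma exists_of_π_eq {W : Sheaf J (Type w)} (x x' : W ⟶ G) (hx : x ≫ π u = x' ≫ π u) :
    ∃ h : W ⟶ H, x' = x * (h ≫ u) := by
  obtain ⟨r, hr1, hr2⟩ : ∃ r : W ⟶ G ⊗ H, r ≫ fst G H = x ∧ r ≫ (G ◁ u) ≫ μ[G] = x' :=
    ⟨(isKernelPair_π u).lift x x' hx, (isKernelPair_π u).lift_fst _ _ _,
      (isKernelPair_π u).lift_snd _ _ _⟩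
  refine ⟨r ≫ snd G H, ?_⟩
  rw [← hr2, GrpQuot.comp_act, hr1, Category.assoc]

omit [Mono u] [IsMonHom u] in
lemma comp_mul_eq {W : Sheaf J (Type w)} (a : W ⟶ G ⊗ G) :
    a ≫ μ[G] = (a ≫ fst G G) * (a ≫ snd G G) := by
  rw [MonObj.mul_eq_mul, MonObj.comp_mul]

/-- The kernel relation of `G ◁ π` is contained in that of `μ ≫ π`. -/
lemma whisker_π_kernel {W : Sheaf J (Type w)} (a b : W ⟶ G ⊗ G)
    (hab : a ≫ (G ◁ π u) = b ≫ (G ◁ π u)) : a ≫ μ[G] ≫ π u = b ≫ μ[G] ≫ π u := by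
  have h1 : a ≫ fst G G = b ≫ fst G G := by
    have := congrArg (fun t => t ≫ fst G (Q u)) hab
    simp only [Category.assoc, whiskerLeft_fst] at this
    exact this
  have h2 : (a ≫ snd G G) ≫ π u = (b ≫ snd G G) ≫ π u := by
    have := congrArg (fun t => t ≫ snd G (Q u)) hab
    simp only [Category.assoc, whiskerLeft_snd] at this
    simpa only [Category.assoc] using this
  obtain ⟨h, hh⟩ := exists_of_π_eq u _ _ h2
  rw [← Category.assoc, ← Category.assoc, comp_mul_eq, comp_mul_eq, ← h1, hh, ← _root_.mul_assoc,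
    π_mul_right]

/-- The action of `G` on `G/H`. -/
noncomputable def act : G ⊗ Q u ⟶ Q u :=
  have := (uEE_whiskerLeft G (uEE_π u)).effectiveEpi
  EffectiveEpi.desc (G ◁ π u) (μ[G] ≫ π u) (@fun _ a b hab => whisker_π_kernel u a b hab)

lemma whisker_π_act : (G ◁ π u) ≫ act u = μ[G] ≫ π u := by
  have := (uEE_whiskerLeft G (uEE_π u)).effectiveEpi
  exact EffectiveEpi.fac (G ◁ π u) (μ[G] ≫ π u) (@fun _ a b hab => whisker_π_kernel u a b hab)

theorem action_existsUnique :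
    ∃! a : G ⊗ Q u ⟶ Q u,
      (η[G] ▷ Q u) ≫ a = (λ_ (Q u)).hom ∧
        (μ[G] ▷ Q u) ≫ a = (α_ G G (Q u)).hom ≫ (G ◁ a) ≫ a ∧
        μ[G] ≫ π u = (G ◁ π u) ≫ a := by
  have hepi1 : Epi (G ◁ π u) := (uEE_whiskerLeft G (uEE_π u)).epi
  have hepi2 : Epi ((G ⊗ G) ◁ π u) := (uEE_whiskerLeft (G ⊗ G) (uEE_π u)).epi
  have hepi3 : Epi ((𝟙_ (Sheaf J (Type w))) ◁ π u) := (uEE_whiskerLeft _ (uEE_π u)).epi
  refine ⟨act u, ⟨?_, ?_, (whisker_π_act u).symm⟩, ?_⟩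
  · rw [← cancel_epi ((𝟙_ (Sheaf J (Type w))) ◁ π u)]
    rw [whisker_exchange_assoc, whisker_π_act, ← Category.assoc, MonObj.one_mul,
      leftUnitor_naturality]
  · rw [← cancel_epi ((G ⊗ G) ◁ π u)]
    rw [whisker_exchange_assoc, whisker_π_act, ← Category.assoc, MonObj.mul_assoc]
    rw [associator_naturality_right_assoc, ← MonoidalCategory.whiskerLeft_comp_assoc,
      whisker_π_act, MonoidalCategory.whiskerLeft_comp_assoc, whisker_π_act]
    simp only [Category.assoc]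
  · rintro a' ⟨-, -, h3⟩
    rw [← cancel_epi (G ◁ π u), ← h3, whisker_π_act]

lemma isQuot : GrpQuotGen.IsQuot u (π u) := ⟨uEE_π u, isKernelPair_π u⟩

theorem existsUnique_grpObj (hn : GrpQuotGen.Normal u) :
    ∃! str : GrpObj (Q u), @IsMonHom (Sheaf J (Type w)) _ _ G (Q u) _ str.toMonObj (π u) :=
  GrpQuotGen.existsUnique_grpObj (isQuot u) hn

section QuotQuot

variable {K : Sheaf J (Type w)} [GrpObj K] (h : H ⟶ K) (k : K ⟶ G) [Mono h] [Mono k]
  [IsMonHom h] [IsMonHom k]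

theorem quotQuot
    (hn : ∀ (Y : Sheaf J (Type w)) (x : Y ⟶ K) (y : Y ⟶ H), ∃ y' : Y ⟶ H,
      x * (y ≫ h) * x⁻¹ = y' ≫ h)
    (act : Q (h ≫ k) ⊗ Q h ⟶ Q (h ≫ k))
    (hact : (π (h ≫ k) ⊗ₘ π h) ≫ act = (G ◁ k) ≫ μ[G] ≫ π (h ≫ k))
    (qbar : Q (h ≫ k) ⟶ Q k) (hq : π (h ≫ k) ≫ qbar = π k) :
    Mono (lift act (fst _ _)) ∧
      ∃ wq : fst _ _ ≫ qbar = act ≫ qbar, Nonempty (IsColimit (Cofork.ofπ qbar wq)) := by
  have hH : GrpQuotGen.IsQuot (h ≫ k) (π (h ≫ k)) := isQuot (h ≫ k)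
  have hb : GrpQuotGen.IsQuot h (π h) := isQuot h
  refine ⟨GrpQuotGen.mono_lift_act h k hH hb hn act hact, ?_⟩
  exact GrpQuotGen.quot_quot h k hH hb (coequalizer.condition _ _)
    (coequalizerIsCoequalizer _ _) act hact qbar hq

end QuotQuot

end Groth.Agent.Lib.Helper26.ShfGrpQuot
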