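import Groth.Agent.Lib.Helper26.OverMapLan
import Mathlib.CategoryTheory.Sites.Pullback
import Mathlib.CategoryTheory.Abelian.Exact
import Mathlib.CategoryTheory.Preadditive.LeftExact
import Mathlib.Algebra.Category.Grp.AB
import Mathlib.CategoryTheory.Abelian.FunctorCategory
import Mathlib.CategoryTheory.Sites.LeftExact
import Mathlib.CategoryTheory.Sites.Abelian
import Mathlib.CategoryTheory.Adjunction.Additive

/-!
# `f_!` on abelian sheaves of a slice site is exact (helper26)
-/

set_option autoImplicit false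
open CategoryTheory CategoryTheory.Limits Opposite
universe v u

namespace Groth.Agent.Lib.Helper26.ShriekExact

variable {𝒞 : Type (u + 1)} [Category.{u} 𝒞] {T S : 𝒞} (f : T ⟶ S)

instance : AB4OfSize.{u} AddCommGrpCat.{u + 1} := AB4OfSize_shrink.{u, u + 1} _

/-- The presheaf-level `f_!` (left Kan extension along `(Over.map f).op`) on abelian presheaves
preserves finite limits. -/
theorem preservesFiniteLimits_lan :
    PreservesFiniteLimits ((Over.map f).op.lan :
      ((Over T)ᵒᵖ ⥤ AddCommGrpCat.{u + 1}) ⥤ ((Over S)ᵒᵖ ⥤ AddCommGrpCat.{u + 1})) := by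
  let F : ((Over T)ᵒᵖ ⥤ AddCommGrpCat.{u + 1}) ⥤ ((Over S)ᵒᵖ ⥤ AddCommGrpCat.{u + 1}) :=
    (Over.map f).op.lan
  have adj : F ⊣ _ := (Over.map f).op.lanAdjunction AddCommGrpCat.{u + 1}
  have hadd : F.Additive := adj.left_adjoint_additive
  have hcolim : PreservesFiniteColimits F := by
    have := adj.leftAdjoint_preservesColimits
    infer_instance
  refine ((F.preservesFiniteLimits_tfae).out 0 3).1 ?_
  intro S hS
  have h30 := (F.preservesFiniteColimits_tfae).out 3 0
  refine ⟨(h30.1 hcolim S hS).1, ?_⟩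
  have := hS.mono_f
  exact OverMapLan.mono_lan_map f S.f

end Groth.Agent.Lib.Helper26.ShriekExact
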