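import Groth.Agent.Lib.Helper26.TorsorLocal
import Groth.Agent.Lib.Helper51.FppfLocalSurj
import Groth.Agent.H52.SmoothSection

/-!
# fppf torsors under smooth group schemes are étale locally trivial (helper26)
-/

set_option autoImplicit false
universe u

open CategoryTheory Limits AlgebraicGeometry MorphismProperty

namespace Groth.Agent.Lib.Helper26.SmoothTorsorEtale

open Groth.Agent.Lib.Helper26.TorsorLocal Groth.Agent.Lib.Helper51

/-- A smooth surjective `P ⟶ X` has sections étale locally on `X`. -/
theorem isLocallyTrivialFor_etale_of_smooth_surjective {X : Scheme.{u}} (P : Over X)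
    [Smooth P.hom] [Surjective P.hom] :
    NonAbH1.IsLocallyTrivialFor Scheme.etalePrecoverage P := by
  choose Z i z hi het hz using fun w : P.left => Groth.Agent.H52.exists_etale_slice_of_smooth P.hom w
  refine ⟨Presieve.ofArrows Z (fun w => i w ≫ P.hom), ?_, ?_⟩
  · rw [Scheme.etalePrecoverage, Scheme.ofArrows_mem_precoverage_iff]
    refine ⟨fun x => ?_, het⟩
    obtain ⟨w, hw⟩ := (inferInstance : Surjective P.hom).surj x
    refine ⟨w, z w, ?_⟩
    rw [← hw, ← hz w]
    simp
  · rintro S' f ⟨w⟩
    exact ⟨i w, rfl⟩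

theorem isLocallyTrivialFor_etale {X : Scheme.{u}}
    (G : Over X) [GrpObj G] [Smooth G.hom] (P : Over X) (a : AlgGrp.Action G P)
    (h : NonAbH1.IsTorsorFor Scheme.fppfPrecoverage a) :
    NonAbH1.IsLocallyTrivialFor Scheme.etalePrecoverage P := by
  have hsm : Smooth P.hom :=
    prop_of_isTorsorFor Scheme.fppfPrecoverage a h @Smooth inferInstance
  have hsurj : Surjective P.hom :=
    prop_of_isTorsorFor Scheme.fppfPrecoverage a h @Surjective surjective_hom_of_grpObj
  exact isLocallyTrivialFor_etale_of_smooth_surjective P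

end Groth.Agent.Lib.Helper26.SmoothTorsorEtale
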