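import Groth.Agent.Lib.Helper26.QAffDescentDD

/-!
# Restriction of a descent datum to a stable open subscheme; saturation of opens (helper26)
-/

set_option autoImplicit false
universe u
open CategoryTheory CategoryTheory.Limits AlgebraicGeometry

namespace Groth.Agent.Lib.Helper26.StableOpenDD

open Desc Groth.Agent.Lib.Helper26.AffineDescentDD Groth.Agent.Lib.Helper26.QAffDescentDD

section Restrict

variable {X S : Scheme.{u}} {p : X ⟶ S} (D : SchDD p)

lemma phi_symm {T : Scheme.{u}} (x₀ x₁ : T ⟶ X) (h : x₀ ≫ p = x₁ ≫ p) (v : Lifts D.obj x₀) :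
    D.φ x₁ x₀ h.symm (D.φ x₀ x₁ h v) = v := by
  rw [D.φ_comp]
  exact D.φ_self x₀ v

/-- An open subscheme of the scheme of a descent datum is stable when the gluing bijections preserve the points
factoring through it. -/
def IsStableOpen (W : D.obj.left.Opens) : Prop :=
  ∀ ⦃T : Scheme.{u}⦄ (x₀ x₁ : T ⟶ X) (h : x₀ ≫ p = x₁ ≫ p) (v : Lifts D.obj x₀),
    Set.range v.1.base ⊆ (W : Set D.obj.left) →
      Set.range (D.φ x₀ x₁ h v).1.base ⊆ (W : Set D.obj.left)

variable {D} {W : D.obj.left.Opens} (hW : IsStableOpen D W)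

/-- The point of `D.obj` under a point of the open subscheme `W`. -/
def toLift {T : Scheme.{u}} {x : T ⟶ X} (v : Lifts (Over.mk (W.ι ≫ D.obj.hom)) x) : Lifts D.obj x :=
  ⟨v.1 ≫ W.ι, by rw [Category.assoc]; exact v.2⟩

lemma range_toLift {T : Scheme.{u}} {x : T ⟶ X} (v : Lifts (Over.mk (W.ι ≫ D.obj.hom)) x) :
    Set.range (toLift v).1.base ⊆ (W : Set D.obj.left) := by
  rintro _ ⟨τ, rfl⟩
  change (v.1 ≫ W.ι).base τ ∈ _
  rw [Scheme.Hom.comp_base, TopCat.comp_app]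
  have hm := Set.mem_range_self (f := W.ι.base) (v.1.base τ)
  rwa [Scheme.Opens.range_ι] at hm

include hW in
lemma range_phi_subset {T : Scheme.{u}} (x₀ x₁ : T ⟶ X) (h : x₀ ≫ p = x₁ ≫ p)
    (v : Lifts (Over.mk (W.ι ≫ D.obj.hom)) x₀) :
    Set.range (D.φ x₀ x₁ h (toLift v)).1.base ⊆ Set.range W.ι.base := by
  rw [Scheme.Opens.range_ι]
  exact hW x₀ x₁ h (toLift v) (range_toLift v)

/-- The transported point, as a point of the open subscheme. -/
noncomputable def resMap {T : Scheme.{u}} (x₀ x₁ : T ⟶ X) (h : x₀ ≫ p = x₁ ≫ p)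
    (v : Lifts (Over.mk (W.ι ≫ D.obj.hom)) x₀) : Lifts (Over.mk (W.ι ≫ D.obj.hom)) x₁ :=
  ⟨IsOpenImmersion.lift W.ι (D.φ x₀ x₁ h (toLift v)).1 (range_phi_subset hW x₀ x₁ h v), by
    change IsOpenImmersion.lift W.ι _ _ ≫ W.ι ≫ D.obj.hom = x₁
    rw [← Category.assoc, IsOpenImmersion.lift_fac]
    exact (D.φ x₀ x₁ h (toLift v)).2⟩

lemma toLift_resMap {T : Scheme.{u}} (x₀ x₁ : T ⟶ X) (h : x₀ ≫ p = x₁ ≫ p)
    (v : Lifts (Over.mk (W.ι ≫ D.obj.hom)) x₀) :
    toLift (resMap hW x₀ x₁ h v) = D.φ x₀ x₁ h (toLift v) :=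
  Subtype.ext (IsOpenImmersion.lift_fac _ _ _)

lemma toLift_injective {T : Scheme.{u}} {x : T ⟶ X}
    {v v' : Lifts (Over.mk (W.ι ≫ D.obj.hom)) x} (h : toLift v = toLift v') : v = v' := by
  apply Subtype.ext
  have : v.1 ≫ W.ι = v'.1 ≫ W.ι := congrArg Subtype.val h
  exact (cancel_mono W.ι).1 this

/-- The restriction of a descent datum to a stable open subscheme. -/
noncomputable def restrictDD : SchDD p where
  obj := Over.mk (W.ι ≫ D.obj.hom)
  φ T x₀ x₁ h :=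
    { toFun := resMap hW x₀ x₁ h
      invFun := resMap hW x₁ x₀ h.symm
      left_inv := fun v => toLift_injective (by
        rw [toLift_resMap, toLift_resMap, phi_symm])
      right_inv := fun v => toLift_injective (by
        rw [toLift_resMap, toLift_resMap, phi_symm D x₁ x₀ h.symm]) }
  φ_natural T T' g x₀ x₁ h h' v v' hv' := by
    change (resMap hW (g ≫ x₀) (g ≫ x₁) h' v').1 = g ≫ (resMap hW x₀ x₁ h v).1
    apply (cancel_mono W.ι).1
    rw [Category.assoc]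
    have e1 : (resMap hW (g ≫ x₀) (g ≫ x₁) h' v').1 ≫ W.ι =
        (D.φ (g ≫ x₀) (g ≫ x₁) h' (toLift v')).1 := IsOpenImmersion.lift_fac _ _ _
    have e2 : (resMap hW x₀ x₁ h v).1 ≫ W.ι = (D.φ x₀ x₁ h (toLift v)).1 :=
      IsOpenImmersion.lift_fac _ _ _
    rw [e1, e2]
    refine D.φ_natural g x₀ x₁ h h' (toLift v) (toLift v') ?_
    change v'.1 ≫ W.ι = g ≫ v.1 ≫ W.ι
    rw [hv', Category.assoc]
  φ_self T x v := toLift_injective (by
    change toLift (resMap hW x x rfl v) = toLift v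
    rw [toLift_resMap, D.φ_self])
  φ_comp T x₀ x₁ x₂ h₀₁ h₁₂ v := toLift_injective (by
    change toLift (resMap hW x₁ x₂ h₁₂ (resMap hW x₀ x₁ h₀₁ v)) =
      toLift (resMap hW x₀ x₂ (h₀₁.trans h₁₂) v)
    rw [toLift_resMap, toLift_resMap, toLift_resMap, D.φ_comp])

/-- The inclusion of the restricted descent datum. -/
noncomputable def restrictHom : restrictDD hW ⟶ D :=
  ⟨Over.homMk W.ι rfl, fun T x₀ x₁ h v w hw => by
    have hw' : w = toLift v := Subtype.ext hw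
    rw [hw']
    change (D.φ x₀ x₁ h (toLift v)).1 = (resMap hW x₀ x₁ h v).1 ≫ W.ι
    exact (IsOpenImmersion.lift_fac _ _ _).symm⟩

lemma restrictHom_left : (restrictHom hW).hom.left = W.ι := rfl

end Restrict


section Saturation

variable {X S : Scheme.{u}} {p : X ⟶ S} (D : SchDD p) {T₀ : Scheme.{u}} {a : T₀ ⟶ D.obj.left}
  {b : T₀ ⟶ X} (sq : IsPullback a b (D.obj.hom ≫ p) p)

/-- Stability of an open, tested on the universal point. -/
lemma isStableOpen_of_univ (W : D.obj.left.Opens)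
    (h : ∀ z : T₀, a.base z ∈ W → (univ D sq).base z ∈ W) : IsStableOpen D W := by
  intro T x₀ x₁ hx v hv
  have hcond : v.1 ≫ D.obj.hom ≫ p = x₁ ≫ p := by rw [← Category.assoc, v.2, hx]
  rw [phi_eq_lift D sq x₀ x₁ hx v (sq.lift v.1 x₁ hcond) (sq.lift_fst _ _ _) (sq.lift_snd _ _ _)]
  rintro _ ⟨τ, rfl⟩
  rw [Scheme.Hom.comp_base, TopCat.comp_app]
  apply h
  rw [← TopCat.comp_app, ← Scheme.Hom.comp_base, sq.lift_fst]
  exact hv ⟨τ, rfl⟩

/-- The symmetry of the equivalence relation defined by the descent datum. -/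
noncomputable def swap : T₀ ⟶ T₀ :=
  sq.lift (univ D sq) (a ≫ D.obj.hom) (by
    rw [← Category.assoc, univ_hom, Category.assoc]; exact sq.w.symm)

lemma swap_fst : swap D sq ≫ a = univ D sq := sq.lift_fst _ _ _

lemma swap_snd : swap D sq ≫ b = a ≫ D.obj.hom := sq.lift_snd _ _ _

lemma swap_univ : swap D sq ≫ univ D sq = a := by
  have h₀₁ : (a ≫ D.obj.hom) ≫ p = b ≫ p := by rw [Category.assoc]; exact sq.w
  have e1 : (D.φ _ _ h₀₁ ⟨a, rfl⟩).1 = univ D sq := rfl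
  have hh : (D.φ (a ≫ D.obj.hom) b h₀₁ ⟨a, rfl⟩).1 ≫ D.obj.hom = b :=
    (D.φ (a ≫ D.obj.hom) b h₀₁ ⟨a, rfl⟩).2
  have e2 := phi_eq_lift D sq b (a ≫ D.obj.hom) h₀₁.symm (D.φ _ _ h₀₁ ⟨a, rfl⟩) (swap D sq)
    (swap_fst D sq) (swap_snd D sq)
  rw [← e2, phi_symm]

/-- The saturation of an open subset for the equivalence relation defined by the descent datum. -/
def sat (W' : Set D.obj.left) : Set D.obj.left := (univ D sq).base '' (a.base ⁻¹' W')

lemma sat_eq (W' : Set D.obj.left) : sat D sq W' = a.base '' ((univ D sq).base ⁻¹' W') := by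
  ext w
  constructor
  · rintro ⟨z, hz, rfl⟩
    refine ⟨(swap D sq).base z, ?_, ?_⟩
    · change (univ D sq).base ((swap D sq).base z) ∈ W'
      rw [← TopCat.comp_app, ← Scheme.Hom.comp_base, swap_univ]
      exact hz
    · rw [← TopCat.comp_app, ← Scheme.Hom.comp_base, swap_fst]
  · rintro ⟨z, hz, rfl⟩
    refine ⟨(swap D sq).base z, ?_, ?_⟩
    · change a.base ((swap D sq).base z) ∈ W'
      rw [← TopCat.comp_app, ← Scheme.Hom.comp_base, swap_fst]
      exact hz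
    · rw [← TopCat.comp_app, ← Scheme.Hom.comp_base, swap_univ]

lemma subset_sat (W' : Set D.obj.left) : W' ⊆ sat D sq W' := by
  intro v hv
  let l : D.obj.left ⟶ T₀ := sq.lift (𝟙 _) D.obj.hom (Category.id_comp _)
  have hl₁ : l ≫ a = 𝟙 _ := sq.lift_fst _ _ _
  have hl₂ : l ≫ b = D.obj.hom := sq.lift_snd _ _ _
  refine ⟨l.base v, ?_, ?_⟩
  · change a.base (l.base v) ∈ W'
    rw [← TopCat.comp_app, ← Scheme.Hom.comp_base, hl₁]
    exact hv
  · rw [← TopCat.comp_app, ← Scheme.Hom.comp_base, univ_counit D sq l hl₁ hl₂]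
    rfl

/-- Transitivity: the saturation is stable. -/
lemma sat_stable (W' : Set D.obj.left) (z' : T₀) (hz' : a.base z' ∈ sat D sq W') :
    (univ D sq).base z' ∈ sat D sq W' := by
  rw [sat_eq] at hz' ⊢
  obtain ⟨z, hz, hzz'⟩ := hz'
  -- a point of `T₀ ×_V T₀` over `(z', z)`
  obtain ⟨ζ, hζ₁, hζ₂⟩ := Scheme.Pullback.exists_preimage_pullback (f := a) (g := a) z' z
    hzz'.symm
  let q₁ : pullback a a ⟶ T₀ := pullback.fst a a
  let q₂ : pullback a a ⟶ T₀ := pullback.snd a a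
  have hq : q₁ ≫ a = q₂ ≫ a := pullback.condition
  have hc : (q₁ ≫ univ D sq) ≫ D.obj.hom ≫ p = (q₂ ≫ b) ≫ p := by
    rw [Category.assoc, ← Category.assoc (univ D sq), univ_hom, ← sq.w, ← Category.assoc,
      ← Category.assoc, hq]
    simp only [Category.assoc]
    rw [sq.w]
  let l : pullback a a ⟶ T₀ := sq.lift (q₁ ≫ univ D sq) (q₂ ≫ b) hc
  have hl₁ : l ≫ a = q₁ ≫ univ D sq := sq.lift_fst _ _ _
  have hl₂ : l ≫ b = q₂ ≫ b := sq.lift_snd _ _ _
  have key : l ≫ univ D sq = q₂ ≫ univ D sq :=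
    univ_coassoc D sq q₁ l q₂ hl₁ hq.symm hl₂
  refine ⟨l.base ζ, ?_, ?_⟩
  · change (univ D sq).base (l.base ζ) ∈ W'
    rw [← TopCat.comp_app, ← Scheme.Hom.comp_base, key, Scheme.Hom.comp_base, TopCat.comp_app]
    change (univ D sq).base (q₂.base ζ) ∈ W'
    rw [hζ₂]
    exact hz
  · rw [← TopCat.comp_app, ← Scheme.Hom.comp_base, hl₁, Scheme.Hom.comp_base, TopCat.comp_app]
    change (univ D sq).base (q₁.base ζ) = _
    rw [hζ₁]

end Saturation

end Groth.Agent.Lib.Helper26.StableOpenDD
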