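import Groth.Agent.Lib.Helper26.EtaleFF
import Groth.Prelude.Def_SGA1

/-!
# Universally submersive morphisms are descent morphisms for étale schemes (helper26)

Existence is `EtaleFF.exists_descend`; uniqueness uses that the diagonal of an étale morphism is an
open immersion.
-/

set_option autoImplicit false
universe u
open CategoryTheory CategoryTheory.Limits AlgebraicGeometry

namespace Groth.Agent.Lib.Helper26.SubmersiveDescent

open Groth.Agent.Lib.Helper26.EtaleFF

section Unique

variable {X' X Y S : Scheme.{u}}

/-- Two `S`-morphisms to a scheme with open diagonal over `S` which agree after composing with a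
surjective morphism are equal. -/
theorem eq_of_surjective_comp_eq (π : X' ⟶ X) [Surjective π] (q : Y ⟶ S)
    [IsOpenImmersion (pullback.diagonal q)] (u u' : X ⟶ Y) (h : u ≫ q = u' ≫ q)
    (hπ : π ≫ u = π ≫ u') : u = u' := by
  obtain ⟨d, hd⟩ : ∃ d : Y ⟶ pullback q q, d = pullback.diagonal q := ⟨_, rfl⟩
  obtain ⟨w, hw0⟩ : ∃ w : X ⟶ pullback q q, w = pullback.lift u u' h := ⟨_, rfl⟩
  have hw1 : w ≫ pullback.fst q q = u := by rw [hw0, pullback.lift_fst]
  have hw2 : w ≫ pullback.snd q q = u' := by rw [hw0, pullback.lift_snd]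
  have hd1 : d ≫ pullback.fst q q = 𝟙 Y := by rw [hd, pullback.diagonal_fst]
  have hd2 : d ≫ pullback.snd q q = 𝟙 Y := by rw [hd, pullback.diagonal_snd]
  haveI : IsOpenImmersion d := by rw [hd]; infer_instance
  haveI : IsOpenImmersion (pullback.snd d w) := inferInstance
  -- `π` factors through `e`
  have hk : ∃ k : X' ⟶ pullback d w, k ≫ pullback.snd d w = π := by
    refine ⟨pullback.lift (π ≫ u) π ?_, pullback.lift_snd _ _ _⟩
    apply pullback.hom_ext
    · rw [Category.assoc, Category.assoc, Category.assoc, hd1, hw1, Category.comp_id]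
    · rw [Category.assoc, Category.assoc, Category.assoc, hd2, hw2, Category.comp_id, hπ]
  obtain ⟨k, hk⟩ := hk
  haveI : Surjective (pullback.snd d w) := by
    have : Surjective (k ≫ pullback.snd d w) := by rw [hk]; infer_instance
    exact Surjective.of_comp k _
  haveI : IsIso (pullback.snd d w) :=
    (isIso_iff_isOpenImmersion_and_surjective _).2 ⟨inferInstance, inferInstance⟩
  have hw : w = inv (pullback.snd d w) ≫ pullback.fst d w ≫ d := by
    rw [IsIso.eq_inv_comp]
    exact pullback.condition.symm
  have h1 : u = inv (pullback.snd d w) ≫ pullback.fst d w := by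
    have := congrArg (fun t => t ≫ pullback.fst q q) hw
    simp only [Category.assoc] at this
    rw [hd1, Category.comp_id, hw1] at this
    exact this
  have h2 : u' = inv (pullback.snd d w) ≫ pullback.fst d w := by
    have := congrArg (fun t => t ≫ pullback.snd q q) hw
    simp only [Category.assoc] at this
    rw [hd2, Category.comp_id, hw2] at this
    exact this
  rw [h1, ← h2]

end Unique

section Main

variable {S S' X Y : Scheme.{u}} (g : S' ⟶ S) (p : X ⟶ S) (q : Y ⟶ S)

/-- `rho` for the projection `X ×_S S' ⟶ X` is a base change of `g`. -/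
lemma isPullback_rho :
    IsPullback (rho (pullback.fst p g) p q)
      (pullback.fst (pullback.fst p g ≫ p) q ≫ pullback.snd p g) (pullback.fst p q ≫ p) g := by
  have h1 : IsPullback (rho (pullback.fst p g) p q) (pullback.fst (pullback.fst p g ≫ p) q)
      (pullback.fst p q) (pullback.fst p g) := by
    refine IsPullback.of_right ?_ (rho_fst _ _ _) (IsPullback.of_hasPullback p q).flip
    rw [rho_snd]
    exact (IsPullback.of_hasPullback (pullback.fst p g ≫ p) q).flip
  exact h1.paste_vert (IsPullback.of_hasPullback p g)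

variable [Etale q]

theorem existsUnique_descend (hg : SGA1.UnivSubmersive g)
    (f' : pullback p g ⟶ pullback q g) (hf' : f' ≫ pullback.snd q g = pullback.snd p g)
    (hcoc : pullback.map p (pullback.fst g g ≫ g) p g (𝟙 X) (pullback.fst g g) (𝟙 S)
        ((Category.comp_id _).trans (Category.id_comp _).symm) (Category.comp_id _) ≫ f' ≫ pullback.fst q g =
      pullback.map p (pullback.fst g g ≫ g) p g (𝟙 X) (pullback.snd g g) (𝟙 S)
        ((Category.comp_id _).trans (Category.id_comp _).symm) ((Category.comp_id _).trans pullback.condition) ≫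
        f' ≫ pullback.fst q g) :
    ∃! u : X ⟶ Y, u ≫ q = p ∧ f' ≫ pullback.fst q g = pullback.fst p g ≫ u := by
  let π : pullback p g ⟶ X := pullback.fst p g
  let g₀ : pullback p g ⟶ Y := f' ≫ pullback.fst q g
  have hg₀ : g₀ ≫ q = π ≫ p := by
    change (f' ≫ pullback.fst q g) ≫ q = pullback.fst p g ≫ p
    rw [Category.assoc, pullback.condition, ← Category.assoc, hf', pullback.condition]
  have hπq : Topology.IsQuotientMap π.base := hg _ _ _ (IsPullback.of_hasPullback p g)
  haveI hπ : Surjective π := ⟨hπq.surjective⟩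
  have hρ : Topology.IsQuotientMap (rho π p q).base := hg _ _ _ (isPullback_rho g p q)
  have hinv : ∀ ⦃T : Scheme.{u}⦄ (a a' : T ⟶ pullback p g), a ≫ π = a' ≫ π → a ≫ g₀ = a' ≫ g₀ := by
    intro T a a' haa
    have haa' : a ≫ pullback.fst p g = a' ≫ pullback.fst p g := haa
    have hs : (a ≫ pullback.snd p g) ≫ g = (a' ≫ pullback.snd p g) ≫ g := by
      rw [Category.assoc, Category.assoc, ← pullback.condition, ← Category.assoc, haa',
        Category.assoc]
    obtain ⟨s, hs1, hs2⟩ : ∃ s : T ⟶ pullback g g, s ≫ pullback.fst g g = a ≫ pullback.snd p g ∧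
        s ≫ pullback.snd g g = a' ≫ pullback.snd p g :=
      ⟨pullback.lift _ _ hs, pullback.lift_fst _ _ _, pullback.lift_snd _ _ _⟩
    obtain ⟨t, ht1, ht2⟩ : ∃ t : T ⟶ pullback p (pullback.fst g g ≫ g),
        t ≫ pullback.fst _ _ = a ≫ pullback.fst p g ∧ t ≫ pullback.snd _ _ = s :=
      ⟨pullback.lift (a ≫ pullback.fst p g) s (by
        rw [← Category.assoc, hs1, Category.assoc, Category.assoc, pullback.condition]),
        pullback.lift_fst _ _ _, pullback.lift_snd _ _ _⟩
    have e1 : t ≫ pullback.map p (pullback.fst g g ≫ g) p g (𝟙 X) (pullback.fst g g) (𝟙 S)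
        ((Category.comp_id _).trans (Category.id_comp _).symm) (Category.comp_id _) = a := by
      apply pullback.hom_ext
      · rw [Category.assoc, pullback.lift_fst, ← Category.assoc, ht1, Category.comp_id]
      · rw [Category.assoc, pullback.lift_snd, ← Category.assoc, ht2, hs1]
    have e2 : t ≫ pullback.map p (pullback.fst g g ≫ g) p g (𝟙 X) (pullback.snd g g) (𝟙 S)
        ((Category.comp_id _).trans (Category.id_comp _).symm)
        ((Category.comp_id _).trans pullback.condition) = a' := by
      apply pullback.hom_ext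
      · rw [Category.assoc, pullback.lift_fst, ← Category.assoc, ht1, Category.comp_id]
        exact haa'
      · rw [Category.assoc, pullback.lift_snd, ← Category.assoc, ht2, hs2]
    have e3 := congrArg (fun m => t ≫ m) hcoc
    simp only [← Category.assoc] at e3
    rw [e1, e2] at e3
    simpa only [Category.assoc] using e3
  obtain ⟨u, hu1, hu2⟩ := exists_descend π p q g₀ hg₀ hinv hπ hρ
  refine ⟨u, ⟨hu1, hu2.symm⟩, ?_⟩
  rintro u' ⟨hu1', hu2'⟩
  exact eq_of_surjective_comp_eq π q u' u (hu1'.trans hu1.symm) (hu2'.symm.trans hu2.symm)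

end Main

end Groth.Agent.Lib.Helper26.SubmersiveDescent
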