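import Mathlib

set_option autoImplicit false
open CategoryTheory CategoryTheory.Limits

namespace Groth.Agent.Lib.Helper26.ThirdIso

universe v u
variable {𝒜 : Type u} [Category.{v} 𝒜] [Abelian 𝒜]

open Abelian.Pseudoelement in
/-- Third isomorphism theorem: for `a : A ⟶ B`, `b : B ⟶ C` with `b` mono, the sequence
`coker a ⟶ coker (a ≫ b) ⟶ coker b` is short exact. -/
theorem shortExact_cokernel {A B C : 𝒜} (a : A ⟶ B) (b : B ⟶ C) [Mono b] (c : A ⟶ C) (hc : a ≫ b = c)
    (f : cokernel a ⟶ cokernel c) (g : cokernel c ⟶ cokernel b)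
    (hf : cokernel.π a ≫ f = b ≫ cokernel.π c)
    (hg : cokernel.π c ≫ g = cokernel.π b) :
    ∃ w : f ≫ g = 0, (ShortComplex.mk f g w).ShortExact := by
  subst hc
  have w : f ≫ g = 0 := by
    apply coequalizer.hom_ext
    rw [reassoc_of% hf, hg, cokernel.condition, comp_zero]
  refine ⟨w, ?_⟩
  have hepi : Epi g := by
    have : Epi (cokernel.π (a ≫ b) ≫ g) := by rw [hg]; infer_instance
    exact epi_of_epi (cokernel.π (a ≫ b)) g
  have hmono : Mono f := by
    apply mono_of_zero_of_map_zero
    intro x hx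
    obtain ⟨y, rfl⟩ := pseudo_surjective_of_epi (cokernel.π a) x
    rw [← Abelian.Pseudoelement.comp_apply, hf, Abelian.Pseudoelement.comp_apply] at hx
    have hex : (ShortComplex.mk (a ≫ b) (cokernel.π (a ≫ b)) (cokernel.condition _)).Exact :=
      ShortComplex.exact_of_g_is_cokernel _ (cokernelIsCokernel _)
    obtain ⟨z, hz⟩ := pseudo_exact_of_exact hex _ hx
    dsimp at hz
    rw [Abelian.Pseudoelement.comp_apply] at hz
    have := pseudo_injective_of_mono b hz
    rw [← this, ← Abelian.Pseudoelement.comp_apply, cokernel.condition, Abelian.Pseudoelement.zero_apply]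
  refine { exact := ?_, mono_f := hmono, epi_g := hepi }
  apply ShortComplex.exact_of_g_is_cokernel
  dsimp
  refine CokernelCofork.IsColimit.ofπ _ _ (fun {Z} h hh => cokernel.desc b (cokernel.π (a ≫ b) ≫ h) ?_) ?_ ?_
  · rw [← reassoc_of% hf, hh, comp_zero]
  · intro Z h hh
    apply coequalizer.hom_ext
    rw [reassoc_of% hg, cokernel.π_desc]
  · intro Z h hh m hm
    apply coequalizer.hom_ext
    rw [cokernel.π_desc, ← hm, reassoc_of% hg]

end Groth.Agent.Lib.Helper26.ThirdIso
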