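import Groth.Prelude.Def_ActBC
import Groth.Agent.Lib.Helper26.TorsorLocal

/-!
# Descent of the torsor property along an fpqc morphism of bases (helper26)
-/

set_option autoImplicit false
universe u

namespace Groth.Agent.Lib.Helper26.TorsorDescent

open CategoryTheory Limits AlgebraicGeometry MorphismProperty MonoidalCategory
open CartesianMonoidalCategory SemiCartesianMonoidalCategory MonObj

variable {S S' : Scheme.{u}}

/-- The square exhibiting `((Over.pullback f).map φ).left` as a base change of `φ.left`. -/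
theorem isPullback_pullback_map (f : S' ⟶ S) {A B : Over S} (φ : A ⟶ B) :
    IsPullback ((Over.pullback f).map φ).left (pullback.fst A.hom f) (pullback.fst B.hom f)
      φ.left := by
  have hbot : IsPullback (pullback.fst B.hom f) (pullback.snd B.hom f) B.hom f :=
    IsPullback.of_hasPullback _ _
  have e1 : ((Over.pullback f).map φ).left ≫ pullback.snd B.hom f = pullback.snd A.hom f :=
    pullback.lift_snd _ _ _
  have e2 : ((Over.pullback f).map φ).left ≫ pullback.fst B.hom f =
      pullback.fst A.hom f ≫ φ.left :=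
    pullback.lift_fst _ _ _
  have hbig : IsPullback (pullback.fst A.hom f)
      (((Over.pullback f).map φ).left ≫ pullback.snd B.hom f) (φ.left ≫ B.hom) f := by
    rw [e1, Over.w φ]
    exact IsPullback.of_hasPullback _ _
  exact (IsPullback.of_bot hbig e2.symm hbot).flip

/-- Base change along an fpqc morphism reflects isomorphisms of `S`-schemes. -/
theorem isIso_of_isIso_pullback_map (f : S' ⟶ S) [Flat f] [Surjective f] [QuasiCompact f]
    {A B : Over S} (φ : A ⟶ B) (h : IsIso ((Over.pullback f).map φ)) : IsIso φ := by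
  have h1 : IsIso ((Over.pullback f).map φ).left :=
    (inferInstance : IsIso ((Over.forget S').map ((Over.pullback f).map φ)))
  have hQ : (@Surjective ⊓ @Flat ⊓ @QuasiCompact : MorphismProperty Scheme.{u})
      (pullback.fst B.hom f) :=
    MorphismProperty.pullback_fst _ _ ⟨⟨inferInstance, inferInstance⟩, inferInstance⟩
  have h2 : IsIso φ.left :=
    MorphismProperty.of_isPullback_of_descendsAlong (P := MorphismProperty.isomorphisms Scheme.{u})
      (Q := @Surjective ⊓ @Flat ⊓ @QuasiCompact) (isPullback_pullback_map f φ) hQ h1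
  haveI : IsIso ((Over.forget S).map φ) := h2
  exact isIso_of_reflects_iso φ (Over.forget S)

variable {G X : Over S} [GrpObj G]

/-- The pseudo-torsor property descends along an fpqc morphism of bases. -/
theorem isPseudoTorsorSch_of_bc (f : S' ⟶ S) [Flat f] [Surjective f] [QuasiCompact f]
    (a : AlgGrp.Action G X) (h : NonAbH1.IsPseudoTorsorSch (a.bc f)) :
    NonAbH1.IsPseudoTorsorSch a := by
  have key : lift (a.bc f).act (snd _ _) ≫ Functor.LaxMonoidal.μ (Over.pullback f) X X =
      Functor.LaxMonoidal.μ (Over.pullback f) G X ≫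
        (Over.pullback f).map (lift a.act (snd G X)) := by
    rw [← Functor.Monoidal.lift_μ, comp_lift_assoc, Functor.Monoidal.μ_snd,
      AlgGrp.Action.bc_act]
  haveI : IsIso (lift (a.bc f).act (snd (Red.bc f G) (Red.bc f X))) := h
  have h1 : IsIso (Functor.LaxMonoidal.μ (Over.pullback f) G X ≫
        (Over.pullback f).map (lift a.act (snd G X))) := by
    rw [← key]; infer_instance
  have h2 : IsIso ((Over.pullback f).map (lift a.act (snd G X))) :=
    IsIso.of_isIso_comp_left (Functor.LaxMonoidal.μ (Over.pullback f) G X) _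
  exact isIso_of_isIso_pullback_map f _ h2

omit [GrpObj G] in
/-- Local triviality for the fpqc topology descends along an fpqc morphism of bases. -/
theorem isLocallyTrivialFor_of_bc (f : S' ⟶ S) [Flat f] [Surjective f] [QuasiCompact f]
    (h : NonAbH1.IsLocallyTrivialFor Scheme.fpqcPrecoverage (Red.bc f X)) :
    NonAbH1.IsLocallyTrivialFor Scheme.fpqcPrecoverage X := by
  obtain ⟨R, hR, hsec⟩ := h
  obtain ⟨𝒰, rfl⟩ := R.exists_eq_preZeroHypercover
  have h0 : Presieve.ofArrows (fun _ : PUnit.{u + 2} => S') (fun _ => f) ∈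
      Scheme.fpqcPrecoverage S := by
    rw [Presieve.ofArrows_pUnit]
    exact f.singleton_mem_fpqcPrecoverage
  have hcomp := Precoverage.comp_mem_coverings (J := Scheme.fpqcPrecoverage)
    (fun _ : PUnit.{u + 2} => f) h0 (σ := fun _ => 𝒰.I₀) (Y := fun _ j => 𝒰.X j)
    (fun _ j => 𝒰.f j) (fun _ => hR)
  refine ⟨_, hcomp, ?_⟩
  rintro T g ⟨⟨i, j⟩⟩
  obtain ⟨s, hs⟩ := hsec (𝒰.f j) ⟨j⟩
  refine ⟨s ≫ pullback.fst X.hom f, ?_⟩
  have hs' : s ≫ pullback.snd X.hom f = 𝒰.f j := hs
  rw [Category.assoc, pullback.condition, ← Category.assoc, hs']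

/-- **Descent of fpqc torsors along an fpqc morphism of bases.** -/
theorem isTorsorFor_fpqc_iff_bc (f : S' ⟶ S) [Flat f] [Surjective f] [QuasiCompact f]
    (a : AlgGrp.Action G X) :
    NonAbH1.IsTorsorFor Scheme.fpqcPrecoverage a ↔
      NonAbH1.IsTorsorFor Scheme.fpqcPrecoverage (a.bc f) :=
  ⟨fun h => NonAbH1.isTorsorFor_bc f _ h,
    fun h => ⟨isPseudoTorsorSch_of_bc f a h.1, isLocallyTrivialFor_of_bc f h.2⟩⟩

end Groth.Agent.Lib.Helper26.TorsorDescent
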