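import Groth.Agent.Lib.Helper26.TorsorQuot
import Groth.Agent.Lib.Helper26.ExactSeqTorsor

/-!
# In an fpqc-exact sequence `1 → G' → G → G'' → 1`, `G''` is universally the quotient of `G` (helper26)
-/

set_option autoImplicit false
open CategoryTheory CategoryTheory.Limits MonoidalCategory AlgebraicGeometry
open MonObj CartesianMonoidalCategory SemiCartesianMonoidalCategory
universe w u

namespace Groth.Agent.Lib.Helper26.TorsorQuotRel

open Groth.Agent.Lib.Helper26.PseudoTorsor Groth.Agent.Lib.Helper26.ExactSeqTorsor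
  Groth.Agent.Lib.Helper26.TorsorQuot

variable {S : Scheme.{u}}

/-- A member of a covering family of `B.left`, as an object over `S`. -/
abbrev coverObj (B : Over S) (𝒱 : PreZeroHypercover.{w} B.left) (i : 𝒱.I₀) : Over S :=
  Over.mk (𝒱.f i ≫ B.hom)

/-- A member of a covering family of `B.left`, as a morphism over `S`. -/
abbrev coverHom (B : Over S) (𝒱 : PreZeroHypercover.{w} B.left) (i : 𝒱.I₀) :
    coverObj B 𝒱 i ⟶ B :=
  Over.homMk (𝒱.f i) rfl

/-- Gluing morphisms in `Over S` along the pull-back to `U` of an fpqc covering family of `B`. -/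
theorem existsUnique_glue_rel (B : Over S) (𝒱 : PreZeroHypercover.{w} B.left)
    (h𝒱 : 𝒱.presieve₀ ∈ Scheme.fpqcPrecoverage B.left) (U Z : Over S) (b : U ⟶ B)
    (k : ∀ i, pullback b (coverHom B 𝒱 i) ⟶ Z)
    (hk : ∀ (i j : 𝒱.I₀) (W : Over S) (yi : W ⟶ pullback b (coverHom B 𝒱 i))
      (yj : W ⟶ pullback b (coverHom B 𝒱 j)),
      yi ≫ pullback.fst b (coverHom B 𝒱 i) = yj ≫ pullback.fst b (coverHom B 𝒱 j) →
      yi ≫ k i = yj ≫ k j) :
    ∃! r : U ⟶ Z, ∀ i, pullback.fst b (coverHom B 𝒱 i) ≫ r = k i := by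
  have hcov : Presieve.ofArrows (fun i => (pullback b (coverHom B 𝒱 i)).left)
      (fun i => (pullback.fst b (coverHom B 𝒱 i)).left) ∈ Scheme.fpqcPrecoverage U.left :=
    Precoverage.mem_coverings_of_isPullback 𝒱.f h𝒱 b.left _
      (fun i => (pullback.snd b (coverHom B 𝒱 i)).left)
      (fun i => (IsPullback.of_hasPullback b (coverHom B 𝒱 i)).map (Over.forget S))
  have hw : ∀ i, (pullback b (coverHom B 𝒱 i)).hom =
      (pullback.fst b (coverHom B 𝒱 i)).left ≫ U.hom :=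
    fun i => (Over.w (pullback.fst b (coverHom B 𝒱 i))).symm
  have hcompat : ∀ (i j : 𝒱.I₀) (W : Scheme.{u}) (gi : W ⟶ (pullback b (coverHom B 𝒱 i)).left)
      (gj : W ⟶ (pullback b (coverHom B 𝒱 j)).left),
      gi ≫ (pullback.fst b (coverHom B 𝒱 i)).left = gj ≫ (pullback.fst b (coverHom B 𝒱 j)).left →
      gi ≫ (k i).left = gj ≫ (k j).left := by
    intro i j W gi gj hg
    have hgj : gj ≫ (pullback b (coverHom B 𝒱 j)).hom =
        gi ≫ (pullback b (coverHom B 𝒱 i)).hom := by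
      rw [hw, hw, ← Category.assoc, ← Category.assoc, hg]
    let W' : Over S := Over.mk (gi ≫ (pullback b (coverHom B 𝒱 i)).hom)
    let gi' : W' ⟶ pullback b (coverHom B 𝒱 i) := Over.homMk gi rfl
    let gj' : W' ⟶ pullback b (coverHom B 𝒱 j) := Over.homMk gj hgj
    have hx : gi' ≫ pullback.fst b (coverHom B 𝒱 i) = gj' ≫ pullback.fst b (coverHom B 𝒱 j) :=
      Over.OverMorphism.ext hg
    exact congrArg (fun φ => φ.left) (hk i j W' gi' gj' hx)
  obtain ⟨r₀, hr₀, hr₀'⟩ := existsUnique_glue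
    (fun i => (pullback.fst b (coverHom B 𝒱 i)).left) hcov Z.left (fun i => (k i).left) hcompat
  have hr₀S : r₀ ≫ Z.hom = U.hom := by
    obtain ⟨c, -, hc⟩ := existsUnique_glue (fun i => (pullback.fst b (coverHom B 𝒱 i)).left) hcov S
      (fun i => (pullback b (coverHom B 𝒱 i)).hom) (by
        intro i j W gi gj hg
        rw [hw, hw, ← Category.assoc, ← Category.assoc, hg])
    rw [hc (r₀ ≫ Z.hom) (fun i => by rw [← Category.assoc, hr₀ i, Over.w]),
      hc U.hom (fun i => (hw i).symm)]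
  refine ⟨Over.homMk r₀ hr₀S, fun i => Over.OverMorphism.ext (hr₀ i), ?_⟩
  intro r' hr'
  apply Over.OverMorphism.ext
  exact hr₀' r'.left (fun i => congrArg (fun φ => φ.left) (hr' i))

variable {G' G G'' : Over S} [GrpObj G'] [GrpObj G] [GrpObj G'']

/-- **`G''` is universally the quotient of `G` by `G'`** in an fpqc-exact sequence: a morphism
`G ×_S T ⟶ Z` invariant under right translation by `G'` factors uniquely through `G'' ×_S T`. -/
theorem existsUnique_desc_of_isExactSeq (u : G' ⟶ G) (v : G ⟶ G'')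
    (hex : NonAbH1.IsExactSeq Scheme.fpqcPrecoverage u v) (T Z : Over S) (m : G ⊗ T ⟶ Z)
    (hm : ∀ (W : Over S) (g : W ⟶ G) (g' : W ⟶ G') (t : W ⟶ T),
      lift (g * (g' ≫ u)) t ≫ m = lift g t ≫ m) :
    ∃! r : G'' ⊗ T ⟶ Z, (v ▷ T) ≫ r = m := by
  obtain ⟨hu, hv, huv, hEx, R, hR, hsec⟩ := hex
  obtain ⟨𝒱, rfl⟩ := R.exists_eq_preZeroHypercover
  choose d hd using fun i => hsec (𝒱.f i) ⟨i⟩
  have hd' : ∀ i, d i ≫ v.left = 𝒱.f i := hd
  -- the local sections as morphisms over `S`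
  let dS : ∀ i, coverObj G'' 𝒱 i ⟶ G := fun i => Over.homMk (d i) (by
    have h1 : G.hom = v.left ≫ G''.hom := (Over.w v).symm
    change d i ≫ G.hom = 𝒱.f i ≫ G''.hom
    rw [h1, ← Category.assoc, hd'])
  have hdS : ∀ i, dS i ≫ v = coverHom G'' 𝒱 i := fun i => Over.OverMorphism.ext (hd' i)
  -- independence of the lift
  have hind : ∀ (W : Over S) (g₁ g₂ : W ⟶ G) (t : W ⟶ T), g₁ ≫ v = g₂ ≫ v →
      lift g₁ t ≫ m = lift g₂ t ≫ m := by
    intro W g₁ g₂ t h
    rw [← mul_diff u v hEx g₁ g₂ h, hm]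
  have hk1 : ∀ (W : Over S) (l : 𝒱.I₀) (y : W ⟶ pullback (fst G'' T) (coverHom G'' 𝒱 l)),
      y ≫ lift (pullback.snd (fst G'' T) (coverHom G'' 𝒱 l) ≫ dS l)
        (pullback.fst (fst G'' T) (coverHom G'' 𝒱 l) ≫ snd G'' T) ≫ m =
      lift (y ≫ pullback.snd (fst G'' T) (coverHom G'' 𝒱 l) ≫ dS l)
        (y ≫ pullback.fst (fst G'' T) (coverHom G'' 𝒱 l) ≫ snd G'' T) ≫ m := by
    intro W l y
    rw [← Category.assoc, comp_lift]
  have hk2 : ∀ (W : Over S) (l : 𝒱.I₀) (y : W ⟶ pullback (fst G'' T) (coverHom G'' 𝒱 l)),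
      (y ≫ pullback.snd (fst G'' T) (coverHom G'' 𝒱 l) ≫ dS l) ≫ v =
        (y ≫ pullback.fst (fst G'' T) (coverHom G'' 𝒱 l)) ≫ fst G'' T := by
    intro W l y
    rw [Category.assoc, Category.assoc, hdS, ← pullback.condition, Category.assoc]
  obtain ⟨r, hr, hr'⟩ := existsUnique_glue_rel G'' 𝒱 hR (G'' ⊗ T) Z (fst G'' T)
    (fun i => lift (pullback.snd (fst G'' T) (coverHom G'' 𝒱 i) ≫ dS i)
      (pullback.fst (fst G'' T) (coverHom G'' 𝒱 i) ≫ snd G'' T) ≫ m) (by
      intro i j W yi yj hy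
      have hy' : yi ≫ pullback.fst (fst G'' T) (coverHom G'' 𝒱 i) ≫ snd G'' T =
          yj ≫ pullback.fst (fst G'' T) (coverHom G'' 𝒱 j) ≫ snd G'' T := by
        rw [← Category.assoc, hy, Category.assoc]
      rw [hk1, hk1, hy']
      apply hind
      rw [hk2, hk2, hy])
  have hrm : (v ▷ T) ≫ r = m := by
    obtain ⟨c, -, hc⟩ := existsUnique_glue_rel G'' 𝒱 hR (G ⊗ T) Z (fst G T ≫ v)
      (fun i => pullback.fst (fst G T ≫ v) (coverHom G'' 𝒱 i) ≫ m) (by
        intro i j W yi yj hy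
        rw [← Category.assoc, ← Category.assoc, hy])
    rw [hc ((v ▷ T) ≫ r) (fun i => ?_), hc m (fun i => rfl)]
    have hcone : (pullback.fst (fst G T ≫ v) (coverHom G'' 𝒱 i) ≫ (v ▷ T)) ≫ fst G'' T =
        pullback.snd (fst G T ≫ v) (coverHom G'' 𝒱 i) ≫ coverHom G'' 𝒱 i := by
      rw [Category.assoc, whiskerRight_fst]
      exact pullback.condition
    calc pullback.fst (fst G T ≫ v) (coverHom G'' 𝒱 i) ≫ (v ▷ T) ≫ r
        = (pullback.lift _ _ hcone ≫ pullback.fst (fst G'' T) (coverHom G'' 𝒱 i)) ≫ r := by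
          rw [pullback.lift_fst, Category.assoc]
      _ = pullback.lift _ _ hcone ≫ lift (pullback.snd (fst G'' T) (coverHom G'' 𝒱 i) ≫ dS i)
            (pullback.fst (fst G'' T) (coverHom G'' 𝒱 i) ≫ snd G'' T) ≫ m := by
          rw [Category.assoc, hr i]
      _ = lift (pullback.snd (fst G T ≫ v) (coverHom G'' 𝒱 i) ≫ dS i)
            (pullback.fst (fst G T ≫ v) (coverHom G'' 𝒱 i) ≫ snd G T) ≫ m := by
          rw [hk1]
          congr 2
          · rw [← Category.assoc, pullback.lift_snd]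
          · rw [← Category.assoc, pullback.lift_fst, Category.assoc, whiskerRight_snd]
      _ = lift (pullback.fst (fst G T ≫ v) (coverHom G'' 𝒱 i) ≫ fst G T)
            (pullback.fst (fst G T ≫ v) (coverHom G'' 𝒱 i) ≫ snd G T) ≫ m := by
          apply hind
          rw [Category.assoc, hdS, ← pullback.condition, Category.assoc]
      _ = pullback.fst (fst G T ≫ v) (coverHom G'' 𝒱 i) ≫ m := by
          rw [← comp_lift, lift_fst_snd, Category.comp_id]
  refine ⟨r, hrm, ?_⟩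
  intro r' hr'm
  apply hr'
  intro i
  have e : lift (pullback.snd (fst G'' T) (coverHom G'' 𝒱 i) ≫ dS i)
      (pullback.fst (fst G'' T) (coverHom G'' 𝒱 i) ≫ snd G'' T) ≫ (v ▷ T) =
      pullback.fst (fst G'' T) (coverHom G'' 𝒱 i) := by
    ext1
    · rw [Category.assoc, whiskerRight_fst, lift_fst_assoc, Category.assoc, hdS,
        ← pullback.condition]
    · rw [Category.assoc, whiskerRight_snd, lift_snd]
  rw [← hr'm, ← Category.assoc, e]

end Groth.Agent.Lib.Helper26.TorsorQuotRel
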