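import Groth.Prelude.Def_NonAbH2

/-!
# Trivial torsors (helper26)
-/

set_option autoImplicit false
universe u
open CategoryTheory AlgebraicGeometry MonoidalCategory CartesianMonoidalCategory MonObj GrpObj

namespace Groth.Agent.Lib.Helper26

set_option backward.isDefEq.respectTransparency false in
theorem trivial_iff_pseudoTorsor_and_section {S : Scheme.{u}}
    (G X : Over S) [GrpObj G] (a : AlgGrp.Action G X) :
    Nonempty (NonAbH1.EquivIso (NonAbH1.trivialAction G) a) ↔
      (NonAbH1.IsPseudoTorsorSch a ∧ NonAbH1.HasSectionOver X (𝟙 S)) := by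
  constructor
  · rintro ⟨⟨iso, comm⟩⟩
    constructor
    · have h1 : lift a.act (snd G X) =
          (G ◁ iso.inv) ≫ lift (NonAbH1.trivialAction G).act (snd G G) ≫ (iso.hom ⊗ₘ iso.hom) := by
        ext
        · simp only [lift_fst, Category.assoc, tensorHom_fst, lift_fst_assoc]
          rw [comm, ← MonoidalCategory.whiskerLeft_comp_assoc, Iso.inv_hom_id,
            MonoidalCategory.whiskerLeft_id, Category.id_comp]
        · simp
      have h2 : IsIso (lift (NonAbH1.trivialAction G).act (snd G G)) :=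
        NonAbH1.isPseudoTorsorSch_trivialAction G
      change IsIso (lift a.act (snd G X))
      rw [h1]
      infer_instance
    · exact ⟨(η[G] ≫ iso.hom).left, Over.w (η[G] ≫ iso.hom)⟩
  · rintro ⟨hps, s, hs⟩
    have hΨ : IsIso (lift a.act (snd G X)) := hps
    let Ψ := lift a.act (snd G X)
    let x : 𝟙_ (Over S) ⟶ X := Over.homMk s hs
    let o : G ⟶ X := lift (𝟙 G) (toUnit G ≫ x) ≫ a.act
    let w : X ⟶ G ⊗ X := lift (𝟙 X) (toUnit X ≫ x) ≫ inv Ψ
    have hw : w ≫ Ψ = lift (𝟙 X) (toUnit X ≫ x) := by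
      simp only [w, Category.assoc, IsIso.inv_hom_id, Category.comp_id]
    have hw1 : w ≫ a.act = 𝟙 X := by
      have := congrArg (fun f => f ≫ fst X X) hw
      simpa [Ψ] using this
    have hw2 : w ≫ snd G X = toUnit X ≫ x := by
      have := congrArg (fun f => f ≫ snd X X) hw
      simpa [Ψ] using this
    have ho1 : o ≫ w ≫ fst G X = 𝟙 G := by
      have : o ≫ lift (𝟙 X) (toUnit X ≫ x) = lift (𝟙 G) (toUnit G ≫ x) ≫ Ψ := by
        ext <;> simp [o, Ψ]
      simp only [w, Category.assoc]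
      rw [reassoc_of% this]
      simp [Ψ]
    have ho2 : (w ≫ fst G X) ≫ o = 𝟙 X := by
      have : (w ≫ fst G X) ≫ lift (𝟙 G) (toUnit G ≫ x) = w := by
        ext
        · simp
        · simp [hw2]
      simp only [o]
      rw [← Category.assoc, this, hw1]
    refine ⟨⟨⟨o, w ≫ fst G X, ho1, ho2⟩, ?_⟩⟩
    change μ[G] ≫ o = (G ◁ o) ≫ a.act
    have h3 : lift (𝟙 (G ⊗ G)) (toUnit (G ⊗ G) ≫ x) ≫ (α_ G G X).hom =
        G ◁ lift (𝟙 G) (toUnit G ≫ x) := by
      ext <;> simp
    have h4 : μ[G] ≫ lift (𝟙 G) (toUnit G ≫ x) =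
        lift (𝟙 (G ⊗ G)) (toUnit (G ⊗ G) ≫ x) ≫ (μ[G] ▷ X) := by
      ext <;> simp
    simp only [o]
    rw [reassoc_of% h4, a.mul_act, reassoc_of% h3, MonoidalCategory.whiskerLeft_comp,
      Category.assoc]

end Groth.Agent.Lib.Helper26
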