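import Mathlib

/-!
# Extending generic sections over an integral base with valuation-ring stalks (helper26)

Let `S` be an integral scheme all of whose local rings are valuation rings (e.g. a Dedekind
scheme), and `Y ⟶ S` separated, locally of finite type and satisfying the existence part of the
valuative criterion.  Then every section of `Y` over the generic point extends to a section over `S`.
-/

set_option autoImplicit false
universe u

open CategoryTheory Limits AlgebraicGeometry

namespace Groth.Agent.Lib.Helper26.ValSection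

/-- Local extension of a generic section at a point whose local ring is a valuation ring. -/
theorem exists_local_extension {S : Scheme.{u}} [IsIntegral S] (x : S)
    [ValuationRing (S.presheaf.stalk x)]
    (Y : Over S) [LocallyOfFiniteType Y.hom]
    (hex : ValuativeCriterion.Existence Y.hom)
    (g : Spec S.functionField ⟶ Y.left) (hg : g ≫ Y.hom = S.fromSpecStalk (genericPoint S)) :
    ∃ (U : S.Opens) (_ : x ∈ U) (f : U.toScheme ⟶ Y.left) (j : Spec S.functionField ⟶ U.toScheme),
      f ≫ Y.hom = U.ι ∧ j ≫ U.ι = S.fromSpecStalk (genericPoint S) ∧ j ≫ f = g := by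
  have hspec : genericPoint S ⤳ x := (genericPoint_spec S).specializes trivial
  have hcomm : g ≫ Y.hom =
      Spec.map (CommRingCat.ofHom (algebraMap (S.presheaf.stalk x) S.functionField)) ≫
        S.fromSpecStalk x := by
    rw [hg]
    exact (Scheme.SpecMap_stalkSpecializes_fromSpecStalk hspec).symm
  obtain ⟨l, hl₁, hl₂⟩ : ∃ l : Spec (S.presheaf.stalk x) ⟶ Y.left,
      Spec.map (CommRingCat.ofHom (algebraMap (S.presheaf.stalk x) S.functionField)) ≫ l = g ∧
        l ≫ Y.hom = S.fromSpecStalk x := by
    obtain ⟨⟨l, hl₁, hl₂⟩⟩ := (hex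
      { R := S.presheaf.stalk x
        commRing := (S.presheaf.stalk x).commRing
        domain := inferInstanceAs (IsDomain (S.presheaf.stalk x))
        valuationRing := ‹ValuationRing (S.presheaf.stalk x)›
        K := S.functionField
        i₁ := g
        i₂ := S.fromSpecStalk x
        commSq := ⟨hcomm⟩ }).exists_lift
    exact ⟨l, hl₁, hl₂⟩
  obtain ⟨U, hxU, f, hf₁, hf₂⟩ := spread_out_of_isGermInjective' (𝟙 S) Y.hom l
    (by rw [Category.comp_id]; exact hl₂)
  refine ⟨U, hxU, f,
    Spec.map (CommRingCat.ofHom (algebraMap (S.presheaf.stalk x) S.functionField)) ≫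
      U.fromSpecStalkOfMem x hxU, ?_, ?_, ?_⟩
  · rw [hf₂, Category.comp_id]
  · rw [Category.assoc, Scheme.Opens.fromSpecStalkOfMem_ι]
    exact Scheme.SpecMap_stalkSpecializes_fromSpecStalk hspec
  · rw [Category.assoc, ← hf₁]
    exact hl₁

instance isDominant_fromSpecStalk_genericPoint (S : Scheme.{u}) [IrreducibleSpace S] :
    IsDominant (S.fromSpecStalk (genericPoint S)) := by
  refine ⟨Dense.mono (s₁ := {genericPoint S}) ?_ ?_⟩
  · rintro _ rfl
    exact ⟨IsLocalRing.closedPoint _, Scheme.fromSpecStalk_closedPoint⟩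
  · rw [dense_iff_closure_eq]
    exact (genericPoint_spec S).def

/-- Over an integral scheme all of whose local rings are valuation rings, a generic section of a
separated, locally finite type `Y` satisfying the existence part of the valuative criterion extends
to a section. -/
theorem exists_section_of_generic {S : Scheme.{u}} [IsIntegral S]
    (hval : ∀ x : S, ValuationRing (S.presheaf.stalk x))
    (Y : Over S) [LocallyOfFiniteType Y.hom] [IsSeparated Y.hom]
    (hex : ValuativeCriterion.Existence Y.hom)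
    (g : Spec S.functionField ⟶ Y.left) (hg : g ≫ Y.hom = S.fromSpecStalk (genericPoint S)) :
    ∃ σ : S ⟶ Y.left, σ ≫ Y.hom = 𝟙 S := by
  have hloc : ∀ x : S, ∃ (U : S.Opens) (_ : x ∈ U) (f : U.toScheme ⟶ Y.left)
      (j : Spec S.functionField ⟶ U.toScheme),
      f ≫ Y.hom = U.ι ∧ j ≫ U.ι = S.fromSpecStalk (genericPoint S) ∧ j ≫ f = g := fun x => by
    haveI := hval x
    exact exists_local_extension x Y hex g hg
  choose U hxU f j hf hj hjf using hloc
  let 𝒰 : S.OpenCover := {
    I₀ := S, X i := (U i), f i := (U i).ι,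
    mem₀ := by
      rw [Scheme.presieve₀_mem_precoverage_iff]
      refine ⟨fun x ↦ ⟨x, by simpa using hxU x⟩, inferInstance⟩ }
  have hcompat : ∀ x y : S,
      pullback.fst (𝒰.f x) (𝒰.f y) ≫ f x = pullback.snd (𝒰.f x) (𝒰.f y) ≫ f y := by
    intro x y
    haveI : IsReduced (pullback (𝒰.f x) (𝒰.f y)) :=
      isReduced_of_isOpenImmersion (pullback.fst (𝒰.f x) (𝒰.f y) ≫ (U x).ι)
    let ι : Spec S.functionField ⟶ pullback (𝒰.f x) (𝒰.f y) :=
      pullback.lift (j x) (j y) ((hj x).trans (hj y).symm)
    haveI : IsDominant ι := by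
      haveI : IsDominant (ι ≫ (pullback.fst (𝒰.f x) (𝒰.f y) ≫ (U x).ι)) := by
        rw [pullback.lift_fst_assoc, hj]
        infer_instance
      exact IsDominant.of_comp_of_isOpenImmersion ι (pullback.fst _ _ ≫ (U x).ι)
    refine ext_of_isDominant_of_isSeparated Y.hom ?_ ι ?_
    · rw [Category.assoc, Category.assoc, hf, hf]
      exact pullback.condition
    · rw [pullback.lift_fst_assoc, pullback.lift_snd_assoc, hjf, hjf]
  refine ⟨𝒰.glueMorphisms f hcompat, ?_⟩
  refine 𝒰.hom_ext _ _ (fun x => ?_)
  rw [Scheme.Cover.ι_glueMorphisms_assoc, hf, Category.comp_id]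

/-- Over an integral scheme, a generic section of a separated, locally finite type `Y` which
extends to the spectrum of every local ring extends to a section. -/
theorem exists_section_of_forall_stalk {S : Scheme.{u}} [IsIntegral S]
    (Y : Over S) [LocallyOfFiniteType Y.hom] [IsSeparated Y.hom]
    (g : Spec S.functionField ⟶ Y.left) (hg : g ≫ Y.hom = S.fromSpecStalk (genericPoint S))
    (hl : ∀ x : S, ∃ l : Spec (S.presheaf.stalk x) ⟶ Y.left,
      Spec.map (CommRingCat.ofHom (algebraMap (S.presheaf.stalk x) S.functionField)) ≫ l = g ∧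
        l ≫ Y.hom = S.fromSpecStalk x) :
    ∃ σ : S ⟶ Y.left, σ ≫ Y.hom = 𝟙 S ∧ S.fromSpecStalk (genericPoint S) ≫ σ = g := by
  have hloc : ∀ x : S, ∃ (U : S.Opens) (_ : x ∈ U) (f : U.toScheme ⟶ Y.left)
      (j : Spec S.functionField ⟶ U.toScheme),
      f ≫ Y.hom = U.ι ∧ j ≫ U.ι = S.fromSpecStalk (genericPoint S) ∧ j ≫ f = g := fun x => by
    have hspec : genericPoint S ⤳ x := (genericPoint_spec S).specializes trivial
    obtain ⟨l, hl₁, hl₂⟩ := hl x
    obtain ⟨U, hxU, f, hf₁, hf₂⟩ := spread_out_of_isGermInjective' (𝟙 S) Y.hom l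
      (by rw [Category.comp_id]; exact hl₂)
    refine ⟨U, hxU, f,
      Spec.map (CommRingCat.ofHom (algebraMap (S.presheaf.stalk x) S.functionField)) ≫
        U.fromSpecStalkOfMem x hxU, ?_, ?_, ?_⟩
    · rw [hf₂, Category.comp_id]
    · rw [Category.assoc, Scheme.Opens.fromSpecStalkOfMem_ι]
      exact Scheme.SpecMap_stalkSpecializes_fromSpecStalk hspec
    · rw [Category.assoc, ← hf₁]
      exact hl₁
  choose U hxU f j hf hj hjf using hloc
  let 𝒰 : S.OpenCover := {
    I₀ := S, X i := (U i), f i := (U i).ι,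
    mem₀ := by
      rw [Scheme.presieve₀_mem_precoverage_iff]
      refine ⟨fun x ↦ ⟨x, by simpa using hxU x⟩, inferInstance⟩ }
  have hcompat : ∀ x y : S,
      pullback.fst (𝒰.f x) (𝒰.f y) ≫ f x = pullback.snd (𝒰.f x) (𝒰.f y) ≫ f y := by
    intro x y
    haveI : IsReduced (pullback (𝒰.f x) (𝒰.f y)) :=
      isReduced_of_isOpenImmersion (pullback.fst (𝒰.f x) (𝒰.f y) ≫ (U x).ι)
    let ι : Spec S.functionField ⟶ pullback (𝒰.f x) (𝒰.f y) :=
      pullback.lift (j x) (j y) ((hj x).trans (hj y).symm)
    haveI : IsDominant ι := by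
      haveI : IsDominant (ι ≫ (pullback.fst (𝒰.f x) (𝒰.f y) ≫ (U x).ι)) := by
        rw [pullback.lift_fst_assoc, hj]
        infer_instance
      exact IsDominant.of_comp_of_isOpenImmersion ι (pullback.fst _ _ ≫ (U x).ι)
    refine ext_of_isDominant_of_isSeparated Y.hom ?_ ι ?_
    · rw [Category.assoc, Category.assoc, hf, hf]
      exact pullback.condition
    · rw [pullback.lift_fst_assoc, pullback.lift_snd_assoc, hjf, hjf]
  refine ⟨𝒰.glueMorphisms f hcompat, ?_, ?_⟩
  · refine 𝒰.hom_ext _ _ (fun x => ?_)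
    rw [Scheme.Cover.ι_glueMorphisms_assoc, hf, Category.comp_id]
  · have h1 : S.fromSpecStalk (genericPoint S) = j (genericPoint S) ≫ 𝒰.f (genericPoint S) :=
      (hj (genericPoint S)).symm
    rw [h1, Category.assoc, Scheme.Cover.ι_glueMorphisms, hjf]

end Groth.Agent.Lib.Helper26.ValSection
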